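import Groth.Agent.Lib.helper18.GrothSS

set_option autoImplicit false
set_option linter.unusedSectionVars false
open CategoryTheory CategoryTheory.Limits

namespace Groth.Agent.H18.SSWrap

universe v₀ u₀ v u v' u'

variable {B : Type u₀} [Category.{v₀} B] [Abelian B] [HasInjectiveResolutions B]
  {C : Type u} [Category.{v} C] [Abelian C] [HasInjectiveResolutions C]
  {D : Type u'} [Category.{v'} D] [Abelian D]
  (T : B ⥤ C) [T.Additive] (G : C ⥤ D) [G.Additive] [PreservesFiniteLimits G] (A : B)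

/-- Grothendieck spectral sequence in the `if … then … else Z` format of the statements. -/
theorem ss_wrap
    (hT : ∀ Q : B, Injective Q → ∀ q : ℕ, 0 < q → IsZero ((G.rightDerived q).obj (T.obj Q)))
    (Z : D) (hZ : IsZero Z) (Hn : ℕ → D) (E2 : ℕ → ℕ → D)
    (hH : ∀ n, Nonempty (Hn n ≅ ((T ⋙ G).rightDerived n).obj A))
    (hE : ∀ p q, Nonempty (E2 p q ≅ (G.rightDerived p).obj ((T.rightDerived q).obj A))) :
    ∃ (E : E₂CohomologicalSpectralSequence D)
      (a : SpSeq.Abutment E (fun n : ℤ => if 0 ≤ n then Hn n.toNat else Z)),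
      (∀ n, a.IsFinite n) ∧ SpSeq.IsBounded E ∧
      ∀ p q : ℤ, Nonempty ((E.page 2 le_rfl).X (p, q) ≅
        (if 0 ≤ p ∧ 0 ≤ q then E2 p.toNat q.toNat else Z)) := by
  obtain ⟨E, a, h1, h2, h3, h4⟩ := Groth.Agent.H18.GrothSS.grothendieck_ss T G A hT
    (fun n : ℤ => if 0 ≤ n then Hn n.toNat else Z)
    (fun n => ⟨by
      simp only [Int.natCast_nonneg, if_true, Int.toNat_natCast]
      exact Classical.choice (hH n)⟩)
    (fun n hn => by
      simp only [not_le.mpr hn, if_false]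
      exact hZ)
  refine ⟨E, a, h1, h2, fun p q => ?_⟩
  by_cases hpq : 0 ≤ p ∧ 0 ≤ q
  · obtain ⟨p', rfl⟩ := Int.eq_ofNat_of_zero_le hpq.1
    obtain ⟨q', rfl⟩ := Int.eq_ofNat_of_zero_le hpq.2
    simp only [Int.natCast_nonneg, and_self, if_true, Int.toNat_natCast]
    exact ⟨Classical.choice (h3 p' q') ≪≫ (Classical.choice (hE p' q')).symm⟩
  · rw [if_neg hpq]
    exact ⟨(h4 p q hpq).iso hZ⟩

end Groth.Agent.H18.SSWrap
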