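import Groth.Agent.Lib.helper18.SectSuppFlasque
import Groth.Agent.Lib.helper18.SSWrap

set_option autoImplicit false
set_option linter.unusedSectionVars false
open CategoryTheory CategoryTheory.Limits CategoryTheory.Abelian Opposite TopologicalSpace

namespace Groth.Agent.H18.ExtDer

universe v u v' u'

variable {C : Type u} [Category.{v} C] [Abelian C] [HasInjectiveResolutions C]
  {D : Type u'} [Category.{v'} D] [Abelian D]

/-- isomorphic additive functors have isomorphic right derived functors -/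
noncomputable def rightDerivedIsoOfIso {F F' : C ⥤ D} [F.Additive] [F'.Additive] (e : F ≅ F') (n : ℕ) :
    F.rightDerived n ≅ F'.rightDerived n where
  hom := NatTrans.rightDerived e.hom n
  inv := NatTrans.rightDerived e.inv n
  hom_inv_id := by rw [← NatTrans.rightDerived_comp, e.hom_inv_id, NatTrans.rightDerived_id]
  inv_hom_id := by rw [← NatTrans.rightDerived_comp, e.inv_hom_id, NatTrans.rightDerived_id]

end Groth.Agent.H18.ExtDer

namespace Groth.Agent.H18.LocCohSS

open Groth.Agent.H18.OpenRestr Groth.Agent.H18.Flasque Groth.Agent.H18.SectSupp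

universe u

variable {X : TopCat.{u}}

/-- `R^q Hom(ℤ_V, -)` vanishes on flasque sheaves for `q > 0` -/
lemma isZero_rightDerived_hF_freeSheaf (V : Opens X) (M : CohTop.Ab X) [TopCat.Sheaf.IsFlasque M]
    (q : ℕ) (hq : 0 < q) :
    IsZero (((ExtDer.hF (CohCx.freeSheaf (Opens.grothendieckTopology X) V)).rightDerived q).obj M) := by
  obtain ⟨q', rfl⟩ : ∃ q', q = q' + 1 := ⟨q - 1, by omega⟩
  refine IsZero.of_iso ?_ ((ExtDer.natIso (CohCx.freeSheaf (Opens.grothendieckTopology X) V) (q' + 1)).app M)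
  have : Subsingleton (Ext.{u} (CohCx.freeSheaf (Opens.grothendieckTopology X) V) M (q' + 1)) :=
    ⟨fun x y => (ext_freeSheaf_eq_zero M V q' x).trans (ext_freeSheaf_eq_zero M V q' y).symm⟩
  exact @AddCommGrpCat.isZero_of_subsingleton
    ((extFunctorObj (CohCx.freeSheaf (Opens.grothendieckTopology X) V) (q' + 1)).obj M) this

/-- sections over `V` as `Hom(ℤ_V, -)`, naturally -/
noncomputable def sectionsIso (V : Opens X) :
    sheafToPresheaf (Opens.grothendieckTopology X) AddCommGrpCat.{u} ⋙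
        (evaluation (Opens X)ᵒᵖ AddCommGrpCat.{u}).obj (op V) ≅
      ExtDer.hF (CohCx.freeSheaf (Opens.grothendieckTopology X) V) :=
  NatIso.ofComponents
    (fun F => (CohFree.homEquivSect (Opens.grothendieckTopology X) V F).symm.toAddCommGrpIso)
    (fun {F G} φ => by
      ext (s : F.obj.obj (op V))
      exact (ofSect_comp s φ).symm)

/-- `Γ_Z(X, -) ≅ Hom(ℤ_X/ℤ_U, -)` -/
noncomputable def gammaZFIso (U : Opens X) :
    LocCohZ.gammaZF U ≅ ExtDer.hF (LocCohZ.zq (le_top : U ≤ ⊤)) :=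
  Functor.isoWhiskerLeft (LocCohZ.sectSuppF U) (sectionsIso (⊤ : Opens X)) ≪≫
    homNatIso U (le_top : U ≤ ⊤) (LR_top U)

/-- `R^q Γ_Z(X, -) ≅ Ext^q(ℤ_X/ℤ_U, -)` -/
noncomputable def RHZIso (U : Opens X) (q : ℕ) :
    LocCohZ.RHZ U q ≅ extFunctorObj (LocCohZ.zq (le_top : U ≤ ⊤)) q :=
  ExtDer.rightDerivedIsoOfIso (gammaZFIso U) q ≪≫ ExtDer.natIso _ q

end Groth.Agent.H18.LocCohSS
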