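import Groth.Agent.Lib.helper18.CohTopH

set_option autoImplicit false
set_option linter.unusedSectionVars false
open CategoryTheory CategoryTheory.Limits CategoryTheory.Abelian Opposite TopologicalSpace

namespace Groth.Agent.H18.CohTopOpen

open Groth.Agent.H18.OpenRestr Groth.Agent.H18.Flasque Groth.Agent.H18.SectSupp Groth.Agent.H18.CohTopH

section general

universe v v' u u'

variable {A : Type u} [Category.{v} A] [Abelian A] [EnoughInjectives A]
  {B : Type u'} [Category.{v'} B] [Abelian B] (F : A ⥤ B) [F.Additive]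

/-- exact functors have no higher derived functors -/
lemma isZero_rightDerived_of_exact [PreservesFiniteLimits F] [PreservesFiniteColimits F]
    (X : A) (q : ℕ) (hq : 0 < q) : IsZero ((F.rightDerived q).obj X) := by
  refine RDPlus.facyc_of_adapted F (fun _ => True) ?_ ?_ X trivial q hq
  · intro Y
    exact ⟨Y, 𝟙 Y, trivial, inferInstance⟩
  · intro S hS _ _
    exact ⟨trivial, hS.map_of_exact F⟩

end general

universe u

variable {X : TopCat.{u}}

instance (U : Opens X) : PreservesFiniteColimits (CohTop.restrFunctor U) := by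
  have := (adjN U).leftAdjoint_preservesColimits
  infer_instance

/-- the restriction of a flasque sheaf to an open is flasque -/
instance isFlasque_restr (U : Opens X) (F : CohTop.Ab X) [TopCat.Sheaf.IsFlasque F] :
    TopCat.Sheaf.IsFlasque ((CohTop.restrFunctor U).obj F) where
  epi {V W} i := by
    exact TopCat.Presheaf.IsFlasque.epi (F := F.obj) ((L U).map i.unop).op

/-- `Γ(U, F|_U) = F(U)` naturally -/
noncomputable def restrΓIso (U : Opens X) :
    CohTop.restrFunctor U ⋙ Γtop (TopCat.of U) ≅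
      sheafToPresheaf (Opens.grothendieckTopology X) AddCommGrpCat.{u} ⋙
        (evaluation (Opens X)ᵒᵖ AddCommGrpCat.{u}).obj (op U) :=
  NatIso.ofComponents (fun F => F.obj.mapIso (eqToIso (by
      exact congrArg op (Opens.isOpenEmbedding_obj_top U))))
    (fun {F G} φ => by
      dsimp
      exact (φ.hom.naturality _).symm)

end Groth.Agent.H18.CohTopOpen

namespace Groth.Agent.H18.CohTopOpen

open Groth.Agent.H18.OpenRestr Groth.Agent.H18.Flasque Groth.Agent.H18.SectSupp Groth.Agent.H18.CohTopH

universe u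

variable {X : TopCat.{u}}

/-- `Hom_U(ℤ, (-)|_U) ≅ Hom_X(ℤ_U, -)` -/
noncomputable def restrConstIso (U : Opens X) :
    CohTop.restrFunctor U ⋙ ExtDer.hF (constZ (TopCat.of U)) ≅
      ExtDer.hF (CohCx.freeSheaf (Opens.grothendieckTopology X) U) :=
  Functor.isoWhiskerLeft (CohTop.restrFunctor U) (constIso (TopCat.of U)) ≪≫ restrΓIso U ≪≫
    LocCohSS.sectionsIso U

/-- `H^n(U, F) ≅ H^n(U, F|_U)` -/
theorem HU_iso_H_restr (F : CohTop.Ab X) (U : Opens X) (n : ℕ) :
    Nonempty (Sheaf.H'.{u} F n U ≅ AddCommGrpCat.of (CohTop.H (CohTop.restr F U) n)) := by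
  have hT : ∀ Q : CohTop.Ab X, Injective Q → ∀ q : ℕ, 0 < q →
      IsZero (((ExtDer.hF (constZ (TopCat.of U))).rightDerived q).obj
        ((CohTop.restrFunctor U).obj Q)) := by
    intro Q hQ q hq
    have : TopCat.Sheaf.IsFlasque Q := isFlasque_of_injective Q
    exact isZero_rightDerived_hF_const _ q hq
  obtain ⟨e⟩ := SSDegenerate.iso_of_rows_vanish (CohTop.restrFunctor U)
    (ExtDer.hF (constZ (TopCat.of U))) F hT
    (fun q hq => isZero_rightDerived_of_exact (CohTop.restrFunctor U) F q hq) n
  have e1 : ((CohTop.restrFunctor U ⋙ ExtDer.hF (constZ (TopCat.of U))).rightDerived n).obj F ≅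
      (extFunctorObj (CohCx.freeSheaf (Opens.grothendieckTopology X) U) n).obj F :=
    (ExtDer.rightDerivedIsoOfIso (restrConstIso U) n).app F ≪≫ (ExtDer.natIso _ n).app F
  have e2 : ((ExtDer.hF (constZ (TopCat.of U))).rightDerived n).obj
        (((CohTop.restrFunctor U).rightDerived 0).obj F) ≅
      (extFunctorObj (constZ (TopCat.of U)) n).obj ((CohTop.restrFunctor U).obj F) :=
    (ExtDer.natIso (constZ (TopCat.of U)) n).app _ ≪≫
      (extFunctorObj (constZ (TopCat.of U)) n).mapIso
        ((CohTop.restrFunctor U).rightDerivedZeroIsoSelf.app F)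
  have e0 : Sheaf.H'.{u} F n U ≅
      (extFunctorObj (CohCx.freeSheaf (Opens.grothendieckTopology X) U) n).obj F := Iso.refl _
  have e3 : (extFunctorObj (constZ (TopCat.of U)) n).obj ((CohTop.restrFunctor U).obj F) ≅
      AddCommGrpCat.of (CohTop.H (CohTop.restr F U) n) := Iso.refl _
  exact ⟨e0 ≪≫ e1.symm ≪≫ e ≪≫ e2 ≪≫ e3⟩

end Groth.Agent.H18.CohTopOpen
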