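import Groth.Agent.Lib.helper18.SSDegenerate

set_option autoImplicit false
set_option linter.unusedSectionVars false
open CategoryTheory CategoryTheory.Limits SpSeq
open scoped ZeroObject

namespace Groth.Agent.H18.SSDegenerate

universe v₀ u₀ v u v' u'

variable {B : Type u₀} [Category.{v₀} B] [Abelian B] [HasInjectiveResolutions B]
  {C : Type u} [Category.{v} C] [Abelian C] [HasInjectiveResolutions C]
  {D : Type u'} [Category.{v'} D] [Abelian D]
  (T : B ⥤ C) [T.Additive] (G : C ⥤ D) [G.Additive] [PreservesFiniteLimits G] (A : B)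

/-- **Degenerate case (columns)**: if `R^pG (R^qT A) = 0` for all `p > 0` and all `q`, then
`R^n(T ⋙ G) A ≅ R^0G (R^nT A)`. -/
theorem iso_of_cols_vanish
    (hT : ∀ Q : B, Injective Q → ∀ q : ℕ, 0 < q → IsZero ((G.rightDerived q).obj (T.obj Q)))
    (hcol : ∀ p q : ℕ, 0 < p → IsZero ((G.rightDerived p).obj ((T.rightDerived q).obj A))) (n : ℕ) :
    Nonempty (((T ⋙ G).rightDerived n).obj A ≅ (G.rightDerived 0).obj ((T.rightDerived n).obj A)) := by
  obtain ⟨E, a, h1, h3, h4⟩ := exists_ss T G A hT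
  have hz : ∀ p q : ℤ, p ≠ 0 → IsZero ((E.page 2 le_rfl).X (p, q)) := by
    intro p q hp
    by_cases hpq : 0 ≤ p ∧ 0 ≤ q
    · obtain ⟨p', rfl⟩ := Int.eq_ofNat_of_zero_le hpq.1
      obtain ⟨q', rfl⟩ := Int.eq_ofNat_of_zero_le hpq.2
      exact IsZero.of_iso (hcol p' q' (by omega)) (Classical.choice (h3 p' q'))
    · exact h4 p q hpq
  have hst : SpSeq.StationaryAt E ((0 : ℤ), (n : ℤ) - 0) 2 := by
    refine ⟨le_rfl, fun r' h₀ hr' => ⟨?_, ?_⟩⟩
    · refine IsZero.eq_of_src (SSLine.isZero_page_of_le 2 le_rfl _ ?_ r' hr') _ _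
      exact hz _ _ (by simp; omega)
    · refine IsZero.eq_of_tgt (SSLine.isZero_page_of_le 2 le_rfl _ ?_ r' hr') _ _
      exact hz _ _ (by simp; omega)
  obtain ⟨e⟩ := SSLine.iso_of_single_term_on_line E a 2 le_rfl (n : ℤ) 0
    (fun p hp => hz p _ hp) (SSLine.isDiscrete_of_isFinite (h1 n))
    (SSLine.isExhaustive_of_isFinite (h1 n)) hst
  have e0 : ((0 : ℤ), (n : ℤ) - 0) = (((0 : ℕ) : ℤ), (n : ℤ)) := by simp
  rw [e0] at e
  have e' : (if 0 ≤ (n : ℤ) then ((T ⋙ G).rightDerived (n : ℤ).toNat).obj A else 0) ≅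
      (E.page 2 le_rfl).X (((0 : ℕ) : ℤ), (n : ℤ)) := e
  simp only [Int.natCast_nonneg, if_true, Int.toNat_natCast] at e'
  exact ⟨e' ≪≫ Classical.choice (h3 0 n)⟩

end Groth.Agent.H18.SSDegenerate
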