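import Groth.Agent.Lib.helper18.PshDer2
import Groth.Agent.Lib.helper18.SSDegenerate2
import Groth.Agent.Lib.helper18.CohTopOpen
import Groth.Prelude.Def_CohSite

/-!
# Higher direct images as sheafified cohomology presheaves (sites)
-/

set_option autoImplicit false
set_option linter.unusedSectionVars false
open CategoryTheory CategoryTheory.Limits Opposite

namespace Groth.Agent.H18.PshPush

universe u

theorem isGrothendieckAbelian_presheaf (C : Type u) [SmallCategory C] :
    IsGrothendieckAbelian.{u} (Cᵒᵖ ⥤ AddCommGrpCat.{u}) :=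
  IsGrothendieckAbelian.of_equivalence (sheafBotEquivalence (C := C) AddCommGrpCat.{u})

theorem enoughInjectives_presheaf (C : Type u) [SmallCategory C] :
    EnoughInjectives (Cᵒᵖ ⥤ AddCommGrpCat.{u}) :=
  haveI := isGrothendieckAbelian_presheaf C
  inferInstance

variable {C D : Type u} [SmallCategory C] [SmallCategory D]
    (J : GrothendieckTopology C) (K : GrothendieckTopology D) (u : D ⥤ C) [u.IsContinuous K J]

/-- presheaf pushforward followed by sheafification -/
noncomputable abbrev G : (Cᵒᵖ ⥤ AddCommGrpCat.{u}) ⥤ Sheaf K AddCommGrpCat.{u} :=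
  (Functor.whiskeringLeft Dᵒᵖ Cᵒᵖ AddCommGrpCat.{u}).obj u.op ⋙ presheafToSheaf K AddCommGrpCat.{u}

/-- `f_* ≅ forget ⋙ (- ∘ u) ⋙ sheafify` -/
noncomputable def pushIso : CohSite.push J K u ≅ PshDer.T J ⋙ G K u :=
  (Functor.rightUnitor _).symm ≪≫
    Functor.isoWhiskerLeft (CohSite.push J K u) (sheafificationNatIso K AddCommGrpCat.{u}) ≪≫
    (Functor.associator _ _ _).symm ≪≫
    Functor.isoWhiskerRight (Iso.refl _ : CohSite.push J K u ⋙ sheafToPresheaf K AddCommGrpCat.{u} ≅
      PshDer.T J ⋙ (Functor.whiskeringLeft Dᵒᵖ Cᵒᵖ AddCommGrpCat.{u}).obj u.op)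
      (presheafToSheaf K AddCommGrpCat.{u}) ≪≫
    Functor.associator _ _ _

/-- **`R^i f_* F` is the sheafification of `V ↦ H^i(u V, F)`.** -/
theorem Rpush_iso (F : Sheaf J AddCommGrpCat.{u}) (i : ℕ) :
    Nonempty ((CohSite.Rpush J K u i).obj F ≅
      (presheafToSheaf K AddCommGrpCat.{u}).obj (u.op ⋙ F.cohomologyPresheaf i)) := by
  have := enoughInjectives_presheaf C
  obtain ⟨e1⟩ := SSDegenerate.iso_of_cols_vanish (PshDer.T J) (G K u) F
    (fun Q _ q hq => CohTopOpen.isZero_rightDerived_of_exact (G K u) _ q hq)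
    (fun p' q hp => CohTopOpen.isZero_rightDerived_of_exact (G K u) _ p' hp) i
  have e0 := (ExtDer.rightDerivedIsoOfIso (pushIso J K u) i).app F
  have e2 := (G K u).rightDerivedZeroIsoSelf.app (((PshDer.T J).rightDerived i).obj F)
  have e3 := (G K u).mapIso (PshDer.rightDerivedForgetIso J F i)
  exact ⟨e0 ≪≫ e1 ≪≫ e2 ≪≫ e3⟩

end Groth.Agent.H18.PshPush
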