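import Groth.Agent.Lib.helper18.RDPlus4
import Mathlib

set_option autoImplicit false
set_option linter.unusedSectionVars false
open CategoryTheory CategoryTheory.Limits Pretriangulated

namespace Groth.Agent.H18.RDPlus

section adapted

universe v v' u u'

variable {A : Type u} [Category.{v} A] [Abelian A] [EnoughInjectives A]
  {B : Type u'} [Category.{v'} B] [Abelian B] (F : A ⥤ B) [F.Additive]
  (I : ObjectProperty A)
  (h1 : ∀ X : A, ∃ (Y : A) (ι : X ⟶ Y), I Y ∧ Mono ι)
  (h2 : ∀ S : ShortComplex A, S.ShortExact → I S.X₁ → I S.X₂ → I S.X₃ ∧ (S.map F).ShortExact)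

include h1 in
lemma exists_adapted_data (X : A) :
    ∃ (J Y : A) (a : X ⟶ J) (b : J ⟶ Y), Injective J ∧ Mono a ∧ Mono b ∧ I Y :=
  let ⟨Y, b, hY, hb⟩ := h1 (Injective.under X)
  ⟨Injective.under X, Y, Injective.ι X, b, inferInstance, inferInstance, hb, hY⟩

lemma shortExact_cokernel {X Y : A} (u : X ⟶ Y) [Mono u] :
    (ShortComplex.mk u (cokernel.π u) (cokernel.condition u)).ShortExact :=
  { exact := ShortComplex.exact_cokernel u
    mono_f := inferInstanceAs (Mono u)
    epi_g := inferInstanceAs (Epi (cokernel.π u)) }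

include h1 h2 in
lemma mono_toRightDerivedZero_of_adapted (X : A) (hX : I X) :
    Mono (F.toRightDerivedZero.app X) := by
  obtain ⟨J, Y, a, b, hJ, ha, hb, hY⟩ := exists_adapted_data I h1 X
  have hS := shortExact_cokernel (a ≫ b)
  have hFS := (h2 _ hS hX hY).2
  have h3 : Mono (F.map a ≫ F.map b) := by
    rw [← F.map_comp]
    exact hFS.mono_f
  have h4 : Mono (F.map a) := mono_of_mono (F.map a) (F.map b)
  have nat := F.toRightDerivedZero.naturality a
  have h5 : Mono (F.toRightDerivedZero.app X ≫ (F.rightDerived 0).map a) := by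
    rw [← nat]
    infer_instance
  exact mono_of_mono _ ((F.rightDerived 0).map a)

include h1 h2 in
lemma isIso_toRightDerivedZero_of_adapted (X : A) (hX : I X) :
    IsIso (F.toRightDerivedZero.app X) := by
  obtain ⟨J, Y, a, b, hJ, ha, hb, hY⟩ := exists_adapted_data I h1 X
  have hS := shortExact_cokernel (a ≫ b)
  have hS' := shortExact_cokernel a
  obtain ⟨hC, hFS⟩ := h2 _ hS hX hY
  have hηC : Mono (F.toRightDerivedZero.app (cokernel (a ≫ b))) :=
    mono_toRightDerivedZero_of_adapted F I h1 h2 _ hC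
  have hηX : Mono (F.toRightDerivedZero.app X) :=
    mono_toRightDerivedZero_of_adapted F I h1 h2 _ hX
  let c : cokernel a ⟶ cokernel (a ≫ b) := cokernel.desc a (b ≫ cokernel.π (a ≫ b))
    (by rw [← Category.assoc]; exact cokernel.condition (a ≫ b))
  have hpc : cokernel.π a ≫ c = b ≫ cokernel.π (a ≫ b) := cokernel.π_desc _ _ _
  have hFb : Mono (F.map b) := by
    have h : F.map b ≫ F.map (Injective.factorThru (𝟙 J) b) = 𝟙 _ := by
      rw [← F.map_comp, Injective.comp_factorThru, F.map_id]
    exact mono_of_mono_fac h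
  have hm : Mono ((F.rightDerived 0).map a) := mono_rightDerived_zero_map F _ hS'
  obtain ⟨⟨w, ex⟩, -⟩ := rightDerived_homologySequence F _ hS' 0
  dsimp only at w
  -- the candidate section
  obtain ⟨t, ht⟩ : ∃ t : (F.rightDerived 0).obj X ⟶ F.obj J,
      t ≫ F.toRightDerivedZero.app J = (F.rightDerived 0).map a :=
    ⟨(F.rightDerived 0).map a ≫ inv (F.toRightDerivedZero.app J), by simp⟩
  have hFmono : Mono ((ShortComplex.mk (a ≫ b) (cokernel.π (a ≫ b))
      (cokernel.condition (a ≫ b))).map F).f := hFS.mono_f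
  have hzero : (t ≫ F.map b) ≫ F.map (cokernel.π (a ≫ b)) = 0 := by
    rw [← cancel_mono (F.toRightDerivedZero.app (cokernel (a ≫ b))), zero_comp, Category.assoc,
      Category.assoc, ← F.map_comp_assoc, ← hpc, F.map_comp_assoc, F.toRightDerivedZero.naturality c,
      ← Category.assoc (F.map (cokernel.π a)), F.toRightDerivedZero.naturality (cokernel.π a),
      Category.assoc, reassoc_of% ht, reassoc_of% w, zero_comp]
  let s : (F.rightDerived 0).obj X ⟶ F.obj X := hFS.exact.lift (t ≫ F.map b) hzero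
  have hs : s ≫ F.map (a ≫ b) = t ≫ F.map b := hFS.exact.lift_f (t ≫ F.map b) hzero
  have hs' : s ≫ F.map a = t := by
    rw [← cancel_mono (F.map b), Category.assoc, ← F.map_comp]
    exact hs
  have hsplit : s ≫ F.toRightDerivedZero.app X = 𝟙 _ := by
    rw [← cancel_mono ((F.rightDerived 0).map a), Category.assoc,
      ← F.toRightDerivedZero.naturality a, reassoc_of% hs', ht, Category.id_comp]
  have hepi : Epi (F.toRightDerivedZero.app X) := epi_of_epi_fac hsplit
  exact isIso_of_mono_of_epi _

include h1 h2 in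
lemma isZero_rightDerived_succ_of_adapted (i : ℕ) :
    ∀ (X : A), I X → IsZero ((F.rightDerived (i + 1)).obj X) := by
  induction i with
  | zero =>
    intro X hX
    obtain ⟨J, Y, a, b, hJ, ha, hb, hY⟩ := exists_adapted_data I h1 X
    have hS := shortExact_cokernel (a ≫ b)
    obtain ⟨hC, hFS⟩ := h2 _ hS hX hY
    obtain ⟨-, δ, ⟨w1, ex1⟩, ⟨w2, ex2⟩⟩ := rightDerived_homologySequence F _ hS 0
    dsimp only at w1 w2 δ
    have h0 : (F.rightDerived (0 + 1)).map (a ≫ b) = 0 := by
      rw [Functor.map_comp]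
      have : (F.rightDerived (0 + 1)).map a = 0 :=
        (F.isZero_rightDerived_obj_injective_succ 0 J).eq_of_tgt _ _
      rw [this, zero_comp]
    have hδepi : Epi δ := ex2.epi_f h0
    have hηC : IsIso (F.toRightDerivedZero.app (cokernel (a ≫ b))) :=
      isIso_toRightDerivedZero_of_adapted F I h1 h2 _ hC
    have hFq : Epi (F.map (cokernel.π (a ≫ b))) := hFS.epi_g
    have hqepi : Epi ((F.rightDerived 0).map (cokernel.π (a ≫ b))) := by
      have nat := F.toRightDerivedZero.naturality (cokernel.π (a ≫ b))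
      have : Epi (F.toRightDerivedZero.app Y ≫ (F.rightDerived 0).map (cokernel.π (a ≫ b))) := by
        rw [← nat]
        infer_instance
      exact epi_of_epi (F.toRightDerivedZero.app Y) _
    have hδ0 : δ = 0 := by
      rw [← cancel_epi ((F.rightDerived 0).map (cokernel.π (a ≫ b))), w1, comp_zero]
    exact IsZero.of_epi_eq_zero δ hδ0
  | succ i ih =>
    intro X hX
    obtain ⟨J, Y, a, b, hJ, ha, hb, hY⟩ := exists_adapted_data I h1 X
    have hS := shortExact_cokernel (a ≫ b)
    obtain ⟨hC, hFS⟩ := h2 _ hS hX hY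
    obtain ⟨-, δ, -, ⟨w2, ex2⟩⟩ := rightDerived_homologySequence F _ hS (i + 1)
    dsimp only at w2 δ
    have h0 : (F.rightDerived (i + 1 + 1)).map (a ≫ b) = 0 := by
      rw [Functor.map_comp]
      have : (F.rightDerived (i + 1 + 1)).map a = 0 :=
        (F.isZero_rightDerived_obj_injective_succ (i + 1) J).eq_of_tgt _ _
      rw [this, zero_comp]
    have hδepi : Epi δ := ex2.epi_f h0
    exact IsZero.of_epi δ (ih _ hC)

include h1 h2 in
/-- objects of an adapted class are right `F`-acyclic. -/
theorem facyc_of_adapted (X : A) (hX : I X) : FAcyc F X := by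
  intro i hi
  obtain ⟨j, rfl⟩ : ∃ j, i = j + 1 := ⟨i - 1, by omega⟩
  exact isZero_rightDerived_succ_of_adapted F I h1 h2 j X hX

end adapted

section adapted2

universe w w' v v' u u'

variable {A : Type u} [Category.{v} A] [Abelian A] [HasDerivedCategory.{w} A] [EnoughInjectives A]
  {B : Type u'} [Category.{v'} B] [Abelian B] [HasDerivedCategory.{w'} B]
  (F : A ⥤ B) [F.Additive] (I : ObjectProperty A)
  (h1 : ∀ X : A, ∃ (Y : A) (ι : X ⟶ Y), I Y ∧ Mono ι)
  (h2 : ∀ S : ShortComplex A, S.ShortExact → I S.X₁ → I S.X₂ → I S.X₃ ∧ (S.map F).ShortExact)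

include h1 h2 in
theorem unit_isIso_single_of_adapted (X : A) (hX : I X) :
    IsIso (F.rightDerivedFunctorPlusUnit.app ((HomotopyCategory.Plus.singleFunctor A 0).obj X)) :=
  (unit_isIso_single_iff F X).2 ⟨isIso_toRightDerivedZero_of_adapted F I h1 h2 X hX,
    facyc_of_adapted F I h1 h2 X hX⟩

end adapted2

end Groth.Agent.H18.RDPlus
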