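import Groth.Agent.Lib.helper18.RDPlusAdj
import Groth.Agent.Lib.helper18.RDPlus5
import Mathlib

/-!
# Derived functors of a composite `T ⋙ G` with `T` exact

If `T : A ⥤ B` is an exact additive functor sending injectives to right `G`-acyclic objects, then
`Rⁿ(T ⋙ G) ≅ T ⋙ RⁿG` *naturally*.
-/

set_option autoImplicit false
set_option linter.unusedSectionVars false
open CategoryTheory CategoryTheory.Limits Pretriangulated

namespace Groth.Agent.H18.RDPlus

section comp

universe w w' w'' v v' v'' u u' u''

variable {A : Type u} [Category.{v} A] [Abelian A] [HasDerivedCategory.{w} A] [EnoughInjectives A]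
  {B : Type u'} [Category.{v'} B] [Abelian B] [HasDerivedCategory.{w'} B] [EnoughInjectives B]
  {C : Type u''} [Category.{v''} C] [Abelian C] [HasDerivedCategory.{w''} C]
  (T : A ⥤ B) [T.Additive] [PreservesFiniteLimits T] [PreservesFiniteColimits T]
  (G : B ⥤ C) [G.Additive] [PreservesFiniteLimits G]

/-- the candidate unit exhibiting `RT ⋙ RG` as a right derived functor of `T ⋙ G`. -/
noncomputable def compUnit : (T ⋙ G).mapHomotopyCategoryPlus ⋙ DerivedCategory.Plus.Qh ⟶
    DerivedCategory.Plus.Qh ⋙ (T.rightDerivedFunctorPlus ⋙ G.rightDerivedFunctorPlus) :=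
  Functor.whiskerRight (Functor.mapHomotopyCategoryPlusCompIso (Iso.refl (T ⋙ G))).inv _ ≫
    (Functor.associator _ _ _).hom ≫
    Functor.whiskerLeft T.mapHomotopyCategoryPlus G.rightDerivedFunctorPlusUnit ≫
    (Functor.associator _ _ _).inv ≫
    Functor.whiskerRight T.rightDerivedFunctorPlusUnit G.rightDerivedFunctorPlus ≫
    (Functor.associator _ _ _).hom

lemma isRightDerivedFunctor_comp (hTG : ∀ I : A, Injective I → FAcyc G (T.obj I)) :
    (T.rightDerivedFunctorPlus ⋙ G.rightDerivedFunctorPlus).IsRightDerivedFunctor (compUnit T G)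
      (HomotopyCategory.Plus.quasiIso A) := by
  refine (HomotopyCategory.Plus.localizerMorphism_derives (C := A) _).isRightDerivedFunctor_of_isIso
    _ ?_
  intro J
  obtain ⟨J, rfl⟩ := HomotopyCategory.Plus.quotient_obj_surjective J
  have h5 : IsIso (G.rightDerivedFunctorPlusUnit.app (T.mapHomotopyCategoryPlus.obj
      ((HomotopyCategory.Plus.localizerMorphism A).functor.obj
        ((HomotopyCategory.Plus.quotient (InjectiveObject A)).obj J)))) := by
    show IsIso (G.rightDerivedFunctorPlusUnit.app ((HomotopyCategory.Plus.quotient B).obj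
      (T.mapCochainComplexPlus.obj ((InjectiveObject.ι A).mapCochainComplexPlus.obj J))))
    apply unit_isIso_of_FAcyc
    intro n
    exact hTG _ (inferInstanceAs (Injective ((InjectiveObject.ι A).obj (J.obj.X n))))
  have h6 : IsIso T.rightDerivedFunctorPlusUnit := inferInstance
  simp only [compUnit, NatTrans.comp_app, Functor.whiskerRight_app, Functor.whiskerLeft_app,
    Functor.associator_hom_app, Functor.associator_inv_app, Category.comp_id, Category.id_comp]
  infer_instance

/-- `R(T ⋙ G) ≅ RT ⋙ RG` on bounded below derived categories. -/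
noncomputable def rightDerivedFunctorPlusCompIso
    (hTG : ∀ I : A, Injective I → FAcyc G (T.obj I)) :
    (T ⋙ G).rightDerivedFunctorPlus ≅ T.rightDerivedFunctorPlus ⋙ G.rightDerivedFunctorPlus :=
  haveI := isRightDerivedFunctor_comp T G hTG
  Functor.rightDerivedUnique _ _ (T ⋙ G).rightDerivedFunctorPlusUnit (compUnit T G)
    (HomotopyCategory.Plus.quasiIso A)

/-- `Ρ (T ⋙ G) ≅ T.mapK⁺ ⋙ Ρ G`. -/
noncomputable def ΡCompIso (hTG : ∀ I : A, Injective I → FAcyc G (T.obj I)) :
    Ρ (T ⋙ G) ≅ T.mapHomotopyCategoryPlus ⋙ Ρ G :=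
  Functor.isoWhiskerRight (Functor.isoWhiskerLeft DerivedCategory.Plus.Qh
      (rightDerivedFunctorPlusCompIso T G hTG)) DerivedCategory.Plus.ι ≪≫
    Functor.isoWhiskerRight ((Functor.associator _ _ _).symm ≪≫
      Functor.isoWhiskerRight (asIso T.rightDerivedFunctorPlusUnit).symm G.rightDerivedFunctorPlus ≪≫
      Functor.associator _ _ _) DerivedCategory.Plus.ι ≪≫ Functor.associator _ _ _

end comp

section single

universe v v' u u'

variable {A : Type u} [Category.{v} A] [Abelian A]
  {B : Type u'} [Category.{v'} B] [Abelian B]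
  (T : A ⥤ B) [T.Additive]

/-- the single functor commutes with an additive functor, on `K⁺`. -/
noncomputable def singleMapIso :
    HomotopyCategory.Plus.singleFunctor A 0 ⋙ T.mapHomotopyCategoryPlus ≅
      T ⋙ HomotopyCategory.Plus.singleFunctor B 0 :=
  ((HomotopyCategory.plus _).fullyFaithfulι.whiskeringRight _).preimageIso
    (show CochainComplex.singleFunctor A 0 ⋙ HomotopyCategory.quotient A (.up ℤ) ⋙
        T.mapHomotopyCategory (.up ℤ) ≅
        T ⋙ CochainComplex.singleFunctor B 0 ⋙ HomotopyCategory.quotient B (.up ℤ) from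
      Functor.isoWhiskerLeft _ (T.mapHomotopyCategoryFactors (.up ℤ)) ≪≫
        (Functor.associator _ _ _).symm ≪≫
        Functor.isoWhiskerRight (HomologicalComplex.singleMapHomologicalComplex T (ComplexShape.up ℤ) 0) _ ≪≫ 
        Functor.associator _ _ _)

end single

section final

universe w w' w'' v v' v'' u u' u''

variable {A : Type u} [Category.{v} A] [Abelian A] [HasDerivedCategory.{w} A] [EnoughInjectives A]
  {B : Type u'} [Category.{v'} B] [Abelian B] [HasDerivedCategory.{w'} B] [EnoughInjectives B]
  {C : Type u''} [Category.{v''} C] [Abelian C] [HasDerivedCategory.{w''} C]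
  (T : A ⥤ B) [T.Additive] [PreservesFiniteLimits T] [PreservesFiniteColimits T]
  (G : B ⥤ C) [G.Additive] [PreservesFiniteLimits G]

/-- auxiliary version with chosen derived categories. -/
noncomputable def rightDerivedCompIsoAux (hTG : ∀ I : A, Injective I → FAcyc G (T.obj I)) (n : ℕ) :
    (T ⋙ G).rightDerived n ≅ T ⋙ G.rightDerived n :=
  rightDerivedIso (T ⋙ G) n ≪≫
    Functor.isoWhiskerLeft (HomotopyCategory.Plus.singleFunctor A 0)
      (Functor.isoWhiskerRight (ΡCompIso T G hTG) (DerivedCategory.homologyFunctor C (n : ℤ)) ≪≫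
        Functor.associator _ _ _) ≪≫
    (Functor.associator _ _ _).symm ≪≫
    Functor.isoWhiskerRight (singleMapIso T) _ ≪≫
    Functor.associator _ _ _ ≪≫
    Functor.isoWhiskerLeft T (rightDerivedIso G n).symm

end final

section free

universe v v' v'' u u' u''

variable {A : Type u} [Category.{v} A] [Abelian A] [EnoughInjectives A]
  {B : Type u'} [Category.{v'} B] [Abelian B] [EnoughInjectives B]
  {C : Type u''} [Category.{v''} C] [Abelian C]
  (T : A ⥤ B) [T.Additive] [PreservesFiniteLimits T] [PreservesFiniteColimits T]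
  (G : B ⥤ C) [G.Additive] [PreservesFiniteLimits G]

/-- **Derived functors of a composite with an exact functor**: if `T` is exact and sends injectives
to right `G`-acyclic objects, then `Rⁿ(T ⋙ G) ≅ T ⋙ RⁿG` naturally. -/
noncomputable def rightDerivedCompIso (hTG : ∀ I : A, Injective I → FAcyc G (T.obj I)) (n : ℕ) :
    (T ⋙ G).rightDerived n ≅ T ⋙ G.rightDerived n :=
  letI : HasDerivedCategory A := HasDerivedCategory.standard A
  letI : HasDerivedCategory B := HasDerivedCategory.standard B
  letI : HasDerivedCategory C := HasDerivedCategory.standard C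
  rightDerivedCompIsoAux T G hTG n

end free
end Groth.Agent.H18.RDPlus
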