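import Mathlib

/-!
# Right derived functors of `T ⋙ G` for an exact functor `G`

`T.rightDerived n ⋙ G ≅ (T ⋙ G).rightDerived n`, naturally.
-/

set_option autoImplicit false
open CategoryTheory CategoryTheory.Limits

namespace Groth.Agent.H18.RDCompExact

universe v₁ v₂ v₃ u₁ u₂ u₃

variable {A : Type u₁} [Category.{v₁} A] [Abelian A] [HasInjectiveResolutions A]
  {B : Type u₂} [Category.{v₂} B] [Abelian B]
  {D : Type u₃} [Category.{v₃} D] [Abelian D]
  (T : A ⥤ B) [T.Additive] (G : B ⥤ D) [G.Additive] [G.PreservesHomology]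

/-- the complex `T(I^•)` for the chosen injective resolution -/
noncomputable abbrev TI (X : A) : CochainComplex B ℕ :=
  (T.mapHomologicalComplex (ComplexShape.up ℕ)).obj (injectiveResolution X).cocomplex

/-- `G(H^n(T I)) ≅ H^n(G T I)` -/
noncomputable def midIso (X : A) (n : ℕ) :
    G.obj ((TI T X).homology n) ≅
      (((T ⋙ G).mapHomologicalComplex (ComplexShape.up ℕ)).obj
        (injectiveResolution X).cocomplex).homology n :=
  (((TI T X).sc n).mapHomologyIso G).symm

/-- the component isomorphism -/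
noncomputable def objIso (X : A) (n : ℕ) :
    G.obj ((T.rightDerived n).obj X) ≅ ((T ⋙ G).rightDerived n).obj X :=
  G.mapIso ((injectiveResolution X).isoRightDerivedObj T n) ≪≫ midIso T G X n ≪≫
    ((injectiveResolution X).isoRightDerivedObj (T ⋙ G) n).symm

lemma midIso_naturality {X Y : A} (φ : (injectiveResolution X).cocomplex ⟶
    (injectiveResolution Y).cocomplex) (n : ℕ) :
    G.map (HomologicalComplex.homologyMap
        ((T.mapHomologicalComplex (ComplexShape.up ℕ)).map φ) n) ≫ (midIso T G Y n).hom =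
      (midIso T G X n).hom ≫ HomologicalComplex.homologyMap
        (((T ⋙ G).mapHomologicalComplex (ComplexShape.up ℕ)).map φ) n := by
  have h := ShortComplex.mapHomologyIso_hom_naturality
    ((HomologicalComplex.shortComplexFunctor B (ComplexShape.up ℕ) n).map
      ((T.mapHomologicalComplex (ComplexShape.up ℕ)).map φ)) G
  dsimp only [midIso, Iso.symm_hom]
  rw [Iso.comp_inv_eq, Category.assoc, Iso.eq_inv_comp]
  exact h.symm

lemma three_sq {E : Type*} [Category E] {X0 X1 X2 X3 Y0 Y1 Y2 Y3 : E}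
    (a0 : X0 ⟶ Y0) (a1 : X1 ⟶ Y1) (a2 : X2 ⟶ Y2) (a3 : X3 ⟶ Y3)
    (u1 : X0 ⟶ X1) (u2 : X1 ⟶ X2) (u3 : X2 ⟶ X3)
    (v1 : Y0 ⟶ Y1) (v2 : Y1 ⟶ Y2) (v3 : Y2 ⟶ Y3)
    (h1 : a0 ≫ v1 = u1 ≫ a1) (h2 : a1 ≫ v2 = u2 ≫ a2) (h3 : a2 ≫ v3 = u3 ≫ a3) :
    a0 ≫ (v1 ≫ v2 ≫ v3) = (u1 ≫ u2 ≫ u3) ≫ a3 := by
  rw [reassoc_of% h1, reassoc_of% h2, h3]
  simp only [Category.assoc]

lemma objIso_naturality {X Y : A} (g : X ⟶ Y) (n : ℕ) :
    G.map ((T.rightDerived n).map g) ≫ (objIso T G Y n).hom =
      (objIso T G X n).hom ≫ ((T ⋙ G).rightDerived n).map g := by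
  let φ := InjectiveResolution.desc g (injectiveResolution Y) (injectiveResolution X)
  have comm : (injectiveResolution X).ι.f 0 ≫ φ.f 0 = g ≫ (injectiveResolution Y).ι.f 0 :=
    InjectiveResolution.desc_commutes_zero g _ _
  have h1 : G.map ((T.rightDerived n).map g) ≫
      G.map ((injectiveResolution Y).isoRightDerivedObj T n).hom =
      G.map ((injectiveResolution X).isoRightDerivedObj T n).hom ≫
        G.map (HomologicalComplex.homologyMap
          ((T.mapHomologicalComplex (ComplexShape.up ℕ)).map φ) n) := by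
    rw [← G.map_comp, ← G.map_comp]
    exact congrArg G.map (InjectiveResolution.isoRightDerivedObj_hom_naturality g
      (injectiveResolution X) (injectiveResolution Y) φ comm T n)
  have h2 := midIso_naturality T G φ n
  have h3 : HomologicalComplex.homologyMap
        (((T ⋙ G).mapHomologicalComplex (ComplexShape.up ℕ)).map φ) n ≫
        ((injectiveResolution Y).isoRightDerivedObj (T ⋙ G) n).inv =
      ((injectiveResolution X).isoRightDerivedObj (T ⋙ G) n).inv ≫
        ((T ⋙ G).rightDerived n).map g :=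
    (InjectiveResolution.isoRightDerivedObj_inv_naturality g
      (injectiveResolution X) (injectiveResolution Y) φ comm (T ⋙ G) n).symm
  exact three_sq _ _ _ _ _ _ _ _ _ _ h1 h2 h3

/-- **`R^n T ⋙ G ≅ R^n (T ⋙ G)` for exact `G`.** -/
noncomputable def natIso (n : ℕ) : T.rightDerived n ⋙ G ≅ (T ⋙ G).rightDerived n :=
  NatIso.ofComponents (fun X => objIso T G X n) (fun g => objIso_naturality T G g n)

@[simp] lemma natIso_hom_app (n : ℕ) (X : A) : (natIso T G n).hom.app X = (objIso T G X n).hom := rfl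

end Groth.Agent.H18.RDCompExact
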