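import Groth.Agent.Lib.helper18.CoarseCech

set_option autoImplicit false
set_option linter.unusedSectionVars false
set_option linter.unusedVariables false
open CategoryTheory CategoryTheory.Limits Opposite Simplicial TopologicalSpace

namespace Groth.Agent.H18.AbsCech

open Groth.Agent.H18.Cech Groth.Agent.H18.DisjCech Groth.Agent.H18.CoarseCech

universe u

variable {X : TopCat.{u}} (P : (Opens X)ᵒᵖ ⥤ AddCommGrpCat.{u}) {ι : Type u} (U : ι → Opens X)

lemma δ_f (n : ℕ) (i : Fin (n + 2)) (b : Fin (n + 2) → ι) :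
    ((W U).δ i).f b = fun l => b (i.succAbove l) := rfl

lemma δ0_cons (n : ℕ) (k : ι) (c : Fin (n + 1) → ι) :
    ((W U).δ (0 : Fin (n + 2))).f (Fin.cons k c : Fin (n + 2) → ι) = c := by
  rw [δ_f]
  funext l
  rw [Fin.succAbove_zero, Fin.cons_succ]

lemma δsucc_cons (n : ℕ) (k : ι) (j : Fin (n + 2)) (c : Fin (n + 2) → ι) :
    ((W U).δ (j.succ : Fin (n + 3))).f (Fin.cons k c : Fin (n + 3) → ι) =
      (Fin.cons k (((W U).δ j).f c) : Fin (n + 2) → ι) := by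
  rw [δ_f, δ_f]
  funext l
  induction l using Fin.cases with
  | zero => rw [Fin.succ_succAbove_zero, Fin.cons_zero, Fin.cons_zero]
  | succ l' => rw [Fin.succ_succAbove_succ, Fin.cons_succ, Fin.cons_succ]

lemma obj_eq_iInf (n : ℕ) (a : Fin (n + 1) → ι) :
    ((W U) _⦋n⦌).obj a = ⨅ l, U (a l) := CechTop.prod_eq_iInf U n a

lemma obj_cons (n : ℕ) (k : ι) (a : Fin (n + 1) → ι) :
    ((W U) _⦋n + 1⦌).obj (Fin.cons k a : Fin (n + 2) → ι) = U k ⊓ ((W U) _⦋n⦌).obj a := by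
  rw [obj_eq_iInf, obj_eq_iInf]
  apply le_antisymm
  · apply le_inf
    · refine (iInf_le _ (0 : Fin (n + 2))).trans ?_
      rw [Fin.cons_zero]
    · apply le_iInf
      intro l
      refine (iInf_le _ l.succ).trans ?_
      rw [Fin.cons_succ]
  · apply le_iInf
    intro l
    induction l using Fin.cases with
    | zero => rw [Fin.cons_zero]; exact inf_le_left
    | succ l' => rw [Fin.cons_succ]; exact inf_le_right.trans (iInf_le _ l')

lemma obj_cons_le (n : ℕ) (k : ι) (a : Fin (n + 1) → ι) :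
    ((W U) _⦋n + 1⦌).obj (Fin.cons k a : Fin (n + 2) → ι) ≤ ((W U) _⦋n⦌).obj a := by
  rw [obj_cons]; exact inf_le_right

lemma obj_face_le (n : ℕ) (i : Fin (n + 2)) (b : Fin (n + 2) → ι) :
    ((W U) _⦋n + 1⦌).obj b ≤ ((W U) _⦋n⦌).obj (((W U).δ i).f b) :=
  leOfHom (((W U).δ i).φ b)

/-- component of a cochain restricted to a smaller open -/
noncomputable def rs {n : ℕ} (x : EV P ((W U) _⦋n⦌)) (a : Fin (n + 1) → ι) (V : Opens X)
    (h : V ≤ ((W U) _⦋n⦌).obj a) : P.obj (op V) :=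
  (P.map (homOfLE h).op).hom (pr P _ a x)

lemma rs_congr {n : ℕ} (x : EV P ((W U) _⦋n⦌)) (a a' : Fin (n + 1) → ι) (e : a = a')
    (V : Opens X) (h : V ≤ ((W U) _⦋n⦌).obj a) (h' : V ≤ ((W U) _⦋n⦌).obj a') :
    rs P U x a V h = rs P U x a' V h' := by
  subst e; rfl

lemma rs_zero {n : ℕ} (a : Fin (n + 1) → ι) (V : Opens X) (h : V ≤ ((W U) _⦋n⦌).obj a) :
    rs P U (0 : EV P ((W U) _⦋n⦌)) a V h = 0 := by
  unfold rs
  rw [map_zero, map_zero]

lemma pr_dC (n : ℕ) (x : EV P ((W U) _⦋n⦌)) (b : Fin (n + 2) → ι) :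
    pr P _ b ((dC P U n).hom x) = ∑ i : Fin (n + 2), (-1 : ℤ) ^ (i : ℕ) •
      (P.map (((W U).δ i).φ b).op).hom (pr P _ (((W U).δ i).f b) x) := by
  rw [dC_eq, sum_zsmul_hom_apply, map_sum]
  refine Finset.sum_congr rfl (fun i _ => ?_)
  rw [map_zsmul, pr_EVmap]

lemma rs_dC (n : ℕ) (x : EV P ((W U) _⦋n⦌)) (b : Fin (n + 2) → ι) (V : Opens X)
    (h : V ≤ ((W U) _⦋n + 1⦌).obj b) :
    rs P U ((dC P U n).hom x) b V h = ∑ i : Fin (n + 2), (-1 : ℤ) ^ (i : ℕ) •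
      rs P U x (((W U).δ i).f b) V (h.trans (obj_face_le U n i b)) := by
  unfold rs
  rw [pr_dC, map_sum]
  refine Finset.sum_congr rfl (fun i _ => ?_)
  rw [map_zsmul]
  congr 1
  exact map_map_thin' P _ _ _ _

lemma cocycle_rel (m : ℕ) (x : EV P ((W U) _⦋m + 1⦌)) (hx : (dC P U (m + 1)).hom x = 0) (k : ι)
    (c : Fin (m + 2) → ι) (V : Opens X)
    (hV : V ≤ ((W U) _⦋m + 2⦌).obj (Fin.cons k c : Fin (m + 3) → ι))
    (h0 : V ≤ ((W U) _⦋m + 1⦌).obj c)
    (hj : ∀ j : Fin (m + 2),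
      V ≤ ((W U) _⦋m + 1⦌).obj (Fin.cons k (((W U).δ j).f c) : Fin (m + 2) → ι)) :
    rs P U x c V h0 = ∑ j : Fin (m + 2), (-1 : ℤ) ^ (j : ℕ) •
      rs P U x (Fin.cons k (((W U).δ j).f c) : Fin (m + 2) → ι) V (hj j) := by
  have h := rs_dC P U (m + 1) x (Fin.cons k c : Fin (m + 3) → ι) V hV
  rw [hx, rs_zero, Fin.sum_univ_succ] at h
  have e0 : rs P U x (((W U).δ (0 : Fin (m + 3))).f (Fin.cons k c : Fin (m + 3) → ι)) V
      (hV.trans (obj_face_le U (m + 1) 0 _)) = rs P U x c V h0 :=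
    rs_congr P U x _ _ (δ0_cons U (m + 1) k c) V _ _
  have ej : ∀ j : Fin (m + 2),
      (-1 : ℤ) ^ ((j.succ : Fin (m + 3)) : ℕ) •
        rs P U x (((W U).δ (j.succ : Fin (m + 3))).f (Fin.cons k c : Fin (m + 3) → ι)) V
          (hV.trans (obj_face_le U (m + 1) j.succ _)) =
      -((-1 : ℤ) ^ (j : ℕ) •
        rs P U x (Fin.cons k (((W U).δ j).f c) : Fin (m + 2) → ι) V (hj j)) := by
    intro j
    rw [rs_congr P U x _ _ (δsucc_cons U m k j c) V _ (hj j), Fin.val_succ, pow_succ, mul_neg_one,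
      neg_smul]
  rw [Fin.val_zero, pow_zero, one_smul, e0, Finset.sum_congr rfl (fun j _ => ej j),
    Finset.sum_neg_distrib] at h
  exact add_neg_eq_zero.mp h.symm

lemma nat_apply (α : P ⟶ P) {V V' : Opens X} (i : V' ⟶ V) (s : P.obj (op V)) :
    (α.app (op V')).hom ((P.map i.op).hom s) = (P.map i.op).hom ((α.app (op V)).hom s) := by
  have := ConcreteCategory.congr_hom (α.naturality i.op) s
  rw [ConcreteCategory.comp_apply, ConcreteCategory.comp_apply] at this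
  exact this

lemma EVnat_dC (α : P ⟶ P) (n : ℕ) (z : EV P ((W U) _⦋n⦌)) :
    (dC P U n).hom ((EVnat α _).hom z) = (EVnat α _).hom ((dC P U n).hom z) := by
  have h := ((cechComplexFunctor U).map α).comm n (n + 1)
  have h' : EVnat α ((W U) _⦋n⦌) ≫ dC P U n = dC P U n ≫ EVnat α ((W U) _⦋n + 1⦌) := h
  have := ConcreteCategory.congr_hom h' z
  rw [ConcreteCategory.comp_apply, ConcreteCategory.comp_apply] at this
  exact this

variable [Fintype ι] (𝒮 : Opens X → Prop) (φ : ι → ℕ → (P ⟶ P))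

/-- the hypotheses of the abstract vanishing lemma -/
structure Hyp : Prop where
  mem : ∀ (n : ℕ) (a : Fin (n + 1) → ι), 𝒮 (((W U) _⦋n⦌).obj a)
  mul : ∀ (k : ι) (N N' : ℕ), φ k (N + N') = φ k N ≫ φ k N'
  lift : ∀ (k : ι) (V : Opens X), 𝒮 V → ∀ (V' : Opens X) (e : V' = U k ⊓ V) (h : V' ≤ V)
    (s : P.obj (op V')), ∃ (N : ℕ) (t : P.obj (op V)),
      (P.map (homOfLE h).op).hom t = ((φ k N).app (op V')).hom s
  kill : ∀ (k : ι) (V : Opens X), 𝒮 V → ∀ (V' : Opens X) (e : V' = U k ⊓ V) (h : V' ≤ V)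
    (s : P.obj (op V)), (P.map (homOfLE h).op).hom s = 0 →
      ∃ N : ℕ, ((φ k N).app (op V)).hom s = 0
  part : ∀ N : ℕ, ∃ (ψ : ι → (P ⟶ P)) (θ : P ⟶ P),
    (∀ V, 𝒮 V → Function.Bijective ((θ.app (op V)).hom)) ∧
    (∀ V, 𝒮 V → ∀ s : P.obj (op V), (θ.app (op V)).hom s =
      ∑ k, ((ψ k).app (op V)).hom (((φ k N).app (op V)).hom s))

variable {P U 𝒮 φ}

lemma mul_apply (H : Hyp P U 𝒮 φ) (k : ι) (N N' : ℕ) (V : Opens X) (s : P.obj (op V)) :
    ((φ k N').app (op V)).hom (((φ k N).app (op V)).hom s) =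
      ((φ k (N + N')).app (op V)).hom s := by
  rw [H.mul]; rfl

lemma E_mul (H : Hyp P U 𝒮 φ) (k : ι) (N N' : ℕ) (n : ℕ) (x : EV P ((W U) _⦋n⦌)) :
    (EVnat (φ k N') _).hom ((EVnat (φ k N) _).hom x) = (EVnat (φ k (N + N')) _).hom x := by
  apply EV_ext
  intro a
  rw [pr_EVnat, pr_EVnat, pr_EVnat, mul_apply H]

lemma stepA (H : Hyp P U 𝒮 φ) (m : ℕ) (x : EV P ((W U) _⦋m + 1⦌)) (k : ι) :
    ∃ (N : ℕ) (t : ∀ a : Fin (m + 1) → ι, P.obj (op (((W U) _⦋m⦌).obj a))),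
      ∀ a : Fin (m + 1) → ι,
        (P.map (homOfLE (obj_cons_le U m k a)).op).hom (t a) =
          ((φ k N).app (op _)).hom (pr P _ (Fin.cons k a : Fin (m + 2) → ι) x) := by
  have h1 : ∀ a : Fin (m + 1) → ι, ∃ (N : ℕ) (t : P.obj (op (((W U) _⦋m⦌).obj a))),
      (P.map (homOfLE (obj_cons_le U m k a)).op).hom t =
        ((φ k N).app (op _)).hom (pr P _ (Fin.cons k a : Fin (m + 2) → ι) x) := fun a =>
    H.lift k _ (H.mem m a) _ (obj_cons U m k a) (obj_cons_le U m k a) _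
  choose N0 t0 h0 using h1
  obtain ⟨M, hM⟩ := Finite.exists_le N0
  refine ⟨M, fun a => ((φ k (M - N0 a)).app (op _)).hom (t0 a), fun a => ?_⟩
  rw [← nat_apply, h0 a, mul_apply H, Nat.add_sub_cancel' (hM a)]

lemma stepC (H : Hyp P U 𝒮 φ) (m : ℕ) (x : EV P ((W U) _⦋m + 1⦌))
    (hx : (dC P U (m + 1)).hom x = 0) (k : ι) :
    ∃ (N : ℕ) (z : EV P ((W U) _⦋m⦌)), (dC P U m).hom z = (EVnat (φ k N) _).hom x := by
  obtain ⟨N, t, ht⟩ := stepA H m x k
  let y : EV P ((W U) _⦋m + 1⦌) := (dC P U m).hom (toEV P _ t) - (EVnat (φ k N) _).hom x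
  -- `y` restricts to zero
  have hy : ∀ c : Fin (m + 2) → ι,
      (P.map (homOfLE (obj_cons_le U (m + 1) k c)).op).hom (pr P _ c y) = 0 := by
    intro c
    have hV1 : ∀ j : Fin (m + 2), ((W U) _⦋m + 2⦌).obj (Fin.cons k c : Fin (m + 3) → ι) ≤
        ((W U) _⦋m + 1⦌).obj (Fin.cons k (((W U).δ j).f c) : Fin (m + 2) → ι) := by
      intro j
      rw [obj_cons, obj_cons]
      exact inf_le_inf_left _ (obj_face_le U m j c)
    have e1 : rs P U ((dC P U m).hom (toEV P _ t)) c _ (obj_cons_le U (m + 1) k c) =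
        ((φ k N).app (op _)).hom (rs P U x c _ (obj_cons_le U (m + 1) k c)) := by
      rw [rs_dC, cocycle_rel P U m x hx k c _ le_rfl (obj_cons_le U (m + 1) k c) hV1, map_sum]
      refine Finset.sum_congr rfl (fun j _ => ?_)
      rw [map_zsmul]
      congr 1
      unfold rs
      rw [pr_toEV, nat_apply, ← ht,
        map_map_thin' P (homOfLE (obj_cons_le U m k _)) (homOfLE (hV1 j)) _ _]
    have e2 : rs P U ((EVnat (φ k N) _).hom x) c _ (obj_cons_le U (m + 1) k c) =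
        ((φ k N).app (op _)).hom (rs P U x c _ (obj_cons_le U (m + 1) k c)) := by
      unfold rs
      rw [pr_EVnat, nat_apply]
    have : rs P U y c _ (obj_cons_le U (m + 1) k c) = 0 := by
      have hsub : rs P U y c _ (obj_cons_le U (m + 1) k c) =
          rs P U ((dC P U m).hom (toEV P _ t)) c _ (obj_cons_le U (m + 1) k c) -
            rs P U ((EVnat (φ k N) _).hom x) c _ (obj_cons_le U (m + 1) k c) := by
        unfold rs
        rw [← map_sub, ← map_sub]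
      rw [hsub, e1, e2, sub_self]
    exact this
  have h2 : ∀ c : Fin (m + 2) → ι, ∃ N' : ℕ, ((φ k N').app (op _)).hom (pr P _ c y) = 0 :=
    fun c => H.kill k _ (H.mem (m + 1) c) _ (obj_cons U (m + 1) k c) (obj_cons_le U (m + 1) k c) _
      (hy c)
  choose N0 h0 using h2
  obtain ⟨M, hM⟩ := Finite.exists_le N0
  have h3 : (EVnat (φ k M) _).hom y = 0 := by
    apply EV_ext
    intro c
    rw [pr_EVnat, map_zero, ← Nat.add_sub_cancel' (hM c), ← mul_apply H, h0 c, map_zero]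
  refine ⟨N + M, (EVnat (φ k M) _).hom (toEV P _ t), ?_⟩
  have h4 : (EVnat (φ k M) _).hom y =
      (EVnat (φ k M) _).hom ((dC P U m).hom (toEV P _ t)) -
        (EVnat (φ k M) _).hom ((EVnat (φ k N) _).hom x) := map_sub _ _ _
  rw [h3, E_mul H, ← EVnat_dC] at h4
  exact (sub_eq_zero.mp h4.symm)

lemma stepD (H : Hyp P U 𝒮 φ) (m : ℕ) (x : EV P ((W U) _⦋m + 1⦌))
    (hx : (dC P U (m + 1)).hom x = 0) :
    ∃ N : ℕ, ∀ k : ι, ∃ z : EV P ((W U) _⦋m⦌),
      (dC P U m).hom z = (EVnat (φ k N) _).hom x := by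
  have h1 := fun k => stepC H m x hx k
  choose N0 z0 h0 using h1
  obtain ⟨M, hM⟩ := Finite.exists_le N0
  refine ⟨M, fun k => ⟨(EVnat (φ k (M - N0 k)) _).hom (z0 k), ?_⟩⟩
  rw [EVnat_dC, h0 k, E_mul H, Nat.add_sub_cancel' (hM k)]

lemma core (H : Hyp P U 𝒮 φ) (m : ℕ) (x : EV P ((W U) _⦋m + 1⦌))
    (hx' : (dC P U (m + 1)).hom x = 0) :
    ∃ y : EV P ((W U) _⦋m⦌), (dC P U m).hom y = x := by
  obtain ⟨N, hN⟩ := stepD H m x hx'
  choose z hz using hN
  obtain ⟨ψ, θ, hbij, hsum⟩ := H.part N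
  let w : EV P ((W U) _⦋m⦌) := ∑ k, (EVnat (ψ k) _).hom (z k)
  have hw : (dC P U m).hom w = (EVnat θ _).hom x := by
    show (dC P U m).hom (∑ k, (EVnat (ψ k) _).hom (z k)) = _
    rw [map_sum]
    apply EV_ext
    intro c
    rw [map_sum, pr_EVnat, hsum _ (H.mem (m + 1) c)]
    refine Finset.sum_congr rfl (fun k _ => ?_)
    rw [EVnat_dC, hz k, pr_EVnat, pr_EVnat]
  -- surjectivity of θ on cochains
  have hsurj : ∀ c : Fin (m + 1) → ι, ∃ s : P.obj (op (((W U) _⦋m⦌).obj c)),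
      (θ.app (op _)).hom s = pr P _ c w := fun c => (hbij _ (H.mem m c)).2 _
  choose s hs using hsurj
  refine ⟨toEV P _ s, ?_⟩
  have h5 : (EVnat θ _).hom (toEV P ((W U) _⦋m⦌) s) = w := by
    apply EV_ext
    intro c
    rw [pr_EVnat, pr_toEV, hs c]
  have h6 : (EVnat θ _).hom ((dC P U m).hom (toEV P _ s)) = (EVnat θ _).hom x := by
    rw [← EVnat_dC, h5, hw]
  -- injectivity
  apply EV_ext
  intro c
  apply (hbij _ (H.mem (m + 1) c)).1
  have := congrArg (pr P _ c) h6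
  rw [pr_EVnat, pr_EVnat] at this
  exact this

theorem exactAt (H : Hyp P U 𝒮 φ) (m : ℕ) :
    ((cechComplexFunctor U).obj P).ExactAt (m + 1) := by
  change (CC P (W U)).ExactAt (m + 1)
  rw [HomologicalComplex.exactAt_iff' (CC P (W U)) m (m + 1) (m + 2) (by simp) (by simp),
    ShortComplex.ab_exact_iff]
  intro x hx
  exact core H m x hx

end Groth.Agent.H18.AbsCech
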