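import Groth.Agent.Lib.helper18.CohTopOpen

set_option autoImplicit false
set_option linter.unusedSectionVars false
open CategoryTheory CategoryTheory.Limits CategoryTheory.Abelian Opposite TopologicalSpace

namespace Groth.Agent.H18.ClosedPush

open Groth.Agent.H18.OpenRestr Groth.Agent.H18.Flasque Groth.Agent.H18.SectSupp Groth.Agent.H18.CohTopH

universe u

variable {X Y : TopCat.{u}}

lemma subsingleton_sections_of_eq_bot (G : CohTop.Ab X) {W : Opens X} (hW : W = ⊥) :
    Subsingleton (G.obj.obj (op W)) := by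
  have hT : IsTerminal (G.obj.obj (op W)) := TopCat.Sheaf.isTerminalOfEqEmpty G hW
  have hz : IsZero (G.obj.obj (op W)) := by
    rw [IsZero.iff_id_eq_zero]
    exact hT.hom_ext _ _
  exact AddCommGrpCat.subsingleton_of_isZero hz

/-- pushforward along a closed embedding preserves epimorphisms -/
lemma epi_push_of_isClosedEmbedding (f : X ⟶ Y) (hf : Topology.IsClosedEmbedding f)
    {F G : CohTop.Ab X} (g : F ⟶ G) [Epi g] : Epi ((CohTop.push f).map g) := by
  have hg : TopCat.Presheaf.IsLocallySurjective g.hom :=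
    (TopCat.Sheaf.isLocallySurjective_iff_epi g).2 ‹Epi g›
  rw [TopCat.Presheaf.isLocallySurjective_iff] at hg
  refine (TopCat.Sheaf.isLocallySurjective_iff_epi ((CohTop.push f).map g)).1 ?_
  rw [TopCat.Presheaf.isLocallySurjective_iff]
  intro V t y hy
  by_cases hyf : y ∈ Set.range f
  · obtain ⟨x, rfl⟩ := hyf
    obtain ⟨N, hN, ⟨s, hs⟩, hxN⟩ := hg ((Opens.map f).obj V) t x hy
    obtain ⟨W, hW, hWN⟩ := hf.isInducing.isOpen_iff.1 N.2
    have hle : (Opens.map f).obj (⟨W, hW⟩ ⊓ V) ≤ N := by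
      intro z hz
      have : z ∈ f ⁻¹' W := hz.1
      rw [hWN] at this
      exact this
    refine ⟨⟨W, hW⟩ ⊓ V, inf_le_right, ⟨F.obj.map (homOfLE hle).op s, ?_⟩, ?_⟩
    · refine (ConcreteCategory.congr_hom (g.hom.naturality (homOfLE hle).op) s).trans ?_
      change G.obj.map (homOfLE hle).op (g.hom.app (op N) s) = _
      rw [hs]
      change G.obj.map (homOfLE hle).op (G.obj.map (homOfLE hN).op t) = G.obj.map _ t
      rw [← ConcreteCategory.comp_apply, ← G.obj.map_comp]
      rfl
    · refine ⟨?_, hy⟩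
      change x ∈ f ⁻¹' W
      rw [hWN]
      exact hxN
  · have hopen : IsOpen (Set.range f)ᶜ := hf.isClosed_range.isOpen_compl
    have hbot : (Opens.map f).obj (V ⊓ ⟨(Set.range f)ᶜ, hopen⟩) = ⊥ := by
      ext z
      simp only [Opens.coe_bot, Set.mem_empty_iff_false, iff_false]
      intro hz
      exact hz.2 ⟨z, rfl⟩
    have hsub : Subsingleton (G.obj.obj (op ((Opens.map f).obj (V ⊓ ⟨(Set.range f)ᶜ, hopen⟩)))) :=
      subsingleton_sections_of_eq_bot G hbot
    refine ⟨V ⊓ ⟨(Set.range f)ᶜ, hopen⟩, inf_le_left, ⟨(0 : F.obj.obj (op ((Opens.map f).obj (V ⊓ ⟨(Set.range f)ᶜ, hopen⟩)))), ?_⟩, ⟨hy, hyf⟩⟩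
    exact hsub.elim _ _

/-- pushforward along a closed embedding is exact, so its higher derived functors vanish -/
theorem isZero_Rpush_of_isClosedEmbedding (f : X ⟶ Y) (hf : Topology.IsClosedEmbedding f)
    (F : CohTop.Ab X) (q : ℕ) : IsZero ((CohTop.Rpush f (q + 1)).obj F) := by
  refine RDPlus.facyc_of_adapted (CohTop.push f) (fun _ => True) ?_ ?_ F trivial (q + 1) (by omega)
  · intro G
    exact ⟨G, 𝟙 G, trivial, inferInstance⟩
  · intro S hS _ _
    have hP : PreservesFiniteLimits (CohTop.push f) := inferInstance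
    obtain ⟨h1, h2⟩ :=
      (Functor.preservesFiniteLimits_iff_forall_exact_map_and_mono (CohTop.push f)).1 hP S hS
    have : Epi S.g := hS.epi_g
    exact ⟨trivial, { exact := h1, mono_f := h2, epi_g := epi_push_of_isClosedEmbedding f hf S.g }⟩

end Groth.Agent.H18.ClosedPush
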