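import Groth.Agent.Lib.helper18.Cech10

set_option autoImplicit false
set_option linter.unusedSectionVars false
open CategoryTheory CategoryTheory.Limits CategoryTheory.Abelian Opposite

namespace Groth.Agent.H18.Cech

universe u

/-- the data needed to form a Čech complex of sheaves on a site -/
structure CechDatum (C : Type u) [SmallCategory C] where
  D : Type u
  [cat : SmallCategory D]
  [fp : HasFiniteProducts D]
  Φ : D ⥤ C
  ι : Type u
  Y : ι → D
  U : C
  y : ∀ i, Φ.obj (Y i) ⟶ U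

attribute [instance] CechDatum.cat CechDatum.fp

variable {C : Type u} [SmallCategory C] {J : GrothendieckTopology C}
  [HasExt.{u} (Sheaf J AddCommGrpCat.{u})] [EnoughInjectives (Sheaf J AddCommGrpCat.{u})]

/-- vanishing of the positive degree Čech cohomology of `F` for a family of Čech data -/
def CechAcyclic {𝒦 : Type*} (K : 𝒦 → CechDatum C) (F : Sheaf J AddCommGrpCat.{u}) : Prop :=
  ∀ (k : 𝒦) (p : ℕ), IsZero ((CF (K k).Φ (K k).Y F).homology (p + 1))

variable {𝒦 : Type*} (K : 𝒦 → CechDatum C) (B : Set C)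
  (hB : ∀ (k : 𝒦) (n : ℕ) (a : Fin (n + 1) → (K k).ι), (K k).Φ.obj (∏ᶜ ((K k).Y ∘ a)) ∈ B)
  (hinj : ∀ (k : 𝒦) (I : Sheaf J AddCommGrpCat.{u}), Injective I →
    Injective ((K k).Φ.op ⋙ I.obj))
  (hsurj : ∀ (S : ShortComplex (Sheaf J AddCommGrpCat.{u})), S.ShortExact →
    (∀ k, IsZero ((CF (K k).Φ (K k).Y S.X₁).homology 1)) →
    ∀ U ∈ B, Function.Surjective (S.g.hom.app (op U)).hom)

include hB hinj hsurj in
lemma cechAcyclic_X₃ (F : Sheaf J AddCommGrpCat.{u}) (hF : CechAcyclic K F) :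
    CechAcyclic K (injSES F).X₃ := by
  intro k p
  have hS := injSES_shortExact F
  have hC : (((injSES F).map (Rr (K k).Φ)).map (cechComplexFunctor (K k).Y)).ShortExact := by
    apply cech_shortExact
    intro n a
    refine ShortComplex.ShortExact.mk' ?_ ?_ ?_
    · rw [ShortComplex.ab_exact_iff]
      exact sections_exact hS _
    · rw [AddCommGrpCat.mono_iff_injective]
      exact sections_injective hS _
    · rw [AddCommGrpCat.epi_iff_surjective]
      exact hsurj _ hS (fun k' => hF k' 0) _ (hB k n a)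
  have hex := hC.homology_exact₃ (p + 1) (p + 2) rfl
  have hI : IsZero ((CF (K k).Φ (K k).Y (injSES F).X₂).homology (p + 1)) :=
    isZero_CF_homology_of_injective (hinj k) _ p
  exact hex.isZero_of_both_zeros (hI.eq_of_src _ _) ((hF k (p + 1)).eq_of_tgt _ _)

include hB hinj hsurj in
/-- **Cartan's criterion** (abstract form) -/
theorem cartan : ∀ (p : ℕ) (F : Sheaf J AddCommGrpCat.{u}), CechAcyclic K F → ∀ U ∈ B,
    ∀ x : Ext.{u} (CohCx.freeSheaf J U) F (p + 1), x = 0
  | 0, F, hF, U, hU, x => by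
    have hS := injSES_shortExact F
    obtain ⟨x₃, rfl⟩ := Ext.covariant_sequence_exact₁ (CohCx.freeSheaf J U) hS x
      (Ext.eq_zero_of_injective _) (rfl : 0 + 1 = 1)
    obtain ⟨ψ, rfl⟩ := (Ext.mk₀_bijective _ _).2 x₃
    obtain ⟨s, hs⟩ := hsurj _ hS (fun k => hF k 0) U hU (CohFree.evalGen J U _ ψ)
    have h1 : ψ = CohFree.ofSect J U _ s ≫ (injSES F).g := by
      rw [ofSect_comp', hs, CohFree.ofSect_evalGen]
    rw [h1, ← Ext.mk₀_comp_mk₀, Ext.comp_assoc_of_second_deg_zero, hS.comp_extClass,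
      Ext.comp_zero]
    rfl
  | (p + 1), F, hF, U, hU, x => by
    have hS := injSES_shortExact F
    obtain ⟨x₃, rfl⟩ := Ext.covariant_sequence_exact₁ (CohCx.freeSheaf J U) hS x
      (Ext.eq_zero_of_injective _) (rfl : p + 1 + 1 = p + 2)
    rw [cartan p (injSES F).X₃ (cechAcyclic_X₃ K B hB hinj hsurj F hF) U hU x₃, Ext.zero_comp]
    rfl

end Groth.Agent.H18.Cech
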