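import Groth.Agent.Lib.helper18.CechTop2
import Groth.Agent.Lib.helper18.Cech11

set_option autoImplicit false
set_option linter.unusedSectionVars false
open CategoryTheory CategoryTheory.Limits CategoryTheory.Abelian Opposite TopologicalSpace

namespace Groth.Agent.H18.CechTop

open Groth.Agent.H18.Cech

universe u

variable {X : TopCat.{u}} [HasExt.{u} (CohTop.Ab X)] [EnoughInjectives (CohTop.Ab X)]

/-- the Čech datum of a family of opens -/
noncomputable def datum {ι : Type u} (V : ι → Opens X) : CechDatum (Opens X) where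
  D := Opens X
  Φ := 𝟭 (Opens X)
  ι := ι
  Y := V
  U := iSup V
  y := yy V

/-- **Cartan's criterion on a basis** -/
theorem cartan_top (F : CohTop.Ab X) (B : Set (Opens X))
    (Cov : ∀ (ι : Type u), (ι → Opens X) → Prop)
    (h1 : ∀ (ι : Type u) (V : ι → Opens X), Cov ι V →
      iSup V ∈ B ∧ ∀ (p : ℕ) (a : Fin (p + 1) → ι), (iInf fun k => V (a k)) ∈ B)
    (h2 : ∀ U ∈ B, ∀ (κ : Type u) (W : κ → Opens X), iSup W = U →
      ∃ (ι : Type u) (V : ι → Opens X), Cov ι V ∧ iSup V = U ∧ ∀ i, ∃ k, V i ≤ W k)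
    (h3 : ∀ (ι : Type u) (V : ι → Opens X), Cov ι V → ∀ p : ℕ, IsZero (CohTop.cechH F.obj V (p + 1)))
    (U : Opens X) (hU : U ∈ B) (p : ℕ) : Subsingleton (CohTop.HU F (p + 1) U) := by
  let 𝒦 : Type (u + 1) := Σ ι : Type u, {V : ι → Opens X // Cov ι V}
  let K : 𝒦 → CechDatum (Opens X) := fun k => datum k.2.1
  have hB : ∀ (k : 𝒦) (n : ℕ) (a : Fin (n + 1) → (K k).ι), (K k).Φ.obj (∏ᶜ ((K k).Y ∘ a)) ∈ B := by
    rintro ⟨ι, V, hV⟩ n a
    have := (h1 ι V hV).2 n a
    rw [← prod_eq_iInf V n a] at this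
    exact this
  have hinj : ∀ (k : 𝒦) (I : CohTop.Ab X), Injective I → Injective ((K k).Φ.op ⋙ I.obj) :=
    fun k I hI => injective_presheaf I
  have hsurj : ∀ (S : ShortComplex (CohTop.Ab X)), S.ShortExact →
      (∀ k, IsZero ((CF (K k).Φ (K k).Y S.X₁).homology 1)) →
      ∀ U ∈ B, Function.Surjective (S.g.hom.app (op U)).hom := by
    intro S hS hH1 U hU
    apply surj_top S hS U
    intro κ W hW
    obtain ⟨ι, V, hcov, hV, hr⟩ := h2 U hU κ W hW
    choose r hr using hr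
    exact ⟨ι, V, r, hV, hr, hH1 ⟨ι, V, hcov⟩⟩
  have hF : CechAcyclic K F := by
    rintro ⟨ι, V, hV⟩ p
    exact h3 ι V hV p
  exact ⟨fun x y => (cartan K B hB hinj hsurj p F hF U hU x).trans
    (cartan K B hB hinj hsurj p F hF U hU y).symm⟩

end Groth.Agent.H18.CechTop
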