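import Mathlib.Algebra.Homology.SpectralObject.SpectralSequence
import Mathlib.CategoryTheory.Abelian.Refinements
import Mathlib.Data.Int.Interval
import Groth.Prelude.Def_SpSeq

/-!
# Convergence of the spectral sequence of a first quadrant spectral object
-/

set_option autoImplicit false

open CategoryTheory CategoryTheory.Limits ComposableArrows

namespace Groth.Agent.H18.SpConv

section Abstract

variable {A : Type*} [Category A] [Abelian A]

/-- `X₂ → im b → im b / im a`. -/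
noncomputable def toGr {X₂ M : A} (b : X₂ ⟶ M) {X₁ : A} (a : X₁ ⟶ M)
    (h : imageSubobject a ≤ imageSubobject b) :
    X₂ ⟶ cokernel ((imageSubobject a).ofLE (imageSubobject b) h) :=
  factorThruImageSubobject b ≫ cokernel.π _

instance {X₂ M : A} (b : X₂ ⟶ M) {X₁ : A} (a : X₁ ⟶ M)
    (h : imageSubobject a ≤ imageSubobject b) : Epi (toGr b a h) := by
  dsimp only [toGr]
  infer_instance

lemma fac_toGr {X₁ X₂ M : A} (φ : X₁ ⟶ X₂) (b : X₂ ⟶ M) (a : X₁ ⟶ M) (ha : φ ≫ b = a)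
    (h : imageSubobject a ≤ imageSubobject b) :
    φ ≫ factorThruImageSubobject b =
      factorThruImageSubobject a ≫ (imageSubobject a).ofLE (imageSubobject b) h := by
  rw [← cancel_mono (imageSubobject b).arrow]
  simp [ha]

lemma grZero {X₁ X₂ K M : A} (φ : X₁ ⟶ X₂) (k : K ⟶ X₂) (b : X₂ ⟶ M) (a : X₁ ⟶ M)
    (ha : φ ≫ b = a) (hk : k ≫ b = 0) (h : imageSubobject a ≤ imageSubobject b) :
    biprod.desc φ k ≫ toGr b a h = 0 := by
  dsimp only [toGr]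
  ext
  · rw [biprod.inl_desc_assoc, comp_zero, ← Category.assoc, fac_toGr φ b a ha h, Category.assoc,
      cokernel.condition, comp_zero]
  · rw [biprod.inr_desc_assoc, comp_zero]
    have : k ≫ factorThruImageSubobject b = 0 := by
      rw [← cancel_mono (imageSubobject b).arrow]
      simp [hk]
    rw [← Category.assoc, this, zero_comp]

lemma grExact {X₁ X₂ K M : A} (φ : X₁ ⟶ X₂) (k : K ⟶ X₂) (b : X₂ ⟶ M) (a : X₁ ⟶ M)
    (ha : φ ≫ b = a) (hk : k ≫ b = 0) (hex : (ShortComplex.mk k b hk).Exact)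
    (h : imageSubobject a ≤ imageSubobject b) :
    (ShortComplex.mk (biprod.desc φ k) (toGr b a h) (grZero φ k b a ha hk h)).Exact := by
  rw [ShortComplex.exact_iff_exact_up_to_refinements]
  intro T x hx
  dsimp at x hx
  have hx' : (x ≫ factorThruImageSubobject b) ≫
      cokernel.π ((imageSubobject a).ofLE (imageSubobject b) h) = 0 := by
    simpa [toGr] using hx
  obtain ⟨T₁, π₁, _, y, hy⟩ :=
    (ShortComplex.exact_cokernel ((imageSubobject a).ofLE (imageSubobject b) h)).exact_up_to_refinements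
      (x ≫ factorThruImageSubobject b) hx'
  dsimp at y hy
  obtain ⟨T₂, π₂, _, y', hy'⟩ := surjective_up_to_refinements_of_epi (factorThruImageSubobject a) y
  have hz : (π₂ ≫ π₁ ≫ x - y' ≫ φ) ≫ b = 0 := by
    have h1 : x ≫ b = (x ≫ factorThruImageSubobject b) ≫ (imageSubobject b).arrow := by simp
    rw [Preadditive.sub_comp, Category.assoc, Category.assoc, h1, ← Category.assoc π₁, hy,
      Category.assoc, Subobject.ofLE_arrow, ← Category.assoc π₂, hy', Category.assoc,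
      imageSubobject_arrow_comp, Category.assoc, ha, sub_self]
  obtain ⟨T₃, π₃, _, u, hu⟩ := hex.exact_up_to_refinements (π₂ ≫ π₁ ≫ x - y' ≫ φ) hz
  dsimp at u hu
  refine ⟨T₃, π₃ ≫ π₂ ≫ π₁, inferInstance, biprod.lift (π₃ ≫ y') u, ?_⟩
  dsimp
  rw [biprod.lift_desc, ← hu, Preadditive.comp_sub]
  simp

/-- If `Z` is a cokernel of `biprod.desc φ k`, then `Z ≅ im b / im a`. -/
noncomputable def grIso {X₁ X₂ K M Z : A} (φ : X₁ ⟶ X₂) (k : K ⟶ X₂) (b : X₂ ⟶ M) (a : X₁ ⟶ M)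
    (ha : φ ≫ b = a) (hk : k ≫ b = 0) (hex : (ShortComplex.mk k b hk).Exact)
    (h : imageSubobject a ≤ imageSubobject b)
    (g : X₂ ⟶ Z) (_ : Epi g) (w : biprod.desc φ k ≫ g = 0)
    (hg : (ShortComplex.mk (biprod.desc φ k) g w).Exact) :
    Z ≅ cokernel ((imageSubobject a).ofLE (imageSubobject b) h) :=
  IsColimit.coconePointUniqueUpToIso hg.gIsCokernel (grExact φ k b a ha hk hex h).gIsCokernel

end Abstract

section Conv

universe v u

open Abelian Abelian.SpectralObject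

variable {A : Type u} [Category.{v} A] [Abelian A] (Y : Abelian.SpectralObject A EInt)
  {H' : ℤ → A} (e : ∀ n, (Y.H n).obj (mk₁ (homOfLE (bot_le : (⊥ : EInt) ≤ ⊤))) ≅ H' n)

/-- the map `H^n(⊥ ≤ i) → H^n(⊥ ≤ ⊤) ≅ H' n`. -/
noncomputable def bmap (n : ℤ) (i : EInt) :
    (Y.H n).obj (mk₁ (homOfLE (bot_le : (⊥ : EInt) ≤ i))) ⟶ H' n :=
  (Y.H n).map (twoδ₂Toδ₁' ⊥ i ⊤ bot_le le_top) ≫ (e n).hom

lemma bmap_fac (n : ℤ) (i₁ i₂ : EInt) (h : i₁ ≤ i₂) :
    (Y.H n).map (twoδ₂Toδ₁' ⊥ i₁ i₂ bot_le h) ≫ bmap Y e n i₂ = bmap Y e n i₁ := by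
  dsimp only [bmap]
  rw [← Category.assoc, ← Functor.map_comp]
  rfl

/-- the index `n - p + 1` in `EInt`. -/
def jj (n p : ℤ) : EInt := ((n - p + 1 : ℤ) : EInt)

lemma jj_anti (n : ℤ) {p p' : ℤ} (h : p ≤ p') : jj n p' ≤ jj n p := by
  dsimp only [jj]
  rw [WithBotTop.coe_le_coe]
  lia

/-- the filtration on the abutment. -/
noncomputable def fil (n p : ℤ) : Subobject (H' n) := imageSubobject (bmap Y e n (jj n p))

lemma image_bmap_le (n : ℤ) (i₁ i₂ : EInt) (h : i₁ ≤ i₂) :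
    imageSubobject (bmap Y e n i₁) ≤ imageSubobject (bmap Y e n i₂) := by
  rw [← bmap_fac Y e n i₁ i₂ h]
  exact imageSubobject_comp_le _ _

lemma fil_anti (n : ℤ) : Antitone (fil Y e n) := fun _ _ h =>
  image_bmap_le Y e n _ _ (jj_anti n h)

lemma δ_bmap (n₀ n : ℤ) (hn : n₀ + 1 = n) (i : EInt) :
    Y.δ (homOfLE (bot_le : (⊥ : EInt) ≤ i)) (homOfLE (le_top : i ≤ ⊤)) n₀ n hn ≫ bmap Y e n i = 0 := by
  dsimp only [bmap]
  rw [← Category.assoc]
  erw [Y.zero₁ (homOfLE (bot_le : (⊥ : EInt) ≤ i)) (homOfLE (le_top : i ≤ ⊤)) _ rfl n₀ n hn]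
  rw [zero_comp]

lemma δ_bmap_exact (n₀ n : ℤ) (hn : n₀ + 1 = n) (i : EInt) :
    (ShortComplex.mk _ _ (δ_bmap Y e n₀ n hn i)).Exact := by
  refine ShortComplex.exact_of_iso ?_
    (Y.exact₁ (homOfLE (bot_le : (⊥ : EInt) ≤ i)) (homOfLE (le_top : i ≤ ⊤)) _ rfl n₀ n hn)
  exact ShortComplex.isoMk (Iso.refl _) (Iso.refl _) (e n)
    ((Category.id_comp _).trans (Category.comp_id _).symm)
    (Category.id_comp _)

/-- `E_∞ ≅ gr`. -/
noncomputable def EInftyIso (n₀ n n₂ : ℤ) (hn₀ : n₀ + 1 = n) (hn₂ : n + 1 = n₂) (i₁ i₂ : EInt)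
    (h₁₂ : i₁ ≤ i₂) :
    Y.E (homOfLE (bot_le : (⊥ : EInt) ≤ i₁)) (homOfLE h₁₂) (homOfLE (le_top : i₂ ≤ ⊤)) n₀ n n₂ hn₀ hn₂ ≅
      cokernel ((imageSubobject (bmap Y e n i₁)).ofLE (imageSubobject (bmap Y e n i₂))
        (image_bmap_le Y e n i₁ i₂ h₁₂)) :=
  grIso ((Y.H n).map (twoδ₂Toδ₁' ⊥ i₁ i₂ bot_le h₁₂))
    (Y.δ (homOfLE (bot_le : (⊥ : EInt) ≤ i₂)) (homOfLE (le_top : i₂ ≤ ⊤)) n₀ n hn₀)
    (bmap Y e n i₂) (bmap Y e n i₁) (bmap_fac Y e n i₁ i₂ h₁₂) (δ_bmap Y e n₀ n hn₀ i₂)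
    (δ_bmap_exact Y e n₀ n hn₀ i₂) (image_bmap_le Y e n i₁ i₂ h₁₂)
    (Y.cokernelSequenceE (homOfLE (bot_le : (⊥ : EInt) ≤ i₁)) (homOfLE h₁₂)
      (homOfLE (le_top : i₂ ≤ ⊤)) _ rfl n₀ n n₂ hn₀ hn₂).g
    (inferInstanceAs (Epi (Y.cokernelSequenceE (homOfLE (bot_le : (⊥ : EInt) ≤ i₁)) (homOfLE h₁₂)
      (homOfLE (le_top : i₂ ≤ ⊤)) _ rfl n₀ n n₂ hn₀ hn₂).g))
    (Y.cokernelSequenceE (homOfLE (bot_le : (⊥ : EInt) ≤ i₁)) (homOfLE h₁₂)
      (homOfLE (le_top : i₂ ≤ ⊤)) _ rfl n₀ n n₂ hn₀ hn₂).zero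
    (Y.cokernelSequenceE_exact (homOfLE (bot_le : (⊥ : EInt) ≤ i₁)) (homOfLE h₁₂)
      (homOfLE (le_top : i₂ ≤ ⊤)) _ rfl n₀ n n₂ hn₀ hn₂)

variable [Y.IsFirstQuadrant]

/-- the page from which the position `pq` is stationary. -/
def rk (pq : ℤ × ℤ) : ℤ := max 2 (max (pq.1 + 1) (pq.2 + 2))

lemma two_le_rk (pq : ℤ × ℤ) : 2 ≤ rk pq := le_max_left _ _

lemma lt_rk_fst (pq : ℤ × ℤ) : pq.1 < rk pq := by
  have : pq.1 + 1 ≤ rk pq := (le_max_left _ _).trans (le_max_right _ _)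
  lia

lemma le_rk_snd (pq : ℤ × ℤ) : pq.2 + 2 ≤ rk pq :=
  (le_max_right _ _).trans (le_max_right _ _)

lemma isZero_page_of_fst_neg (r : ℤ) (hr : 2 ≤ r) (pq : ℤ × ℤ) (h : pq.1 < 0) :
    IsZero ((Y.E₂SpectralSequence.page r hr).X pq) :=
  isZero_spectralSequence_page_X_of_isZero_H' _ _ _ hr _
    (Y.isZero₂_of_isFirstQuadrant _ _ _ _ (by simp; lia))

lemma isZero_page_of_snd_neg (r : ℤ) (hr : 2 ≤ r) (pq : ℤ × ℤ) (h : pq.2 < 0) :
    IsZero ((Y.E₂SpectralSequence.page r hr).X pq) :=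
  isZero_spectralSequence_page_X_of_isZero_H' _ _ _ hr _
    (Y.isZero₁_of_isFirstQuadrant _ _ _ (by simp; lia) _)

lemma stat (pq : ℤ × ℤ) : SpSeq.StationaryAt Y.E₂SpectralSequence pq (rk pq) := by
  refine ⟨two_le_rk pq, fun r' h₀ hr' => ⟨?_, ?_⟩⟩
  · refine (isZero_page_of_fst_neg Y r' h₀ _ ?_).eq_of_src _ _
    have := lt_rk_fst pq
    simp only [Prod.fst_sub]
    lia
  · refine (isZero_page_of_snd_neg Y r' h₀ _ ?_).eq_of_tgt _ _
    have := le_rk_snd pq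
    simp only [Prod.snd_add]
    lia

/-- the identification of the limit term with the graded piece. -/
noncomputable def β (pq : ℤ × ℤ) :
    (Y.E₂SpectralSequence.page (rk pq) (two_le_rk pq)).X pq ≅
      SpSeq.grPiece (fil Y e (pq.1 + pq.2)) (fil_anti Y e (pq.1 + pq.2)) pq.1 := by
  have hi₁ : jj (pq.1 + pq.2) (pq.1 + 1) = coreE₂Cohomological.i₁ pq := by
    simp only [jj, coreE₂Cohomological_i₁]
    congr 1
    lia
  have hi₂ : jj (pq.1 + pq.2) pq.1 = coreE₂Cohomological.i₂ pq := by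
    simp only [jj, coreE₂Cohomological_i₂]
    congr 1
    lia
  have h12 : jj (pq.1 + pq.2) (pq.1 + 1) ≤ jj (pq.1 + pq.2) pq.1 := jj_anti _ (by lia)
  have h01 : coreE₂Cohomological.i₀ (rk pq) pq (two_le_rk pq) ≤ jj (pq.1 + pq.2) (pq.1 + 1) := by
    rw [hi₁]
    exact coreE₂Cohomological.le₀₁ (rk pq) pq (two_le_rk pq)
  have h23 : jj (pq.1 + pq.2) pq.1 ≤ coreE₂Cohomological.i₃ (rk pq) pq (two_le_rk pq) := by
    rw [hi₂]
    exact coreE₂Cohomological.le₂₃ (rk pq) pq (two_le_rk pq)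
  have hz1 : IsZero ((Y.H (pq.1 + pq.2 + 1)).obj (mk₁ (homOfLE
      (bot_le : (⊥ : EInt) ≤ coreE₂Cohomological.i₀ (rk pq) pq (two_le_rk pq))))) := by
    refine Y.isZero₁_of_isFirstQuadrant _ _ _ ?_ _
    have := le_rk_snd pq
    simp only [coreE₂Cohomological_i₀, WithBotTop.coe_le_coe]
    lia
  have hz2 : IsZero ((Y.H (pq.1 + pq.2 - 1)).obj (mk₁ (homOfLE
      (le_top : coreE₂Cohomological.i₃ (rk pq) pq (two_le_rk pq) ≤ (⊤ : EInt))))) := by
    refine Y.isZero₂_of_isFirstQuadrant _ _ _ _ ?_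
    have := lt_rk_fst pq
    simp only [coreE₂Cohomological_i₃, WithBotTop.coe_lt_coe]
    lia
  exact Y.spectralSequencePageXIso coreE₂Cohomological (rk pq) (two_le_rk pq) pq
      (coreE₂Cohomological.i₀ (rk pq) pq (two_le_rk pq)) (jj (pq.1 + pq.2) (pq.1 + 1))
      (jj (pq.1 + pq.2) pq.1) (coreE₂Cohomological.i₃ (rk pq) pq (two_le_rk pq))
      rfl hi₁ hi₂ rfl (pq.1 + pq.2 - 1) (pq.1 + pq.2) (pq.1 + pq.2 + 1) rfl (by lia) rfl ≪≫
    (Y.isoMapFourδ₁Toδ₀' ⊥ _ _ _ _ bot_le h01 h12 h23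
      (pq.1 + pq.2 - 1) (pq.1 + pq.2) (pq.1 + pq.2 + 1) hz1 (by lia) rfl).symm ≪≫
    Y.isoMapFourδ₄Toδ₃' ⊥ _ _ _ ⊤ bot_le h12 h23 le_top
      (pq.1 + pq.2 - 1) (pq.1 + pq.2) (pq.1 + pq.2 + 1) hz2 (by lia) rfl ≪≫
    EInftyIso Y e (pq.1 + pq.2 - 1) (pq.1 + pq.2) (pq.1 + pq.2 + 1) (by lia) rfl _ _ h12

/-- The abutment of the `E₂` spectral sequence of a first quadrant spectral object. -/
noncomputable def abutment : SpSeq.Abutment Y.E₂SpectralSequence H' where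
  fil n := fil Y e n
  anti n := fil_anti Y e n
  rk := rk
  stat := stat Y
  β := β Y e

lemma imageSubobject_eq_top_of_epi {X Z : A} (f : X ⟶ Z) [Epi f] : imageSubobject f = ⊤ := by
  have : Epi (imageSubobject f).arrow := epi_of_epi_fac (imageSubobject_arrow_comp f)
  have : IsIso (imageSubobject f).arrow := isIso_of_mono_of_epi _
  exact Subobject.eq_top_of_isIso_arrow _

lemma abutment_isFinite (n : ℤ) : (abutment Y e).IsFinite n := by
  refine ⟨⟨0, ?_⟩, ⟨n + 1, ?_⟩⟩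
  · show imageSubobject (bmap Y e n (jj n 0)) = ⊤
    have h1 : Epi ((Y.H n).map (twoδ₂Toδ₁' ⊥ (jj n 0) ⊤ bot_le le_top)) :=
      (Y.exact₂ (homOfLE (bot_le : (⊥ : EInt) ≤ jj n 0)) (homOfLE le_top) _ rfl n).epi_f
        ((Y.isZero₂_of_isFirstQuadrant _ _ le_top n
          (by simp only [jj, WithBotTop.coe_lt_coe]; lia)).eq_of_tgt _ _)
    have : Epi (bmap Y e n (jj n 0)) := by
      dsimp only [bmap]
      infer_instance
    exact imageSubobject_eq_top_of_epi _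
  · show imageSubobject (bmap Y e n (jj n (n + 1))) = ⊥
    have hz : IsZero ((Y.H n).obj (mk₁ (homOfLE (bot_le : (⊥ : EInt) ≤ jj n (n + 1))))) :=
      Y.isZero₁_of_isFirstQuadrant _ _ _ (by simp only [jj, WithBotTop.coe_le_coe]; lia) _
    rw [hz.eq_of_src (bmap Y e n (jj n (n + 1))) 0, imageSubobject_zero]

lemma isBounded : SpSeq.IsBounded Y.E₂SpectralSequence := by
  intro n
  refine (Set.finite_Icc (0 : ℤ) n).subset ?_
  intro p hp
  simp only [Set.mem_ofPred_eq] at hp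
  by_contra h
  apply hp
  simp only [Set.mem_Icc, not_and_or, not_le] at h
  rcases h with h | h
  · exact isZero_page_of_fst_neg Y 2 le_rfl _ h
  · exact isZero_page_of_snd_neg Y 2 le_rfl _ (by simp only; lia)

/-- The `E₂` page in terms of the spectral object. -/
noncomputable def E₂Iso (p q : ℤ) :
    (Y.E₂SpectralSequence.page 2 le_rfl).X (p, q) ≅
      (Y.H (p + q)).obj (mk₁ (homOfLE (show ((q : ℤ) : EInt) ≤ ((q + 1 : ℤ) : EInt) by
        rw [WithBotTop.coe_le_coe]; lia))) :=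
  Y.spectralSequencePageXIso coreE₂Cohomological 2 le_rfl (p, q)
      ((q : ℤ) : EInt) ((q : ℤ) : EInt) ((q + 1 : ℤ) : EInt) ((q + 1 : ℤ) : EInt)
      (by simp only [coreE₂Cohomological_i₀]; congr 1; lia) rfl rfl
      (by simp only [coreE₂Cohomological_i₃]; congr 1; lia)
      (p + q - 1) (p + q) (p + q + 1) rfl (by lia) rfl ≪≫
    Y.EIsoH _ (p + q - 1) (p + q) (p + q + 1) (by lia) rfl

end Conv

end Groth.Agent.H18.SpConv
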