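import Mathlib.CategoryTheory.Triangulated.SpectralObject
import Mathlib.CategoryTheory.Triangulated.HomologicalFunctor
import Mathlib.Algebra.Homology.SpectralObject.Basic

/-!
# Abelian spectral object attached to a triangulated spectral object and a homological functor
-/

set_option autoImplicit false

open CategoryTheory CategoryTheory.Limits Pretriangulated ComposableArrows

namespace Groth.Agent.H18.SpObj

variable {C ι A : Type*} [Category C] [Category ι] [HasZeroObject C]
  [HasShift C ℤ] [Preadditive C] [∀ (n : ℤ), (shiftFunctor C n).Additive] [Pretriangulated C]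
  [Category A] [Abelian A]

/-- The image of a spectral object in a triangulated category by a homological functor
(equipped with a shift sequence) is a spectral object in the abelian category. -/
noncomputable def mapHomologicalFunctor (X : Triangulated.SpectralObject C ι)
    (F : C ⥤ A) [F.IsHomological] [F.ShiftSequence ℤ] :
    Abelian.SpectralObject A ι where
  H n := X.ω₁ ⋙ F.shift n
  δ' n₀ n₁ h :=
    { app := fun D => F.homologySequenceδ (X.ω₂.obj D) n₀ n₁ h
      naturality := fun D D' φ =>
        F.homologySequenceδ_naturality (X.ω₂.obj D) (X.ω₂.obj D') (X.ω₂.map φ) n₀ n₁ h }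
  exact₁' n₀ n₁ h D :=
    (F.homologySequence_exact₁ (X.ω₂.obj D) (X.ω₂_obj_distinguished D) n₀ n₁ h).exact_toComposableArrows
  exact₂' n D :=
    (F.homologySequence_exact₂ (X.ω₂.obj D) (X.ω₂_obj_distinguished D) n).exact_toComposableArrows
  exact₃' n₀ n₁ h D :=
    (F.homologySequence_exact₃ (X.ω₂.obj D) (X.ω₂_obj_distinguished D) n₀ n₁ h).exact_toComposableArrows

@[simp]
lemma mapHomologicalFunctor_H (X : Triangulated.SpectralObject C ι)
    (F : C ⥤ A) [F.IsHomological] [F.ShiftSequence ℤ] (n : ℤ) :
    (mapHomologicalFunctor X F).H n = X.ω₁ ⋙ F.shift n := rfl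

end Groth.Agent.H18.SpObj
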