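import Groth.Agent.Lib.helper18.InjEquiv
import Groth.Agent.Lib.helper18.SpObj
import Groth.Agent.Lib.helper18.SpConv
import Mathlib

/-!
# The Grothendieck spectral sequence
-/

set_option autoImplicit false
set_option linter.unusedSectionVars false

universe w w' v v' u u'

open CategoryTheory CategoryTheory.Limits Pretriangulated ComposableArrows Triangulated

namespace Groth.Agent.H18.GrothSS

open Groth.Agent.H18.RDPlus

variable {C : Type u} [Category.{v} C] [Abelian C] [HasDerivedCategory.{w} C] [EnoughInjectives C]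
  {D : Type u'} [Category.{v'} D] [Abelian D] [HasDerivedCategory.{w'} D]
  (G : C ⥤ D) [G.Additive]

/-- the homological functor `H⁰ ∘ RG`. -/
noncomputable abbrev HG : DerivedCategory.Plus C ⥤ D :=
  RF' G ⋙ DerivedCategory.Plus.homologyFunctor D 0

/-- the spectral object `(i ≤ j) ↦ Hⁿ(RG(τ_{[i,j)} X))`. -/
noncomputable def spObj (X : DerivedCategory.Plus C) : Abelian.SpectralObject D EInt :=
  SpObj.mapHomologicalFunctor (DerivedCategory.Plus.TStructure.t.spectralObject X) (HG G)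

/-- the truncation `τ_{[i,j)} X`. -/
noncomputable abbrev trunc (X : DerivedCategory.Plus C) (i j : EInt) : DerivedCategory.Plus C :=
  (DerivedCategory.Plus.TStructure.t.eTruncGE.obj i).obj
    ((DerivedCategory.Plus.TStructure.t.eTruncLT.obj j).obj X)

lemma spObj_H_obj (X : DerivedCategory.Plus C) (n : ℤ) (i j : EInt) (hij : i ≤ j) :
    ((spObj G X).H n).obj (mk₁ (homOfLE hij)) =
      (DerivedCategory.homologyFunctor D n).obj
        (DerivedCategory.Plus.ι.obj ((RF' G).obj (trunc X i j))) := rfl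

/-- `Hⁿ(RG' Z) = 0` for `n < a` when `Z` is `≥ a`. -/
lemma isZero_homology_RF'_of_isGE (Z : DerivedCategory.Plus C) (a : ℤ) [Z.IsGE a] (n : ℤ)
    (hn : n < a) :
    IsZero ((DerivedCategory.homologyFunctor D n).obj
      (DerivedCategory.Plus.ι.obj ((RF' G).obj Z))) := by
  have h1 : (G.rightDerivedFunctorPlus.obj Z).IsGE a := isGE_rightDerivedFunctorPlus_obj G Z a
  have h2 : ((RF' G).obj Z).IsGE a :=
    DerivedCategory.Plus.TStructure.t.isGE_of_iso ((RF'Iso G).symm.app Z) a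
  exact DerivedCategory.Plus.isZero_homology_of_isGE _ a n hn

lemma isZero_homology_RF'_of_isZero (Z : DerivedCategory.Plus C) (hZ : IsZero Z) (n : ℤ) :
    IsZero ((DerivedCategory.homologyFunctor D n).obj
      (DerivedCategory.Plus.ι.obj ((RF' G).obj Z))) :=
  ((HG G).shift n).map_isZero hZ

lemma EInt_succ_le_of_lt (n : ℤ) (i : EInt) (h : ((n : ℤ) : EInt) < i) :
    (((n + 1 : ℤ)) : EInt) ≤ i := by
  induction i using WithBotTop.rec with
  | bot => simp at h
  | coe i =>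
    rw [WithBotTop.coe_lt_coe] at h
    rw [WithBotTop.coe_le_coe]
    lia
  | top => exact le_top

instance isFirstQuadrant (X : DerivedCategory.Plus C) [X.IsGE 0] :
    (spObj G X).IsFirstQuadrant where
  isZero₁ i j hij hj n := by
    apply isZero_homology_RF'_of_isZero
    exact (DerivedCategory.Plus.TStructure.t.eTruncGE.obj i).map_isZero
      (DerivedCategory.Plus.TStructure.t.isZero_eTruncLT_obj_obj X 0 j hj)
  isZero₂ i j hij n hi := by
    have : (trunc X i j).IsGE (n + 1) :=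
      DerivedCategory.Plus.TStructure.t.isGE_eTruncGE_obj_obj (n + 1) i
        (EInt_succ_le_of_lt n i hi) _
    exact isZero_homology_RF'_of_isGE G (trunc X i j) (n + 1) n (by lia)

section Heart

variable (X : DerivedCategory.Plus C)

/-- the spectral object of plain cohomology `(i ≤ j) ↦ Hⁿ(τ_{[i,j)} X)`. -/
noncomputable def spObj₀ : Abelian.SpectralObject C EInt :=
  SpObj.mapHomologicalFunctor (DerivedCategory.Plus.TStructure.t.spectralObject X)
    (DerivedCategory.Plus.homologyFunctor C 0)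

lemma spObj₀_H_obj (n : ℤ) (i j : EInt) (hij : i ≤ j) :
    ((spObj₀ X).H n).obj (mk₁ (homOfLE hij)) =
      (DerivedCategory.homologyFunctor C n).obj (DerivedCategory.Plus.ι.obj (trunc X i j)) := rfl

lemma isZero_spObj₀_of_lt (n : ℤ) (i j : EInt) (hij : i ≤ j) (h : ((n : ℤ) : EInt) < i) :
    IsZero (((spObj₀ X).H n).obj (mk₁ (homOfLE hij))) := by
  have : (trunc X i j).IsGE (n + 1) :=
    DerivedCategory.Plus.TStructure.t.isGE_eTruncGE_obj_obj (n + 1) i
      (EInt_succ_le_of_lt n i h) _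
  exact DerivedCategory.Plus.isZero_homology_of_isGE (trunc X i j) (n + 1) n (by lia)

lemma isZero_spObj₀_of_le (n : ℤ) (i j : EInt) (hij : i ≤ j) (h : j ≤ ((n : ℤ) : EInt)) :
    IsZero (((spObj₀ X).H n).obj (mk₁ (homOfLE hij))) := by
  have h1 : DerivedCategory.Plus.TStructure.t.IsLE
      ((DerivedCategory.Plus.TStructure.t.eTruncLT.obj j).obj X) (n - 1) :=
    DerivedCategory.Plus.TStructure.t.isLE_eTruncLT_obj_obj (n - 1) j
      (by simpa using h) X
  have : (trunc X i j).IsLE (n - 1) := by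
    dsimp only [trunc]
    infer_instance
  exact DerivedCategory.Plus.isZero_homology_of_isLE (trunc X i j) (n - 1) n (by lia)

lemma coe_le_coe_succ (q : ℤ) : ((q : ℤ) : EInt) ≤ ((q + 1 : ℤ) : EInt) := by
  rw [WithBotTop.coe_le_coe]; lia

/-- `H^q(τ_{[q,q+1)} X) ≅ H^q(X)`. -/
lemma nonempty_homology_trunc_iso (q : ℤ) :
    Nonempty ((DerivedCategory.homologyFunctor C q).obj
        (DerivedCategory.Plus.ι.obj (trunc X ((q : ℤ) : EInt) ((q + 1 : ℤ) : EInt))) ≅
      (DerivedCategory.homologyFunctor C q).obj (DerivedCategory.Plus.ι.obj X)) := by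
  have hβ : IsIso (((spObj₀ X).H q).map
      (twoδ₁Toδ₀' ⊥ ((q : ℤ) : EInt) ((q + 1 : ℤ) : EInt) bot_le (coe_le_coe_succ q))) :=
    (spObj₀ X).isIso_H_map_twoδ₁Toδ₀' q (q + 1) rfl ⊥ _ _ bot_le (coe_le_coe_succ q)
      (isZero_spObj₀_of_le X q ⊥ _ bot_le le_rfl)
      (isZero_spObj₀_of_le X (q + 1) ⊥ _ bot_le (coe_le_coe_succ q))
  have hα : IsIso (((spObj₀ X).H q).map
      (twoδ₂Toδ₁' ⊥ ((q + 1 : ℤ) : EInt) ⊤ bot_le le_top)) := by
    have hm : Mono (((spObj₀ X).H q).map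
        (twoδ₂Toδ₁' ⊥ ((q + 1 : ℤ) : EInt) ⊤ bot_le le_top)) :=
      ((spObj₀ X).exact₁ (homOfLE (bot_le : (⊥ : EInt) ≤ ((q + 1 : ℤ) : EInt)))
        (homOfLE le_top) _ rfl (q - 1) q (by lia)).mono_g
        ((isZero_spObj₀_of_lt X (q - 1) _ ⊤ le_top
          (by rw [WithBotTop.coe_lt_coe]; lia)).eq_of_src _ _)
    have he : Epi (((spObj₀ X).H q).map
        (twoδ₂Toδ₁' ⊥ ((q + 1 : ℤ) : EInt) ⊤ bot_le le_top)) :=
      ((spObj₀ X).exact₂ (homOfLE (bot_le : (⊥ : EInt) ≤ ((q + 1 : ℤ) : EInt)))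
        (homOfLE le_top) _ rfl q).epi_f
        ((isZero_spObj₀_of_lt X q _ ⊤ le_top
          (by rw [WithBotTop.coe_lt_coe]; lia)).eq_of_tgt _ _)
    exact isIso_of_mono_of_epi _
  exact ⟨(@asIso _ _ _ _ _ hβ).symm ≪≫ @asIso _ _ _ _ _ hα⟩

/-- `τ_{[q,q+1)} X ≅ H^q(X)[-q]`. -/
lemma exists_trunc_iso_single (q : ℤ) :
    ∃ (M : C), Nonempty (trunc X ((q : ℤ) : EInt) ((q + 1 : ℤ) : EInt) ≅
        (DerivedCategory.Plus.singleFunctor C q).obj M) ∧
      Nonempty (M ≅ (DerivedCategory.homologyFunctor C q).obj (DerivedCategory.Plus.ι.obj X)) := by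
  have h1 : (trunc X ((q : ℤ) : EInt) ((q + 1 : ℤ) : EInt)).IsGE q :=
    DerivedCategory.Plus.TStructure.t.isGE_eTruncGE_obj_obj q _ le_rfl _
  have h2 : DerivedCategory.Plus.TStructure.t.IsLE
      ((DerivedCategory.Plus.TStructure.t.eTruncLT.obj ((q + 1 : ℤ) : EInt)).obj X) q :=
    DerivedCategory.Plus.TStructure.t.isLE_eTruncLT_obj_obj q _ le_rfl X
  have h3 : (trunc X ((q : ℤ) : EInt) ((q + 1 : ℤ) : EInt)).IsLE q := by
    dsimp only [trunc]
    infer_instance
  obtain ⟨M, ⟨e⟩⟩ := DerivedCategory.exists_iso_singleFunctor_obj_of_isGE_of_isLE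
    (DerivedCategory.Plus.ι.obj (trunc X ((q : ℤ) : EInt) ((q + 1 : ℤ) : EInt))) q
  obtain ⟨e'⟩ := nonempty_homology_trunc_iso X q
  refine ⟨M, ⟨DerivedCategory.Plus.ι.preimageIso e⟩, ⟨?_⟩⟩
  exact ((DerivedCategory.singleFunctorCompHomologyFunctorIso C q).app M).symm ≪≫
    (DerivedCategory.homologyFunctor C q).mapIso e.symm ≪≫ e'

end Heart

/-- `H^{p+q}(RG(M[-q])) ≅ R^pG(M)`. -/
lemma nonempty_iso_rightDerived (M : C) (q : ℤ) (p : ℕ) :
    Nonempty ((DerivedCategory.homologyFunctor D ((p : ℤ) + q)).obj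
        (DerivedCategory.Plus.ι.obj ((RF' G).obj ((DerivedCategory.Plus.singleFunctor C q).obj M))) ≅
      (G.rightDerived p).obj M) := by
  let W : DerivedCategory.Plus C := (DerivedCategory.Plus.singleFunctor C 0).obj M
  let e1 : W⟦(-q : ℤ)⟧ ≅ (DerivedCategory.Plus.singleFunctor C q).obj M :=
    ((DerivedCategory.Plus.singleFunctors C).shiftIso (-q) q 0 (by lia)).app M
  let e2 : ((HG G).shift ((p : ℤ) + q)).obj (W⟦(-q : ℤ)⟧) ≅ ((HG G).shift (p : ℤ)).obj W :=
    ((HG G).shiftIso (-q) ((p : ℤ) + q) (p : ℤ) (by lia)).app W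
  let e3 : ((HG G).shift (p : ℤ)).obj W ≅ (DerivedCategory.homologyFunctor D (p : ℤ)).obj
      (DerivedCategory.Plus.ι.obj (G.rightDerivedFunctorPlus.obj W)) :=
    (DerivedCategory.homologyFunctor D (p : ℤ)).mapIso
      (DerivedCategory.Plus.ι.mapIso ((RF'Iso G).app W))
  exact ⟨((HG G).shift ((p : ℤ) + q)).mapIso e1.symm ≪≫ e2 ≪≫ e3 ≪≫
    ((rightDerivedIso G p).app M).symm⟩

section Comp

universe w'' v'' u''

variable {B : Type u''} [Category.{v''} B] [Abelian B] [HasDerivedCategory.{w''} B]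
  [EnoughInjectives B] (T : B ⥤ C) [T.Additive] (A : B)

/-- `RT(A[0])`. -/
noncomputable def RTobj : DerivedCategory.Plus C :=
  T.rightDerivedFunctorPlus.obj ((DerivedCategory.Plus.singleFunctor B 0).obj A)

instance : (RTobj T A).IsGE 0 := isGE_rightDerivedFunctorPlus_obj T _ 0

/-- `R^qT(A) ≅ H^q(RT(A[0]))`. -/
noncomputable def homologyRTobjIso (q : ℕ) :
    (T.rightDerived q).obj A ≅
      (DerivedCategory.homologyFunctor C (q : ℤ)).obj (DerivedCategory.Plus.ι.obj (RTobj T A)) :=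
  (rightDerivedIso T q).app A

lemma nonempty_abutment_iso [PreservesFiniteLimits G]
    (hT : ∀ Q : B, Injective Q → FAcyc G (T.obj Q)) (n : ℕ) :
    Nonempty ((DerivedCategory.homologyFunctor D (n : ℤ)).obj
        (DerivedCategory.Plus.ι.obj ((RF' G).obj (RTobj T A))) ≅
      ((T ⋙ G).rightDerived n).obj A) := by
  let R := injectiveResolution A
  let K : HomotopyCategory.Plus B := (HomotopyCategory.Plus.quotient B).obj (resPlus R)
  have hinj : ∀ m, Injective ((resPlus R).obj.X m) := fun m =>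
    inferInstanceAs (Injective (R.cochainComplex.X m))
  have h1 : IsIso (DerivedCategory.Plus.Qh.map ((HomotopyCategory.Plus.quotient B).map (resι R))) :=
    isIso_Qh_resι R
  have h2 : IsIso (T.rightDerivedFunctorPlusUnit.app K) := by
    dsimp only [K]
    infer_instance
  let M : CochainComplex.Plus C := T.mapCochainComplexPlus.obj (resPlus R)
  have hM : ∀ m, FAcyc G (M.obj.X m) := fun m => hT _ (hinj m)
  have h3 : IsIso (G.rightDerivedFunctorPlusUnit.app ((HomotopyCategory.Plus.quotient C).obj M)) :=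
    unit_isIso_of_FAcyc G M hM
  let i1 : RTobj T A ≅ T.rightDerivedFunctorPlus.obj (DerivedCategory.Plus.Qh.obj K) :=
    T.rightDerivedFunctorPlus.mapIso
      (@asIso _ _ _ _ _ h1)
  let i2 : DerivedCategory.Plus.Qh.obj (T.mapHomotopyCategoryPlus.obj K) ≅
      T.rightDerivedFunctorPlus.obj (DerivedCategory.Plus.Qh.obj K) :=
    @asIso _ _ _ _ _ h2
  let i3 : DerivedCategory.Plus.Qh.obj
        (G.mapHomotopyCategoryPlus.obj ((HomotopyCategory.Plus.quotient C).obj M)) ≅
      G.rightDerivedFunctorPlus.obj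
        (DerivedCategory.Plus.Qh.obj ((HomotopyCategory.Plus.quotient C).obj M)) :=
    @asIso _ _ _ _ _ h3
  let i4 : G.rightDerivedFunctorPlus.obj (RTobj T A) ≅ DerivedCategory.Plus.Qh.obj
      (G.mapHomotopyCategoryPlus.obj ((HomotopyCategory.Plus.quotient C).obj M)) :=
    G.rightDerivedFunctorPlus.mapIso (i1 ≪≫ i2.symm) ≪≫ i3.symm
  refine ⟨(DerivedCategory.homologyFunctor D (n : ℤ)).mapIso
    (DerivedCategory.Plus.ι.mapIso ((RF'Iso G).app _ ≪≫ i4)) ≪≫ ?_ ≪≫
    (R.isoRightDerivedObj (T ⋙ G) n).symm⟩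
  exact (aIso (T ⋙ G) R.cocomplex n).symm

end Comp

section Main

universe v₀ u₀ w''

variable {B : Type u₀} [Category.{v₀} B] [Abelian B] [HasDerivedCategory.{w''} B]
  [EnoughInjectives B]
  {C : Type u} [Category.{v} C] [Abelian C] [HasDerivedCategory.{w} C] [EnoughInjectives C]
  {D : Type u'} [Category.{v'} D] [Abelian D] [HasDerivedCategory.{w'} D]
  (T : B ⥤ C) [T.Additive] (G : C ⥤ D) [G.Additive] [PreservesFiniteLimits G] (A : B)

/-- **Grothendieck spectral sequence** (with derived categories given). -/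
theorem grothendieck_ss_aux (hT : ∀ Q : B, Injective Q → FAcyc G (T.obj Q))
    (H' : ℤ → D)
    (hH' : ∀ n : ℕ, Nonempty (H' (n : ℤ) ≅ ((T ⋙ G).rightDerived n).obj A))
    (hH'0 : ∀ n : ℤ, n < 0 → IsZero (H' n)) :
    ∃ (E : E₂CohomologicalSpectralSequence D) (a : SpSeq.Abutment E H'),
      (∀ n, a.IsFinite n) ∧ SpSeq.IsBounded E ∧
      (∀ p q : ℕ, Nonempty ((E.page 2 le_rfl).X ((p : ℤ), (q : ℤ)) ≅
        (G.rightDerived p).obj ((T.rightDerived q).obj A))) ∧
      (∀ p q : ℤ, ¬ (0 ≤ p ∧ 0 ≤ q) → IsZero ((E.page 2 le_rfl).X (p, q))) := by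
  let X := RTobj T A
  let Y := spObj G X
  have e' : ∀ n : ℤ, Nonempty ((Y.H n).obj (mk₁ (homOfLE (bot_le : (⊥ : EInt) ≤ ⊤))) ≅ H' n) := by
    intro n
    by_cases hn : 0 ≤ n
    · obtain ⟨n', rfl⟩ := Int.eq_ofNat_of_zero_le hn
      exact ⟨(Classical.choice (nonempty_abutment_iso G T A hT n')) ≪≫
        (Classical.choice (hH' n')).symm⟩
    · exact ⟨IsZero.iso (isZero_homology_RF'_of_isGE G X 0 n (by lia)) (hH'0 n (by lia))⟩
  let e : ∀ n : ℤ, (Y.H n).obj (mk₁ (homOfLE (bot_le : (⊥ : EInt) ≤ ⊤))) ≅ H' n :=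
    fun n => Classical.choice (e' n)
  refine ⟨Y.E₂SpectralSequence, SpConv.abutment Y e, SpConv.abutment_isFinite Y e,
    SpConv.isBounded Y, ?_, ?_⟩
  · intro p q
    obtain ⟨M, ⟨eZ⟩, ⟨eM⟩⟩ := exists_trunc_iso_single X (q : ℤ)
    obtain ⟨e1⟩ := nonempty_iso_rightDerived G M (q : ℤ) p
    exact ⟨SpConv.E₂Iso Y (p : ℤ) (q : ℤ) ≪≫
      (DerivedCategory.homologyFunctor D ((p : ℤ) + (q : ℤ))).mapIso
        (DerivedCategory.Plus.ι.mapIso ((RF' G).mapIso eZ)) ≪≫ e1 ≪≫
      (G.rightDerived p).mapIso (eM ≪≫ (homologyRTobjIso T A q).symm)⟩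
  · intro p q hpq
    by_cases hp : 0 ≤ p
    · exact SpConv.isZero_page_of_snd_neg Y 2 le_rfl (p, q) (by simp only; lia)
    · exact SpConv.isZero_page_of_fst_neg Y 2 le_rfl (p, q) (by simp only; lia)

end Main

section Final

universe v₀ u₀

lemma enoughInjectives_of_hasInjectiveResolutions (B : Type u₀) [Category.{v₀} B] [Abelian B]
    [HasInjectiveResolutions B] : EnoughInjectives B where
  presentation X := by
    have hm : Mono ((injectiveResolution X).ι.f 0) := inferInstance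
    exact ⟨⟨(injectiveResolution X).cocomplex.X 0, inferInstance,
      (injectiveResolution X).ι.f 0, hm⟩⟩

variable {B : Type u₀} [Category.{v₀} B] [Abelian B] [HasInjectiveResolutions B]
  {C : Type u} [Category.{v} C] [Abelian C] [HasInjectiveResolutions C]
  {D : Type u'} [Category.{v'} D] [Abelian D]
  (T : B ⥤ C) [T.Additive] (G : C ⥤ D) [G.Additive] [PreservesFiniteLimits G] (A : B)

/-- **Grothendieck spectral sequence**: for `T : B ⥤ C` additive, `G : C ⥤ D` left exact, such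
that `T` sends injectives to `G`-acyclics, there is a first quadrant `E₂` spectral sequence
`E₂^{p,q} = R^pG(R^qT A) ⇒ R^{p+q}(T ⋙ G)(A)`. -/
theorem grothendieck_ss
    (hT : ∀ Q : B, Injective Q → ∀ q : ℕ, 0 < q → IsZero ((G.rightDerived q).obj (T.obj Q)))
    (H' : ℤ → D)
    (hH' : ∀ n : ℕ, Nonempty (H' (n : ℤ) ≅ ((T ⋙ G).rightDerived n).obj A))
    (hH'0 : ∀ n : ℤ, n < 0 → IsZero (H' n)) :
    ∃ (E : E₂CohomologicalSpectralSequence D) (a : SpSeq.Abutment E H'),
      (∀ n, a.IsFinite n) ∧ SpSeq.IsBounded E ∧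
      (∀ p q : ℕ, Nonempty ((E.page 2 le_rfl).X ((p : ℤ), (q : ℤ)) ≅
        (G.rightDerived p).obj ((T.rightDerived q).obj A))) ∧
      (∀ p q : ℤ, ¬ (0 ≤ p ∧ 0 ≤ q) → IsZero ((E.page 2 le_rfl).X (p, q))) := by
  let _ : HasDerivedCategory B := HasDerivedCategory.standard B
  let _ : HasDerivedCategory C := HasDerivedCategory.standard C
  let _ : HasDerivedCategory D := HasDerivedCategory.standard D
  have _ : EnoughInjectives B := enoughInjectives_of_hasInjectiveResolutions B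
  have _ : EnoughInjectives C := enoughInjectives_of_hasInjectiveResolutions C
  exact grothendieck_ss_aux T G A hT H' hH' hH'0

end Final

end Groth.Agent.H18.GrothSS
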