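import Groth.Agent.Lib.helper18.SSLine
import Groth.Agent.Lib.helper18.GrothSS
import Groth.Prelude.Def_RDerDelta

set_option autoImplicit false
set_option linter.unusedSectionVars false
open CategoryTheory CategoryTheory.Limits SpSeq
open scoped ZeroObject

namespace Groth.Agent.H18.SSDegenerate

universe v₀ u₀ v u v' u'

variable {B : Type u₀} [Category.{v₀} B] [Abelian B] [HasInjectiveResolutions B]
  {C : Type u} [Category.{v} C] [Abelian C] [HasInjectiveResolutions C]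
  {D : Type u'} [Category.{v'} D] [Abelian D]
  (T : B ⥤ C) [T.Additive] (G : C ⥤ D) [G.Additive] [PreservesFiniteLimits G] (A : B)

/-- the data produced by the Grothendieck spectral sequence, with the canonical abutment objects -/
theorem exists_ss
    (hT : ∀ Q : B, Injective Q → ∀ q : ℕ, 0 < q → IsZero ((G.rightDerived q).obj (T.obj Q))) :
    ∃ (E : E₂CohomologicalSpectralSequence D)
      (a : SpSeq.Abutment E (fun n : ℤ => if 0 ≤ n then ((T ⋙ G).rightDerived n.toNat).obj A else 0)),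
      (∀ n, a.IsFinite n) ∧
      (∀ p q : ℕ, Nonempty ((E.page 2 le_rfl).X ((p : ℤ), (q : ℤ)) ≅
        (G.rightDerived p).obj ((T.rightDerived q).obj A))) ∧
      (∀ p q : ℤ, ¬ (0 ≤ p ∧ 0 ≤ q) → IsZero ((E.page 2 le_rfl).X (p, q))) := by
  obtain ⟨E, a, h1, -, h3, h4⟩ := Groth.Agent.H18.GrothSS.grothendieck_ss T G A hT
    (fun n : ℤ => if 0 ≤ n then ((T ⋙ G).rightDerived n.toNat).obj A else 0)
    (fun n => ⟨by
      simp only [Int.natCast_nonneg, if_true, Int.toNat_natCast]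
      exact Iso.refl _⟩)
    (fun n hn => by
      simp only [not_le.mpr hn, if_false]
      exact isZero_zero _)
  exact ⟨E, a, h1, h3, h4⟩

/-- vanishing of an `E₂`-term from vanishing of `R^qT A` -/
lemma isZero_E₂_of_isZero_inner (E : E₂CohomologicalSpectralSequence D)
    (h3 : ∀ p q : ℕ, Nonempty ((E.page 2 le_rfl).X ((p : ℤ), (q : ℤ)) ≅
        (G.rightDerived p).obj ((T.rightDerived q).obj A)))
    (h4 : ∀ p q : ℤ, ¬ (0 ≤ p ∧ 0 ≤ q) → IsZero ((E.page 2 le_rfl).X (p, q)))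
    (p q : ℤ) (hq : ∀ q' : ℕ, (q' : ℤ) = q → IsZero ((T.rightDerived q').obj A)) :
    IsZero ((E.page 2 le_rfl).X (p, q)) := by
  by_cases hpq : 0 ≤ p ∧ 0 ≤ q
  · obtain ⟨p', rfl⟩ := Int.eq_ofNat_of_zero_le hpq.1
    obtain ⟨q', rfl⟩ := Int.eq_ofNat_of_zero_le hpq.2
    have : (G.rightDerived p').Additive := RDer.rightDerived_additive G p'
    exact IsZero.of_iso ((G.rightDerived p').map_isZero (hq q' rfl)) (Classical.choice (h3 p' q'))
  · exact h4 p q hpq

/-- **Degenerate case (rows)**: if `R^qT A = 0` for all `q > 0`, then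
`R^n(T ⋙ G) A ≅ R^nG (R^0T A)`. -/
theorem iso_of_rows_vanish
    (hT : ∀ Q : B, Injective Q → ∀ q : ℕ, 0 < q → IsZero ((G.rightDerived q).obj (T.obj Q)))
    (hrow : ∀ q : ℕ, 0 < q → IsZero ((T.rightDerived q).obj A)) (n : ℕ) :
    Nonempty (((T ⋙ G).rightDerived n).obj A ≅ (G.rightDerived n).obj ((T.rightDerived 0).obj A)) := by
  obtain ⟨E, a, h1, h3, h4⟩ := exists_ss T G A hT
  have hz : ∀ p q : ℤ, q ≠ 0 → IsZero ((E.page 2 le_rfl).X (p, q)) := by
    intro p q hq
    refine isZero_E₂_of_isZero_inner T G A E h3 h4 p q ?_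
    intro q' hq'
    exact hrow q' (by omega)
  have hst : SpSeq.StationaryAt E ((n : ℤ), (n : ℤ) - n) 2 := by
    refine ⟨le_rfl, fun r' h₀ hr' => ⟨?_, ?_⟩⟩
    · refine IsZero.eq_of_src (SSLine.isZero_page_of_le 2 le_rfl _ ?_ r' hr') _ _
      exact hz _ _ (by simp; omega)
    · refine IsZero.eq_of_tgt (SSLine.isZero_page_of_le 2 le_rfl _ ?_ r' hr') _ _
      exact hz _ _ (by simp; omega)
  obtain ⟨e⟩ := SSLine.iso_of_single_term_on_line E a 2 le_rfl (n : ℤ) (n : ℤ)
    (fun p hp => hz p _ (by omega)) (SSLine.isDiscrete_of_isFinite (h1 n))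
    (SSLine.isExhaustive_of_isFinite (h1 n)) hst
  have e0 : ((n : ℤ), (n : ℤ) - n) = ((n : ℤ), ((0 : ℕ) : ℤ)) := by simp
  rw [e0] at e
  have e' : (if 0 ≤ (n : ℤ) then ((T ⋙ G).rightDerived (n : ℤ).toNat).obj A else 0) ≅
      (E.page 2 le_rfl).X ((n : ℤ), ((0 : ℕ) : ℤ)) := e
  simp only [Int.natCast_nonneg, if_true, Int.toNat_natCast] at e'
  exact ⟨e' ≪≫ Classical.choice (h3 n 0)⟩

/-- **Vanishing range**: if `R^qT A = 0` for all `q < m`, then `R^k(T ⋙ G) A = 0` for `k < m`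
and `R^m(T ⋙ G) A ≅ R^0G (R^mT A)`. -/
theorem vanishing_range
    (hT : ∀ Q : B, Injective Q → ∀ q : ℕ, 0 < q → IsZero ((G.rightDerived q).obj (T.obj Q)))
    (m : ℕ) (hlow : ∀ q : ℕ, q < m → IsZero ((T.rightDerived q).obj A)) :
    (∀ k : ℕ, k < m → IsZero (((T ⋙ G).rightDerived k).obj A)) ∧
      Nonempty (((T ⋙ G).rightDerived m).obj A ≅ (G.rightDerived 0).obj ((T.rightDerived m).obj A)) := by
  obtain ⟨E, a, h1, h3, h4⟩ := exists_ss T G A hT
  have hz : ∀ p q : ℤ, q < m → IsZero ((E.page 2 le_rfl).X (p, q)) := by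
    intro p q hq
    refine isZero_E₂_of_isZero_inner T G A E h3 h4 p q ?_
    intro q' hq'
    exact hlow q' (by omega)
  have hneg : ∀ p q : ℤ, p < 0 → IsZero ((E.page 2 le_rfl).X (p, q)) :=
    fun p q hp => h4 p q (by omega)
  constructor
  · intro k hk
    have hzero := SSLine.isZero_of_line_zero E a 2 le_rfl (k : ℤ) (fun p => by
      by_cases hp : p < 0
      · exact hneg _ _ hp
      · exact hz _ _ (by omega)) (SSLine.isDiscrete_of_isFinite (h1 k))
      (SSLine.isExhaustive_of_isFinite (h1 k))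
    simp only [Int.natCast_nonneg, if_true, Int.toNat_natCast] at hzero
    exact hzero
  · have hst : SpSeq.StationaryAt E ((0 : ℤ), (m : ℤ) - 0) 2 := by
      refine ⟨le_rfl, fun r' h₀ hr' => ⟨?_, ?_⟩⟩
      · refine IsZero.eq_of_src (SSLine.isZero_page_of_le 2 le_rfl _ ?_ r' hr') _ _
        exact hneg _ _ (by simp; omega)
      · refine IsZero.eq_of_tgt (SSLine.isZero_page_of_le 2 le_rfl _ ?_ r' hr') _ _
        exact hz _ _ (by simp; omega)
    obtain ⟨e⟩ := SSLine.iso_of_single_term_on_line E a 2 le_rfl (m : ℤ) 0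
      (fun p hp => by
        by_cases hp' : p < 0
        · exact hneg _ _ hp'
        · exact hz _ _ (by omega)) (SSLine.isDiscrete_of_isFinite (h1 m))
      (SSLine.isExhaustive_of_isFinite (h1 m)) hst
    have e0 : ((0 : ℤ), (m : ℤ) - 0) = (((0 : ℕ) : ℤ), (m : ℤ)) := by simp
    rw [e0] at e
    have e' : (if 0 ≤ (m : ℤ) then ((T ⋙ G).rightDerived (m : ℤ).toNat).obj A else 0) ≅
        (E.page 2 le_rfl).X (((0 : ℕ) : ℤ), (m : ℤ)) := e
    simp only [Int.natCast_nonneg, if_true, Int.toNat_natCast] at e'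
    exact ⟨e' ≪≫ Classical.choice (h3 0 m)⟩

end Groth.Agent.H18.SSDegenerate
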