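import Groth.Agent.Lib.helper18.LocCohPush
import Groth.Agent.Lib.helper18.SSDegenerate

set_option autoImplicit false
set_option linter.unusedSectionVars false
open CategoryTheory CategoryTheory.Limits CategoryTheory.Abelian Opposite TopologicalSpace

namespace Groth.Agent.H18.CohTopH

open Groth.Agent.H18.OpenRestr Groth.Agent.H18.Flasque Groth.Agent.H18.SectSupp

universe u

/-- the constant sheaf `ℤ` -/
noncomputable abbrev constZ (X : TopCat.{u}) : CohTop.Ab X :=
  (constantSheaf (Opens.grothendieckTopology X) AddCommGrpCat.{u}).obj (AddCommGrpCat.of (ULift.{u} ℤ))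

/-- global sections functor -/
noncomputable abbrev Γtop (X : TopCat.{u}) : CohTop.Ab X ⥤ AddCommGrpCat.{u} :=
  sheafToPresheaf (Opens.grothendieckTopology X) AddCommGrpCat.{u} ⋙
    (evaluation (Opens X)ᵒᵖ AddCommGrpCat.{u}).obj (op ⊤)

variable {X : TopCat.{u}}

/-- `Hom(ℤ, F) ≃ F(X)` -/
noncomputable def constEquiv (F : CohTop.Ab X) : (constZ X ⟶ F) ≃+ F.obj.obj (op (⊤ : Opens X)) :=
  ((constantSheafAdj (Opens.grothendieckTopology X) AddCommGrpCat.{u}
    (isTerminalTop : IsTerminal (⊤ : Opens X))).homAddEquiv _ F).trans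
    (AddCommGrpCat.uliftZMultiplesAddEquiv _)

lemma constEquiv_naturality {F G : CohTop.Ab X} (φ : F ⟶ G) (σ : constZ X ⟶ F) :
    constEquiv G (σ ≫ φ) = (φ.hom.app (op ⊤)).hom (constEquiv F σ) := by
  dsimp only [constEquiv, AddEquiv.trans_apply]
  rw [Adjunction.homAddEquiv_apply, Adjunction.homAddEquiv_apply, Adjunction.homEquiv_naturality_right]
  rfl

/-- `Hom(ℤ, -) ≅ Γ(X, -)` -/
noncomputable def constIso (X : TopCat.{u}) : ExtDer.hF (constZ X) ≅ Γtop X :=
  NatIso.ofComponents (fun F => (constEquiv F).toAddCommGrpIso) (fun {F G} φ => by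
    ext (σ : constZ X ⟶ F)
    exact constEquiv_naturality φ σ)

/-- `Γ(Y, f_* -) = Γ(X, -)` -/
noncomputable def pushΓIso {Y : TopCat.{u}} (f : X ⟶ Y) : CohTop.push f ⋙ Γtop Y ≅ Γtop X :=
  NatIso.ofComponents (fun F => Iso.refl _) (fun {F G} φ => by
    dsimp
    rw [Category.comp_id, Category.id_comp])

/-- `Hom_Y(ℤ, f_* -) ≅ Hom_X(ℤ, -)` -/
noncomputable def pushConstIso {Y : TopCat.{u}} (f : X ⟶ Y) :
    CohTop.push f ⋙ ExtDer.hF (constZ Y) ≅ ExtDer.hF (constZ X) :=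
  Functor.isoWhiskerLeft (CohTop.push f) (constIso Y) ≪≫ pushΓIso f ≪≫ (constIso X).symm

/-- `R^q Hom(ℤ, -)` vanishes on flasque sheaves -/
lemma isZero_rightDerived_hF_const (M : CohTop.Ab X) [TopCat.Sheaf.IsFlasque M]
    (q : ℕ) (hq : 0 < q) : IsZero (((ExtDer.hF (constZ X)).rightDerived q).obj M) := by
  obtain ⟨q', rfl⟩ : ∃ q', q = q' + 1 := ⟨q - 1, by omega⟩
  refine IsZero.of_iso ?_ ((ExtDer.natIso (constZ X) (q' + 1)).app M)
  have : Subsingleton (Ext.{u} (constZ X) M (q' + 1)) :=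
    ⟨fun x y => (ext_const_eq_zero M q' x).trans (ext_const_eq_zero M q' y).symm⟩
  exact @AddCommGrpCat.isZero_of_subsingleton ((extFunctorObj (constZ X) (q' + 1)).obj M) this

/-- **Leray, degenerate case**: if `R^q f_* F = 0` for `q > 0` then `H^p(X, F) ≅ H^p(Y, f_* F)`. -/
theorem H_push_iso {Y : TopCat.{u}} (f : X ⟶ Y) (F : CohTop.Ab X)
    (h : ∀ q : ℕ, IsZero ((CohTop.Rpush f (q + 1)).obj F)) (p : ℕ) :
    Nonempty (AddCommGrpCat.of (CohTop.H F p) ≅ AddCommGrpCat.of (CohTop.H ((CohTop.push f).obj F) p)) := by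
  have hT : ∀ Q : CohTop.Ab X, Injective Q → ∀ q : ℕ, 0 < q →
      IsZero (((ExtDer.hF (constZ Y)).rightDerived q).obj ((CohTop.push f).obj Q)) := by
    intro Q hQ q hq
    have : TopCat.Sheaf.IsFlasque Q := isFlasque_of_injective Q
    have : TopCat.Sheaf.IsFlasque ((CohTop.push f).obj Q) :=
      TopCat.Sheaf.IsFlasque.pushforward_isFlasque Q f
    exact isZero_rightDerived_hF_const _ q hq
  obtain ⟨e⟩ := SSDegenerate.iso_of_rows_vanish (CohTop.push f) (ExtDer.hF (constZ Y)) F hT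
    (fun q hq => by
      obtain ⟨q', rfl⟩ : ∃ q', q = q' + 1 := ⟨q - 1, by omega⟩
      exact h q') p
  have e1 : ((CohTop.push f ⋙ ExtDer.hF (constZ Y)).rightDerived p).obj F ≅
      (extFunctorObj (constZ X) p).obj F :=
    (ExtDer.rightDerivedIsoOfIso (pushConstIso f) p).app F ≪≫ (ExtDer.natIso (constZ X) p).app F
  have e2 : ((ExtDer.hF (constZ Y)).rightDerived p).obj (((CohTop.push f).rightDerived 0).obj F) ≅
      (extFunctorObj (constZ Y) p).obj ((CohTop.push f).obj F) :=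
    (ExtDer.natIso (constZ Y) p).app _ ≪≫
      (extFunctorObj (constZ Y) p).mapIso ((CohTop.push f).rightDerivedZeroIsoSelf.app F)
  exact ⟨e1.symm ≪≫ e ≪≫ e2⟩

end Groth.Agent.H18.CohTopH
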