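import Groth.Agent.Lib.helper18.AffVanish
import Groth.Agent.Lib.helper18.ProfAcyc
import Groth.Agent.Lib.helper18.ClosedPush

set_option autoImplicit false
set_option linter.unusedSectionVars false
set_option linter.unusedVariables false
open CategoryTheory CategoryTheory.Limits Opposite TopologicalSpace AlgebraicGeometry

namespace Groth.Agent.H18.AffCount

universe u

/-- Mayer–Vietoris vanishing -/
lemma subsingleton_HU_sup {X : TopCat.{u}} (F : CohTop.Ab X) (A B : Opens X) (n : ℕ)
    (h1 : Subsingleton (CohTop.HU F n (A ⊓ B))) (h2 : Subsingleton (CohTop.HU F (n + 1) A))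
    (h3 : Subsingleton (CohTop.HU F (n + 1) B)) :
    Subsingleton (CohTop.HU F (n + 1) (A ⊔ B)) := by
  let S := Opens.mayerVietorisSquare A B
  have hex := S.sequence_exact F n (n + 1) rfl
  have htb : S.toBiprod F (n + 1) = 0 := by
    have z2 : IsZero (F.H' (n + 1) S.X₂) := by
      have : Subsingleton (F.H' (n + 1) S.X₂) := h2
      exact AddCommGrpCat.isZero_of_subsingleton _
    have z3 : IsZero (F.H' (n + 1) S.X₃) := by
      have : Subsingleton (F.H' (n + 1) S.X₃) := h3
      exact AddCommGrpCat.isZero_of_subsingleton _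
    apply biprod.hom_ext
    · exact z2.eq_of_tgt _ _
    · exact z3.eq_of_tgt _ _
  have hsc := hex.exact 2
  rw [ShortComplex.ab_exact_iff] at hsc
  refine ⟨fun x y => ?_⟩
  have key : ∀ x : F.H' (n + 1) S.X₄, x = 0 := by
    intro x
    obtain ⟨y, hy⟩ := hsc x (by
      show (S.toBiprod F (n + 1)).hom x = 0
      rw [htb]; rfl)
    have : Subsingleton (F.H' n S.X₁) := h1
    have hy0 : y = 0 := Subsingleton.elim (α := F.H' n S.X₁) _ _
    rw [← hy, hy0, map_zero]
    rfl
  exact (key x).trans (key y).symm

variable {X : Scheme.{u}} (M : X.Modules) [M.IsQuasicoherent]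

lemma affine_case (V : X.Opens) (hV : IsAffineOpen V) (m : ℕ) :
    Subsingleton (CohTop.HU (X := X.carrier) (Coh.toAb M) (m + 1) V) := by
  have h := AffVanish.main (f := hV.fromSpec) M m
  rwa [hV.opensRange_fromSpec] at h

theorem vanish (hd : ∀ V W : X.Opens, IsAffineOpen V → IsAffineOpen W → IsAffineOpen (V ⊓ W)) :
    ∀ (t : ℕ) (U : Fin t → X.Opens), (∀ i, IsAffineOpen (U i)) → ∀ n, t ≤ n → 1 ≤ n →
      Subsingleton (CohTop.HU (X := X.carrier) (Coh.toAb M) n (⨆ i, U i)) := by
  intro t
  induction t with
  | zero =>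
    intro U hU n _ hn
    obtain ⟨m, rfl⟩ : ∃ m, n = m + 1 := ⟨n - 1, by omega⟩
    have e : (⨆ i, U i) = ⊥ := iSup_of_empty U
    rw [e]
    exact affine_case M ⊥ (isAffineOpen_bot X) m
  | succ t ih =>
    intro U hU n hn _
    obtain ⟨m, rfl⟩ : ∃ m, n = m + 1 := ⟨n - 1, by omega⟩
    have hm : t ≤ m := by omega
    by_cases ht : t = 0
    · subst ht
      have e : (⨆ i, U i) = U 0 := by
        apply le_antisymm
        · apply iSup_le
          intro i
          have hi : i = 0 := by
            apply Fin.ext
            have := i.2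
            simp only [Fin.val_zero]
            omega
          rw [hi]
        · exact le_iSup U 0
      rw [e]
      exact affine_case M (U 0) (hU 0) m
    · have hm1 : 1 ≤ m := by omega
      have e : (⨆ i, U i) = U 0 ⊔ ⨆ i : Fin t, U i.succ := by
        apply le_antisymm
        · apply iSup_le
          intro i
          induction i using Fin.cases with
          | zero => exact le_sup_left
          | succ j => exact (le_iSup (fun j : Fin t => U j.succ) j).trans le_sup_right
        · exact sup_le (le_iSup U 0) (iSup_le fun j => le_iSup U j.succ)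
      rw [e]
      apply subsingleton_HU_sup
      · have e2 : U 0 ⊓ ⨆ i : Fin t, U i.succ = ⨆ i : Fin t, U 0 ⊓ U i.succ := inf_iSup_eq _ _
        rw [e2]
        exact ih (fun i => U 0 ⊓ U i.succ) (fun i => hd _ _ (hU 0) (hU i.succ)) m hm hm1
      · exact affine_case M (U 0) (hU 0) m
      · exact ih (fun i => U i.succ) (fun i => hU i.succ) (m + 1) (by omega) (by omega)

end Groth.Agent.H18.AffCount
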