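import Groth.Agent.Lib.helper18.AffVanish
import Groth.Agent.Lib.helper18.PshPush
import Groth.Agent.Lib.helper18.CohTopH

set_option autoImplicit false
set_option linter.unusedSectionVars false
set_option linter.unusedVariables false
open CategoryTheory CategoryTheory.Limits Opposite TopologicalSpace AlgebraicGeometry ZeroObject

namespace Groth.Agent.H18.AffPush

universe u

/-- a presheaf that is locally zero has zero sheafification -/
theorem isZero_sheafify {D : Type u} [SmallCategory D] (K : GrothendieckTopology D)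
    (Q : Dᵒᵖ ⥤ AddCommGrpCat.{u})
    (h : ∀ V : D, ∃ (κ : Type u) (Y : κ → D) (g : ∀ k, Y k ⟶ V), Sieve.ofArrows Y g ∈ K V ∧
      ∀ k, Subsingleton (Q.obj (op (Y k)))) :
    IsZero ((presheafToSheaf K AddCommGrpCat.{u}).obj Q) := by
  let φ : Q ⟶ (0 : Dᵒᵖ ⥤ AddCommGrpCat.{u}) := 0
  have hsub : ∀ V : Dᵒᵖ, Subsingleton ((0 : Dᵒᵖ ⥤ AddCommGrpCat.{u}).obj V) := fun V =>
    AddCommGrpCat.subsingleton_of_isZero ((isZero_zero (Dᵒᵖ ⥤ AddCommGrpCat.{u})).obj V)
  have hinj : Presheaf.IsLocallyInjective K φ := ⟨by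
    intro X x y hxy
    obtain ⟨κ, Yk, g, hg, hY⟩ := h X.unop
    refine K.superset_covering ?_ hg
    rw [Sieve.ofArrows, Sieve.generate_le_iff]
    rintro Z f ⟨k⟩
    have := hY k
    exact Subsingleton.elim _ _⟩
  have hsurj : Presheaf.IsLocallySurjective K φ := ⟨by
    intro U s
    refine K.superset_covering ?_ (K.top_mem U)
    intro Z f _
    have := hsub (op Z)
    exact ⟨0, Subsingleton.elim _ _⟩⟩
  have hW : IsIso ((presheafToSheaf K AddCommGrpCat.{u}).map φ) :=
    (K.W_iff φ).mp (K.W_of_isLocallyBijective φ)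
  exact IsZero.of_iso ((presheafToSheaf K AddCommGrpCat.{u}).map_isZero (isZero_zero _))
    (asIso ((presheafToSheaf K AddCommGrpCat.{u}).map φ))

/-- higher direct images of a quasi-coherent module along an affine morphism vanish -/
theorem isZero_RpushAb {X S : Scheme.{u}} (f : X ⟶ S) [IsAffineHom f] (M : X.Modules)
    [M.IsQuasicoherent] (i : ℕ) : IsZero ((Coh.RpushAb f (i + 1)).obj (Coh.toAb M)) := by
  obtain ⟨e⟩ := PshPush.Rpush_iso (Opens.grothendieckTopology X) (Opens.grothendieckTopology S)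
    (Opens.map f.base) (Coh.toAb M) (i + 1)
  refine IsZero.of_iso ?_ e
  apply isZero_sheafify
  intro V
  refine ⟨{W : S.Opens // IsAffineOpen W ∧ W ≤ V}, fun k => k.1, fun k => homOfLE k.2.2, ?_, ?_⟩
  · intro x hx
    obtain ⟨W, hW, hxW, hWV⟩ := Opens.isBasis_iff_nbhd.mp (Scheme.isBasis_affineOpens S) hx
    exact ⟨W, homOfLE hWV, ⟨_, 𝟙 _, homOfLE hWV,
      ⟨(⟨W, hW, hWV⟩ : {W : S.Opens // IsAffineOpen W ∧ W ≤ V})⟩, by simp⟩, hxW⟩
  · intro k
    have hW' : IsAffineOpen (f ⁻¹ᵁ k.1) := k.2.1.preimage f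
    have h1 := AffVanish.main (f := hW'.fromSpec) M i
    rw [hW'.opensRange_fromSpec] at h1
    exact h1

end Groth.Agent.H18.AffPush
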