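import Groth.Prelude.Def_ArtFun5
import Mathlib.RingTheory.AdicCompletion.RingHom

/-!
Helper lemmas (helper18): a compatible system of augmented maps `R → S/m^(n+1)` into the truncations
of a complete coefficient ring `S` lifts to an augmented map `R → S`; maps into `S` are determined
by their truncations.
-/

set_option autoImplicit false
universe u v

open CategoryTheory

namespace Groth.Agent.H18

open ArtFun ArtFun.Art

variable {Λ : Type u} {k : Type u} [CommRing Λ] [Field k] [Algebra Λ k]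

/-- compatibility of a compatible system over several steps -/
theorem compat_steps {R : Type u} [CommRing R] [Algebra Λ R] {resR : R →ₐ[Λ] k} (S : CRing Λ k)
    (φ : ∀ n, HomSet R resR (S.trunc n))
    (hφ : ∀ n, HomSet.map (S.truncMap n) (φ (n + 1)) = φ n) (m n : ℕ) (hmn : m ≤ n) (x : R)
    (s : S.carrier) (hs : Ideal.Quotient.mk (CRing.mpow S n) s = (φ n).1 x) :
    Ideal.Quotient.mk (CRing.mpow S m) s = (φ m).1 x := by
  induction n, hmn using Nat.le_induction generalizing s with
  | base => exact hs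
  | succ n hmn ih =>
    apply ih
    have h1 := congrArg (fun ψ : HomSet R resR (S.trunc n) => ψ.1 x) (hφ n)
    have h2 : (S.truncMap n).toAlgHom ((φ (n + 1)).1 x) = (φ n).1 x := h1
    rw [← h2, ← hs]
    rfl

/-- A compatible system of augmented maps into the truncations lifts. -/
theorem exists_lift_of_compatible {R : Type u} [CommRing R] [Algebra Λ R] (resR : R →ₐ[Λ] k)
    (S : CRing Λ k) (φ : ∀ n, HomSet R resR (S.trunc n))
    (hφ : ∀ n, HomSet.map (S.truncMap n) (φ (n + 1)) = φ n) :
    ∃ g : R →ₐ[Λ] S.carrier, S.res.comp g = resR ∧ ∀ n, (S.truncHom n).1.comp g = (φ n).1 := by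
  have := S.isAdicComplete
  let I := IsLocalRing.maximalIdeal S.carrier
  -- the underlying maps, with plain quotient rings as targets
  let ψ : (n : ℕ) → R →ₐ[Λ] S.carrier ⧸ I ^ (n + 1) := fun n => (φ n).1
  have hψ : ∀ (m n : ℕ), m ≤ n → ∀ (x : R) (s : S.carrier),
      Ideal.Quotient.mk (I ^ (n + 1)) s = ψ n x → Ideal.Quotient.mk (I ^ (m + 1)) s = ψ m x :=
    fun m n hmn x s hs => compat_steps S φ hφ m n hmn x s hs
  have hψres : ∀ (x : R) (s : S.carrier), Ideal.Quotient.mk (I ^ (0 + 1)) s = ψ 0 x → S.res s = resR x := by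
    intro x s hs
    have h5 : (S.trunc 0).res ((φ 0).1 x) = resR x :=
      congrArg (fun χ : R →ₐ[Λ] k => χ x) (φ 0).2
    rw [← h5]
    have : (φ 0).1 x = Ideal.Quotient.mk (I ^ (0 + 1)) s := hs.symm
    rw [this]
    rfl
  have hψφ : ∀ (n : ℕ) (x : R) (y : S.carrier), Ideal.Quotient.mk (I ^ (n + 1)) y = ψ n x →
      (S.truncHom n).1 y = (φ n).1 x := fun n x y hy => hy
  clear_value ψ
  let f : (n : ℕ) → R →ₐ[Λ] S.carrier ⧸ I ^ n := fun n =>
    (Ideal.Quotient.factorₐ Λ (Ideal.pow_le_pow_right (Nat.le_succ n))).comp (ψ n)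
  have hf : ∀ {m n : ℕ} (hle : m ≤ n),
      (Ideal.Quotient.factorₐ Λ (Ideal.pow_le_pow_right hle)).comp (f n) = f m := by
    intro m n hle
    apply AlgHom.ext
    intro x
    obtain ⟨s, hs⟩ := Ideal.Quotient.mk_surjective (ψ n x)
    have hm := hψ m n hle x s hs
    simp only [f, AlgHom.comp_apply]
    rw [← hs, ← hm, Ideal.Quotient.factorₐ_apply_mk, Ideal.Quotient.factorₐ_apply_mk,
      Ideal.Quotient.factorₐ_apply_mk]
  have hfs : ∀ (n : ℕ) (x : R) (s : S.carrier), Ideal.Quotient.mk (I ^ (n + 1)) s = ψ n x →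
      f n x = Ideal.Quotient.mk (I ^ n) s := by
    intro n x s hs
    simp only [f, AlgHom.comp_apply]
    rw [← hs, Ideal.Quotient.factorₐ_apply_mk]
  refine ⟨IsAdicComplete.liftAlgHom I f hf, ?_, ?_⟩
  · apply AlgHom.ext
    intro x
    have h1 : Ideal.Quotient.mk (I ^ 1) (IsAdicComplete.liftAlgHom I f hf x) = f 1 x :=
      IsAdicComplete.mk_liftAlgHom I f hf 1 x
    obtain ⟨s, hs⟩ := Ideal.Quotient.mk_surjective (ψ 1 x)
    have h0 := hψ 0 1 (Nat.zero_le 1) x s hs
    rw [hfs 1 x s hs, Ideal.Quotient.eq, pow_one] at h1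
    have h4 : S.res (IsAdicComplete.liftAlgHom I f hf x - s) = 0 := (S.mem_maximalIdeal_iff _).1 h1
    change S.res (IsAdicComplete.liftAlgHom I f hf x) = resR x
    rw [map_sub, sub_eq_zero] at h4
    rw [h4]
    exact hψres x s h0
  · intro n
    apply AlgHom.ext
    intro x
    have h1 : Ideal.Quotient.mk (I ^ (n + 1)) (IsAdicComplete.liftAlgHom I f hf x) = f (n + 1) x :=
      IsAdicComplete.mk_liftAlgHom I f hf (n + 1) x
    obtain ⟨s, hs⟩ := Ideal.Quotient.mk_surjective (ψ (n + 1) x)
    have hn := hψ n (n + 1) (Nat.le_succ n) x s hs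
    have h2 := hfs (n + 1) x s hs
    rw [h2] at h1
    exact hψφ n x _ (h1.trans hn)

/-- Two augmented maps into a complete coefficient ring which agree on all truncations are equal. -/
theorem algHom_ext_of_trunc {R : Type u} [CommRing R] [Algebra Λ R]
    (S : CRing Λ k) (g₁ g₂ : R →ₐ[Λ] S.carrier)
    (h : ∀ n, (S.truncHom n).1.comp g₁ = (S.truncHom n).1.comp g₂) : g₁ = g₂ := by
  apply AlgHom.ext
  intro r
  have hmem : ∀ n : ℕ, g₁ r - g₂ r ∈ IsLocalRing.maximalIdeal S.carrier ^ (n + 1) := by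
    intro n
    have := congrArg (fun ψ : R →ₐ[Λ] (S.trunc n) => ψ r) (h n)
    have h2 : Ideal.Quotient.mk (CRing.mpow S n) (g₁ r) = Ideal.Quotient.mk (CRing.mpow S n) (g₂ r) := this
    rw [Ideal.Quotient.eq] at h2
    exact h2
  have hH : IsHausdorff (IsLocalRing.maximalIdeal S.carrier) S.carrier := S.isAdicComplete.toIsHausdorff
  have : g₁ r - g₂ r = 0 := by
    apply hH.haus
    intro n
    rw [SModEq.zero]
    rw [smul_eq_mul, Ideal.mul_top]
    rcases n with _ | n
    · simp
    · exact hmem n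
  exact sub_eq_zero.mp this

/-- Every augmented map from a coefficient ring to a local Artinian algebra factors through a truncation. -/
theorem exists_factor_trunc (R : CRing Λ k) (A : Art Λ k) (u : HomSet R.carrier R.res A) :
    ∃ (n : ℕ) (v : R.trunc n ⟶ A), HomSet.map v (R.truncHom n) = u := by
  obtain ⟨N, hN⟩ := (isArtinianRing_iff_isNilpotent_maximalIdeal A.carrier).1 inferInstance
  have hmax : IsLocalRing.maximalIdeal R.carrier ≤ (IsLocalRing.maximalIdeal A.carrier).comap u.1 := by
    intro x hx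
    rw [Ideal.mem_comap, Art.mem_maximalIdeal_iff]
    have h1 : A.res (u.1 x) = R.res x := congrArg (fun χ : R.carrier →ₐ[Λ] k => χ x) u.2
    rw [h1]
    exact (R.mem_maximalIdeal_iff x).1 hx
  have hker : ∀ a ∈ CRing.mpow R N, u.1 a = 0 := by
    intro a ha
    have h1 : a ∈ IsLocalRing.maximalIdeal R.carrier ^ N :=
      Ideal.pow_le_pow_right (Nat.le_succ N) ha
    have h2 : a ∈ ((IsLocalRing.maximalIdeal A.carrier).comap u.1) ^ N := Ideal.pow_right_mono hmax N h1
    have h3 : a ∈ ((IsLocalRing.maximalIdeal A.carrier) ^ N).comap u.1 := Ideal.le_comap_pow _ N h2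
    rw [Ideal.mem_comap, hN] at h3
    exact h3
  refine ⟨N, ⟨Ideal.Quotient.liftₐ (CRing.mpow R N) u.1 hker, ?_⟩, ?_⟩
  · apply AlgHom.ext
    intro x
    obtain ⟨a, rfl⟩ := Ideal.Quotient.mk_surjective x
    exact congrArg (fun χ : R.carrier →ₐ[Λ] k => χ a) u.2
  · apply Subtype.ext
    apply AlgHom.ext
    intro a
    rfl

theorem Family.ext' {R : Type u} [CommRing R] [Algebra Λ R] {resR : R →ₐ[Λ] k} {F : Art Λ k ⥤ Type v}
    {ξ η : Family R resR F} (h : ∀ A φ, ξ.app A φ = η.app A φ) : ξ = η := by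
  cases ξ; cases η; congr; funext A φ; exact h A φ

/-- A family is determined by its values on the truncation maps. -/
theorem Family.ext_of_trunc (R : CRing Λ k) {F : Art Λ k ⥤ Type v}
    {ξ η : Family R.carrier R.res F} (h : ∀ n, ξ.app _ (R.truncHom n) = η.app _ (R.truncHom n)) : ξ = η := by
  apply Family.ext'
  intro A φ
  obtain ⟨n, v, rfl⟩ := exists_factor_trunc R A φ
  rw [ξ.natural, η.natural, h n]

/-- Mapping property of a universal family with respect to families over complete coefficient rings. -/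
theorem existsUnique_along_of_universal {R : Type u} [CommRing R] [Algebra Λ R] {resR : R →ₐ[Λ] k}
    {F : Art Λ k ⥤ Type v} (ξ : Family R resR F) (hξ : IsUniversal ξ) (S : CRing Λ k)
    (η : Family S.carrier S.res F) :
    ∃ g : R →ₐ[Λ] S.carrier, (∃ hg : S.res.comp g = resR, ξ.along g hg = η) ∧
      ∀ g' : R →ₐ[Λ] S.carrier, (∃ hg : S.res.comp g' = resR, ξ.along g' hg = η) → g' = g := by
  classical
  choose φ hφ using fun n => (hξ (S.trunc n)).2 (η.app _ (S.truncHom n))
  have hcompat : ∀ n, HomSet.map (S.truncMap n) (φ (n + 1)) = φ n := by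
    intro n
    apply (hξ (S.trunc n)).1
    rw [ξ.natural, hφ, hφ, ← η.natural, CRing.truncMap_truncHom]
  obtain ⟨g, hg, hgn⟩ := exists_lift_of_compatible resR S φ hcompat
  have key : ∀ (g' : R →ₐ[Λ] S.carrier) (hg' : S.res.comp g' = resR) (n : ℕ),
      (ξ.along g' hg').app _ (S.truncHom n) = ξ.app _ ⟨(S.truncHom n).1.comp g', by
        rw [← AlgHom.comp_assoc, (S.truncHom n).2, hg']⟩ := fun _ _ _ => rfl
  refine ⟨g, ⟨hg, ?_⟩, ?_⟩
  · apply Family.ext_of_trunc S
    intro n
    rw [key, ← hφ n]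
    congr 1
    exact Subtype.ext (hgn n)
  · rintro g' ⟨hg', h'⟩
    apply algHom_ext_of_trunc S
    intro n
    have h1 := key g' hg' n
    rw [h', ← hφ n] at h1
    have h2 := (hξ (S.trunc n)).1 h1
    rw [hgn n]
    exact (congrArg Subtype.val h2).symm

theorem Family.along_along {R S T : Type u} [CommRing R] [Algebra Λ R] {resR : R →ₐ[Λ] k}
    [CommRing S] [Algebra Λ S] {resS : S →ₐ[Λ] k} [CommRing T] [Algebra Λ T] {resT : T →ₐ[Λ] k}
    {F : Art Λ k ⥤ Type v} (ξ : Family R resR F) (g : R →ₐ[Λ] S) (hg : resS.comp g = resR)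
    (h : S →ₐ[Λ] T) (hh : resT.comp h = resS) :
    (ξ.along g hg).along h hh = ξ.along (h.comp g) (by rw [← AlgHom.comp_assoc, hh, hg]) := by
  apply Family.ext'
  intro A φ
  rfl

theorem Family.along_id {R : Type u} [CommRing R] [Algebra Λ R] {resR : R →ₐ[Λ] k}
    {F : Art Λ k ⥤ Type v} (ξ : Family R resR F) :
    ξ.along (AlgHom.id Λ R) (AlgHom.comp_id resR) = ξ := by
  apply Family.ext'
  intro A φ
  rfl

/-- transition maps between truncations -/
noncomputable def truncTrans (R : CRing Λ k) {m n : ℕ} (h : n ≤ m) : R.trunc m ⟶ R.trunc n :=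
  ⟨Ideal.Quotient.factorₐ Λ (Ideal.pow_le_pow_right (Nat.succ_le_succ h)), by
    apply AlgHom.ext
    intro x
    obtain ⟨a, rfl⟩ := Ideal.Quotient.mk_surjective x
    rfl⟩

theorem truncTrans_truncHom (R : CRing Λ k) {m n : ℕ} (h : n ≤ m) :
    HomSet.map (truncTrans R h) (R.truncHom m) = R.truncHom n :=
  Subtype.ext (AlgHom.ext fun _ => rfl)

theorem art_hom_ext_of_truncHom (R : CRing Λ k) {m : ℕ} {A : Art Λ k} (v v' : R.trunc m ⟶ A)
    (h : HomSet.map v (R.truncHom m) = HomSet.map v' (R.truncHom m)) : v = v' := by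
  apply Art.hom_ext
  apply AlgHom.ext
  intro x
  obtain ⟨a, rfl⟩ := Ideal.Quotient.mk_surjective x
  exact congrArg (fun χ : HomSet R.carrier R.res A => χ.1 a) h

theorem HomSet.map_comp {R : Type u} [CommRing R] [Algebra Λ R] {resR : R →ₐ[Λ] k} {A B C : Art Λ k}
    (f : A ⟶ B) (g : B ⟶ C) (φ : HomSet R resR A) :
    HomSet.map (f ≫ g) φ = HomSet.map g (HomSet.map f φ) :=
  Subtype.ext (AlgHom.ext fun _ => rfl)

theorem HomSet.map_id {R : Type u} [CommRing R] [Algebra Λ R] {resR : R →ₐ[Λ] k} {A : Art Λ k}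
    (φ : HomSet R resR A) : HomSet.map (𝟙 A) φ = φ :=
  Subtype.ext (AlgHom.ext fun _ => rfl)

theorem FormalElt.map_truncTrans (R : CRing Λ k) {F : Art Λ k ⥤ Type v} (w : FormalElt F R)
    {m n : ℕ} (h : n ≤ m) : F.map (truncTrans R h) (w.elt m) = w.elt n := by
  induction m, h using Nat.le_induction with
  | base =>
    have : truncTrans R (le_refl n) = 𝟙 _ := by
      apply art_hom_ext_of_truncHom
      rw [truncTrans_truncHom, HomSet.map_id]
    rw [this, F.map_id]
    rfl
  | succ m hnm ih =>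
    have : truncTrans R (Nat.le_succ_of_le hnm) = R.truncMap m ≫ truncTrans R hnm := by
      apply art_hom_ext_of_truncHom
      rw [truncTrans_truncHom, HomSet.map_comp, CRing.truncMap_truncHom, truncTrans_truncHom]
    rw [this, F.map_comp]
    show F.map (truncTrans R hnm) (F.map (R.truncMap m) (w.elt (m + 1))) = w.elt n
    rw [w.compat, ih]

/-- the value of the family attached to a formal element does not depend on the chosen factorisation -/
theorem FormalElt.wellDefined (R : CRing Λ k) {F : Art Λ k ⥤ Type v} (w : FormalElt F R)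
    {A : Art Λ k} {n m : ℕ} (v : R.trunc n ⟶ A) (v' : R.trunc m ⟶ A)
    (h : HomSet.map v (R.truncHom n) = HomSet.map v' (R.truncHom m)) :
    F.map v (w.elt n) = F.map v' (w.elt m) := by
  have h1 : truncTrans R (le_max_left n m) ≫ v = truncTrans R (le_max_right n m) ≫ v' := by
    apply art_hom_ext_of_truncHom
    rw [HomSet.map_comp, HomSet.map_comp, truncTrans_truncHom, truncTrans_truncHom, h]
  rw [← FormalElt.map_truncTrans R w (le_max_left n m), ← FormalElt.map_truncTrans R w (le_max_right n m)]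
  have h2 := congrArg (fun t => F.map t (w.elt (max n m))) h1
  simp only [F.map_comp] at h2
  exact h2

theorem toFormalElt_bijective (R : CRing Λ k) (F : Art Λ k ⥤ Type v) :
    Function.Bijective (fun ξ : Family R.carrier R.res F => ξ.toFormalElt) := by
  classical
  constructor
  · intro ξ η h
    apply Family.ext_of_trunc R
    intro n
    exact congrArg (fun w : FormalElt F R => w.elt n) h
  · intro w
    choose N V hV using fun (A : Art Λ k) (φ : HomSet R.carrier R.res A) => exists_factor_trunc R A φ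
    have key : ∀ (A : Art Λ k) (φ : HomSet R.carrier R.res A) (n : ℕ) (v : R.trunc n ⟶ A),
        HomSet.map v (R.truncHom n) = φ → F.map (V A φ) (w.elt (N A φ)) = F.map v (w.elt n) := by
      intro A φ n v hv
      apply FormalElt.wellDefined
      rw [hV, hv]
    refine ⟨⟨fun A φ => F.map (V A φ) (w.elt (N A φ)), ?_⟩, ?_⟩
    · intro A B f φ
      have := key B (HomSet.map f φ) (N A φ) (V A φ ≫ f) (by rw [HomSet.map_comp, hV])
      rw [this, F.map_comp]
      rfl
    · apply FormalElt.ext'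
      intro n
      show F.map (V _ (R.truncHom n)) (w.elt (N _ (R.truncHom n))) = w.elt n
      rw [key _ (R.truncHom n) n (𝟙 _) (HomSet.map_id _), F.map_id]
      rfl

end Groth.Agent.H18
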