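import Groth.Prelude.Def_ArtFun5
import Mathlib.LinearAlgebra.Dual.Lemmas

/-!
Helper lemmas (helper18): for an object `T` of `Art k k` whose maximal ideal squares to zero, the
morphisms `T ⟶ k[ε]` separate the points of `T`.
-/

set_option autoImplicit false
universe u v

open CategoryTheory

namespace Groth.Agent.H18

open ArtFun ArtFun.Art

variable {k : Type u} [Field k]

/-- the algebra map `T → k[ε]`, `t ↦ res t + ℓ(t - res t) ε`, for a `k`-linear functional `ℓ`. -/
noncomputable def dualOfFunctionalAlgHom (T : Art k k)
    (hT : ∀ a b : T, T.res a = 0 → T.res b = 0 → a * b = 0) (ℓ : T →ₗ[k] k) :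
    T →ₐ[k] TrivSqZeroExt k k where
  toFun := fun t => (T.res t, ℓ (t - algebraMap k T (T.res t)))
  map_one' := by
    apply TrivSqZeroExt.ext
    · change T.res 1 = 1
      simp
    · change ℓ (1 - algebraMap k T (T.res 1)) = 0
      simp
  map_mul' := by
    intro t t'
    have h0 : (t - algebraMap k T (T.res t)) * (t' - algebraMap k T (T.res t')) = 0 := by
      apply hT
      · simp
      · simp
    have h1 : t * t' - algebraMap k T (T.res (t * t')) =
        T.res t • (t' - algebraMap k T (T.res t')) + T.res t' • (t - algebraMap k T (T.res t)) := by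
      simp only [Algebra.smul_def, map_mul]
      linear_combination h0
    apply TrivSqZeroExt.ext
    · change T.res (t * t') = T.res t * T.res t'
      simp
    · change ℓ (t * t' - algebraMap k T (T.res (t * t'))) =
        T.res t • ℓ (t' - algebraMap k T (T.res t')) +
          MulOpposite.op (T.res t') • ℓ (t - algebraMap k T (T.res t))
      rw [h1, map_add, map_smul, map_smul]
      simp [smul_eq_mul, mul_comm]
  map_zero' := by
    apply TrivSqZeroExt.ext
    · change T.res 0 = 0
      simp
    · change ℓ (0 - algebraMap k T (T.res 0)) = 0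
      simp
  map_add' := by
    intro t t'
    apply TrivSqZeroExt.ext
    · change T.res (t + t') = T.res t + T.res t'
      simp
    · change ℓ (t + t' - algebraMap k T (T.res (t + t'))) =
        ℓ (t - algebraMap k T (T.res t)) + ℓ (t' - algebraMap k T (T.res t'))
      have : t + t' - algebraMap k T (T.res (t + t')) =
          (t - algebraMap k T (T.res t)) + (t' - algebraMap k T (T.res t')) := by
        simp only [map_add]; ring
      rw [this, map_add]
  commutes' := by
    intro c
    apply TrivSqZeroExt.ext
    · change T.res (algebraMap k T c) = c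
      simp
    · change ℓ (algebraMap k T c - algebraMap k T (T.res (algebraMap k T c))) = 0
      simp

/-- the morphism `T ⟶ k[ε]` of `Art k k` attached to a functional. -/
noncomputable def dualOfFunctional (T : Art k k)
    (hT : ∀ a b : T, T.res a = 0 → T.res b = 0 → a * b = 0) (ℓ : T →ₗ[k] k) : T ⟶ dual k k :=
  ⟨dualOfFunctionalAlgHom T hT ℓ, by
    apply AlgHom.ext
    intro t
    rfl⟩

lemma dualOfFunctional_snd (T : Art k k)
    (hT : ∀ a b : T, T.res a = 0 → T.res b = 0 → a * b = 0) (ℓ : T →ₗ[k] k) (t : T) :
    TrivSqZeroExt.snd ((dualOfFunctional T hT ℓ) t) = ℓ (t - algebraMap k T (T.res t)) := rfl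

/-- Morphisms to the dual numbers separate the points of an object with square-zero maximal ideal. -/
theorem dual_separates (T : Art k k)
    (hT : ∀ a b : T, T.res a = 0 → T.res b = 0 → a * b = 0) (a b : T)
    (h : ∀ l : T ⟶ dual k k, l a = l b) : a = b := by
  by_contra hab
  have hd : a - b ≠ 0 := sub_ne_zero.mpr hab
  have hres : T.res a = T.res b := by
    have := h (toBase T ≫ baseToDual)
    have h2 := congrArg TrivSqZeroExt.fst this
    have e1 : ∀ t : T, TrivSqZeroExt.fst ((toBase T ≫ baseToDual (Λ := k) (k := k)) t) = T.res t := by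
      intro t
      exact Art.res_app (toBase T ≫ baseToDual (Λ := k) (k := k)) t
    rw [e1, e1] at h2
    exact h2
  obtain ⟨ℓ, hℓ⟩ : ∃ ℓ : Module.Dual k T, ℓ (a - b) ≠ 0 := by
    by_contra hcon
    push Not at hcon
    exact hd ((Module.forall_dual_apply_eq_zero_iff k (a - b)).mp hcon)
  have := h (dualOfFunctional T hT ℓ)
  have h2 := congrArg TrivSqZeroExt.snd this
  rw [dualOfFunctional_snd, dualOfFunctional_snd, hres] at h2
  apply hℓ
  have : a - b = (a - algebraMap k T (T.res b)) - (b - algebraMap k T (T.res b)) := by ring
  rw [this, map_sub, h2, sub_self]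

end Groth.Agent.H18
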