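import Groth.Prelude.Def_ArtFun2

/-!
Helper lemmas (helper18) on functors of Artin rings: lifting a compatible pair of maps out of an
augmented algebra to a pinned fibre product.
-/

set_option autoImplicit false
universe u v

open CategoryTheory

namespace Groth.Agent.H18

open ArtFun ArtFun.Art

variable {Λ : Type u} {k : Type u} [CommRing Λ] [Field k] [Algebra Λ k]

/-- A compatible pair of augmented maps `R → A'`, `R → A''` lifts to the pinned fibre product. -/
theorem fibreProd_exists_lift {B A A' A'' : Art Λ k} {p' : B ⟶ A'} {p'' : B ⟶ A''}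
    {f' : A' ⟶ A} {f'' : A'' ⟶ A} (h : IsFibreProd p' p'' f' f'')
    {R : Type u} [CommRing R] [Algebra Λ R] {resR : R →ₐ[Λ] k}
    (φ' : HomSet R resR A') (φ'' : HomSet R resR A'')
    (hφ : HomSet.map f' φ' = HomSet.map f'' φ'') :
    ∃ χ : HomSet R resR B, HomSet.map p' χ = φ' ∧ HomSet.map p'' χ = φ'' := by
  have hcompat : ∀ r : R, f' (φ'.1 r) = f'' (φ''.1 r) := fun r => by
    have := congrArg (fun ψ : HomSet R resR A => ψ.1 r) hφ
    exact this
  choose g hg1 hg2 using fun r => h.surj (φ'.1 r) (φ''.1 r) (hcompat r)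
  have huniq : ∀ (r : R) (b : B), p' b = φ'.1 r → p'' b = φ''.1 r → b = g r := fun r b h1 h2 =>
    h.inj _ _ (h1.trans (hg1 r).symm) (h2.trans (hg2 r).symm)
  let χ : R →ₐ[Λ] B :=
    { toFun := g
      map_one' := (huniq 1 1 (by simp) (by simp)).symm
      map_mul' := fun x y => (huniq (x * y) (g x * g y) (by simp [hg1]) (by simp [hg2])).symm
      map_zero' := (huniq 0 0 (by simp) (by simp)).symm
      map_add' := fun x y => (huniq (x + y) (g x + g y) (by simp [hg1]) (by simp [hg2])).symm
      commutes' := fun c => (huniq _ (algebraMap Λ B c) (by simp) (by simp)).symm }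
  have hχ : B.res.comp χ = resR := by
    apply AlgHom.ext
    intro r
    have h1 : B.res (g r) = A'.res (p' (g r)) := (Art.res_app p' (g r)).symm
    have h2 : A'.res (φ'.1 r) = resR r := by
      have := φ'.2
      exact congrArg (fun ψ : R →ₐ[Λ] k => ψ r) this
    change B.res (g r) = resR r
    rw [h1, hg1, h2]
  refine ⟨⟨χ, hχ⟩, ?_, ?_⟩
  · apply Subtype.ext
    apply AlgHom.ext
    intro r
    exact hg1 r
  · apply Subtype.ext
    apply AlgHom.ext
    intro r
    exact hg2 r

/-- Two augmented maps into a pinned fibre product with the same two projections are equal. -/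
theorem fibreProd_homSet_ext {B A A' A'' : Art Λ k} {p' : B ⟶ A'} {p'' : B ⟶ A''}
    {f' : A' ⟶ A} {f'' : A'' ⟶ A} (h : IsFibreProd p' p'' f' f'')
    {R : Type u} [CommRing R] [Algebra Λ R] {resR : R →ₐ[Λ] k}
    (χ₁ χ₂ : HomSet R resR B) (h1 : HomSet.map p' χ₁ = HomSet.map p' χ₂)
    (h2 : HomSet.map p'' χ₁ = HomSet.map p'' χ₂) : χ₁ = χ₂ := by
  apply Subtype.ext
  apply AlgHom.ext
  intro r
  apply h.inj
  · exact congrArg (fun ψ : HomSet R resR A' => ψ.1 r) h1
  · exact congrArg (fun ψ : HomSet R resR A'' => ψ.1 r) h2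

/-- The first projection of a pinned fibre product is surjective when the second structure map is. -/
theorem fibreProd_fst_surjective {B A A' A'' : Art Λ k} {p' : B ⟶ A'} {p'' : B ⟶ A''}
    {f' : A' ⟶ A} {f'' : A'' ⟶ A} (h : IsFibreProd p' p'' f' f'')
    (hf : Function.Surjective f'') : Function.Surjective p' := by
  intro a'
  obtain ⟨a'', ha''⟩ := hf (f' a')
  obtain ⟨b, hb, _⟩ := h.surj a' a'' ha''.symm
  exact ⟨b, hb⟩

end Groth.Agent.H18
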