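import Groth.Agent.Lib.helper18.ArtDualSep
import Groth.Agent.Lib.helper18.ArtComplete
import Mathlib.RingTheory.Nakayama
import Mathlib.RingTheory.AdicCompletion.Functoriality

/-!
Helper lemmas (helper18): separation of points by maps to the dual numbers over a general base `Λ`
with `Λ → k` surjective; a surjective endomorphism of a Noetherian ring is injective; an endomorphism
of a complete coefficient ring which is the identity on the tangent space is bijective.
-/

set_option autoImplicit false
universe u v

open CategoryTheory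

namespace Groth.Agent.H18

open ArtFun ArtFun.Art

/-- Morphisms to the dual numbers separate the points of an object with square-zero maximal ideal which is
killed by the kernel of `Λ → k`. -/
theorem dual_separates_gen {Λ k : Type u} [CommRing Λ] [Field k] [Algebra Λ k]
    (hk : Function.Surjective (algebraMap Λ k)) (T : Art Λ k)
    (hT : ∀ a b : T, T.res a = 0 → T.res b = 0 → a * b = 0)
    (hc : ∀ c : Λ, algebraMap Λ k c = 0 → algebraMap Λ T c = 0) (a b : T)
    (h : ∀ l : T ⟶ dual Λ k, l a = l b) : a = b := by
  let ι : k →+* T.carrier := (algebraMap Λ k).liftOfSurjective hk ⟨algebraMap Λ T.carrier, fun c hc' => by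
      rw [RingHom.mem_ker] at hc' ⊢; exact hc c hc'⟩
  have hι : ∀ c : Λ, ι (algebraMap Λ k c) = algebraMap Λ T.carrier c :=
    fun c => RingHom.liftOfSurjective_comp_apply _ hk _ c
  let algT : Algebra k T.carrier := ι.toAlgebra
  have hres : ∀ c : k, T.res (algebraMap k T.carrier c) = algebraMap k k c := by
    intro c
    obtain ⟨l, rfl⟩ := hk c
    show T.res (ι _) = _
    rw [hι]
    exact T.res.commutes l
  let T' : Art k k :=
    { carrier := T.carrier
      res := { T.res.toRingHom with commutes' := hres }
      res_surjective := T.res_surjective }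
  refine dual_separates T' hT a b ?_
  intro l'
  let lhom : T.carrier →ₐ[Λ] DualNumber k :=
    { l'.toAlgHom.toRingHom with
      commutes' := by
        intro c
        show l'.toAlgHom (algebraMap Λ T.carrier c) = algebraMap Λ (DualNumber k) c
        rw [← hι c]
        have h1 : l'.toAlgHom (algebraMap k T'.carrier (algebraMap Λ k c)) =
            algebraMap k (DualNumber k) (algebraMap Λ k c) := l'.toAlgHom.commutes _
        refine h1.trans ?_
        rw [TrivSqZeroExt.algebraMap_eq_inl', TrivSqZeroExt.algebraMap_eq_inl']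
        rfl }
  have hl : (dual Λ k).res.comp lhom = T.res := by
    apply AlgHom.ext
    intro t
    have := congrArg (fun χ : T'.carrier →ₐ[k] k => χ t) l'.res_comp
    exact this
  exact h ⟨lhom, hl⟩

/-- A surjective endomorphism of a Noetherian ring is injective. -/
theorem injective_of_surjective_ringEnd {R : Type u} [CommRing R] [IsNoetherianRing R] (α : R →+* R)
    (hα : Function.Surjective α) : Function.Injective α := by
  let K : ℕ →o Ideal R :=
    ⟨fun n => RingHom.ker (α ^ n), by
      intro m n hmn x hx
      rw [RingHom.mem_ker] at hx ⊢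
      obtain ⟨d, rfl⟩ := Nat.exists_eq_add_of_le hmn
      rw [add_comm, pow_add]
      show (α ^ d) ((α ^ m) x) = 0
      rw [hx, map_zero]⟩
  obtain ⟨n, hn⟩ := monotone_stabilizes_iff_noetherian.mpr inferInstance K
  rw [injective_iff_map_eq_zero]
  intro x hx
  have hsurj : Function.Surjective (α ^ n) := by
    rw [RingHom.coe_pow]
    exact hα.iterate n
  obtain ⟨y, rfl⟩ := hsurj x
  have h1 : y ∈ K (n + 1) := by
    show y ∈ RingHom.ker (α ^ (n + 1))
    rw [RingHom.mem_ker, pow_succ']
    exact hx
  rw [← hn (n + 1) (Nat.le_succ n)] at h1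
  exact h1

/-- An augmented endomorphism of a complete coefficient ring which induces the identity on all maps to the
dual numbers is bijective (when `Λ → k` is surjective). -/
theorem bijective_of_tangent_id {Λ k : Type u} [CommRing Λ] [Field k] [Algebra Λ k]
    (hk : Function.Surjective (algebraMap Λ k)) (R : CRing Λ k)
    (α : R.carrier →ₐ[Λ] R.carrier) (hα : R.res.comp α = R.res)
    (hid : ∀ u : HomSet R.carrier R.res (dual Λ k), u.1.comp α = u.1) : Function.Bijective α := by
  have hresα : ∀ x, R.res (α x) = R.res x := fun x => congrArg (fun χ : R.carrier →ₐ[Λ] k => χ x) hα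
  set m := IsLocalRing.maximalIdeal R.carrier with hm
  have hαm : Ideal.map α m ≤ m := by
    rw [Ideal.map_le_iff_le_comap]
    intro x hx
    rw [Ideal.mem_comap, hm, R.mem_maximalIdeal_iff, hresα]
    exact (R.mem_maximalIdeal_iff x).1 hx
  set I' : Ideal R.carrier := Ideal.map α m ⊔ m ^ 2 with hI'
  have hI'm : I' ≤ m := sup_le hαm (Ideal.pow_le_self two_ne_zero)
  have hI'top : I' ≠ ⊤ := fun h =>
    (IsLocalRing.maximalIdeal.isMaximal R.carrier).ne_top (top_le_iff.1 (h ▸ hI'm))
  have : Nontrivial (R.carrier ⧸ I') := Ideal.Quotient.nontrivial_iff.2 hI'top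
  have : IsLocalRing (R.carrier ⧸ I') :=
    IsLocalRing.of_surjective' (Ideal.Quotient.mk I') Ideal.Quotient.mk_surjective
  have hle2 : CRing.mpow R 1 ≤ I' := le_sup_right
  have : IsArtinianRing (R.carrier ⧸ I') :=
    have := CRing.isArtinianRing_quot_mpow R 1
    Function.Surjective.isArtinianRing (f := Ideal.Quotient.factor hle2) (Ideal.Quotient.factor_surjective hle2)
  let T : Art Λ k :=
    { carrier := R.carrier ⧸ I'
      res := Ideal.Quotient.liftₐ I' R.res (fun a ha => (R.mem_maximalIdeal_iff a).1 (hI'm ha))
      res_surjective := fun c => by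
        obtain ⟨a, ha⟩ := R.res_surjective c
        exact ⟨Ideal.Quotient.mk _ a, ha⟩ }
  have hTres : ∀ a : R.carrier, T.res (Ideal.Quotient.mk I' a) = R.res a := fun a => rfl
  have hT : ∀ a b : T, T.res a = 0 → T.res b = 0 → a * b = 0 := by
    intro a b ha hb
    obtain ⟨a', rfl⟩ := Ideal.Quotient.mk_surjective a
    obtain ⟨b', rfl⟩ := Ideal.Quotient.mk_surjective b
    rw [hTres] at ha hb
    have ha' : a' ∈ m := (R.mem_maximalIdeal_iff a').2 ha
    have hb' : b' ∈ m := (R.mem_maximalIdeal_iff b').2 hb
    show Ideal.Quotient.mk I' a' * Ideal.Quotient.mk I' b' = 0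
    rw [← map_mul, Ideal.Quotient.eq_zero_iff_mem]
    apply le_sup_right (a := Ideal.map α m)
    rw [pow_two]
    exact Ideal.mul_mem_mul ha' hb'
  have hc : ∀ c : Λ, algebraMap Λ k c = 0 → algebraMap Λ T c = 0 := by
    intro c hc0
    show Ideal.Quotient.mk I' (algebraMap Λ R.carrier c) = 0
    rw [Ideal.Quotient.eq_zero_iff_mem]
    apply le_sup_left (b := m ^ 2)
    have h1 : algebraMap Λ R.carrier c ∈ m := by
      rw [hm, R.mem_maximalIdeal_iff, AlgHom.commutes, hc0]
    have h2 := Ideal.mem_map_of_mem (α : R.carrier →+* R.carrier) h1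
    have h3 : α (algebraMap Λ R.carrier c) = algebraMap Λ R.carrier c := α.commutes c
    rw [← h3]
    exact h2
  let π : HomSet R.carrier R.res T := ⟨Ideal.Quotient.mkₐ Λ I', Ideal.Quotient.liftₐ_comp _ _ _⟩
  have hπ : ∀ r : R.carrier, Ideal.Quotient.mk I' (α r) = Ideal.Quotient.mk I' r := by
    intro r
    apply dual_separates_gen hk T hT hc
    intro l
    have := congrArg (fun χ : R.carrier →ₐ[Λ] (dual Λ k) => χ r) (hid (HomSet.map l π))
    exact this
  have hmI' : m ≤ I' := by
    intro r hr
    rw [← Ideal.Quotient.eq_zero_iff_mem, ← hπ r, Ideal.Quotient.eq_zero_iff_mem]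
    apply le_sup_left (b := m ^ 2)
    exact Ideal.mem_map_of_mem (α : R.carrier →+* R.carrier) hr
  have hmα : m ≤ Ideal.map α m := by
    apply Submodule.le_of_le_smul_of_le_jacobson_bot (I := m) (IsNoetherian.noetherian m)
    · rw [hm]
      exact IsLocalRing.maximalIdeal_le_jacobson ⊥
    · rw [smul_eq_mul, ← pow_two]
      exact hmI'
  have hmeq : Ideal.map (α : R.carrier →+* R.carrier) m = m := le_antisymm hαm hmα
  have hsurj : Function.Surjective (α : R.carrier →+* R.carrier) := by
    have : IsPrecomplete m R.carrier := R.isAdicComplete.toIsPrecomplete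
    have : IsHausdorff (Ideal.map (α : R.carrier →+* R.carrier) m) R.carrier := by
      rw [hmeq]; exact R.isAdicComplete.toIsHausdorff
    apply surjective_of_mk_map_comp_surjective (I := m) (α : R.carrier →+* R.carrier)
    intro y
    obtain ⟨r, rfl⟩ := Ideal.Quotient.mk_surjective y
    obtain ⟨c, hc'⟩ := hk (R.res r)
    refine ⟨algebraMap Λ R.carrier c, ?_⟩
    show Ideal.Quotient.mk _ (α (algebraMap Λ R.carrier c)) = Ideal.Quotient.mk _ r
    rw [α.commutes, Ideal.Quotient.eq, hmeq, hm, R.mem_maximalIdeal_iff, map_sub, AlgHom.commutes, hc',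
      sub_self]
  exact ⟨injective_of_surjective_ringEnd (α : R.carrier →+* R.carrier) hsurj, hsurj⟩

end Groth.Agent.H18
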