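import Mathlib

set_option autoImplicit false
universe u

namespace Groth.Agent.H18.BasisHom

section aux
open CategoryTheory TopologicalSpace Opposite

variable {X Y : TopCat.{u}}

lemma map_map' (P : TopCat.Presheaf (Type u) X) {A B C : Opens X} (a : A ⟶ B) (b : B ⟶ C)
    (c : A ⟶ C) (s : P.obj (op C)) : P.map a.op (P.map b.op s) = P.map c.op s := by
  have : c = a ≫ b := Subsingleton.elim _ _
  rw [this, op_comp, P.map_comp]; rfl

lemma map_id' (P : TopCat.Presheaf (Type u) X) {A : Opens X} (a : A ⟶ A)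
    (s : P.obj (op A)) : P.map a.op s = s := by
  have : a = 𝟙 A := Subsingleton.elim _ _
  rw [this, op_id, P.map_id]; rfl

lemma eq_of_basis (F : X.Sheaf (Type u)) {BX : Set (Opens X)} (hBX : Opens.IsBasis BX)
    {W : Opens X} (s t : F.presheaf.obj (op W))
    (h : ∀ (U : BX) (hU : (U : Opens X) ≤ W),
      F.presheaf.map (homOfLE hU).op s = F.presheaf.map (homOfLE hU).op t) : s = t := by
  apply F.eq_of_locally_eq' (fun i : {U : BX // (U : Opens X) ≤ W} => (i.1 : Opens X)) W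
    (fun i => homOfLE i.2)
  · intro x hx
    obtain ⟨U', hU', hxU', hle⟩ := Opens.isBasis_iff_nbhd.mp hBX hx
    exact Opens.mem_iSup.mpr ⟨⟨⟨U', hU'⟩, hle⟩, hxU'⟩
  · intro i; exact h i.1 i.2

lemma glue (F : X.Sheaf (Type u)) {BX : Set (Opens X)} (hBX : Opens.IsBasis BX)
    {W : Opens X}
    (sf : ∀ (U : BX), (U : Opens X) ≤ W → F.presheaf.obj (op (U : Opens X)))
    (hsf : ∀ (U U' : BX) (hU : (U : Opens X) ≤ W) (hU' : (U' : Opens X) ≤ W)
      (hle : (U' : Opens X) ≤ U), F.presheaf.map (homOfLE hle).op (sf U hU) = sf U' hU') :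
    ∃ s : F.presheaf.obj (op W), ∀ (U : BX) (hU : (U : Opens X) ≤ W),
      F.presheaf.map (homOfLE hU).op s = sf U hU := by
  have hcompat : TopCat.Presheaf.IsCompatible F.1
      (fun i : {U : BX // (U : Opens X) ≤ W} => (i.1 : Opens X)) (fun i => sf i.1 i.2) := by
    intro i j
    apply eq_of_basis F hBX
    intro U'' hU''
    have h1 : (U'' : Opens X) ≤ i.1 := hU''.trans inf_le_left
    have h2 : (U'' : Opens X) ≤ j.1 := hU''.trans inf_le_right
    have e1 := map_map' F.1 (homOfLE hU'') (Opens.infLELeft (i.1 : Opens X) (j.1 : Opens X))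
      (homOfLE h1) (sf i.1 i.2)
    have e2 := map_map' F.1 (homOfLE hU'') (Opens.infLERight (i.1 : Opens X) (j.1 : Opens X))
      (homOfLE h2) (sf j.1 j.2)
    refine e1.trans ?_
    refine Eq.trans ?_ e2.symm
    exact (hsf i.1 U'' i.2 (h1.trans i.2) h1).trans (hsf j.1 U'' j.2 (h1.trans i.2) h2).symm
  obtain ⟨s, hs, -⟩ := F.existsUnique_gluing'
    (fun i : {U : BX // (U : Opens X) ≤ W} => (i.1 : Opens X)) W (fun i => homOfLE i.2)
    (by
      intro x hx
      obtain ⟨U', hU', hxU', hle⟩ := Opens.isBasis_iff_nbhd.mp hBX hx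
      exact Opens.mem_iSup.mpr ⟨⟨⟨U', hU'⟩, hle⟩, hxU'⟩)
    (fun i => sf i.1 i.2) hcompat
  exact ⟨s, fun U hU => hs ⟨U, hU⟩⟩

end aux

end Groth.Agent.H18.BasisHom
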