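import Mathlib

set_option autoImplicit false
set_option linter.unusedSectionVars false
open CategoryTheory CategoryTheory.Limits Opposite

namespace Groth.Agent.H18.Cech

universe u

variable {D : Type u} [SmallCategory D]

/-- the additive presheaf `V ↦ ℤ[Hom(incl V, Z)]` attached to a formal coproduct -/
noncomputable def L : FormalCoproduct.{u} D ⥤ (Dᵒᵖ ⥤ AddCommGrpCat.{u}) :=
  yoneda ⋙ (Functor.whiskeringLeft _ _ _).obj (FormalCoproduct.incl D).op ⋙
    (Functor.whiskeringRight _ _ _).obj AddCommGrpCat.free.{u}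

lemma L_obj_obj (Z : FormalCoproduct.{u} D) (V : Dᵒᵖ) :
    (L.obj Z).obj V = AddCommGrpCat.free.obj ((FormalCoproduct.incl D).obj V.unop ⟶ Z) := rfl

lemma L_obj_map_of (Z : FormalCoproduct.{u} D) {V V' : Dᵒᵖ} (g : V ⟶ V')
    (h : (FormalCoproduct.incl D).obj V.unop ⟶ Z) :
    ((L.obj Z).map g).hom (FreeAbelianGroup.of h) =
      FreeAbelianGroup.of ((FormalCoproduct.incl D).map g.unop ≫ h) := by
  change FreeAbelianGroup.map _ (FreeAbelianGroup.of h) = _
  rw [FreeAbelianGroup.map_of_apply]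
  rfl

lemma L_map_app_of {Z Z' : FormalCoproduct.{u} D} (f : Z ⟶ Z') (V : Dᵒᵖ)
    (h : (FormalCoproduct.incl D).obj V.unop ⟶ Z) :
    ((L.map f).app V).hom (FreeAbelianGroup.of h) = FreeAbelianGroup.of (h ≫ f) := by
  change FreeAbelianGroup.map _ (FreeAbelianGroup.of h) = _
  rw [FreeAbelianGroup.map_of_apply]
  rfl

/-- the generator of `L Z` at `Z.obj i` -/
noncomputable def gen (Z : FormalCoproduct.{u} D) (i : Z.I) : (L.obj Z).obj (op (Z.obj i)) :=
  FreeAbelianGroup.of (FormalCoproduct.Hom.fromIncl i (𝟙 _))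

variable (P : Dᵒᵖ ⥤ AddCommGrpCat.{u})

/-- evaluation at a generator -/
noncomputable def evalAt (Z : FormalCoproduct.{u} D) (i : Z.I) :
    (L.obj Z ⟶ P) →+ P.obj (op (Z.obj i)) where
  toFun α := (α.app (op (Z.obj i))).hom (gen Z i)
  map_zero' := rfl
  map_add' _ _ := rfl

lemma hom_eq (Z : FormalCoproduct.{u} D) {V : D} (h : (FormalCoproduct.incl D).obj V ⟶ Z) :
    h = (FormalCoproduct.incl D).map (h.φ PUnit.unit) ≫
      FormalCoproduct.Hom.fromIncl (h.f PUnit.unit) (𝟙 _) := by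
  refine FormalCoproduct.hom_ext ?_ ?_
  · funext x
    rfl
  · intro x
    cases x
    simp
    rfl

lemma app_of (Z : FormalCoproduct.{u} D) (α : L.obj Z ⟶ P) {V : D}
    (h : (FormalCoproduct.incl D).obj V ⟶ Z) :
    (α.app (op V)).hom (FreeAbelianGroup.of h) =
      (P.map (h.φ PUnit.unit).op).hom (evalAt P Z (h.f PUnit.unit) α) := by
  have h1 := ConcreteCategory.congr_hom (α.naturality (h.φ PUnit.unit).op) (gen Z (h.f PUnit.unit))
  rw [ConcreteCategory.comp_apply, ConcreteCategory.comp_apply] at h1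
  refine Eq.trans ?_ h1
  congr 1
  rw [gen, L_obj_map_of]
  congr 1
  exact hom_eq Z h

/-- the natural transformation attached to a family of sections -/
noncomputable def ofFamily (Z : FormalCoproduct.{u} D) (s : ∀ i, P.obj (op (Z.obj i))) :
    L.obj Z ⟶ P where
  app V := AddCommGrpCat.ofHom (FreeAbelianGroup.lift
    (fun h : ((FormalCoproduct.incl D).obj V.unop ⟶ Z) =>
      (P.map (h.φ PUnit.unit).op).hom (s (h.f PUnit.unit))))
  naturality V V' g := by
    apply AddCommGrpCat.hom_ext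
    apply FreeAbelianGroup.lift_ext
    intro (h : (FormalCoproduct.incl D).obj V.unop ⟶ Z)
    change FreeAbelianGroup.lift _ (((L.obj Z).map g).hom (FreeAbelianGroup.of h)) =
      (P.map g).hom (FreeAbelianGroup.lift _ (FreeAbelianGroup.of h))
    rw [L_obj_map_of, FreeAbelianGroup.lift_apply_of, FreeAbelianGroup.lift_apply_of]
    change (P.map (g.unop ≫ h.φ PUnit.unit).op).hom _ = _
    rw [op_comp, P.map_comp]
    rfl

lemma evalAt_ofFamily (Z : FormalCoproduct.{u} D) (s : ∀ i, P.obj (op (Z.obj i))) (i : Z.I) :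
    evalAt P Z i (ofFamily P Z s) = s i := by
  change FreeAbelianGroup.lift _ (FreeAbelianGroup.of _) = _
  rw [FreeAbelianGroup.lift_apply_of]
  change (P.map (𝟙 (Z.obj i)).op).hom (s i) = s i
  rw [op_id, P.map_id]
  rfl

/-- morphisms `L Z ⟶ P` are families of sections -/
noncomputable def homEquiv (Z : FormalCoproduct.{u} D) :
    (L.obj Z ⟶ P) ≃+ (∀ i, P.obj (op (Z.obj i))) where
  toFun α i := evalAt P Z i α
  invFun s := ofFamily P Z s
  left_inv α := by
    apply NatTrans.ext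
    funext V
    apply AddCommGrpCat.hom_ext
    apply FreeAbelianGroup.lift_ext
    intro (h : (FormalCoproduct.incl D).obj V.unop ⟶ Z)
    change FreeAbelianGroup.lift _ (FreeAbelianGroup.of h) = _
    rw [FreeAbelianGroup.lift_apply_of]
    exact (app_of P Z α h).symm
  right_inv s := by
    funext i
    exact evalAt_ofFamily P Z s i
  map_add' α β := rfl


/-- the value of `evalOp P` at `Z` -/
noncomputable abbrev EV (Z : FormalCoproduct.{u} D) : AddCommGrpCat.{u} :=
  ∏ᶜ fun i : Z.I => P.obj (op (Z.obj i))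

/-- the action of `evalOp P` on morphisms -/
noncomputable def EVmap {Z Z' : FormalCoproduct.{u} D} (g : Z' ⟶ Z) : EV P Z ⟶ EV P Z' :=
  Pi.lift fun i' => Pi.π (fun i : Z.I => P.obj (op (Z.obj i))) (g.f i') ≫ P.map (g.φ i').op

lemma evalOp_obj (Z : FormalCoproduct.{u} D) :
    ((FormalCoproduct.evalOp.{u} D AddCommGrpCat.{u}).obj P).obj (op Z) = EV P Z := rfl

lemma evalOp_map {Z Z' : FormalCoproduct.{u} D} (g : Z' ⟶ Z) :
    ((FormalCoproduct.evalOp.{u} D AddCommGrpCat.{u}).obj P).map g.op = EVmap P g := rfl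

/-- the projection -/
noncomputable def pr (Z : FormalCoproduct.{u} D) (i : Z.I) : EV P Z →+ P.obj (op (Z.obj i)) :=
  (Pi.π (fun i : Z.I => P.obj (op (Z.obj i))) i).hom

lemma pr_EVmap {Z Z' : FormalCoproduct.{u} D} (g : Z' ⟶ Z) (x : EV P Z) (i' : Z'.I) :
    pr P Z' i' ((EVmap P g).hom x) = (P.map (g.φ i').op).hom (pr P Z (g.f i') x) := by
  have h1 : EVmap P g ≫ Pi.π (fun i : Z'.I => P.obj (op (Z'.obj i))) i' =
      Pi.π (fun i : Z.I => P.obj (op (Z.obj i))) (g.f i') ≫ P.map (g.φ i').op :=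
    Pi.lift_π _ _
  exact ConcreteCategory.congr_hom h1 x

/-- an element of `EV P Z` from a family -/
noncomputable def toEV (Z : FormalCoproduct.{u} D) (s : ∀ i, P.obj (op (Z.obj i))) : EV P Z :=
  (Concrete.productEquiv (fun i : Z.I => P.obj (op (Z.obj i)))).symm s

lemma pr_toEV (Z : FormalCoproduct.{u} D) (s : ∀ i, P.obj (op (Z.obj i))) (i : Z.I) :
    pr P Z i (toEV P Z s) = s i :=
  Concrete.productEquiv_symm_apply_π _ _ _

lemma EV_ext {Z : FormalCoproduct.{u} D} (x y : EV P Z) (h : ∀ i, pr P Z i x = pr P Z i y) :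
    x = y := by
  apply (Concrete.productEquiv (fun i : Z.I => P.obj (op (Z.obj i)))).injective
  funext i
  rw [Concrete.productEquiv_apply_apply, Concrete.productEquiv_apply_apply]
  exact h i

lemma toEV_pr (Z : FormalCoproduct.{u} D) (x : EV P Z) : toEV P Z (fun i => pr P Z i x) = x :=
  EV_ext P _ _ (fun i => pr_toEV P Z _ i)

/-- morphisms `L Z ⟶ P` as elements of `evalOp P` at `Z` -/
noncomputable def e (Z : FormalCoproduct.{u} D) : (L.obj Z ⟶ P) ≃+ EV P Z where
  toFun α := toEV P Z (fun i => evalAt P Z i α)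
  invFun x := ofFamily P Z (fun i => pr P Z i x)
  left_inv α := by
    have h : (fun i => pr P Z i (toEV P Z (fun i => evalAt P Z i α))) = homEquiv P Z α := by
      funext i
      exact pr_toEV P Z _ i
    change ofFamily P Z (fun i => pr P Z i (toEV P Z (fun i => evalAt P Z i α))) = α
    rw [h]
    exact (homEquiv P Z).symm_apply_apply α
  right_inv x := by
    apply EV_ext
    intro i
    rw [pr_toEV]
    exact evalAt_ofFamily P Z _ i
  map_add' α β := by
    apply EV_ext
    intro i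
    rw [pr_toEV, map_add, map_add, pr_toEV, pr_toEV]

lemma pr_e (Z : FormalCoproduct.{u} D) (α : L.obj Z ⟶ P) (i : Z.I) :
    pr P Z i (e P Z α) = evalAt P Z i α := pr_toEV P Z _ i

/-- naturality of `e` in the formal coproduct -/
lemma e_naturality {Z Z' : FormalCoproduct.{u} D} (g : Z' ⟶ Z) (α : L.obj Z ⟶ P) :
    (EVmap P g).hom (e P Z α) = e P Z' (L.map g ≫ α) := by
  apply EV_ext
  intro i'
  rw [pr_EVmap, pr_e, pr_e]
  change _ = ((L.map g ≫ α).app (op (Z'.obj i'))).hom (gen Z' i')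
  rw [NatTrans.comp_app]
  change _ = (α.app (op (Z'.obj i'))).hom (((L.map g).app (op (Z'.obj i'))).hom (gen Z' i'))
  rw [gen, L_map_app_of, app_of]
  change _ = (P.map (𝟙 _ ≫ g.φ i').op).hom _
  rw [Category.id_comp]
  rfl

end Groth.Agent.H18.Cech
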