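import Groth.Agent.Lib.helper18.Cech9

set_option autoImplicit false
set_option linter.unusedSectionVars false
open CategoryTheory CategoryTheory.Limits CategoryTheory.Abelian Opposite

namespace Groth.Agent.H18.Cech

universe u

section sections

variable {C : Type u} [SmallCategory C] {J : GrothendieckTopology C}
  {S : ShortComplex (Sheaf J AddCommGrpCat.{u})} (hS : S.ShortExact) (V : C)

include hS in
lemma sections_injective : Function.Injective (S.f.hom.app (op V)).hom := by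
  have := hS.mono_f
  rw [injective_iff_map_eq_zero]
  intro (y : S.X₁.obj.obj (op V)) (hy : (S.f.hom.app (op V)).hom y = 0)
  have h0 : CohFree.ofSect J V S.X₁ y ≫ S.f = 0 := by
    rw [ofSect_comp', hy]
    apply (CohFree.homEquivSect J V S.X₂).injective
    rw [CohFree.homEquivSect_apply, CohFree.evalGen_ofSect, map_zero]
  have h1 : CohFree.ofSect J V S.X₁ y = 0 := by
    rw [← cancel_mono S.f, h0, zero_comp]
  have h2 := CohFree.evalGen_ofSect J V S.X₁ y
  rw [h1] at h2
  rw [← h2, map_zero]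

include hS in
lemma sections_exact (x : S.X₂.obj.obj (op V)) (hx : (S.g.hom.app (op V)).hom x = 0) :
    ∃ y, (S.f.hom.app (op V)).hom y = x := by
  have := hS.mono_f
  have h0 : CohFree.ofSect J V S.X₂ x ≫ S.g = 0 := by
    rw [ofSect_comp', hx]
    apply (CohFree.homEquivSect J V S.X₃).injective
    rw [CohFree.homEquivSect_apply, CohFree.evalGen_ofSect, map_zero]
  refine ⟨CohFree.evalGen J V S.X₁ (hS.exact.lift _ h0), ?_⟩
  rw [← evalGen_comp', hS.exact.lift_f, CohFree.evalGen_ofSect]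

end sections

section EVleft

variable {D : Type u} [SmallCategory D] {P₁ P₂ P₃ : Dᵒᵖ ⥤ AddCommGrpCat.{u}}
  (f : P₁ ⟶ P₂) (g : P₂ ⟶ P₃) (Z : FormalCoproduct.{u} D)

lemma EVnat_injective (h : ∀ i : Z.I, Function.Injective (f.app (op (Z.obj i))).hom) :
    Function.Injective (EVnat f Z).hom := by
  rw [injective_iff_map_eq_zero]
  intro x hx
  apply EV_ext
  intro i
  rw [pr_zero]
  apply h i
  rw [← pr_EVnat, hx, pr_zero, map_zero]

lemma EVnat_exact
    (h : ∀ (i : Z.I) (y : P₂.obj (op (Z.obj i))), (g.app (op (Z.obj i))).hom y = 0 →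
      ∃ x, (f.app (op (Z.obj i))).hom x = y)
    (y : EV P₂ Z) (hy : (EVnat g Z).hom y = 0) : ∃ x, (EVnat f Z).hom x = y := by
  have h1 : ∀ i, ∃ x, (f.app (op (Z.obj i))).hom x = pr P₂ Z i y := fun i => by
    apply h
    rw [← pr_EVnat, hy, pr_zero]
  choose x hx using h1
  refine ⟨toEV P₁ Z x, ?_⟩
  apply EV_ext
  intro i
  rw [pr_EVnat, pr_toEV, hx]

end EVleft


section surj

variable {C : Type u} [SmallCategory C] {J : GrothendieckTopology C}
  [HasExt.{u} (Sheaf J AddCommGrpCat.{u})]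
  {D : Type u} [SmallCategory D] [HasFiniteProducts D] {Φ : D ⥤ C} {ι : Type u} {Y : ι → D}
  {U : C} {y : ∀ i, Φ.obj (Y i) ⟶ U}
  {S : ShortComplex (Sheaf J AddCommGrpCat.{u})} (hS : S.ShortExact)

include hS in
lemma CFmap_f_injective (n : ℕ) : Function.Injective ((CFmap Φ Y S.f).f n).hom :=
  EVnat_injective ((Rr Φ).map S.f) _ (fun _ => sections_injective hS _)

include hS in
lemma CFmap_exact (n : ℕ) (x : (CF Φ Y S.X₂).X n) (hx : ((CFmap Φ Y S.g).f n).hom x = 0) :
    ∃ c, ((CFmap Φ Y S.f).f n).hom c = x :=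
  EVnat_exact ((Rr Φ).map S.f) ((Rr Φ).map S.g) _ (fun _ => sections_exact hS _) x hx

lemma CFmap_comp_zero (S : ShortComplex (Sheaf J AddCommGrpCat.{u})) :
    CFmap Φ Y S.f ≫ CFmap Φ Y S.g = 0 := by
  dsimp only [CFmap]
  rw [← Functor.map_comp, ← Functor.map_comp, S.zero, Functor.map_zero, Functor.map_zero]

lemma comm_apply {K L : CochainComplex AddCommGrpCat.{u} ℕ} (φ : K ⟶ L) (i j : ℕ) (x : K.X i) :
    (L.d i j).hom ((φ.f i).hom x) = (φ.f j).hom ((K.d i j).hom x) := by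
  have := ConcreteCategory.congr_hom (φ.comm i j) x
  rw [ConcreteCategory.comp_apply, ConcreteCategory.comp_apply] at this
  exact this

lemma d_d_apply (K : CochainComplex AddCommGrpCat.{u} ℕ) (i j k : ℕ) (x : K.X i) :
    (K.d j k).hom ((K.d i j).hom x) = 0 := by
  have := ConcreteCategory.congr_hom (K.d_comp_d i j k) x
  rw [ConcreteCategory.comp_apply] at this
  exact this

include hS in
/-- surjectivity on sections from the vanishing of the first Čech cohomology group -/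
theorem surj_of_cech_h1 (hF2 : ∀ F : Sheaf J AddCommGrpCat.{u}, F2 Φ Y y F)
    (hH1 : IsZero ((CF Φ Y S.X₁).homology 1))
    (t : S.X₃.obj.obj (op U)) (s' : (CF Φ Y S.X₂).X 0)
    (hs' : ((CFmap Φ Y S.g).f 0).hom s' = (aug Φ Y y S.X₃).hom t) :
    ∃ s : S.X₂.obj.obj (op U), (S.g.hom.app (op U)).hom s = t := by
  -- step 1
  have h1 : ((CFmap Φ Y S.g).f 1).hom (((CF Φ Y S.X₂).d 0 1).hom s') = 0 := by
    rw [← comm_apply, hs']
    have := ConcreteCategory.congr_hom (hF2 S.X₃).w t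
    rw [ConcreteCategory.comp_apply] at this
    exact this
  obtain ⟨c, hc⟩ := CFmap_exact hS 1 _ h1
  have h3 : ((CF Φ Y S.X₁).d 1 2).hom c = 0 := by
    apply CFmap_f_injective hS 2
    rw [← comm_apply, hc, d_d_apply, map_zero]
  have hex : (CF Φ Y S.X₁).ExactAt 1 := (HomologicalComplex.exactAt_iff_isZero_homology _ _).2 hH1
  rw [HomologicalComplex.exactAt_iff' (CF Φ Y S.X₁) 0 1 2 (by simp) (by simp),
    ShortComplex.ab_exact_iff] at hex
  obtain ⟨e, he⟩ := hex c h3
  have he' : ((CF Φ Y S.X₁).d 0 1).hom e = c := he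
  have h5 : ((CF Φ Y S.X₂).d 0 1).hom (s' - ((CFmap Φ Y S.f).f 0).hom e) = 0 := by
    rw [map_sub, comm_apply, he', hc, sub_self]
  obtain ⟨s, hs⟩ := (hF2 S.X₂).ex _ h5
  refine ⟨s, ?_⟩
  apply (hF2 S.X₃).inj
  have h7 := ConcreteCategory.congr_hom (aug_naturality Φ Y y S.g) s
  rw [ConcreteCategory.comp_apply, ConcreteCategory.comp_apply] at h7
  rw [← h7, hs, map_sub, hs']
  have h8 : ((CFmap Φ Y S.g).f 0).hom (((CFmap Φ Y S.f).f 0).hom e) = 0 :=
    congrArg (fun φ : CF Φ Y S.X₁ ⟶ CF Φ Y S.X₃ => (φ.f 0).hom e)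
      (CFmap_comp_zero (Φ := Φ) (Y := Y) S)
  rw [h8, sub_zero]

end surj

end Groth.Agent.H18.Cech
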