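import Groth.Agent.Lib.helper18.Cech11

set_option autoImplicit false
set_option linter.unusedSectionVars false
open CategoryTheory CategoryTheory.Limits CategoryTheory.Abelian Opposite

namespace Groth.Agent.H18.Cech

universe u

variable {D : Type u} [SmallCategory D] [HasFiniteProducts D] (P : Dᵒᵖ ⥤ AddCommGrpCat.{u})
  {ι : Type u} (Y : ι → D)

omit [HasFiniteProducts D] in
lemma map_map_apply {A B E : D} (f : A ⟶ B) (g : B ⟶ E) (h : A ⟶ E) (hh : f ≫ g = h)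
    (z : P.obj (op E)) : (P.map f.op).hom ((P.map g.op).hom z) = (P.map h.op).hom z := by
  subst hh
  have h1 : P.map g.op ≫ P.map f.op = P.map (f ≫ g).op := by rw [← P.map_comp, ← op_comp]
  exact ConcreteCategory.congr_hom h1 z

omit [HasFiniteProducts D] in
lemma map_id_apply {A : D} (f : A ⟶ A) (hf : f = 𝟙 A) (z : P.obj (op A)) :
    (P.map f.op).hom z = z := by
  subst hf
  rw [op_id, P.map_id]
  rfl

/-- the diagonal `Y i ⟶ ∏ (Y ∘ const i)` -/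
noncomputable def ll (i : ι) : Y i ⟶ ∏ᶜ (Y ∘ (fun _ : Fin 1 => i)) := Pi.lift (fun _ => 𝟙 (Y i))

lemma ll_π (i : ι) : ll Y i ≫ Pi.π (Y ∘ (fun _ : Fin 1 => i)) 0 = 𝟙 (Y i) := Pi.lift_π _ _

lemma π_ll (i : ι) : Pi.π (Y ∘ (fun _ : Fin 1 => i)) 0 ≫ ll Y i = 𝟙 _ := by
  apply Pi.hom_ext
  intro k
  obtain rfl : k = 0 := Subsingleton.elim (α := Fin 1) k 0
  rw [Category.assoc, ll_π]
  exact (Category.comp_id _).trans (Category.id_comp _).symm

/-- the `i`-th component of a degree zero cochain -/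
noncomputable def comp0 (i : ι) (x : EV P ((FormalCoproduct.mk ι Y).power (Fin 1))) :
    P.obj (op (Y i)) :=
  (P.map (ll Y i).op).hom (pr P ((FormalCoproduct.mk ι Y).power (Fin 1)) (fun _ => i) x)

lemma comp0_zero (i : ι) : comp0 P Y i 0 = 0 :=
  (congrArg (P.map (ll Y i).op).hom
    (pr_zero P ((FormalCoproduct.mk ι Y).power (Fin 1)) (fun _ => i))).trans (map_zero _)

lemma pr_eq (x : EV P ((FormalCoproduct.mk ι Y).power (Fin 1))) (a : Fin 1 → ι) :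
    pr P ((FormalCoproduct.mk ι Y).power (Fin 1)) a x =
      (P.map (Pi.π (Y ∘ a) 0).op).hom (comp0 P Y (a 0) x) := by
  obtain ⟨i, rfl⟩ : ∃ i, a = fun _ => i :=
    ⟨a 0, funext fun k => by rw [Subsingleton.elim (α := Fin 1) k 0]⟩
  exact ((map_map_apply P _ _ _ (π_ll Y i) _).trans (map_id_apply P _ rfl _)).symm

lemma pr_d0' (x : EV P ((FormalCoproduct.mk ι Y).power (Fin 1))) (b : Fin 2 → ι) :
    pr P ((FormalCoproduct.mk ι Y).power (Fin 2)) b ((d0 P (FormalCoproduct.mk ι Y)).hom x) =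
      (P.map (Pi.π (Y ∘ b) 1).op).hom (comp0 P Y (b 1) x) -
      (P.map (Pi.π (Y ∘ b) 0).op).hom (comp0 P Y (b 0) x) := by
  rw [pr_d0, pr_eq, pr_eq]
  congr 1
  · exact map_map_apply P _ _ _ (Pi.lift_π _ _) _
  · exact map_map_apply P _ _ _ (Pi.lift_π _ _) _


section F2

variable {C : Type u} [SmallCategory C] {J : GrothendieckTopology C}
  [HasExt.{u} (Sheaf J AddCommGrpCat.{u})]
  (Φ : D ⥤ C) {U : C} (y : ∀ i, Φ.obj (Y i) ⟶ U) (F : Sheaf J AddCommGrpCat.{u})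

lemma comp0_aug (s : F.obj.obj (op U)) (i : ι) :
    comp0 (Φ.op ⋙ F.obj) Y i ((aug' Φ Y y F).hom s) = (F.obj.map (y i).op).hom s := by
  rw [comp0, pr_aug']
  change (F.obj.map (Φ.map (ll Y i)).op).hom _ = _
  rw [← ConcreteCategory.comp_apply, ← F.obj.map_comp, ← op_comp, ← Category.assoc,
    ← Φ.map_comp]
  erw [ll_π]
  rw [Φ.map_id, Category.id_comp]


lemma pr_d0_aug (hw : ∀ b : Fin 2 → ι,
      Φ.map (Pi.π (Y ∘ b) 0) ≫ y (b 0) = Φ.map (Pi.π (Y ∘ b) 1) ≫ y (b 1))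
    (s : F.obj.obj (op U)) (b : Fin 2 → ι) :
    pr (Φ.op ⋙ F.obj) ((FormalCoproduct.mk ι Y).power (Fin 2)) b
      ((d0 (Φ.op ⋙ F.obj) (FormalCoproduct.mk ι Y)).hom ((aug' Φ Y y F).hom s)) = 0 := by
  have h1 := pr_d0' (Φ.op ⋙ F.obj) Y ((aug' Φ Y y F).hom s) b
  have h2 : (F.obj.map (Φ.map (Pi.π (Y ∘ b) 1)).op).hom ((F.obj.map (y (b 1)).op).hom s) =
      (F.obj.map (Φ.map (Pi.π (Y ∘ b) 0)).op).hom ((F.obj.map (y (b 0)).op).hom s) := by
    rw [← ConcreteCategory.comp_apply, ← ConcreteCategory.comp_apply, ← F.obj.map_comp,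
      ← F.obj.map_comp, ← op_comp, ← op_comp, hw b]
  have h3 : (F.obj.map (Φ.map (Pi.π (Y ∘ b) 1)).op).hom
        (comp0 (Φ.op ⋙ F.obj) Y (b 1) ((aug' Φ Y y F).hom s)) -
      (F.obj.map (Φ.map (Pi.π (Y ∘ b) 0)).op).hom
        (comp0 (Φ.op ⋙ F.obj) Y (b 0) ((aug' Φ Y y F).hom s)) = 0 := by
    rw [comp0_aug, comp0_aug]
    exact sub_eq_zero.mpr h2
  exact h1.trans h3

/-- a criterion for the sheaf condition in degree zero -/
theorem F2_of
    (hw : ∀ b : Fin 2 → ι,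
      Φ.map (Pi.π (Y ∘ b) 0) ≫ y (b 0) = Φ.map (Pi.π (Y ∘ b) 1) ≫ y (b 1))
    (hinj : ∀ s : F.obj.obj (op U), (∀ i, (F.obj.map (y i).op).hom s = 0) → s = 0)
    (hex : ∀ t : ∀ i, F.obj.obj (op (Φ.obj (Y i))),
      (∀ b : Fin 2 → ι, (F.obj.map (Φ.map (Pi.π (Y ∘ b) 0)).op).hom (t (b 0)) =
        (F.obj.map (Φ.map (Pi.π (Y ∘ b) 1)).op).hom (t (b 1))) →
      ∃ s : F.obj.obj (op U), ∀ i, (F.obj.map (y i).op).hom s = t i) :
    F2 Φ Y y F := by
  have hd0 : ∀ s : F.obj.obj (op U),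
      (d0 (Φ.op ⋙ F.obj) (FormalCoproduct.mk ι Y)).hom ((aug' Φ Y y F).hom s) = 0 := by
    intro s
    apply EV_ext
    intro b
    exact (pr_d0_aug Y Φ y F hw s b).trans
      (pr_zero (Φ.op ⋙ F.obj) ((FormalCoproduct.mk ι Y).power (Fin 2)) b).symm
  refine ⟨?_, ?_, ?_⟩
  · have h : aug' Φ Y y F ≫ d0 (Φ.op ⋙ F.obj) (FormalCoproduct.mk ι Y) = 0 := by
      apply AddCommGrpCat.hom_ext
      apply AddMonoidHom.ext
      intro s
      exact hd0 s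
    exact (congrArg (fun t => aug' Φ Y y F ≫ t)
      (CC_d0 (Φ.op ⋙ F.obj) (FormalCoproduct.mk ι Y))).trans h
  · change Function.Injective (aug' Φ Y y F).hom
    rw [injective_iff_map_eq_zero]
    intro s hs
    apply hinj
    intro i
    have h1 := comp0_aug Y Φ y F s i
    have h2 : comp0 (Φ.op ⋙ F.obj) Y i ((aug' Φ Y y F).hom s) = 0 :=
      (congrArg (comp0 (Φ.op ⋙ F.obj) Y i) hs).trans (comp0_zero (Φ.op ⋙ F.obj) Y i)
    exact h1.symm.trans h2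
  · intro x hx
    have hx' : (d0 (Φ.op ⋙ F.obj) (FormalCoproduct.mk ι Y)).hom x = 0 :=
      (congrArg (fun t : EV (Φ.op ⋙ F.obj) ((FormalCoproduct.mk ι Y).power (Fin 1)) ⟶
        EV (Φ.op ⋙ F.obj) ((FormalCoproduct.mk ι Y).power (Fin 2)) => t.hom x)
        (CC_d0 (Φ.op ⋙ F.obj) (FormalCoproduct.mk ι Y))).symm.trans hx
    obtain ⟨s, hs⟩ := hex (fun i => comp0 (Φ.op ⋙ F.obj) Y i x) (fun b => by
      have h1 := congrArg (pr (Φ.op ⋙ F.obj) ((FormalCoproduct.mk ι Y).power (Fin 2)) b) hx'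
      have h2 := (pr_d0' (Φ.op ⋙ F.obj) Y x b).symm.trans
        (h1.trans (pr_zero (Φ.op ⋙ F.obj) ((FormalCoproduct.mk ι Y).power (Fin 2)) b))
      exact (sub_eq_zero.mp h2).symm)
    refine ⟨s, ?_⟩
    change (aug' Φ Y y F).hom s = x
    apply EV_ext
    intro (a : Fin 1 → ι)
    have h1 := pr_aug' Φ Y y F s a
    have h2 := pr_eq (Φ.op ⋙ F.obj) Y x a
    have h3 : (F.obj.map (Φ.map (Pi.π (Y ∘ a) 0)).op).hom ((F.obj.map (y (a 0)).op).hom s) =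
        (F.obj.map (Φ.map (Pi.π (Y ∘ a) 0) ≫ y (a 0)).op).hom s := by
      rw [← ConcreteCategory.comp_apply, ← F.obj.map_comp, ← op_comp]
    have h4 : (F.obj.map (Φ.map (Pi.π (Y ∘ a) 0)).op).hom
        (comp0 (Φ.op ⋙ F.obj) Y (a 0) x) =
        (F.obj.map (Φ.map (Pi.π (Y ∘ a) 0)).op).hom ((F.obj.map (y (a 0)).op).hom s) :=
      congrArg _ (hs (a 0)).symm
    exact h1.trans (h3.symm.trans (h4.symm.trans h2.symm))

end F2

end Groth.Agent.H18.Cech
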