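import Groth.Agent.Lib.helper18.Cech1

set_option autoImplicit false
set_option linter.unusedSectionVars false
open CategoryTheory CategoryTheory.Limits Opposite Simplicial

namespace Groth.Agent.H18.Cech

universe u

lemma sum_zsmul_hom_apply {A B : AddCommGrpCat.{u}} {ι : Type*} (s : Finset ι) (c : ι → ℤ)
    (f : ι → (A ⟶ B)) (x : A) :
    (∑ i ∈ s, c i • f i).hom x = ∑ i ∈ s, c i • (f i).hom x := by
  classical
  induction s using Finset.induction_on with
  | empty => simp
  | insert a s ha ih =>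
    rw [Finset.sum_insert ha, Finset.sum_insert ha, AddCommGrpCat.hom_add, AddMonoidHom.add_apply,
      ih, AddCommGrpCat.hom_zsmul]
    rfl

variable {D : Type u} [SmallCategory D] (P : Dᵒᵖ ⥤ AddCommGrpCat.{u})
  (W : SimplicialObject (FormalCoproduct.{u} D))

/-- the Čech-type cochain complex of `P` attached to `W` -/
noncomputable abbrev CC : CochainComplex AddCommGrpCat.{u} ℕ :=
  (FormalCoproduct.cochainComplexFunctor W).obj P

/-- the representing chain complex of presheaves -/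
noncomputable abbrev KK : ChainComplex (Dᵒᵖ ⥤ AddCommGrpCat.{u}) ℕ :=
  AlgebraicTopology.AlternatingFaceMapComplex.obj (W ⋙ L)

lemma CC_X (n : ℕ) : (CC P W).X n = EV P (W _⦋n⦌) := rfl

lemma KK_X (n : ℕ) : (KK W).X n = L.obj (W _⦋n⦌) := rfl

lemma CC_d (n : ℕ) : (CC P W).d n (n + 1) =
    ∑ i : Fin (n + 2), (-1 : ℤ) ^ (i : ℕ) • EVmap P (W.δ i) := by
  have h : (CC P W).d n (n + 1) = AlgebraicTopology.AlternatingCofaceMapComplex.objD
      ((FormalCoproduct.cosimplicialObjectFunctor W).obj P) n :=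
    CochainComplex.of_d (fun n => ((FormalCoproduct.cosimplicialObjectFunctor W).obj P).obj ⦋n⦌)
      (AlgebraicTopology.AlternatingCofaceMapComplex.objD
        ((FormalCoproduct.cosimplicialObjectFunctor W).obj P)) n
  exact h

lemma KK_d (n : ℕ) : (KK W).d (n + 1) n =
    ∑ i : Fin (n + 2), (-1 : ℤ) ^ (i : ℕ) • L.map (W.δ i) := by
  rw [AlgebraicTopology.AlternatingFaceMapComplex.obj_d_eq]
  rfl

/-- the identification of cochains with morphisms out of the representing complex -/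
noncomputable def ee (n : ℕ) : ((KK W).X n ⟶ P) ≃+ (CC P W).X n := e P (W _⦋n⦌)

lemma d_ee (n : ℕ) (α : (KK W).X n ⟶ P) :
    ((CC P W).d n (n + 1)).hom (ee P W n α) = ee P W (n + 1) ((KK W).d (n + 1) n ≫ α) := by
  have h1 : ((CC P W).d n (n + 1)).hom (ee P W n α) =
      (∑ i : Fin (n + 2), (-1 : ℤ) ^ (i : ℕ) • EVmap P (W.δ i)).hom (e P (W _⦋n⦌) α) :=
    congrArg (fun f : EV P (W _⦋n⦌) ⟶ EV P (W _⦋n + 1⦌) => f.hom (e P (W _⦋n⦌) α)) (CC_d P W n)
  have h2 : ee P W (n + 1) ((KK W).d (n + 1) n ≫ α) =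
      e P (W _⦋n + 1⦌) ((∑ i : Fin (n + 2), (-1 : ℤ) ^ (i : ℕ) • L.map (W.δ i)) ≫ α) :=
    congrArg (fun f : L.obj (W _⦋n + 1⦌) ⟶ L.obj (W _⦋n⦌) => e P (W _⦋n + 1⦌) (f ≫ α)) (KK_d W n)
  rw [h1, h2, sum_zsmul_hom_apply, Preadditive.sum_comp, map_sum]
  refine Finset.sum_congr rfl (fun i _ => ?_)
  rw [Preadditive.zsmul_comp, map_zsmul]
  congr 1
  exact e_naturality P (W.δ i) α

/-- **Key lemma**: if the representing complex is exact at `n + 1` and `P` is injective,
the Čech-type complex is exact at `n + 1`. -/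
theorem CC_exactAt_of_injective [Injective P] (n : ℕ)
    (hK : (ShortComplex.mk ((KK W).d (n + 2) (n + 1)) ((KK W).d (n + 1) n)
      ((KK W).d_comp_d _ _ _)).Exact) :
    (CC P W).ExactAt (n + 1) := by
  rw [HomologicalComplex.exactAt_iff' (CC P W) n (n + 1) (n + 2) (by simp) (by simp),
    ShortComplex.ab_exact_iff]
  intro x₂ hx₂
  obtain ⟨α, rfl⟩ := (ee P W (n + 1)).surjective x₂
  have h0 : (KK W).d (n + 2) (n + 1) ≫ α = 0 := by
    apply (ee P W (n + 2)).injective
    rw [map_zero, ← d_ee]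
    exact hx₂
  refine ⟨ee P W n (hK.descToInjective α h0), ?_⟩
  have h1 := d_ee P W n (hK.descToInjective α h0)
  refine h1.trans ?_
  congr 1
  exact hK.comp_descToInjective α h0

end Groth.Agent.H18.Cech
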