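import Groth.Agent.Lib.helper18.Cech2

set_option autoImplicit false
set_option linter.unusedSectionVars false
open CategoryTheory CategoryTheory.Limits Opposite Simplicial

namespace Groth.Agent.H18.Cech

universe u

variable {D : Type u} [SmallCategory D] [HasFiniteProducts D] (X : FormalCoproduct.{u} D)

section lift

variable {α : Type} [Finite α] {A : FormalCoproduct.{u} D}

/-- the map to a power induced by a family -/
noncomputable def lift (t : α → (A ⟶ X)) : A ⟶ X.power α :=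
  Fan.IsLimit.lift (X.isLimitPowerFan α) t

lemma lift_π (t : α → (A ⟶ X)) (a : α) : lift X t ≫ X.powerπ a = t a :=
  Fan.IsLimit.fac (X.isLimitPowerFan α) t a

lemma power_hom_ext {f g : A ⟶ X.power α} (h : ∀ a, f ≫ X.powerπ a = g ≫ X.powerπ a) : f = g :=
  Fan.IsLimit.hom_ext (X.isLimitPowerFan α) _ _ h

end lift

variable (V : D)

/-- the simplicial set of maps from `incl V` to the Čech object -/
noncomputable abbrev TT : SimplicialObject (Type u) :=
  X.cech ⋙ coyoneda.obj (op ((FormalCoproduct.incl D).obj V))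

lemma TT_δ {n : ℕ} (i : Fin (n + 2)) (g : (TT X V) _⦋n + 1⦌) :
    (TT X V).δ i g = g ≫ X.cech.δ i := rfl

lemma TT_σ {n : ℕ} (i : Fin (n + 1)) (g : (TT X V) _⦋n⦌) :
    (TT X V).σ i g = g ≫ X.cech.σ i := rfl

/-- face maps with clean types -/
noncomputable def dd (n : ℕ) (i : Fin (n + 2)) : X.power (Fin (n + 2)) ⟶ X.power (Fin (n + 1)) :=
  X.mapPower i.succAbove

/-- degeneracy maps with clean types -/
noncomputable def ss (n : ℕ) (i : Fin (n + 1)) : X.power (Fin (n + 1)) ⟶ X.power (Fin (n + 2)) :=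
  X.mapPower i.predAbove

lemma cech_δ_eq (n : ℕ) (i : Fin (n + 2)) : X.cech.δ i = dd X n i := rfl

lemma cech_σ_eq (n : ℕ) (i : Fin (n + 1)) : X.cech.σ i = ss X n i := rfl

lemma dd_π {n : ℕ} (i : Fin (n + 2)) (k : Fin (n + 1)) :
    dd X n i ≫ X.powerπ (α := Fin (n + 1)) k = X.powerπ (α := Fin (n + 2)) (i.succAbove k) :=
  X.mapPower_π _ k

lemma ss_π {n : ℕ} (i : Fin (n + 1)) (k : Fin (n + 2)) :
    ss X n i ≫ X.powerπ (α := Fin (n + 2)) k = X.powerπ (α := Fin (n + 1)) (i.predAbove k) :=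
  X.mapPower_π _ k

variable {X V} (s0 : (FormalCoproduct.incl D).obj V ⟶ X)

/-- the extra degeneracy on maps -/
noncomputable def sd (n : ℕ) (g : (FormalCoproduct.incl D).obj V ⟶ X.power (Fin (n + 1))) :
    (FormalCoproduct.incl D).obj V ⟶ X.power (Fin (n + 2)) :=
  lift X (α := Fin (n + 2))
    (Fin.cons (α := fun _ => ((FormalCoproduct.incl D).obj V ⟶ X)) s0
      (fun k : Fin (n + 1) => g ≫ X.powerπ (α := Fin (n + 1)) k))

lemma sd_π_zero (n : ℕ) (g : (FormalCoproduct.incl D).obj V ⟶ X.power (Fin (n + 1))) :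
    sd s0 n g ≫ X.powerπ (α := Fin (n + 2)) 0 = s0 := by
  rw [sd, lift_π]
  rfl

lemma sd_π_succ (n : ℕ) (g : (FormalCoproduct.incl D).obj V ⟶ X.power (Fin (n + 1)))
    (k : Fin (n + 1)) :
    sd s0 n g ≫ X.powerπ (α := Fin (n + 2)) k.succ = g ≫ X.powerπ (α := Fin (n + 1)) k := by
  rw [sd, lift_π]
  rfl

lemma sd_dd_one (g : (FormalCoproduct.incl D).obj V ⟶ X.power (Fin (0 + 1))) :
    sd s0 0 g ≫ dd X 0 1 = lift X (α := Fin 1) (fun _ => s0) := by
  apply power_hom_ext
  intro a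
  obtain rfl : a = 0 := Subsingleton.elim (α := Fin 1) a 0
  rw [Category.assoc, dd_π, lift_π]
  exact sd_π_zero s0 0 g

lemma sd_dd_zero (n : ℕ) (g : (FormalCoproduct.incl D).obj V ⟶ X.power (Fin (n + 1))) :
    sd s0 n g ≫ dd X n 0 = g := by
  apply power_hom_ext
  intro k
  rw [Category.assoc, dd_π, Fin.succAbove_zero]
  exact sd_π_succ s0 n g k

lemma sd_dd_succ (n : ℕ) (i : Fin (n + 2))
    (g : (FormalCoproduct.incl D).obj V ⟶ X.power (Fin (n + 1 + 1))) :
    sd s0 (n + 1) g ≫ dd X (n + 1) i.succ = sd s0 n (g ≫ dd X n i) := by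
  apply power_hom_ext
  intro k
  rw [Category.assoc, dd_π]
  cases k using Fin.cases with
  | zero =>
    rw [Fin.succ_succAbove_zero, sd_π_zero, sd_π_zero]
  | succ j =>
    rw [Fin.succ_succAbove_succ, sd_π_succ, sd_π_succ, Category.assoc, dd_π]

lemma sd_ss_succ (n : ℕ) (i : Fin (n + 1))
    (g : (FormalCoproduct.incl D).obj V ⟶ X.power (Fin (n + 1))) :
    sd s0 n g ≫ ss X (n + 1) i.succ = sd s0 (n + 1) (g ≫ ss X n i) := by
  apply power_hom_ext
  intro k
  rw [Category.assoc, ss_π]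
  cases k using Fin.cases with
  | zero =>
    rw [Fin.predAbove_right_zero, sd_π_zero, sd_π_zero]
  | succ j =>
    rw [Fin.succ_predAbove_succ, sd_π_succ, sd_π_succ, Category.assoc, ss_π]

/-- the extra degeneracy of the augmented simplicial set -/
noncomputable def edT :
    ((TT X V).augmentOfIsTerminal Types.isTerminalPUnit).ExtraDegeneracy where
  s' := ↾(fun _ => lift X (α := Fin 1) (fun _ => s0))
  s n := ↾(fun g => sd s0 n g)
  s'_comp_ε := by
    ext
    rfl
  s₀_comp_δ₁ := by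
    ext g
    exact sd_dd_one s0 g
  s_comp_δ₀ n := by
    ext g
    exact sd_dd_zero s0 n g
  s_comp_δ n i := by
    ext g
    exact sd_dd_succ s0 n i g
  s_comp_σ n i := by
    ext g
    exact sd_ss_succ s0 n i g

end Groth.Agent.H18.Cech
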