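import Groth.Agent.Lib.helper18.Cech3

set_option autoImplicit false
set_option linter.unusedSectionVars false
open CategoryTheory CategoryTheory.Limits Opposite Simplicial

namespace Groth.Agent.H18.Cech

universe u

variable {D : Type u} [SmallCategory D] [HasFiniteProducts D] (X : FormalCoproduct.{u} D) (V : D)

/-- the alternating face map complex of the free simplicial abelian group on `TT X V` -/
noncomputable abbrev AT : ChainComplex AddCommGrpCat.{u} ℕ :=
  AlgebraicTopology.AlternatingFaceMapComplex.obj (TT X V ⋙ AddCommGrpCat.free.{u})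

lemma KK_d_app (n : ℕ) :
    ((KK X.cech).d (n + 1) n).app (op V) = (AT X V).d (n + 1) n := by
  rw [KK_d, AlgebraicTopology.AlternatingFaceMapComplex.obj_d_eq, NatTrans.app_sum]
  refine Finset.sum_congr rfl (fun i _ => ?_)
  rw [NatTrans.app_zsmul]
  rfl

lemma AT_exactAt_of_hom (s0 : (FormalCoproduct.incl D).obj V ⟶ X) (n : ℕ) :
    (AT X V).ExactAt (n + 1) := by
  have he := ((edT s0).map AddCommGrpCat.free.{u}).homotopyEquiv
  have hq' : QuasiIsoAt he.hom (n + 1) := he.quasiIsoAt_hom (n + 1)
  rw [quasiIsoAt_iff_exactAt' _ _ (ChainComplex.exactAt_succ_single_obj _ n)] at hq'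
  exact hq'

lemma AT_exactAt_of_isEmpty (h : IsEmpty ((FormalCoproduct.incl D).obj V ⟶ X)) (n : ℕ) :
    (AT X V).ExactAt (n + 1) := by
  apply ShortComplex.exact_of_isZero_X₂
  have : IsEmpty ((FormalCoproduct.incl D).obj V ⟶ X.power (Fin (n + 1 + 1))) :=
    ⟨fun g => h.false (g ≫ X.powerπ (α := Fin (n + 1 + 1)) 0)⟩
  have hs : Subsingleton (FreeAbelianGroup ((FormalCoproduct.incl D).obj V ⟶ X.power (Fin (n + 1 + 1)))) :=
    inferInstance
  exact @AddCommGrpCat.isZero_of_subsingleton
    (AddCommGrpCat.free.obj ((FormalCoproduct.incl D).obj V ⟶ X.power (Fin (n + 1 + 1)))) hs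

lemma AT_exactAt (n : ℕ) : (AT X V).ExactAt (n + 1) := by
  by_cases h : Nonempty ((FormalCoproduct.incl D).obj V ⟶ X)
  · exact AT_exactAt_of_hom X V h.some n
  · exact AT_exactAt_of_isEmpty X V (not_nonempty_iff.1 h) n

/-- exactness in functor categories is detected objectwise -/
lemma exact_of_evaluation {J : Type*} [Category J] {A : Type*} [Category A] [Abelian A]
    (S : ShortComplex (J ⥤ A))
    (h : ∀ X, (S.map ((evaluation J A).obj X)).Exact) : S.Exact := by
  rw [ShortComplex.exact_iff_isZero_homology, Functor.isZero_iff]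
  intro X
  have := h X
  rw [ShortComplex.exact_iff_isZero_homology] at this
  exact IsZero.of_iso this (S.mapHomologyIso ((evaluation J A).obj X)).symm

/-- **the representing complex of the Čech complex is exact in positive degrees** -/
theorem KK_cech_exact (n : ℕ) :
    (ShortComplex.mk ((KK X.cech).d (n + 2) (n + 1)) ((KK X.cech).d (n + 1) n)
      ((KK X.cech).d_comp_d _ _ _)).Exact := by
  apply exact_of_evaluation
  intro V
  have h := (HomologicalComplex.exactAt_iff' (AT X V.unop) (n + 2) (n + 1) n (by simp) (by simp)).1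
    (AT_exactAt X V.unop n)
  refine ShortComplex.exact_of_iso ?_ h
  exact ShortComplex.isoMk (Iso.refl _) (Iso.refl _) (Iso.refl _)
    ((Category.id_comp _).trans ((KK_d_app X V.unop (n + 1)).trans (Category.comp_id _).symm))
    ((Category.id_comp _).trans ((KK_d_app X V.unop n).trans (Category.comp_id _).symm))

variable {ι : Type u} (Y : ι → D) (P : Dᵒᵖ ⥤ AddCommGrpCat.{u})

/-- **Čech cohomology of an injective presheaf vanishes in positive degrees** -/
theorem cech_exactAt_of_injective [Injective P] (n : ℕ) :
    ((cechComplexFunctor Y).obj P).ExactAt (n + 1) :=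
  CC_exactAt_of_injective P (FormalCoproduct.mk _ Y).cech n (KK_cech_exact _ n)

theorem isZero_cechH_of_injective [Injective P] (n : ℕ) :
    IsZero (((cechComplexFunctor Y).obj P).homology (n + 1)) :=
  (HomologicalComplex.exactAt_iff_isZero_homology _ _).1 (cech_exactAt_of_injective Y P n)

end Groth.Agent.H18.Cech
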