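import Groth.Agent.Lib.helper18.Cech4

set_option autoImplicit false
set_option linter.unusedSectionVars false
open CategoryTheory CategoryTheory.Limits Opposite Simplicial

namespace Groth.Agent.H18.Cech

universe u

variable {D : Type u} [SmallCategory D]

/-- the map on `EV` induced by a morphism of presheaves -/
noncomputable def EVnat {P P' : Dᵒᵖ ⥤ AddCommGrpCat.{u}} (φ : P ⟶ P') (Z : FormalCoproduct.{u} D) :
    EV P Z ⟶ EV P' Z :=
  Limits.Pi.map fun i : Z.I => φ.app (op (Z.obj i))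

lemma evalOp_map_app {P P' : Dᵒᵖ ⥤ AddCommGrpCat.{u}} (φ : P ⟶ P') (Z : FormalCoproduct.{u} D) :
    ((FormalCoproduct.evalOp.{u} D AddCommGrpCat.{u}).map φ).app (op Z) = EVnat φ Z := rfl

lemma pr_EVnat {P P' : Dᵒᵖ ⥤ AddCommGrpCat.{u}} (φ : P ⟶ P') (Z : FormalCoproduct.{u} D)
    (x : EV P Z) (i : Z.I) :
    pr P' Z i ((EVnat φ Z).hom x) = (φ.app (op (Z.obj i))).hom (pr P Z i x) := by
  have h1 : EVnat φ Z ≫ Pi.π (fun i : Z.I => P'.obj (op (Z.obj i))) i =
      Pi.π (fun i : Z.I => P.obj (op (Z.obj i))) i ≫ φ.app (op (Z.obj i)) :=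
    Limits.Pi.map_π _ _
  exact ConcreteCategory.congr_hom h1 x

lemma pr_zero (P : Dᵒᵖ ⥤ AddCommGrpCat.{u}) (Z : FormalCoproduct.{u} D) (i : Z.I) :
    pr P Z i 0 = 0 := map_zero _

variable (S : ShortComplex (Dᵒᵖ ⥤ AddCommGrpCat.{u}))

/-- products of short exact sequences are short exact -/
theorem EV_shortExact (Z : FormalCoproduct.{u} D)
    (h : ∀ i : Z.I, (S.map ((evaluation _ _).obj (op (Z.obj i)))).ShortExact) :
    (ShortComplex.mk (EVnat S.f Z) (EVnat S.g Z) (by
      apply Limits.Pi.hom_ext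
      intro i
      rw [Category.assoc, zero_comp]
      erw [Limits.Pi.map_π, Limits.Pi.map_π_assoc]
      rw [← NatTrans.comp_app, S.zero]
      simp)).ShortExact := by
  have hinj : ∀ i, Function.Injective (S.f.app (op (Z.obj i))).hom := fun i => by
    have := (h i).mono_f
    exact (AddCommGrpCat.mono_iff_injective _).1 this
  have hsurj : ∀ i, Function.Surjective (S.g.app (op (Z.obj i))).hom := fun i => by
    have := (h i).epi_g
    exact (AddCommGrpCat.epi_iff_surjective _).1 this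
  have hex : ∀ i (y : S.X₂.obj (op (Z.obj i))), (S.g.app (op (Z.obj i))).hom y = 0 →
      ∃ x, (S.f.app (op (Z.obj i))).hom x = y := fun i => by
    have := (h i).exact
    rw [ShortComplex.ab_exact_iff] at this
    exact this
  refine ShortComplex.ShortExact.mk' ?_ ?_ ?_
  · rw [ShortComplex.ab_exact_iff]
    intro (y : EV S.X₂ Z) (hy : (EVnat S.g Z).hom y = 0)
    have h1 : ∀ i, ∃ x, (S.f.app (op (Z.obj i))).hom x = pr S.X₂ Z i y := fun i => by
      apply hex
      rw [← pr_EVnat, hy, pr_zero]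
    choose x hx using h1
    refine ⟨toEV S.X₁ Z x, ?_⟩
    apply EV_ext
    intro i
    change pr S.X₂ Z i ((EVnat S.f Z).hom (toEV S.X₁ Z x)) = _
    rw [pr_EVnat, pr_toEV, hx]
  · rw [AddCommGrpCat.mono_iff_injective, injective_iff_map_eq_zero]
    intro (x : EV S.X₁ Z) (hx : (EVnat S.f Z).hom x = 0)
    apply EV_ext
    intro i
    rw [pr_zero]
    apply hinj i
    rw [← pr_EVnat, hx, pr_zero, map_zero]
  · rw [AddCommGrpCat.epi_iff_surjective]
    intro (y : EV S.X₃ Z)
    choose x hx using fun i => hsurj i (pr S.X₃ Z i y)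
    refine ⟨toEV S.X₂ Z x, ?_⟩
    apply EV_ext
    intro i
    change pr S.X₃ Z i ((EVnat S.g Z).hom (toEV S.X₂ Z x)) = _
    rw [pr_EVnat, pr_toEV, hx]

variable [HasFiniteProducts D] {ι : Type u} (Y : ι → D)

lemma cech_map_f {P P' : Dᵒᵖ ⥤ AddCommGrpCat.{u}} (φ : P ⟶ P') (n : ℕ) :
    ((cechComplexFunctor Y).map φ).f n = EVnat φ ((FormalCoproduct.mk _ Y).power (Fin (n + 1))) :=
  rfl

omit [HasFiniteProducts D] in
lemma EVnat_add {P P' : Dᵒᵖ ⥤ AddCommGrpCat.{u}} (φ ψ : P ⟶ P') (Z : FormalCoproduct.{u} D) :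
    EVnat (φ + ψ) Z = EVnat φ Z + EVnat ψ Z := by
  apply Limits.Pi.hom_ext
  intro i
  rw [Preadditive.add_comp]
  erw [Limits.Pi.map_π, Limits.Pi.map_π, Limits.Pi.map_π]
  rw [NatTrans.app_add, Preadditive.comp_add]

instance : (cechComplexFunctor (A := AddCommGrpCat.{u}) Y).Additive where
  map_add {P P' φ ψ} := by
    apply HomologicalComplex.hom_ext
    intro n
    exact EVnat_add φ ψ _

/-- **short exact sequence of Čech complexes** -/
theorem cech_shortExact
    (h : ∀ (n : ℕ) (a : Fin (n + 1) → ι),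
      (S.map ((evaluation _ _).obj (op (∏ᶜ (Y ∘ a))))).ShortExact) :
    (S.map (cechComplexFunctor Y)).ShortExact := by
  apply HomologicalComplex.shortExact_of_degreewise_shortExact
  intro n
  exact EV_shortExact S ((FormalCoproduct.mk _ Y).power (Fin (n + 1))) (fun a => h n a)

end Groth.Agent.H18.Cech
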