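import Groth.Agent.Lib.helper18.Cech5
import Groth.Prelude.Def_FreeSh
import Groth.Prelude.Def_CohSite

set_option autoImplicit false
set_option linter.unusedSectionVars false
open CategoryTheory CategoryTheory.Limits CategoryTheory.Abelian Opposite

namespace Groth.Agent.H18.Cech

universe u

section generic

universe v' u'

variable {𝒜 : Type u'} [Category.{v'} 𝒜] [Abelian 𝒜] [HasExt.{v'} 𝒜]
  {S : ShortComplex 𝒜} (hS : S.ShortExact) (P : 𝒜)

include hS in
/-- lifting along the epimorphism of a short exact sequence when `Ext¹` vanishes -/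
lemma exists_lift_of_ext_one (h : ∀ x : Ext.{v'} P S.X₁ 1, x = 0) (q : P ⟶ S.X₃) :
    ∃ ψ : P ⟶ S.X₂, ψ ≫ S.g = q := by
  obtain ⟨x₂, hx₂⟩ := Ext.covariant_sequence_exact₃ P hS (Ext.mk₀ q) (rfl : 0 + 1 = 1) (h _)
  obtain ⟨ψ, rfl⟩ := (Ext.mk₀_bijective _ _).2 x₂
  refine ⟨ψ, ?_⟩
  apply (Ext.mk₀_bijective _ _).1
  rw [← hx₂, Ext.mk₀_comp_mk₀]

include hS in
lemma ext_shift_injective (n : ℕ) (h : ∀ x : Ext.{v'} P S.X₂ n, x = 0) :
    Function.Injective (hS.extClass.postcomp P (rfl : n + 1 = n + 1)) := by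
  rw [injective_iff_map_eq_zero]
  intro x hx
  obtain ⟨x₂, hx₂⟩ := Ext.covariant_sequence_exact₃ P hS x rfl hx
  rw [← hx₂, h x₂, Ext.zero_comp]

include hS in
lemma ext_shift_surjective (n : ℕ) (h : ∀ x : Ext.{v'} P S.X₂ (n + 1), x = 0) :
    Function.Surjective (hS.extClass.postcomp P (rfl : n + 1 = n + 1)) := by
  intro y
  exact Ext.covariant_sequence_exact₁ P hS y (h _) rfl

include hS in
lemma ext_shift_ker (x : Ext.{v'} P S.X₃ 0) (hx : hS.extClass.postcomp P (rfl : 0 + 1 = 1) x = 0) :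
    ∃ x₂ : Ext.{v'} P S.X₂ 0, x₂.comp (Ext.mk₀ S.g) (add_zero 0) = x :=
  Ext.covariant_sequence_exact₃ P hS x rfl hx

include hS in
/-- the quotient of a `Hom(P,-)`-acyclic object by a `Hom(P,-)`-acyclic object is acyclic -/
lemma ext_X₃_eq_zero (n : ℕ) (h₁ : ∀ x : Ext.{v'} P S.X₁ (n + 2), x = 0)
    (h₂ : ∀ x : Ext.{v'} P S.X₂ (n + 1), x = 0) (x : Ext.{v'} P S.X₃ (n + 1)) : x = 0 := by
  obtain ⟨x₂, hx₂⟩ := Ext.covariant_sequence_exact₃ P hS x (rfl : n + 1 + 1 = n + 2) (h₁ _)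
  rw [← hx₂, h₂ x₂, Ext.zero_comp]

end generic

variable {C : Type u} [SmallCategory C] (J : GrothendieckTopology C)
  [HasExt.{u} (Sheaf J AddCommGrpCat.{u})]

lemma evalGen_comp' {V : C} {F G : Sheaf J AddCommGrpCat.{u}}
    (φ : CohCx.freeSheaf J V ⟶ F) (g : F ⟶ G) :
    CohFree.evalGen J V G (φ ≫ g) = (g.hom.app (op V)).hom (CohFree.evalGen J V F φ) := rfl

lemma ofSect_comp' {V : C} {F G : Sheaf J AddCommGrpCat.{u}} (s : F.obj.obj (op V)) (g : F ⟶ G) :
    CohFree.ofSect J V F s ≫ g = CohFree.ofSect J V G ((g.hom.app (op V)).hom s) := by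
  apply (CohFree.homEquivSect J V G).injective
  rw [CohFree.homEquivSect_apply, CohFree.homEquivSect_apply, evalGen_comp', CohFree.evalGen_ofSect,
    CohFree.evalGen_ofSect]

variable {J}

/-- sections over `V` of a short exact sequence of sheaves form a short exact sequence
as soon as `H¹(V, X₁) = 0` -/
theorem sections_shortExact {S : ShortComplex (Sheaf J AddCommGrpCat.{u})} (hS : S.ShortExact) (V : C)
    (h : ∀ x : Ext.{u} (CohCx.freeSheaf J V) S.X₁ 1, x = 0) :
    (ShortComplex.mk (S.f.hom.app (op V)) (S.g.hom.app (op V))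
      (congrArg (fun t => t.hom.app (op V)) S.zero)).ShortExact := by
  have := hS.mono_f
  refine ShortComplex.ShortExact.mk' ?_ ?_ ?_
  · rw [ShortComplex.ab_exact_iff]
    intro (x : S.X₂.obj.obj (op V)) (hx : (S.g.hom.app (op V)).hom x = 0)
    have h0 : CohFree.ofSect J V S.X₂ x ≫ S.g = 0 := by
      rw [ofSect_comp', hx]
      apply (CohFree.homEquivSect J V S.X₃).injective
      rw [CohFree.homEquivSect_apply, CohFree.evalGen_ofSect, map_zero]
    refine ⟨CohFree.evalGen J V S.X₁ (hS.exact.lift _ h0), ?_⟩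
    change (S.f.hom.app (op V)).hom (CohFree.evalGen J V S.X₁ (hS.exact.lift _ h0)) = x
    rw [← evalGen_comp', hS.exact.lift_f, CohFree.evalGen_ofSect]
  · rw [AddCommGrpCat.mono_iff_injective, injective_iff_map_eq_zero]
    intro (y : S.X₁.obj.obj (op V)) (hy : (S.f.hom.app (op V)).hom y = 0)
    have h0 : CohFree.ofSect J V S.X₁ y ≫ S.f = 0 := by
      rw [ofSect_comp', hy]
      apply (CohFree.homEquivSect J V S.X₂).injective
      rw [CohFree.homEquivSect_apply, CohFree.evalGen_ofSect, map_zero]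
    have h1 : CohFree.ofSect J V S.X₁ y = 0 := by
      rw [← cancel_mono S.f, h0, zero_comp]
    have h2 := CohFree.evalGen_ofSect J V S.X₁ y
    rw [h1] at h2
    rw [← h2, map_zero]
  · rw [AddCommGrpCat.epi_iff_surjective]
    intro (t : S.X₃.obj.obj (op V))
    obtain ⟨ψ, hψ⟩ := exists_lift_of_ext_one hS (CohCx.freeSheaf J V) h (CohFree.ofSect J V S.X₃ t)
    refine ⟨CohFree.evalGen J V S.X₂ ψ, ?_⟩
    change (S.g.hom.app (op V)).hom (CohFree.evalGen J V S.X₂ ψ) = t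
    rw [← evalGen_comp', hψ, CohFree.evalGen_ofSect]

end Groth.Agent.H18.Cech
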