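import Groth.Agent.Lib.helper18.Cech6

set_option autoImplicit false
set_option linter.unusedSectionVars false
open CategoryTheory CategoryTheory.Limits CategoryTheory.Abelian Opposite

namespace Groth.Agent.H18.Cech

universe u

variable {C : Type u} [SmallCategory C] {J : GrothendieckTopology C}
  [HasExt.{u} (Sheaf J AddCommGrpCat.{u})]
  {D : Type u} [SmallCategory D] [HasFiniteProducts D] (Φ : D ⥤ C) {ι : Type u} (Y : ι → D)

/-- restriction of sheaves to presheaves on `D` -/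
noncomputable abbrev Rr : Sheaf J AddCommGrpCat.{u} ⥤ (Dᵒᵖ ⥤ AddCommGrpCat.{u}) :=
  sheafToPresheaf J AddCommGrpCat.{u} ⋙ (Functor.whiskeringLeft _ _ _).obj Φ.op

/-- Čech complex of a sheaf -/
noncomputable abbrev CF (F : Sheaf J AddCommGrpCat.{u}) : CochainComplex AddCommGrpCat.{u} ℕ :=
  (cechComplexFunctor Y).obj (Φ.op ⋙ F.obj)

/-- the map of Čech complexes induced by a morphism of sheaves -/
noncomputable abbrev CFmap {F G : Sheaf J AddCommGrpCat.{u}} (φ : F ⟶ G) : CF Φ Y F ⟶ CF Φ Y G :=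
  (cechComplexFunctor Y).map ((Rr Φ).map φ)

/-- higher cohomology of `F` vanishes on all the finite products of the family -/
def Acyc (F : Sheaf J AddCommGrpCat.{u}) : Prop :=
  ∀ (n : ℕ) (a : Fin (n + 1) → ι) (q : ℕ)
    (x : Ext.{u} (CohCx.freeSheaf J (Φ.obj (∏ᶜ (Y ∘ a)))) F (q + 1)), x = 0

instance : (Rr (J := J) Φ).Additive := by
  dsimp only [Rr]
  infer_instance

theorem CF_shortExact {S : ShortComplex (Sheaf J AddCommGrpCat.{u})} (hS : S.ShortExact)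
    (h : ∀ (n : ℕ) (a : Fin (n + 1) → ι)
      (x : Ext.{u} (CohCx.freeSheaf J (Φ.obj (∏ᶜ (Y ∘ a)))) S.X₁ 1), x = 0) :
    ((S.map (Rr Φ)).map (cechComplexFunctor Y)).ShortExact :=
  cech_shortExact _ Y (fun n a => sections_shortExact hS _ (h n a))


variable {U : C} (y : ∀ i, Φ.obj (Y i) ⟶ U)

/-- the augmentation `F(U) ⟶ Č⁰` (clean types) -/
noncomputable def aug' (F : Sheaf J AddCommGrpCat.{u}) :
    F.obj.obj (op U) ⟶ EV (Φ.op ⋙ F.obj) ((FormalCoproduct.mk ι Y).power (Fin 1)) :=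
  Pi.lift (fun a : Fin 1 → ι => F.obj.map ((Φ.map (Pi.π (Y ∘ a) 0) ≫ y (a 0)).op))

lemma pr_aug' (F : Sheaf J AddCommGrpCat.{u}) (s : F.obj.obj (op U)) (a : Fin 1 → ι) :
    pr (Φ.op ⋙ F.obj) ((FormalCoproduct.mk ι Y).power (Fin 1)) a ((aug' Φ Y y F).hom s) =
      (F.obj.map ((Φ.map (Pi.π (Y ∘ a) 0) ≫ y (a 0)).op)).hom s := by
  have h1 : aug' Φ Y y F ≫ Pi.π _ a = F.obj.map ((Φ.map (Pi.π (Y ∘ a) 0) ≫ y (a 0)).op) :=
    Limits.Pi.lift_π _ _
  exact ConcreteCategory.congr_hom h1 s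

lemma aug'_naturality {F G : Sheaf J AddCommGrpCat.{u}} (φ : F ⟶ G) :
    aug' Φ Y y F ≫ EVnat ((Rr Φ).map φ) ((FormalCoproduct.mk ι Y).power (Fin 1)) =
      φ.hom.app (op U) ≫ aug' Φ Y y G := by
  apply Limits.Pi.hom_ext
  intro a
  rw [Category.assoc, Category.assoc]
  erw [Limits.Pi.map_π, Limits.Pi.lift_π, Limits.Pi.lift_π_assoc]
  exact φ.hom.naturality _

/-- the augmentation `F(U) ⟶ Č⁰` -/
noncomputable def aug (F : Sheaf J AddCommGrpCat.{u}) : F.obj.obj (op U) ⟶ (CF Φ Y F).X 0 :=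
  aug' Φ Y y F

lemma aug_naturality {F G : Sheaf J AddCommGrpCat.{u}} (φ : F ⟶ G) :
    aug Φ Y y F ≫ (CFmap Φ Y φ).f 0 = φ.hom.app (op U) ≫ aug Φ Y y G :=
  aug'_naturality Φ Y y φ

/-- the sheaf condition in degree zero: the augmented Čech complex is exact in degrees `0` -/
structure F2 (F : Sheaf J AddCommGrpCat.{u}) : Prop where
  w : aug Φ Y y F ≫ (CF Φ Y F).d 0 1 = 0
  inj : Function.Injective (aug Φ Y y F).hom
  ex : ∀ x : (CF Φ Y F).X 0, ((CF Φ Y F).d 0 1).hom x = 0 → ∃ s, (aug Φ Y y F).hom s = x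

variable {Φ Y y}

/-- `F(U) ⟶ Z⁰` -/
noncomputable def toCyc {F : Sheaf J AddCommGrpCat.{u}} (hF : F2 Φ Y y F) :
    F.obj.obj (op U) ⟶ (CF Φ Y F).cycles 0 :=
  (CF Φ Y F).liftCycles (aug Φ Y y F) 1 (by simp) hF.w

lemma toCyc_i {F : Sheaf J AddCommGrpCat.{u}} (hF : F2 Φ Y y F) :
    toCyc hF ≫ (CF Φ Y F).iCycles 0 = aug Φ Y y F :=
  (CF Φ Y F).liftCycles_i _ _ _ _

instance {F : Sheaf J AddCommGrpCat.{u}} (hF : F2 Φ Y y F) : IsIso (toCyc hF) := by
  rw [ConcreteCategory.isIso_iff_bijective]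
  constructor
  · intro s t hst
    apply hF.inj
    have h1 := ConcreteCategory.congr_hom (toCyc_i hF) s
    have h2 := ConcreteCategory.congr_hom (toCyc_i hF) t
    rw [ConcreteCategory.comp_apply] at h1 h2
    rw [← h1, ← h2, hst]
  · intro z
    have hz : ((CF Φ Y F).d 0 1).hom (((CF Φ Y F).iCycles 0).hom z) = 0 := by
      have := ConcreteCategory.congr_hom ((CF Φ Y F).iCycles_d 0 1) z
      rw [ConcreteCategory.comp_apply] at this
      exact this
    obtain ⟨s, hs⟩ := hF.ex _ hz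
    refine ⟨s, ?_⟩
    have hmono : Function.Injective ((CF Φ Y F).iCycles 0).hom :=
      (AddCommGrpCat.mono_iff_injective _).1 inferInstance
    apply hmono
    have h1 := ConcreteCategory.congr_hom (toCyc_i hF) s
    rw [ConcreteCategory.comp_apply] at h1
    exact h1.trans hs

/-- `F(U) ≅ Ȟ⁰` -/
noncomputable def h0 {F : Sheaf J AddCommGrpCat.{u}} (hF : F2 Φ Y y F) :
    F.obj.obj (op U) ≅ (CF Φ Y F).homology 0 :=
  asIso (toCyc hF) ≪≫ (CF Φ Y F).isoHomologyπ₀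

lemma h0_naturality {F G : Sheaf J AddCommGrpCat.{u}} (hF : F2 Φ Y y F) (hG : F2 Φ Y y G)
    (φ : F ⟶ G) :
    (h0 hF).hom ≫ HomologicalComplex.homologyMap (CFmap Φ Y φ) 0 =
      φ.hom.app (op U) ≫ (h0 hG).hom := by
  have h1 : toCyc hF ≫ HomologicalComplex.cyclesMap (CFmap Φ Y φ) 0 =
      φ.hom.app (op U) ≫ toCyc hG := by
    rw [← cancel_mono ((CF Φ Y G).iCycles 0), Category.assoc, Category.assoc,
      HomologicalComplex.cyclesMap_i, toCyc_i, ← Category.assoc, toCyc_i]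
    exact aug_naturality Φ Y y φ
  dsimp only [h0, Iso.trans_hom, asIso_hom]
  rw [Category.assoc]
  have h2 : (CF Φ Y F).isoHomologyπ₀.hom ≫ HomologicalComplex.homologyMap (CFmap Φ Y φ) 0 =
      HomologicalComplex.cyclesMap (CFmap Φ Y φ) 0 ≫ (CF Φ Y G).isoHomologyπ₀.hom :=
    HomologicalComplex.homologyπ_naturality _ _
  rw [h2, ← Category.assoc, h1, Category.assoc]

end Groth.Agent.H18.Cech
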