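import Groth.Agent.Lib.helper18.Cech7

set_option autoImplicit false
set_option linter.unusedSectionVars false
open CategoryTheory CategoryTheory.Limits CategoryTheory.Abelian Opposite

namespace Groth.Agent.H18.Cech

universe u

lemma addEquiv_of_same_kernel {A G₁ G₂ : Type*} [AddCommGroup A] [AddCommGroup G₁]
    [AddCommGroup G₂] (f₁ : A →+ G₁) (f₂ : A →+ G₂) (h₁ : Function.Surjective f₁)
    (h₂ : Function.Surjective f₂) (h : ∀ t, f₁ t = 0 ↔ f₂ t = 0) : Nonempty (G₁ ≃+ G₂) := by
  have hk : f₁.ker = f₂.ker := by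
    ext t
    exact h t
  exact ⟨(QuotientAddGroup.quotientKerEquivOfSurjective f₁ h₁).symm.trans
    ((QuotientAddGroup.quotientAddEquivOfEq hk).trans
      (QuotientAddGroup.quotientKerEquivOfSurjective f₂ h₂))⟩

section

universe v' u'

variable {𝒜 : Type u'} [Category.{v'} 𝒜] [Abelian 𝒜] [EnoughInjectives 𝒜]

/-- the short exact sequence `0 → F → I → I/F → 0` with `I` injective -/
noncomputable def injSES (F : 𝒜) : ShortComplex 𝒜 :=
  ShortComplex.mk (Injective.ι F) (cokernel.π (Injective.ι F)) (cokernel.condition _)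

lemma injSES_shortExact (F : 𝒜) : (injSES F).ShortExact :=
  ShortComplex.ShortExact.mk' (ShortComplex.exact_cokernel _)
    (inferInstanceAs (Mono (Injective.ι F))) (inferInstanceAs (Epi (cokernel.π (Injective.ι F))))

instance (F : 𝒜) : Injective (injSES F).X₂ := inferInstanceAs (Injective (Injective.under F))

end

variable {C : Type u} [SmallCategory C] {J : GrothendieckTopology C}
  [HasExt.{u} (Sheaf J AddCommGrpCat.{u})] [EnoughInjectives (Sheaf J AddCommGrpCat.{u})]
  {D : Type u} [SmallCategory D] [HasFiniteProducts D] {Φ : D ⥤ C} {ι : Type u} {Y : ι → D}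
  {U : C} {y : ∀ i, Φ.obj (Y i) ⟶ U}

lemma acyc_of_injective (I : Sheaf J AddCommGrpCat.{u}) [Injective I] : Acyc Φ Y I :=
  fun _ _ _ x => Ext.eq_zero_of_injective x

lemma acyc_X₃ {S : ShortComplex (Sheaf J AddCommGrpCat.{u})} (hS : S.ShortExact) [Injective S.X₂]
    (h : Acyc Φ Y S.X₁) : Acyc Φ Y S.X₃ :=
  fun n a q x => ext_X₃_eq_zero hS _ q (h n a (q + 1)) (fun x => Ext.eq_zero_of_injective x) x

/-- the sections-to-Ext⁰ identification -/
noncomputable def sectExt (F : Sheaf J AddCommGrpCat.{u}) :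
    F.obj.obj (op U) ≃+ Ext.{u} (CohCx.freeSheaf J U) F 0 :=
  (CohFree.homEquivSect J U F).symm.trans Ext.addEquiv₀.symm

lemma sectExt_apply (F : Sheaf J AddCommGrpCat.{u}) (s : F.obj.obj (op U)) :
    sectExt F s = Ext.mk₀ (CohFree.ofSect J U F s) := rfl


variable (hinj : ∀ I : Sheaf J AddCommGrpCat.{u}, Injective I → Injective (Φ.op ⋙ I.obj))
  (hF2 : ∀ F : Sheaf J AddCommGrpCat.{u}, F2 Φ Y y F)

include hinj in
lemma isZero_CF_homology_of_injective (I : Sheaf J AddCommGrpCat.{u}) [Injective I] (n : ℕ) :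
    IsZero ((CF Φ Y I).homology (n + 1)) :=
  haveI := hinj I inferInstance
  isZero_cechH_of_injective Y (Φ.op ⋙ I.obj) n

include hinj hF2 in
/-- degree one -/
lemma cech_iso_one (F : Sheaf J AddCommGrpCat.{u}) (hF : Acyc Φ Y F) :
    Nonempty ((CF Φ Y F).homology 1 ≃+ Ext.{u} (CohCx.freeSheaf J U) F 1) := by
  have hS := injSES_shortExact F
  have hC := CF_shortExact Φ Y hS (fun n a x => hF n a 0 x)
  have hI1 : IsZero ((CF Φ Y (injSES F).X₂).homology 1) :=
    isZero_CF_homology_of_injective hinj _ 0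
  have hepi : Epi (hC.δ 0 1 rfl) := hC.epi_δ 0 1 rfl hI1
  have hex := hC.homology_exact₃ 0 1 rfl
  rw [ShortComplex.ab_exact_iff] at hex
  let f₁ : (injSES F).X₃.obj.obj (op U) →+ (CF Φ Y F).homology 1 :=
    (hC.δ 0 1 rfl).hom.comp (h0 (hF2 (injSES F).X₃)).hom.hom
  let f₂ : (injSES F).X₃.obj.obj (op U) →+ Ext.{u} (CohCx.freeSheaf J U) F 1 :=
    (hS.extClass.postcomp (CohCx.freeSheaf J U) (rfl : 0 + 1 = 1)).comp
      (sectExt (injSES F).X₃).toAddMonoidHom
  have hf₁ : Function.Surjective f₁ := by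
    have h1 : Function.Surjective (hC.δ 0 1 rfl).hom := (AddCommGrpCat.epi_iff_surjective _).1 hepi
    have h2 : Function.Surjective (h0 (hF2 (injSES F).X₃)).hom.hom :=
      ((ConcreteCategory.isIso_iff_bijective _).1 inferInstance).2
    exact h1.comp h2
  have hf₂ : Function.Surjective f₂ :=
    (ext_shift_surjective hS (CohCx.freeSheaf J U) 0
      (fun x => Ext.eq_zero_of_injective x)).comp (sectExt (injSES F).X₃).surjective
  have hk₁ : ∀ t, f₁ t = 0 ↔ ∃ s, ((injSES F).g.hom.app (op U)).hom s = t := by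
    intro t
    constructor
    · intro ht
      obtain ⟨z, hz⟩ := hex ((h0 (hF2 (injSES F).X₃)).hom.hom t) ht
      have hsurj : Function.Surjective (h0 (hF2 (injSES F).X₂)).hom.hom :=
        ((ConcreteCategory.isIso_iff_bijective _).1 inferInstance).2
      obtain ⟨s, rfl⟩ := hsurj z
      refine ⟨s, ?_⟩
      have hinj' : Function.Injective (h0 (hF2 (injSES F).X₃)).hom.hom :=
        ((ConcreteCategory.isIso_iff_bijective _).1 inferInstance).1
      apply hinj'
      have hn := ConcreteCategory.congr_hom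
        (h0_naturality (hF2 (injSES F).X₂) (hF2 (injSES F).X₃) (injSES F).g) s
      rw [ConcreteCategory.comp_apply, ConcreteCategory.comp_apply] at hn
      exact hn.symm.trans hz
    · rintro ⟨s, rfl⟩
      have hn := ConcreteCategory.congr_hom
        (h0_naturality (hF2 (injSES F).X₂) (hF2 (injSES F).X₃) (injSES F).g) s
      rw [ConcreteCategory.comp_apply, ConcreteCategory.comp_apply] at hn
      change (hC.δ 0 1 rfl).hom ((h0 (hF2 (injSES F).X₃)).hom.hom _) = 0
      erw [← hn]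
      have hz := ConcreteCategory.congr_hom (hC.comp_δ 0 1 rfl)
        ((h0 (hF2 (injSES F).X₂)).hom.hom s)
      rw [ConcreteCategory.comp_apply] at hz
      exact hz
  have hk₂ : ∀ t, f₂ t = 0 ↔ ∃ s, ((injSES F).g.hom.app (op U)).hom s = t := by
    intro t
    constructor
    · intro ht
      obtain ⟨x₂, hx₂⟩ := ext_shift_ker hS (CohCx.freeSheaf J U) _ ht
      obtain ⟨ψ, rfl⟩ := (Ext.mk₀_bijective _ _).2 x₂
      refine ⟨CohFree.evalGen J U _ ψ, ?_⟩
      have hx₂' : (Ext.mk₀ ψ).comp (Ext.mk₀ (injSES F).g) (add_zero 0) =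
          Ext.mk₀ (CohFree.ofSect J U (injSES F).X₃ t) := hx₂
      rw [Ext.mk₀_comp_mk₀] at hx₂'
      have h3 := (Ext.mk₀_bijective _ _).1 hx₂'
      rw [← evalGen_comp', h3, CohFree.evalGen_ofSect]
    · rintro ⟨s, rfl⟩
      change (sectExt (injSES F).X₃ _).comp hS.extClass (rfl : 0 + 1 = 1) = 0
      rw [sectExt_apply, ← ofSect_comp', ← Ext.mk₀_comp_mk₀, Ext.comp_assoc_of_second_deg_zero,
        hS.comp_extClass, Ext.comp_zero]
  exact addEquiv_of_same_kernel f₁ f₂ hf₁ hf₂ (fun t => (hk₁ t).trans (hk₂ t).symm)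


include hinj hF2 in
/-- **Čech cohomology computes cohomology for acyclic families** (abstract form) -/
theorem cech_iso : ∀ (p : ℕ) (F : Sheaf J AddCommGrpCat.{u}), Acyc Φ Y F →
    Nonempty ((CF Φ Y F).homology p ≃+ Ext.{u} (CohCx.freeSheaf J U) F p)
  | 0, F, _ => ⟨(h0 (hF2 F)).symm.addCommGroupIsoToAddEquiv.trans (sectExt F)⟩
  | 1, F, hF => cech_iso_one hinj hF2 F hF
  | (p + 2), F, hF => by
    have hS := injSES_shortExact F
    have hC := CF_shortExact Φ Y hS (fun n a x => hF n a 0 x)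
    have hI1 : IsZero ((CF Φ Y (injSES F).X₂).homology (p + 1)) :=
      isZero_CF_homology_of_injective hinj _ p
    have hI2 : IsZero ((CF Φ Y (injSES F).X₂).homology (p + 2)) :=
      isZero_CF_homology_of_injective hinj _ (p + 1)
    obtain ⟨e⟩ := cech_iso (p + 1) (injSES F).X₃ (acyc_X₃ hS hF)
    have e₁ : (CF Φ Y (injSES F).X₃).homology (p + 1) ≃+ (CF Φ Y F).homology (p + 2) :=
      (hC.δIso (p + 1) (p + 2) rfl hI1 hI2).addCommGroupIsoToAddEquiv
    have e₂ : Ext.{u} (CohCx.freeSheaf J U) (injSES F).X₃ (p + 1) ≃+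
        Ext.{u} (CohCx.freeSheaf J U) F (p + 2) :=
      AddEquiv.ofBijective (hS.extClass.postcomp (CohCx.freeSheaf J U) (rfl : p + 1 + 1 = p + 2))
        ⟨ext_shift_injective hS _ (p + 1) (fun x => Ext.eq_zero_of_injective x),
          ext_shift_surjective hS _ (p + 1) (fun x => Ext.eq_zero_of_injective x)⟩
    exact ⟨e₁.symm.trans (e.trans e₂)⟩

end Groth.Agent.H18.Cech
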