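import Groth.Agent.Lib.helper18.Cech8

set_option autoImplicit false
set_option linter.unusedSectionVars false
open CategoryTheory CategoryTheory.Limits CategoryTheory.Abelian Opposite Simplicial

namespace Groth.Agent.H18.Cech

universe u

variable {D : Type u} [SmallCategory D] (P : Dᵒᵖ ⥤ AddCommGrpCat.{u})

lemma pr_congr {Z : FormalCoproduct.{u} D} {a a' : Z.I} (h : a = a') (x : EV P Z) :
    (P.map (eqToHom (congrArg Z.obj h)).op).hom (pr P Z a' x) = pr P Z a x := by
  subst h
  simp

variable [HasFiniteProducts D] (X : FormalCoproduct.{u} D)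

/-- the first Čech differential (clean types) -/
noncomputable def d0 : EV P (X.power (Fin 1)) ⟶ EV P (X.power (Fin 2)) :=
  EVmap P (dd X 0 0) - EVmap P (dd X 0 1)

lemma CC_d0 : (CC P X.cech).d 0 1 = d0 P X := by
  refine (CC_d P X.cech 0).trans ?_
  have h : (∑ i : Fin 2, (-1 : ℤ) ^ (i : ℕ) • EVmap P (X.cech.δ i)) =
      EVmap P (X.cech.δ 0) - EVmap P (X.cech.δ 1) := by
    rw [Fin.sum_univ_two]
    simp [sub_eq_add_neg]
  exact h

/-- explicit formula for the first Čech differential -/
lemma pr_d0 (x : EV P (X.power (Fin 1))) (b : Fin 2 → X.I) :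
    pr P (X.power (Fin 2)) b ((d0 P X).hom x) =
      (P.map ((dd X 0 0).φ b).op).hom (pr P (X.power (Fin 1)) ((dd X 0 0).f b) x) -
      (P.map ((dd X 0 1).φ b).op).hom (pr P (X.power (Fin 1)) ((dd X 0 1).f b) x) := by
  rw [d0, AddCommGrpCat.hom_sub, AddMonoidHom.sub_apply, map_sub, pr_EVmap, pr_EVmap]

end Groth.Agent.H18.Cech
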