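import Mathlib

set_option autoImplicit false
set_option linter.unusedSectionVars false
open CategoryTheory CategoryTheory.Limits CategoryTheory.Abelian Opposite

namespace Groth.Agent.H18.ExtDer

universe v u

variable {C : Type u} [Category.{v} C] [Abelian C] [HasExt.{v} C]

/-- `Hom(P, -)` as an additive functor to abelian groups -/
abbrev hF (P : C) : C ⥤ AddCommGrpCat.{v} := preadditiveCoyoneda.obj (op P)

section

variable {P N : C} (I : InjectiveResolution N)

/-- the complex `Hom(P, I^•)` -/
noncomputable abbrev K : CochainComplex AddCommGrpCat.{v} ℕ :=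
  ((hF P).mapHomologicalComplex (ComplexShape.up ℕ)).obj I.cocomplex

/-- elements of `Hom(P, I^•)` in degree `n` are morphisms -/
def toHom (n : ℕ) (x : (K (P := P) I).X n) : P ⟶ I.cocomplex.X n := x

/-- morphisms are elements of `Hom(P, I^•)` in degree `n` -/
def ofHom (n : ℕ) (f : P ⟶ I.cocomplex.X n) : (K (P := P) I).X n := f

@[simp] lemma toHom_ofHom (n : ℕ) (f : P ⟶ I.cocomplex.X n) : toHom I n (ofHom I n f) = f := rfl

lemma toHom_zero (n : ℕ) : toHom (P := P) I n 0 = 0 := rfl
lemma toHom_add (n : ℕ) (x y : (K (P := P) I).X n) : toHom I n (x + y) = toHom I n x + toHom I n y := rfl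

lemma toHom_d (n m : ℕ) (x : (K (P := P) I).X n) :
    toHom I m (((K (P := P) I).d n m).hom x) = toHom I n x ≫ I.cocomplex.d n m := rfl

lemma extMk_congr {n : ℕ} {f f' : P ⟶ I.cocomplex.X n} (h : f = f') (m : ℕ) (hm : n + 1 = m)
    (hf : f ≫ I.cocomplex.d n m = 0) :
    I.extMk f m hm hf = I.extMk f' m hm (by rw [← h]; exact hf) := by
  subst h
  rfl

lemma cocycle (n : ℕ) (z : (K (P := P) I).cycles n) :
    toHom I n (((K (P := P) I).iCycles n).hom z) ≫ I.cocomplex.d n (n + 1) = 0 :=
  ConcreteCategory.congr_hom ((K (P := P) I).iCycles_d n (n + 1)) z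

/-- cycles of `Hom(P, I^•)` give `Ext` classes (function) -/
noncomputable def cyclesToExtFun (n : ℕ) (z : (K (P := P) I).cycles n) : Ext.{v} P N n :=
  I.extMk (toHom I n (((K (P := P) I).iCycles n).hom z)) (n + 1) rfl (cocycle I n z)

lemma cyclesToExtFun_zero (n : ℕ) : cyclesToExtFun (P := P) I n 0 = 0 :=
  (extMk_congr I (show toHom I n (((K (P := P) I).iCycles n).hom 0) = 0 from
    congrArg (toHom I n) (map_zero ((K (P := P) I).iCycles n).hom)) (n + 1) rfl (cocycle I n 0)).trans
    (I.extMk_zero (n + 1) rfl)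

lemma cyclesToExtFun_add (n : ℕ) (z z' : (K (P := P) I).cycles n) :
    cyclesToExtFun I n (z + z') = cyclesToExtFun I n z + cyclesToExtFun I n z' :=
  (extMk_congr I (show toHom I n (((K (P := P) I).iCycles n).hom (z + z')) =
      toHom I n (((K (P := P) I).iCycles n).hom z) + toHom I n (((K (P := P) I).iCycles n).hom z') from
    congrArg (toHom I n) (map_add ((K (P := P) I).iCycles n).hom z z')) (n + 1) rfl
    (cocycle I n (z + z'))).trans
    (I.add_extMk _ _ (n + 1) rfl (cocycle I n z) (cocycle I n z')).symm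

/-- cycles of `Hom(P, I^•)` give `Ext` classes -/
noncomputable def cyclesToExt (n : ℕ) :
    (K (P := P) I).cycles n ⟶ (extFunctorObj P n).obj N :=
  AddCommGrpCat.ofHom
    { toFun := cyclesToExtFun I n
      map_zero' := cyclesToExtFun_zero I n
      map_add' := cyclesToExtFun_add I n }

lemma cyclesToExt_apply (n : ℕ) (z : (K (P := P) I).cycles n) :
    (cyclesToExt I n).hom z =
      I.extMk (toHom I n (((K (P := P) I).iCycles n).hom z)) (n + 1) rfl (cocycle I n z) := rfl

lemma toCycles_cyclesToExt (m : ℕ) :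
    (K (P := P) I).toCycles m (m + 1) ≫ cyclesToExt I (m + 1) = 0 := by
  ext g
  refine (cyclesToExt_apply I (m + 1) (((K (P := P) I).toCycles m (m + 1)).hom g)).trans ?_
  refine (InjectiveResolution.extMk_eq_zero_iff _ _ _ rfl _ m rfl).2 ⟨toHom I m g, ?_⟩
  exact (congrArg (toHom I (m + 1))
    (ConcreteCategory.congr_hom ((K (P := P) I).toCycles_i m (m + 1)) g)).symm

/-- the comparison map `H^{m+1}(Hom(P, I^•)) ⟶ Ext^{m+1}(P, N)` -/
noncomputable def homologyToExt (m : ℕ) :
    (K (P := P) I).homology (m + 1) ⟶ (extFunctorObj P (m + 1)).obj N :=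
  ((K (P := P) I).homologyIsCokernel m (m + 1) (by simp)).desc
    (CokernelCofork.ofπ _ (toCycles_cyclesToExt I m))

@[reassoc]
lemma π_homologyToExt (m : ℕ) :
    (K (P := P) I).homologyπ (m + 1) ≫ homologyToExt I m = cyclesToExt I (m + 1) :=
  ((K (P := P) I).homologyIsCokernel m (m + 1) (by simp)).fac
    (CokernelCofork.ofπ _ (toCycles_cyclesToExt I m)) WalkingParallelPair.one

lemma homologyToExt_bijective (m : ℕ) : Function.Bijective (homologyToExt (P := P) I m) := by
  have hπ : Function.Surjective ((K (P := P) I).homologyπ (m + 1)) :=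
    (AddCommGrpCat.epi_iff_surjective _).1 inferInstance
  have hi : Function.Injective ((K (P := P) I).iCycles (m + 1)) :=
    (AddCommGrpCat.mono_iff_injective _).1 inferInstance
  constructor
  · rw [injective_iff_map_eq_zero]
    intro x hx
    obtain ⟨z, rfl⟩ := hπ x
    have h1 : (cyclesToExt I (m + 1)).hom z = 0 := by
      rw [← π_homologyToExt]
      exact hx
    obtain ⟨g, hg⟩ := (InjectiveResolution.extMk_eq_zero_iff _ _ _ rfl _ m rfl).1
      ((cyclesToExt_apply I (m + 1) z).symm.trans h1)
    have h2 : ((K (P := P) I).toCycles m (m + 1)).hom (ofHom I m g) = z := by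
      apply hi
      exact (ConcreteCategory.congr_hom ((K (P := P) I).toCycles_i m (m + 1)) (ofHom I m g)).trans hg
    rw [← h2]
    exact ConcreteCategory.congr_hom ((K (P := P) I).toCycles_comp_homologyπ m (m + 1)) (ofHom I m g)
  · intro α
    obtain ⟨f, hf, rfl⟩ := I.extMk_surjective α (m + 1 + 1) rfl
    let A := AddCommGrpCat.of (AddMonoidHom.ker ((K (P := P) I).d (m + 1) (m + 1 + 1)).hom)
    let k : A ⟶ (K (P := P) I).X (m + 1) := AddCommGrpCat.ofHom (AddSubgroup.subtype _)
    have hk : k ≫ (K (P := P) I).d (m + 1) (m + 1 + 1) = 0 := by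
      ext ⟨a, ha⟩
      exact ha
    let a : A := ⟨ofHom I (m + 1) f, hf⟩
    let z := ((K (P := P) I).liftCycles k (m + 1 + 1) (by simp) hk).hom a
    have hz : toHom I (m + 1) (((K (P := P) I).iCycles (m + 1)).hom z) = f :=
      congrArg (toHom I (m + 1))
        (ConcreteCategory.congr_hom ((K (P := P) I).liftCycles_i k (m + 1 + 1) (by simp) hk) a)
    refine ⟨((K (P := P) I).homologyπ (m + 1)).hom z, ?_⟩
    have := ConcreteCategory.congr_hom (π_homologyToExt (P := P) I m) z
    refine this.trans ?_
    rw [cyclesToExt_apply]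
    exact extMk_congr I hz _ rfl _

instance isIso_homologyToExt (m : ℕ) : IsIso (homologyToExt (P := P) I m) :=
  (ConcreteCategory.isIso_iff_bijective _).2 (homologyToExt_bijective I m)

/-- naturality of `homologyToExt` with respect to morphisms of resolutions -/
lemma homologyToExt_naturality {N' : C} (I' : InjectiveResolution N') (g : N ⟶ N')
    (φ : InjectiveResolution.Hom I I' g) (m : ℕ) :
    HomologicalComplex.homologyMap (((hF P).mapHomologicalComplex (ComplexShape.up ℕ)).map φ.hom) (m + 1) ≫
        homologyToExt I' m =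
      homologyToExt I m ≫ (extFunctorObj P (m + 1)).map g := by
  rw [← cancel_epi ((K (P := P) I).homologyπ (m + 1)), π_homologyToExt_assoc,
    HomologicalComplex.homologyπ_naturality_assoc, π_homologyToExt]
  ext z
  change (cyclesToExt I' (m + 1)).hom ((HomologicalComplex.cyclesMap
      (((hF P).mapHomologicalComplex (ComplexShape.up ℕ)).map φ.hom) (m + 1)).hom z) =
    ((cyclesToExt I (m + 1)).hom z).comp (Ext.mk₀ g) (add_zero _)
  rw [cyclesToExt_apply, cyclesToExt_apply, InjectiveResolution.extMk_comp_mk₀ _ _ rfl _ φ]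
  refine extMk_congr I' ?_ _ rfl _
  exact congrArg (toHom I' (m + 1)) (ConcreteCategory.congr_hom (HomologicalComplex.cyclesMap_i
    (((hF P).mapHomologicalComplex (ComplexShape.up ℕ)).map φ.hom) (m + 1)) z)

end

section

variable [HasInjectiveResolutions C] (P : C)

/-- `R^{m+1} Hom(P, -)(N) ≅ Ext^{m+1}(P, N)` -/
noncomputable def isoSucc (N : C) (m : ℕ) :
    ((hF P).rightDerived (m + 1)).obj N ≅ (extFunctorObj P (m + 1)).obj N :=
  (injectiveResolution N).isoRightDerivedObj (hF P) (m + 1) ≪≫
    @asIso _ _ _ _ (homologyToExt (P := P) (injectiveResolution N) m)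
      (isIso_homologyToExt (injectiveResolution N) m)

/-- chosen morphism of injective resolutions over `g` -/
noncomputable def resHom {N N' : C} (g : N ⟶ N') :
    InjectiveResolution.Hom (injectiveResolution N) (injectiveResolution N') g where
  hom := InjectiveResolution.desc g (injectiveResolution N') (injectiveResolution N)
  ι_f_zero_comp_hom_f_zero :=
    HomologicalComplex.congr_hom (InjectiveResolution.desc_commutes g _ _) 0

lemma isoSucc_naturality {N N' : C} (g : N ⟶ N') (m : ℕ) :
    ((hF P).rightDerived (m + 1)).map g ≫ (isoSucc P N' m).hom =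
      (isoSucc P N m).hom ≫ (extFunctorObj P (m + 1)).map g := by
  dsimp only [isoSucc, Iso.trans_hom, asIso_hom]
  have h1 := InjectiveResolution.isoRightDerivedObj_hom_naturality g (injectiveResolution N)
    (injectiveResolution N') (resHom g).hom (by simpa using (resHom g).ι_f_zero_comp_hom_f_zero)
    (hF P) (m + 1)
  rw [reassoc_of% h1, Category.assoc]
  congr 1
  exact homologyToExt_naturality (injectiveResolution N) (injectiveResolution N') g (resHom g) m

/-- the natural isomorphism `R^{m+1} Hom(P, -) ≅ Ext^{m+1}(P, -)` -/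
noncomputable def natIsoSucc (m : ℕ) : (hF P).rightDerived (m + 1) ≅ extFunctorObj P (m + 1) :=
  NatIso.ofComponents (fun N => isoSucc P N m) (fun g => isoSucc_naturality P g m)

/-- `Hom(P, -) ≅ Ext^0(P, -)` -/
noncomputable def natIsoZero' : hF P ≅ extFunctorObj P 0 :=
  NatIso.ofComponents (fun N => (Ext.addEquiv₀ (X := P) (Y := N)).symm.toAddCommGrpIso)
    (fun {N N'} g => by
      ext (f : P ⟶ N)
      change Ext.mk₀ (f ≫ g) = (Ext.mk₀ f).comp (Ext.mk₀ g) (add_zero 0)
      rw [Ext.mk₀_comp_mk₀])

/-- the natural isomorphism `R^0 Hom(P, -) ≅ Ext^0(P, -)` -/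
noncomputable def natIsoZero : (hF P).rightDerived 0 ≅ extFunctorObj P 0 :=
  (hF P).rightDerivedZeroIsoSelf ≪≫ natIsoZero' P

/-- the natural isomorphism `R^n Hom(P, -) ≅ Ext^n(P, -)` -/
noncomputable def natIso : ∀ n : ℕ, (hF P).rightDerived n ≅ extFunctorObj P n
  | 0 => natIsoZero P
  | (m + 1) => natIsoSucc P m

end

end Groth.Agent.H18.ExtDer
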