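import Groth.Agent.Lib.helper18.CechExt
import Groth.Agent.Lib.helper18.ExtDer

set_option autoImplicit false
set_option linter.unusedSectionVars false
open CategoryTheory CategoryTheory.Limits CategoryTheory.Abelian Opposite

namespace Groth.Agent.H18.CechExt

open Groth.Agent.H18.Cech

universe u

section Aug

/-- an augmentation of a cochain complex of abelian groups which is exact in degree `0` -/
structure AugEx (K : CochainComplex AddCommGrpCat.{u} ℕ) {A : AddCommGrpCat.{u}}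
    (a : A ⟶ K.X 0) : Prop where
  w : a ≫ K.d 0 1 = 0
  inj : Function.Injective a.hom
  ex : ∀ x : K.X 0, (K.d 0 1).hom x = 0 → ∃ s, a.hom s = x

variable {K : CochainComplex AddCommGrpCat.{u} ℕ} {A : AddCommGrpCat.{u}} {a : A ⟶ K.X 0}

/-- `A ⟶ Z⁰` -/
noncomputable def AugEx.toCyc (h : AugEx K a) : A ⟶ K.cycles 0 :=
  K.liftCycles a 1 (by simp) h.w

lemma AugEx.toCyc_i (h : AugEx K a) : h.toCyc ≫ K.iCycles 0 = a :=
  K.liftCycles_i _ _ _ _

lemma AugEx.isIso_toCyc (h : AugEx K a) : IsIso h.toCyc := by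
  rw [ConcreteCategory.isIso_iff_bijective]
  constructor
  · intro s t hst
    apply h.inj
    have h1 := ConcreteCategory.congr_hom h.toCyc_i s
    have h2 := ConcreteCategory.congr_hom h.toCyc_i t
    rw [ConcreteCategory.comp_apply] at h1 h2
    rw [← h1, ← h2, hst]
  · intro z
    have hz : (K.d 0 1).hom ((K.iCycles 0).hom z) = 0 := by
      have := ConcreteCategory.congr_hom (K.iCycles_d 0 1) z
      rw [ConcreteCategory.comp_apply] at this
      exact this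
    obtain ⟨s, hs⟩ := h.ex _ hz
    refine ⟨s, ?_⟩
    have hmono : Function.Injective (K.iCycles 0).hom :=
      (AddCommGrpCat.mono_iff_injective _).1 inferInstance
    apply hmono
    have h1 := ConcreteCategory.congr_hom h.toCyc_i s
    rw [ConcreteCategory.comp_apply] at h1
    exact h1.trans hs

/-- `A ≅ H⁰` -/
noncomputable def AugEx.iso (h : AugEx K a) : A ≅ K.homology 0 :=
  haveI := h.isIso_toCyc
  asIso h.toCyc ≪≫ K.isoHomologyπ₀

lemma AugEx.iso_naturality {L : CochainComplex AddCommGrpCat.{u} ℕ} {B : AddCommGrpCat.{u}}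
    {b : B ⟶ L.X 0} (h : AugEx K a) (h' : AugEx L b) (φ : K ⟶ L) (g : A ⟶ B)
    (hg : a ≫ φ.f 0 = g ≫ b) :
    h.iso.hom ≫ HomologicalComplex.homologyMap φ 0 = g ≫ h'.iso.hom := by
  have h1 : h.toCyc ≫ HomologicalComplex.cyclesMap φ 0 = g ≫ h'.toCyc := by
    rw [← cancel_mono (L.iCycles 0), Category.assoc, Category.assoc,
      HomologicalComplex.cyclesMap_i, AugEx.toCyc_i, ← Category.assoc, AugEx.toCyc_i]
    exact hg
  dsimp only [AugEx.iso, Iso.trans_hom, asIso_hom]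
  rw [Category.assoc]
  have h2 : K.isoHomologyπ₀.hom ≫ HomologicalComplex.homologyMap φ 0 =
      HomologicalComplex.cyclesMap φ 0 ≫ L.isoHomologyπ₀.hom :=
    HomologicalComplex.homologyπ_naturality _ _
  rw [h2, ← Category.assoc, h1, Category.assoc]

end Aug

variable {D : Type u} [SmallCategory D]

/-- naturality of `e` in the presheaf -/
lemma e_naturality_right {P P' : Dᵒᵖ ⥤ AddCommGrpCat.{u}} (φ : P ⟶ P') (Z : FormalCoproduct.{u} D)
    (α : L.obj Z ⟶ P) : e P' Z (α ≫ φ) = (EVnat φ Z).hom (e P Z α) := by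
  apply EV_ext
  intro i
  rw [pr_e, pr_EVnat, pr_e]
  rfl

variable [HasFiniteProducts D] {ι : Type u} (Y : ι → D)

/-- the Čech nerve of the family -/
noncomputable abbrev WW : SimplicialObject (FormalCoproduct.{u} D) := (FormalCoproduct.mk ι Y).cech

/-- the presheaf representing `Ȟ⁰` -/
noncomputable def ZZ : Dᵒᵖ ⥤ AddCommGrpCat.{u} := cokernel ((KK (WW Y)).d 1 0)

/-- the projection `L(Y) ⟶ Z` -/
noncomputable def πZ : (KK (WW Y)).X 0 ⟶ ZZ Y := cokernel.π _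

instance : Epi (πZ Y) := coequalizer.π_epi

lemma d_πZ : (KK (WW Y)).d 1 0 ≫ πZ Y = 0 := cokernel.condition _

variable (Q : Dᵒᵖ ⥤ AddCommGrpCat.{u})

/-- the augmentation `Hom(Z, Q) ⟶ Č⁰(Q)` -/
noncomputable def aZ : AddCommGrpCat.of (ZZ Y ⟶ Q) ⟶ (CC Q (WW Y)).X 0 :=
  AddCommGrpCat.ofHom
    { toFun := fun f => ee Q (WW Y) 0 (πZ Y ≫ f)
      map_zero' := (congrArg (ee Q (WW Y) 0) comp_zero).trans (map_zero _)
      map_add' := fun f g => (congrArg (ee Q (WW Y) 0) (Preadditive.comp_add _ _ _ _ _ _)).trans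
        (map_add _ _ _) }

lemma aZ_apply (f : ZZ Y ⟶ Q) : (aZ Y Q).hom f = ee Q (WW Y) 0 (πZ Y ≫ f) := rfl

lemma augEx_aZ : AugEx (CC Q (WW Y)) (aZ Y Q) where
  w := by
    apply AddCommGrpCat.hom_ext
    apply AddMonoidHom.ext
    intro (f : ZZ Y ⟶ Q)
    change ((CC Q (WW Y)).d 0 1).hom (ee Q (WW Y) 0 (πZ Y ≫ f)) = 0
    rw [d_ee, ← Category.assoc, d_πZ, zero_comp, map_zero]
  inj := by
    intro f g hfg
    have h1 : πZ Y ≫ f = πZ Y ≫ g := (ee Q (WW Y) 0).injective hfg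
    exact (cancel_epi (πZ Y)).1 h1
  ex := by
    intro x hx
    obtain ⟨α, rfl⟩ := (ee Q (WW Y) 0).surjective x
    have h0 : (KK (WW Y)).d 1 0 ≫ α = 0 := by
      apply (ee Q (WW Y) 1).injective
      rw [map_zero, ← d_ee]
      exact hx
    refine ⟨cokernel.desc _ α h0, ?_⟩
    change ee Q (WW Y) 0 (cokernel.π _ ≫ cokernel.desc _ α h0) = _
    rw [cokernel.π_desc]


variable {Q}

lemma aZ_naturality {Q' : Dᵒᵖ ⥤ AddCommGrpCat.{u}} (g : Q ⟶ Q') :
    aZ Y Q ≫ ((cechComplexFunctor Y).map g).f 0 = (ExtDer.hF (ZZ Y)).map g ≫ aZ Y Q' := by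
  apply AddCommGrpCat.hom_ext
  apply AddMonoidHom.ext
  intro (f : ZZ Y ⟶ Q)
  change (EVnat g ((FormalCoproduct.mk _ Y).power (Fin 1))).hom (e Q _ (πZ Y ≫ f)) =
    e Q' _ (πZ Y ≫ f ≫ g)
  rw [← Category.assoc]
  exact (e_naturality_right g _ (πZ Y ≫ f)).symm

variable (Q)

/-- `Hom(Z, Q) ≃+ Ȟ⁰(Y, Q)` -/
noncomputable def h0Z : (ZZ Y ⟶ Q) ≃+ ((cechComplexFunctor Y).obj Q).homology 0 :=
  (augEx_aZ Y Q).iso.addCommGroupIsoToAddEquiv

/-- the same as an isomorphism of abelian groups -/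
noncomputable def h0ZIso : (ExtDer.hF (ZZ Y)).obj Q ≅ ((cechComplexFunctor Y).obj Q).homology 0 :=
  (augEx_aZ Y Q).iso

variable {Q}

lemma h0ZIso_naturality {Q' : Dᵒᵖ ⥤ AddCommGrpCat.{u}} (g : Q ⟶ Q') :
    (h0ZIso Y Q).hom ≫ HomologicalComplex.homologyMap ((cechComplexFunctor Y).map g) 0 =
      (ExtDer.hF (ZZ Y)).map g ≫ (h0ZIso Y Q').hom :=
  AugEx.iso_naturality (augEx_aZ Y Q) (augEx_aZ Y Q') ((cechComplexFunctor Y).map g) _
    (aZ_naturality Y g)

lemma h0Z_nat {Q' : Dᵒᵖ ⥤ AddCommGrpCat.{u}} (g : Q ⟶ Q') (f : ZZ Y ⟶ Q) :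
    h0Z Y Q' (f ≫ g) =
      (HomologicalComplex.homologyMap ((cechComplexFunctor Y).map g) 0).hom (h0Z Y Q f) := by
  have h := ConcreteCategory.congr_hom (h0ZIso_naturality Y g) f
  rw [ConcreteCategory.comp_apply, ConcreteCategory.comp_apply] at h
  exact h.symm

/-- **Čech cohomology of presheaves is `Ext` out of the representing presheaf** -/
theorem cechExt [HasExt.{u} (Dᵒᵖ ⥤ AddCommGrpCat.{u})] [EnoughInjectives (Dᵒᵖ ⥤ AddCommGrpCat.{u})]
    (p : ℕ) (Q : Dᵒᵖ ⥤ AddCommGrpCat.{u}) :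
    Nonempty (((cechComplexFunctor Y).obj Q).homology p ≃+ Ext.{u} (ZZ Y) Q p) :=
  shift_iso (cechComplexFunctor Y) (ZZ Y)
    (fun S hS => cech_shortExact S Y (fun n a => hS.map_of_exact _))
    (fun I hI n => isZero_cechH_of_injective Y I n)
    (fun Q => h0Z Y Q) (fun g f => h0Z_nat Y g f) p Q

end Groth.Agent.H18.CechExt
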