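import Groth.Agent.Lib.helper18.Cech12
import Groth.Agent.Lib.helper18.CechExt2

set_option autoImplicit false
set_option linter.unusedSectionVars false
open CategoryTheory CategoryTheory.Limits CategoryTheory.Abelian Opposite

namespace Groth.Agent.H18.CechExt

open Groth.Agent.H18.Cech

universe u

variable {D : Type u} [SmallCategory D] [HasFiniteProducts D] (P : Dᵒᵖ ⥤ AddCommGrpCat.{u})
  {ι : Type u} (Y : ι → D) {A : AddCommGrpCat.{u}} (c : ∀ i, A ⟶ P.obj (op (Y i)))

/-- the augmentation of the Čech complex attached to a family of maps `A ⟶ P(Y i)` -/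
noncomputable def augOf : A ⟶ EV P ((FormalCoproduct.mk ι Y).power (Fin 1)) :=
  Pi.lift (fun a : Fin 1 → ι => c (a 0) ≫ P.map (Pi.π (Y ∘ a) 0).op)

lemma pr_augOf (s : A) (a : Fin 1 → ι) :
    pr P ((FormalCoproduct.mk ι Y).power (Fin 1)) a ((augOf P Y c).hom s) =
      (P.map (Pi.π (Y ∘ a) 0).op).hom ((c (a 0)).hom s) := by
  have h1 : augOf P Y c ≫ Pi.π _ a = c (a 0) ≫ P.map (Pi.π (Y ∘ a) 0).op := Limits.Pi.lift_π _ _
  exact ConcreteCategory.congr_hom h1 s

lemma comp0_augOf (s : A) (i : ι) : comp0 P Y i ((augOf P Y c).hom s) = (c i).hom s := by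
  rw [comp0, pr_augOf]
  exact (map_map_apply P _ _ _ (ll_π Y i) _).trans (map_id_apply P _ rfl _)

/-- a criterion for an augmentation of the Čech complex to be exact in degree zero -/
theorem augEx_of
    (hw : ∀ (b : Fin 2 → ι) (s : A), (P.map (Pi.π (Y ∘ b) 0).op).hom ((c (b 0)).hom s) =
      (P.map (Pi.π (Y ∘ b) 1).op).hom ((c (b 1)).hom s))
    (hinj : ∀ s : A, (∀ i, (c i).hom s = 0) → s = 0)
    (hex : ∀ t : ∀ i, P.obj (op (Y i)),
      (∀ b : Fin 2 → ι, (P.map (Pi.π (Y ∘ b) 0).op).hom (t (b 0)) =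
        (P.map (Pi.π (Y ∘ b) 1).op).hom (t (b 1))) → ∃ s : A, ∀ i, (c i).hom s = t i) :
    AugEx (CC P (FormalCoproduct.mk ι Y).cech) (augOf P Y c) := by
  have hd0 : ∀ s : A, (d0 P (FormalCoproduct.mk ι Y)).hom ((augOf P Y c).hom s) = 0 := by
    intro s
    apply EV_ext
    intro b
    have h1 := pr_d0' P Y ((augOf P Y c).hom s) b
    rw [comp0_augOf, comp0_augOf] at h1
    exact h1.trans ((sub_eq_zero.mpr (hw b s).symm).trans
      (pr_zero P ((FormalCoproduct.mk ι Y).power (Fin 2)) b).symm)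
  refine ⟨?_, ?_, ?_⟩
  · have h : augOf P Y c ≫ d0 P (FormalCoproduct.mk ι Y) = 0 := by
      apply AddCommGrpCat.hom_ext
      apply AddMonoidHom.ext
      intro s
      exact hd0 s
    exact (congrArg (fun t => augOf P Y c ≫ t) (CC_d0 P (FormalCoproduct.mk ι Y))).trans h
  · rw [injective_iff_map_eq_zero]
    intro s hs
    apply hinj
    intro i
    have h1 := comp0_augOf P Y c s i
    have h2 : comp0 P Y i ((augOf P Y c).hom s) = 0 :=
      (congrArg (comp0 P Y i) hs).trans (comp0_zero P Y i)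
    exact h1.symm.trans h2
  · intro x hx
    have hx' : (d0 P (FormalCoproduct.mk ι Y)).hom x = 0 :=
      (congrArg (fun t : EV P ((FormalCoproduct.mk ι Y).power (Fin 1)) ⟶
        EV P ((FormalCoproduct.mk ι Y).power (Fin 2)) => t.hom x)
        (CC_d0 P (FormalCoproduct.mk ι Y))).symm.trans hx
    obtain ⟨s, hs⟩ := hex (fun i => comp0 P Y i x) (fun b => by
      have h1 := congrArg (pr P ((FormalCoproduct.mk ι Y).power (Fin 2)) b) hx'
      have h2 := (pr_d0' P Y x b).symm.trans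
        (h1.trans (pr_zero P ((FormalCoproduct.mk ι Y).power (Fin 2)) b))
      exact (sub_eq_zero.mp h2).symm)
    refine ⟨s, ?_⟩
    apply EV_ext
    intro (a : Fin 1 → ι)
    have h1 := pr_augOf P Y c s a
    have h2 := pr_eq P Y x a
    exact h1.trans ((congrArg _ (hs (a 0))).trans h2.symm)

end Groth.Agent.H18.CechExt
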