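import Groth.Agent.Lib.helper18.Cech8

set_option autoImplicit false
set_option linter.unusedSectionVars false
open CategoryTheory CategoryTheory.Limits CategoryTheory.Abelian Opposite

namespace Groth.Agent.H18.CechExt

open Groth.Agent.H18.Cech

universe v' u'

variable {𝒜 : Type u'} [Category.{v'} 𝒜] [Abelian 𝒜] [EnoughInjectives 𝒜] [HasExt.{v'} 𝒜]
  (K : 𝒜 ⥤ CochainComplex AddCommGrpCat.{v'} ℕ) [K.PreservesZeroMorphisms] (Z : 𝒜)
  (hK : ∀ S : ShortComplex 𝒜, S.ShortExact → (S.map K).ShortExact)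
  (hI : ∀ (I : 𝒜), Injective I → ∀ n : ℕ, IsZero ((K.obj I).homology (n + 1)))
  (h0 : ∀ Q : 𝒜, (Z ⟶ Q) ≃+ (K.obj Q).homology 0)
  (h0_nat : ∀ {Q Q' : 𝒜} (g : Q ⟶ Q') (f : Z ⟶ Q),
    h0 Q' (f ≫ g) = (HomologicalComplex.homologyMap (K.map g) 0).hom (h0 Q f))

include hK hI h0 h0_nat in
/-- degree one -/
lemma shift_iso_one (Q : 𝒜) : Nonempty ((K.obj Q).homology 1 ≃+ Ext.{v'} Z Q 1) := by
  have hS := injSES_shortExact Q
  have hC := hK _ hS
  have hI1 : IsZero ((K.obj (injSES Q).X₂).homology 1) := hI _ inferInstance 0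
  have hepi : Epi (hC.δ 0 1 rfl) := hC.epi_δ 0 1 rfl hI1
  have hex := hC.homology_exact₃ 0 1 rfl
  rw [ShortComplex.ab_exact_iff] at hex
  let f₁ : (Z ⟶ (injSES Q).X₃) →+ (K.obj Q).homology 1 :=
    (hC.δ 0 1 rfl).hom.comp (h0 (injSES Q).X₃).toAddMonoidHom
  let f₂ : (Z ⟶ (injSES Q).X₃) →+ Ext.{v'} Z Q 1 :=
    (hS.extClass.postcomp Z (rfl : 0 + 1 = 1)).comp
      (Ext.addEquiv₀ (X := Z) (Y := (injSES Q).X₃)).symm.toAddMonoidHom
  have hf₁ : Function.Surjective f₁ := by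
    have h1 : Function.Surjective (hC.δ 0 1 rfl).hom := (AddCommGrpCat.epi_iff_surjective _).1 hepi
    exact h1.comp (h0 (injSES Q).X₃).surjective
  have hf₂ : Function.Surjective f₂ :=
    (ext_shift_surjective hS Z 0
      (fun x => Ext.eq_zero_of_injective x)).comp (Ext.addEquiv₀ (X := Z)).symm.surjective
  have hk₁ : ∀ t, f₁ t = 0 ↔ ∃ s : Z ⟶ (injSES Q).X₂, s ≫ (injSES Q).g = t := by
    intro t
    constructor
    · intro ht
      obtain ⟨z, hz⟩ := hex (h0 (injSES Q).X₃ t) ht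
      obtain ⟨s, rfl⟩ := (h0 (injSES Q).X₂).surjective z
      refine ⟨s, ?_⟩
      apply (h0 (injSES Q).X₃).injective
      exact (h0_nat (injSES Q).g s).trans hz
    · rintro ⟨s, rfl⟩
      change (hC.δ 0 1 rfl).hom (h0 (injSES Q).X₃ (s ≫ (injSES Q).g)) = 0
      rw [h0_nat]
      have hz := ConcreteCategory.congr_hom (hC.comp_δ 0 1 rfl) (h0 (injSES Q).X₂ s)
      rw [ConcreteCategory.comp_apply] at hz
      exact hz
  have hk₂ : ∀ t, f₂ t = 0 ↔ ∃ s : Z ⟶ (injSES Q).X₂, s ≫ (injSES Q).g = t := by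
    intro t
    constructor
    · intro ht
      obtain ⟨x₂, hx₂⟩ := ext_shift_ker hS Z _ ht
      obtain ⟨ψ, rfl⟩ := (Ext.mk₀_bijective _ _).2 x₂
      refine ⟨ψ, ?_⟩
      have hx₂' : (Ext.mk₀ ψ).comp (Ext.mk₀ (injSES Q).g) (add_zero 0) = Ext.mk₀ t := hx₂
      rw [Ext.mk₀_comp_mk₀] at hx₂'
      exact (Ext.mk₀_bijective _ _).1 hx₂'
    · rintro ⟨s, rfl⟩
      change (Ext.mk₀ (s ≫ (injSES Q).g)).comp hS.extClass (rfl : 0 + 1 = 1) = 0
      rw [← Ext.mk₀_comp_mk₀, Ext.comp_assoc_of_second_deg_zero, hS.comp_extClass, Ext.comp_zero]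
  exact addEquiv_of_same_kernel f₁ f₂ hf₁ hf₂ (fun t => (hk₁ t).trans (hk₂ t).symm)

include hK hI h0 h0_nat in
/-- **dimension shifting**: a cohomological functor given by complexes, effaced by injectives and
represented by `Z` in degree zero, computes `Ext(Z, -)` -/
theorem shift_iso : ∀ (p : ℕ) (Q : 𝒜), Nonempty ((K.obj Q).homology p ≃+ Ext.{v'} Z Q p)
  | 0, Q => ⟨(h0 Q).symm.trans Ext.addEquiv₀.symm⟩
  | 1, Q => shift_iso_one K Z hK hI h0 h0_nat Q
  | (p + 2), Q => by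
    have hS := injSES_shortExact Q
    have hC := hK _ hS
    have hI1 : IsZero ((K.obj (injSES Q).X₂).homology (p + 1)) := hI _ inferInstance p
    have hI2 : IsZero ((K.obj (injSES Q).X₂).homology (p + 2)) := hI _ inferInstance (p + 1)
    obtain ⟨e⟩ := shift_iso (p + 1) (injSES Q).X₃
    have e₁ : (K.obj (injSES Q).X₃).homology (p + 1) ≃+ (K.obj Q).homology (p + 2) :=
      (hC.δIso (p + 1) (p + 2) rfl hI1 hI2).addCommGroupIsoToAddEquiv
    have e₂ : Ext.{v'} Z (injSES Q).X₃ (p + 1) ≃+ Ext.{v'} Z Q (p + 2) :=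
      AddEquiv.ofBijective (hS.extClass.postcomp Z (rfl : p + 1 + 1 = p + 2))
        ⟨ext_shift_injective hS _ (p + 1) (fun x => Ext.eq_zero_of_injective x),
          ext_shift_surjective hS _ (p + 1) (fun x => Ext.eq_zero_of_injective x)⟩
    exact ⟨e₁.symm.trans (e.trans e₂)⟩

end Groth.Agent.H18.CechExt
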