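import Mathlib

/-!
# Simplicial homotopies between endomorphisms of a Čech nerve (helper18)

Any two endomorphisms of an arrow `F` which are the identity on the target induce simplicially
homotopic endomorphisms of the Čech nerve of `F`.
-/

set_option linter.unusedSimpArgs false
open CategoryTheory CategoryTheory.Limits Opposite Simplicial
universe v u

namespace Groth.Agent.H18.CechHomotopy

variable {C : Type u} [Category.{v} C] (F : Arrow C)
  [∀ n : ℕ, HasWidePullback F.right (fun _ : Fin (n + 1) => F.left) (fun _ => F.hom)]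

lemma succAbove_val {n : ℕ} (p : Fin (n+2)) (k : Fin (n+1)) :
    (p.succAbove k).val = if k.val < p.val then k.val else k.val + 1 := by
  unfold Fin.succAbove
  split_ifs with h1 h2 h2
  · rfl
  · exact absurd (Fin.lt_def.1 h1) (by simpa using h2)
  · exact absurd (Fin.lt_def.2 (by simpa using h2)) h1
  · rfl

lemma predAbove_val {n : ℕ} (p : Fin (n+1)) (k : Fin (n+2)) :
    (p.predAbove k).val = if p.val < k.val then k.val - 1 else k.val := by
  unfold Fin.predAbove
  split_ifs with h1 h2 h2
  · simp
  · exact absurd (Fin.lt_def.1 h1) (by simpa using h2)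
  · exact absurd (Fin.lt_def.2 (by simpa using h2)) h1
  · simp

set_option backward.isDefEq.respectTransparency false in
@[reassoc]
lemma δ_π (n : ℕ) (i : Fin (n+2)) (k : Fin (n+1)) :
    F.cechNerve.δ i ≫ WidePullback.π (fun _ : Fin (n+1) => F.hom) k =
      WidePullback.π (fun _ : Fin (n+2) => F.hom) (i.succAbove k) := by
  simp [SimplicialObject.δ]
  rfl

set_option backward.isDefEq.respectTransparency false in
@[reassoc]
lemma σ_π (n : ℕ) (i : Fin (n+1)) (k : Fin (n+2)) :
    F.cechNerve.σ i ≫ WidePullback.π (fun _ : Fin (n+2) => F.hom) k =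
      WidePullback.π (fun _ : Fin (n+1) => F.hom) (i.predAbove k) := by
  simp [SimplicialObject.σ]
  rfl

set_option backward.isDefEq.respectTransparency false in
@[reassoc]
lemma δ_base (n : ℕ) (i : Fin (n+2)) :
    F.cechNerve.δ i ≫ WidePullback.base (fun _ : Fin (n+1) => F.hom) =
      WidePullback.base (fun _ : Fin (n+2) => F.hom) := by
  simp [SimplicialObject.δ]

set_option backward.isDefEq.respectTransparency false in
@[reassoc]
lemma σ_base (n : ℕ) (i : Fin (n+1)) :
    F.cechNerve.σ i ≫ WidePullback.base (fun _ : Fin (n+2) => F.hom) =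
      WidePullback.base (fun _ : Fin (n+1) => F.hom) := by
  simp [SimplicialObject.σ]

set_option backward.isDefEq.respectTransparency false in
@[reassoc]
lemma map_π (φ : F ⟶ F) (n : ℕ) (k : Fin (n+1)) :
    (Arrow.mapCechNerve φ).app (op ⦋n⦌) ≫ WidePullback.π (fun _ : Fin (n+1) => F.hom) k =
      WidePullback.π (fun _ : Fin (n+1) => F.hom) k ≫ φ.left := by
  simp [Arrow.mapCechNerve]

set_option backward.isDefEq.respectTransparency false in
@[reassoc]
lemma map_base (φ : F ⟶ F) (n : ℕ) :
    (Arrow.mapCechNerve φ).app (op ⦋n⦌) ≫ WidePullback.base (fun _ : Fin (n+1) => F.hom) =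
      WidePullback.base (fun _ : Fin (n+1) => F.hom) ≫ φ.right := by
  simp [Arrow.mapCechNerve]

variable (t₀ t₁ : F.left ⟶ F.left) (h₀ : t₀ ≫ F.hom = F.hom) (h₁ : t₁ ≫ F.hom = F.hom)

/-- the homotopy operators -/
noncomputable def hmap {n : ℕ} (i : Fin (n+1)) :
    F.cechNerve _⦋n⦌ ⟶ F.cechNerve _⦋n+1⦌ :=
  WidePullback.lift (WidePullback.base (fun _ : Fin (n+1) => F.hom))
    (fun k : Fin (n+2) => WidePullback.π (fun _ : Fin (n+1) => F.hom) (i.predAbove k) ≫
      (if k ≤ i.castSucc then t₀ else t₁))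
    (fun k => by
      split_ifs
      · rw [Category.assoc, h₀, WidePullback.π_arrow]
      · rw [Category.assoc, h₁, WidePullback.π_arrow])

@[reassoc]
lemma hmap_π {n : ℕ} (i : Fin (n+1)) (k : Fin (n+2)) :
    hmap F t₀ t₁ h₀ h₁ i ≫ WidePullback.π (fun _ : Fin (n+2) => F.hom) k =
      WidePullback.π (fun _ : Fin (n+1) => F.hom) (i.predAbove k) ≫
        (if k ≤ i.castSucc then t₀ else t₁) := by
  unfold hmap
  exact WidePullback.lift_π _ _ _ _ _

@[reassoc]
lemma hmap_base {n : ℕ} (i : Fin (n+1)) :
    hmap F t₀ t₁ h₀ h₁ i ≫ WidePullback.base (fun _ : Fin (n+2) => F.hom) =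
      WidePullback.base (fun _ : Fin (n+1) => F.hom) := by
  unfold hmap
  exact WidePullback.lift_base _ _ _ _


omit [∀ n : ℕ, HasWidePullback F.right (fun _ : Fin (n + 1) => F.left) (fun _ => F.hom)] in
lemma wl (φ : F ⟶ F) (hr : φ.right = 𝟙 _) : φ.left ≫ F.hom = F.hom := by
  have := Arrow.w φ
  rw [hr] at this
  simpa using this

lemma π_ite_congr {n : ℕ} {a a' : Fin (n+1)} {c c' : Prop} [Decidable c] [Decidable c']
    (ha : a = a') (hc : c ↔ c') :
    WidePullback.π (fun _ : Fin (n+1) => F.hom) a ≫ (if c then t₀ else t₁) =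
      WidePullback.π (fun _ : Fin (n+1) => F.hom) a' ≫ (if c' then t₀ else t₁) := by
  subst ha
  by_cases h : c
  · rw [if_pos h, if_pos (hc.1 h)]
  · rw [if_neg h, if_neg (fun h' => h (hc.2 h'))]

lemma π_ite_left {n : ℕ} {a a' : Fin (n+1)} {c : Prop} [Decidable c]
    (ha : a = a') (hc : c) :
    WidePullback.π (fun _ : Fin (n+1) => F.hom) a ≫ (if c then t₀ else t₁) =
      WidePullback.π (fun _ : Fin (n+1) => F.hom) a' ≫ t₀ := by
  subst ha
  rw [if_pos hc]

lemma π_ite_right {n : ℕ} {a a' : Fin (n+1)} {c : Prop} [Decidable c]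
    (ha : a = a') (hc : ¬ c) :
    WidePullback.π (fun _ : Fin (n+1) => F.hom) a ≫ (if c then t₀ else t₁) =
      WidePullback.π (fun _ : Fin (n+1) => F.hom) a' ≫ t₁ := by
  subst ha
  rw [if_neg hc]

macro "fin_idx" : tactic => `(tactic|
  (apply Fin.ext
   simp only [succAbove_val, predAbove_val, Fin.val_succ, Fin.val_castSucc, Fin.val_last,
     Fin.val_zero]
   split_ifs <;> omega))

macro "fin_cond" : tactic => `(tactic|
  (simp only [Fin.le_def, succAbove_val, predAbove_val, Fin.val_succ, Fin.val_castSucc,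
     Fin.val_last, Fin.val_zero]
   split_ifs <;> omega))

noncomputable def homotopy (φ₀ φ₁ : F ⟶ F) (hr₀ : φ₀.right = 𝟙 _) (hr₁ : φ₁.right = 𝟙 _) :
    SimplicialObject.Homotopy (Arrow.mapCechNerve φ₀) (Arrow.mapCechNerve φ₁) where
  h i := hmap F φ₀.left φ₁.left (wl F φ₀ hr₀) (wl F φ₁ hr₁) i
  h_zero_comp_δ_zero n := by
    apply WidePullback.hom_ext
    · intro (k : Fin (n + 1))
      simp only [Category.assoc, δ_π, hmap_π, map_π]
      apply π_ite_right
      · fin_idx
      · fin_cond
    · simp only [Category.assoc, δ_base, hmap_base, map_base, hr₁, Category.comp_id]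
  h_last_comp_δ_last n := by
    apply WidePullback.hom_ext
    · intro (k : Fin (n + 1))
      simp only [Category.assoc, δ_π, hmap_π, map_π]
      apply π_ite_left
      · fin_idx
      · fin_cond
    · simp only [Category.assoc, δ_base, hmap_base, map_base, hr₀, Category.comp_id]
  h_succ_comp_δ_castSucc_of_lt {n} i j hij := by
    have hij' := Fin.le_def.1 hij
    simp only [Fin.val_castSucc] at hij'
    apply WidePullback.hom_ext
    · intro (k : Fin (n + 2))
      simp only [Category.assoc, δ_π, hmap_π, δ_π_assoc]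
      apply π_ite_congr
      · fin_idx
      · fin_cond
    · simp only [Category.assoc, δ_base, hmap_base, δ_base_assoc]
  h_succ_comp_δ_castSucc_succ {n} j := by
    apply WidePullback.hom_ext
    · intro (k : Fin (n + 2))
      simp only [Category.assoc, δ_π, hmap_π]
      apply π_ite_congr
      · fin_idx
      · fin_cond
    · simp only [Category.assoc, δ_base, hmap_base]
  h_castSucc_comp_δ_succ_of_lt {n} i j hji := by
    have hji' := Fin.lt_def.1 hji
    simp only [Fin.val_castSucc] at hji'
    apply WidePullback.hom_ext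
    · intro (k : Fin (n + 2))
      simp only [Category.assoc, δ_π, hmap_π, δ_π_assoc]
      apply π_ite_congr
      · fin_idx
      · fin_cond
    · simp only [Category.assoc, δ_base, hmap_base, δ_base_assoc]
  h_comp_σ_castSucc_of_le {n} i j hij := by
    have hij' := Fin.le_def.1 hij
    apply WidePullback.hom_ext
    · intro (k : Fin (n + 3))
      simp only [Category.assoc, σ_π, hmap_π, σ_π_assoc]
      apply π_ite_congr
      · fin_idx
      · fin_cond
    · simp only [Category.assoc, σ_base, hmap_base, σ_base_assoc]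
  h_comp_σ_succ_of_lt {n} i j hji := by
    have hji' := Fin.le_def.1 hji
    apply WidePullback.hom_ext
    · intro (k : Fin (n + 3))
      simp only [Category.assoc, σ_π, hmap_π, σ_π_assoc]
      apply π_ite_congr
      · fin_idx
      · fin_cond
    · simp only [Category.assoc, σ_base, hmap_base, σ_base_assoc]


lemma mapCechNerve_id : Arrow.mapCechNerve (𝟙 F) = 𝟙 F.cechNerve := by
  ext n
  induction n using Opposite.rec with | _ n => ?_
  induction n using SimplexCategory.rec with | _ n => ?_
  apply WidePullback.hom_ext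
  · intro (k : Fin (n + 1))
    rw [map_π]
    simp
  · rw [map_base]
    simp

theorem nonempty_homotopy (φ₀ φ₁ : F ⟶ F) (hr₀ : φ₀.right = 𝟙 _) (hr₁ : φ₁.right = 𝟙 _) :
    Nonempty (SimplicialObject.Homotopy (Arrow.mapCechNerve φ₀) (Arrow.mapCechNerve φ₁)) :=
  ⟨homotopy F φ₀ φ₁ hr₀ hr₁⟩

theorem nonempty_homotopy_id_left (φ : F ⟶ F) (hr : φ.right = 𝟙 _) :
    Nonempty (SimplicialObject.Homotopy (𝟙 F.cechNerve) (Arrow.mapCechNerve φ)) := by
  rw [← mapCechNerve_id]
  exact nonempty_homotopy F (𝟙 F) φ rfl hr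

theorem nonempty_homotopy_id_right (φ : F ⟶ F) (hr : φ.right = 𝟙 _) :
    Nonempty (SimplicialObject.Homotopy (Arrow.mapCechNerve φ) (𝟙 F.cechNerve)) := by
  rw [← mapCechNerve_id]
  exact nonempty_homotopy F φ (𝟙 F) hr rfl

end Groth.Agent.H18.CechHomotopy
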