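import Mathlib
import Groth.Agent.Lib.helper18.CechHomotopy

/-!
# Simplicial homotopies between maps of Čech objects of formal coproducts (helper18)

Two morphisms `f g : U ⟶ V` of formal coproducts induce simplicially homotopic maps
`U.cech ⟶ V.cech`; a simplicial homotopy induces a cochain homotopy after applying a
contravariant functor and taking alternating coface map complexes.
-/

set_option linter.unusedSimpArgs false
open CategoryTheory CategoryTheory.Limits Opposite Simplicial
universe w v u

namespace Groth.Agent.H18.CechFCHomotopy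

open Groth.Agent.H18.CechHomotopy (succAbove_val predAbove_val)

section Part1

variable {C : Type u} [Category.{v} C] [HasFiniteProducts C]

/-- projections of the Čech object -/
noncomputable def pr (U : FormalCoproduct.{w} C) (n : ℕ) (k : Fin (n+1)) : U.cech _⦋n⦌ ⟶ U :=
  U.powerπ (α := ToType ⦋n⦌) k

lemma hom_ext' (U : FormalCoproduct.{w} C) {Z : FormalCoproduct.{w} C} (n : ℕ)
    (a b : Z ⟶ U.cech _⦋n⦌)
    (h : ∀ k : Fin (n+1), a ≫ pr U n k = b ≫ pr U n k) : a = b :=
  Fan.IsLimit.hom_ext (U.isLimitPowerFan (ToType ⦋n⦌)) a b (fun k => h k)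

set_option backward.isDefEq.respectTransparency false in
@[reassoc]
lemma δ_π (U : FormalCoproduct.{w} C) (n : ℕ) (i : Fin (n+2)) (k : Fin (n+1)) :
    U.cech.δ i ≫ pr U n k = pr U (n+1) (i.succAbove k) := by
  simp [SimplicialObject.δ, pr]
  rfl

set_option backward.isDefEq.respectTransparency false in
@[reassoc]
lemma σ_π (U : FormalCoproduct.{w} C) (n : ℕ) (i : Fin (n+1)) (k : Fin (n+2)) :
    U.cech.σ i ≫ pr U (n+1) k = pr U n (i.predAbove k) := by
  simp [SimplicialObject.σ, pr]
  rfl

set_option backward.isDefEq.respectTransparency false in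
@[reassoc]
lemma powerMap_π {U V : FormalCoproduct.{w} C} (f : U ⟶ V) (α : Type) [HasProductsOfShape α C]
    (a : α) : FormalCoproduct.powerMap f α ≫ V.powerπ a = U.powerπ a ≫ f := by
  ext
  · simp
  · simp
    exact Pi.map_π _ _

/-- the map of Čech objects in degree `n` -/
noncomputable def cmap {U V : FormalCoproduct.{w} C} (f : U ⟶ V) (n : ℕ) :
    U.cech _⦋n⦌ ⟶ V.cech _⦋n⦌ :=
  FormalCoproduct.powerMap f (ToType ⦋n⦌)

@[reassoc]
lemma map_π {U V : FormalCoproduct.{w} C} (f : U ⟶ V) (n : ℕ) (k : Fin (n+1)) :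
    cmap f n ≫ pr V n k = pr U n k ≫ f :=
  powerMap_π f _ _

variable {U V : FormalCoproduct.{w} C} (f g : U ⟶ V)

/-- the homotopy operators -/
noncomputable def hmap {n : ℕ} (i : Fin (n+1)) : U.cech _⦋n⦌ ⟶ V.cech _⦋n+1⦌ :=
  Fan.IsLimit.lift (V.isLimitPowerFan (ToType ⦋n+1⦌))
    (fun k : Fin (n+2) => pr U n (i.predAbove k) ≫ (if k ≤ i.castSucc then f else g))

@[reassoc]
lemma hmap_π {n : ℕ} (i : Fin (n+1)) (k : Fin (n+2)) :
    hmap f g i ≫ pr V (n+1) k =
      pr U n (i.predAbove k) ≫ (if k ≤ i.castSucc then f else g) := by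
  unfold hmap
  exact Fan.IsLimit.fac (V.isLimitPowerFan (ToType ⦋n+1⦌)) _ k

lemma π_ite_congr {n : ℕ} {a a' : Fin (n+1)} {c c' : Prop} [Decidable c] [Decidable c']
    (ha : a = a') (hc : c ↔ c') :
    pr U n a ≫ (if c then f else g) = pr U n a' ≫ (if c' then f else g) := by
  subst ha
  by_cases h : c
  · rw [if_pos h, if_pos (hc.1 h)]
  · rw [if_neg h, if_neg (fun h' => h (hc.2 h'))]

lemma π_ite_left {n : ℕ} {a a' : Fin (n+1)} {c : Prop} [Decidable c]
    (ha : a = a') (hc : c) :
    pr U n a ≫ (if c then f else g) = pr U n a' ≫ f := by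
  subst ha
  rw [if_pos hc]

lemma π_ite_right {n : ℕ} {a a' : Fin (n+1)} {c : Prop} [Decidable c]
    (ha : a = a') (hc : ¬ c) :
    pr U n a ≫ (if c then f else g) = pr U n a' ≫ g := by
  subst ha
  rw [if_neg hc]

macro "fin_idx" : tactic => `(tactic|
  (apply Fin.ext
   simp only [succAbove_val, predAbove_val, Fin.val_succ, Fin.val_castSucc, Fin.val_last,
     Fin.val_zero]
   split_ifs <;> omega))

macro "fin_cond" : tactic => `(tactic|
  (simp only [Fin.le_def, succAbove_val, predAbove_val, Fin.val_succ, Fin.val_castSucc,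
     Fin.val_last, Fin.val_zero]
   split_ifs <;> omega))

/-- The simplicial homotopy between the maps of Čech objects induced by `f` and `g`. -/
noncomputable def homotopy :
    SimplicialObject.Homotopy (FormalCoproduct.cechFunctor.map f)
      (FormalCoproduct.cechFunctor.map g) where
  h i := hmap f g i
  h_zero_comp_δ_zero n := by
    show hmap f g (0 : Fin (n+1)) ≫ V.cech.δ 0 = cmap g n
    apply hom_ext' V n
    intro k
    simp only [FormalCoproduct.cechFunctor_obj, Category.assoc, δ_π, hmap_π, map_π]
    apply π_ite_right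
    · fin_idx
    · fin_cond
  h_last_comp_δ_last n := by
    show hmap f g (Fin.last n) ≫ V.cech.δ (Fin.last (n+1)) = cmap f n
    apply hom_ext' V n
    intro k
    simp only [FormalCoproduct.cechFunctor_obj, Category.assoc, δ_π, hmap_π, map_π]
    apply π_ite_left
    · fin_idx
    · fin_cond
  h_succ_comp_δ_castSucc_of_lt {n} i j hij := by
    have hij' := Fin.le_def.1 hij
    simp only [Fin.val_castSucc] at hij'
    show hmap f g j.succ ≫ V.cech.δ i.castSucc = U.cech.δ i ≫ hmap f g j
    apply hom_ext' V (n+1)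
    intro k
    simp only [FormalCoproduct.cechFunctor_obj, Category.assoc, δ_π, hmap_π, δ_π_assoc]
    apply π_ite_congr
    · fin_idx
    · fin_cond
  h_succ_comp_δ_castSucc_succ {n} j := by
    show hmap f g j.succ ≫ V.cech.δ j.castSucc.succ =
      hmap f g j.castSucc ≫ V.cech.δ j.castSucc.succ
    apply hom_ext' V (n+1)
    intro k
    simp only [FormalCoproduct.cechFunctor_obj, Category.assoc, δ_π, hmap_π]
    apply π_ite_congr
    · fin_idx
    · fin_cond
  h_castSucc_comp_δ_succ_of_lt {n} i j hji := by
    have hji' := Fin.lt_def.1 hji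
    simp only [Fin.val_castSucc] at hji'
    show hmap f g j.castSucc ≫ V.cech.δ i.succ = U.cech.δ i ≫ hmap f g j
    apply hom_ext' V (n+1)
    intro k
    simp only [FormalCoproduct.cechFunctor_obj, Category.assoc, δ_π, hmap_π, δ_π_assoc]
    apply π_ite_congr
    · fin_idx
    · fin_cond
  h_comp_σ_castSucc_of_le {n} i j hij := by
    have hij' := Fin.le_def.1 hij
    show hmap f g j ≫ V.cech.σ i.castSucc = U.cech.σ i ≫ hmap f g j.succ
    apply hom_ext' V (n+2)
    intro k
    simp only [FormalCoproduct.cechFunctor_obj, Category.assoc, σ_π, hmap_π, σ_π_assoc]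
    apply π_ite_congr
    · fin_idx
    · fin_cond
  h_comp_σ_succ_of_lt {n} i j hji := by
    have hji' := Fin.le_def.1 hji
    show hmap f g j ≫ V.cech.σ i.succ = U.cech.σ i ≫ hmap f g j.castSucc
    apply hom_ext' V (n+2)
    intro k
    simp only [FormalCoproduct.cechFunctor_obj, Category.assoc, σ_π, hmap_π, σ_π_assoc]
    apply π_ite_congr
    · fin_idx
    · fin_cond

end Part1

section Part2

universe v' u'

variable {D : Type u} [Category.{v} D] {A : Type u'} [Category.{v'} A] [Preadditive A]

/-- the simplicial object in `Aᵒᵖ` obtained from a contravariant functor -/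
abbrev sOp (E : Dᵒᵖ ⥤ A) (X : SimplicialObject D) : SimplicialObject Aᵒᵖ :=
  ((SimplicialObject.whiskering D Aᵒᵖ).obj E.rightOp).obj X

lemma d_unop (E : Dᵒᵖ ⥤ A) (X : SimplicialObject D) (n : ℕ) :
    (((AlgebraicTopology.alternatingFaceMapComplex Aᵒᵖ).obj (sOp E X)).d (n+1) n).unop =
      ((AlgebraicTopology.alternatingCofaceMapComplex A).obj (X.rightOp ⋙ E)).d n (n+1) := by
  rw [AlgebraicTopology.alternatingFaceMapComplex_obj_d]
  have : ((AlgebraicTopology.alternatingCofaceMapComplex A).obj (X.rightOp ⋙ E)).d n (n+1) =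
      AlgebraicTopology.AlternatingCofaceMapComplex.objD (X.rightOp ⋙ E) n := by
    simp [AlgebraicTopology.alternatingCofaceMapComplex,
      AlgebraicTopology.AlternatingCofaceMapComplex.obj]
  rw [this]
  simp only [AlgebraicTopology.AlternatingFaceMapComplex.objD,
    AlgebraicTopology.AlternatingCofaceMapComplex.objD, unop_sum, unop_zsmul]
  rfl

variable {X Y : SimplicialObject D} {τ₀ τ₁ : X ⟶ Y}

/-- A simplicial homotopy induces a cochain homotopy after applying a contravariant functor. -/
noncomputable def cochainHomotopy (H : SimplicialObject.Homotopy τ₀ τ₁) (E : Dᵒᵖ ⥤ A) :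
    Homotopy ((AlgebraicTopology.alternatingCofaceMapComplex A).map
        (((Functor.whiskeringLeft _ _ _).map (NatTrans.rightOp τ₀)).app E))
      ((AlgebraicTopology.alternatingCofaceMapComplex A).map
        (((Functor.whiskeringLeft _ _ _).map (NatTrans.rightOp τ₁)).app E)) where
  hom i j := ((H.whiskerRight E.rightOp).toChainHomotopy.hom j i).unop
  zero i j hij := by
    rw [(H.whiskerRight E.rightOp).toChainHomotopy.zero j i (by simpa using hij)]
    rfl
  comm i := by
    cases i with
    | zero =>
      have h0 := (H.whiskerRight E.rightOp).toChainHomotopy.comm 0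
      rw [Homotopy.dNext_zero_chainComplex, Homotopy.prevD_chainComplex, zero_add] at h0
      have h1 := congrArg Quiver.Hom.unop h0
      rw [unop_add, unop_comp, d_unop] at h1
      rw [Homotopy.dNext_cochainComplex, Homotopy.prevD_zero_cochainComplex, add_zero]
      exact h1
    | succ n =>
      have h0 := (H.whiskerRight E.rightOp).toChainHomotopy.comm (n+1)
      rw [Homotopy.dNext_succ_chainComplex, Homotopy.prevD_chainComplex] at h0
      have h1 := congrArg Quiver.Hom.unop h0
      rw [unop_add, unop_add, unop_comp, unop_comp, d_unop, d_unop] at h1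
      rw [Homotopy.dNext_cochainComplex, Homotopy.prevD_succ_cochainComplex, add_comm (_ ≫ _) (_ ≫ _)]
      exact h1

end Part2

end Groth.Agent.H18.CechFCHomotopy
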