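import Mathlib

set_option autoImplicit false
set_option linter.unusedSectionVars false
open CategoryTheory CategoryTheory.Limits Opposite

namespace Groth.Agent.H18.OverInj

universe u

open scoped Classical in
section

variable {C : Type u} [SmallCategory C] {U : C}

variable (Q : (Over U)ᵒᵖ ⥤ AddCommGrpCat.{u})

/-- the summands of the extension by zero -/
abbrev Summand (V : C) (φ : V ⟶ U) : Type u := Q.obj (op (Over.mk φ))

/-- the value of the extension by zero -/
abbrev ExtObj (V : C) : Type u := DirectSum (V ⟶ U) (fun φ => Summand Q V φ)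

lemma of_congr {V : C} {W : Over U} {φ₁ φ₂ : V ⟶ U} (h : φ₁ = φ₂) (f₁ : Over.mk φ₁ ⟶ W)
    (f₂ : Over.mk φ₂ ⟶ W) (hf : f₁.left = f₂.left) (x : Q.obj (op W)) :
    DirectSum.of (fun φ => Summand Q V φ) φ₁ ((Q.map f₁.op).hom x) =
      DirectSum.of (fun φ => Summand Q V φ) φ₂ ((Q.map f₂.op).hom x) := by
  subst h
  have : f₁ = f₂ := Over.OverMorphism.ext hf
  rw [this]

/-- the transition maps of the extension by zero -/
noncomputable def extMapHom {V' V : C} (g : V' ⟶ V) : ExtObj Q V →+ ExtObj Q V' :=
  DirectSum.toAddMonoid (fun φ =>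
    (DirectSum.of (fun φ' => Summand Q V' φ') (g ≫ φ)).comp
      (Q.map (Over.homMk g rfl : Over.mk (g ≫ φ) ⟶ Over.mk φ).op).hom)

lemma extMapHom_of {V' V : C} (g : V' ⟶ V) (φ : V ⟶ U) (x : Summand Q V φ) :
    extMapHom Q g (DirectSum.of (fun φ => Summand Q V φ) φ x) =
      DirectSum.of (fun φ' => Summand Q V' φ') (g ≫ φ)
        ((Q.map (Over.homMk g rfl : Over.mk (g ≫ φ) ⟶ Over.mk φ).op).hom x) := by
  simp [extMapHom]

/-- the extension by zero of a presheaf on `Over U` -/
noncomputable def ext : Cᵒᵖ ⥤ AddCommGrpCat.{u} where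
  obj V := AddCommGrpCat.of (ExtObj Q V.unop)
  map g := AddCommGrpCat.ofHom (extMapHom Q g.unop)
  map_id V := by
    apply AddCommGrpCat.hom_ext
    apply DirectSum.addHom_ext
    intro φ x
    change extMapHom Q (𝟙 V.unop) (DirectSum.of _ φ x) = DirectSum.of _ φ x
    rw [extMapHom_of]
    have := of_congr Q (Category.id_comp φ)
      (Over.homMk (𝟙 V.unop) rfl : Over.mk (𝟙 V.unop ≫ φ) ⟶ Over.mk φ) (𝟙 (Over.mk φ)) rfl x
    rw [this, op_id, Q.map_id]
    rfl
  map_comp {V₁ V₂ V₃} g g' := by
    apply AddCommGrpCat.hom_ext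
    apply DirectSum.addHom_ext
    intro φ x
    change extMapHom Q (g'.unop ≫ g.unop) (DirectSum.of _ φ x) =
      extMapHom Q g'.unop (extMapHom Q g.unop (DirectSum.of _ φ x))
    rw [extMapHom_of, extMapHom_of, extMapHom_of]
    have h2 : (Q.map (Over.homMk g'.unop rfl : Over.mk (g'.unop ≫ g.unop ≫ φ) ⟶
          Over.mk (g.unop ≫ φ)).op).hom
        ((Q.map (Over.homMk g.unop rfl : Over.mk (g.unop ≫ φ) ⟶ Over.mk φ).op).hom x) =
        (Q.map ((Over.homMk g'.unop rfl : Over.mk (g'.unop ≫ g.unop ≫ φ) ⟶
          Over.mk (g.unop ≫ φ)) ≫ (Over.homMk g.unop rfl : Over.mk (g.unop ≫ φ) ⟶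
            Over.mk φ)).op).hom x := by
      rw [op_comp, Q.map_comp]
      rfl
    rw [h2]
    exact of_congr Q (Category.assoc _ _ _) _ _ rfl x


variable {Q}

/-- functoriality of the extension by zero -/
noncomputable def extMap {Q' : (Over U)ᵒᵖ ⥤ AddCommGrpCat.{u}} (m : Q ⟶ Q') : ext Q ⟶ ext Q' where
  app V := AddCommGrpCat.ofHom
    (DirectSum.map (fun φ : V.unop ⟶ U => (m.app (op (Over.mk φ))).hom))
  naturality V V' g := by
    apply AddCommGrpCat.hom_ext
    apply DirectSum.addHom_ext
    intro φ x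
    change DirectSum.map _ (extMapHom Q g.unop (DirectSum.of _ φ x)) =
      extMapHom Q' g.unop (DirectSum.map _ (DirectSum.of _ φ x))
    rw [extMapHom_of, DirectSum.map_of, DirectSum.map_of, extMapHom_of]
    congr 1
    exact ConcreteCategory.congr_hom (m.naturality
      (Over.homMk g.unop rfl : Over.mk (g.unop ≫ φ) ⟶ Over.mk φ).op) x

instance {Q' : (Over U)ᵒᵖ ⥤ AddCommGrpCat.{u}} (m : Q ⟶ Q') [Mono m] : Mono (extMap m) := by
  have hm : ∀ W, Mono (m.app W) := fun W => inferInstance
  have : ∀ V, Mono ((extMap m).app V) := fun V => by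
    rw [AddCommGrpCat.mono_iff_injective]
    apply (DirectSum.map_injective _).2
    intro φ
    exact (AddCommGrpCat.mono_iff_injective _).1 (hm _)
  exact NatTrans.mono_of_mono_app _

variable (P : Cᵒᵖ ⥤ AddCommGrpCat.{u})

/-- the transpose of a morphism to the restriction -/
noncomputable def flat (f : Q ⟶ (Over.forget U).op ⋙ P) : ext Q ⟶ P where
  app V := AddCommGrpCat.ofHom
    (DirectSum.toAddMonoid (fun φ : V.unop ⟶ U => (f.app (op (Over.mk φ))).hom))
  naturality V V' g := by
    apply AddCommGrpCat.hom_ext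
    apply DirectSum.addHom_ext
    intro φ x
    change DirectSum.toAddMonoid (fun φ : V'.unop ⟶ U => (f.app (op (Over.mk φ))).hom)
        (extMapHom Q g.unop (DirectSum.of _ φ x)) =
      (P.map g).hom (DirectSum.toAddMonoid (fun φ : V.unop ⟶ U => (f.app (op (Over.mk φ))).hom)
        (DirectSum.of _ φ x))
    rw [extMapHom_of, DirectSum.toAddMonoid_of, DirectSum.toAddMonoid_of]
    exact ConcreteCategory.congr_hom (f.naturality
      (Over.homMk g.unop rfl : Over.mk (g.unop ≫ φ) ⟶ Over.mk φ).op) x

/-- the transpose of a morphism out of the extension by zero -/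
noncomputable def sharp (h : ext Q ⟶ P) : Q ⟶ (Over.forget U).op ⋙ P where
  app W := AddCommGrpCat.ofHom ((h.app (op W.unop.left)).hom.comp
    (DirectSum.of (fun φ : W.unop.left ⟶ U => Summand Q W.unop.left φ) W.unop.hom))
  naturality W W' k := by
    apply AddCommGrpCat.hom_ext
    apply AddMonoidHom.ext
    intro x
    change (h.app (op W'.unop.left)).hom (DirectSum.of _ W'.unop.hom ((Q.map k).hom x)) =
      (P.map k.unop.left.op).hom ((h.app (op W.unop.left)).hom (DirectSum.of _ W.unop.hom x))
    have h1 := ConcreteCategory.congr_hom (h.naturality k.unop.left.op)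
      (DirectSum.of (fun φ : W.unop.left ⟶ U => Summand Q W.unop.left φ) W.unop.hom x)
    rw [ConcreteCategory.comp_apply, ConcreteCategory.comp_apply] at h1
    refine Eq.trans ?_ h1
    congr 1
    change _ = extMapHom Q k.unop.left (DirectSum.of _ W.unop.hom x)
    rw [extMapHom_of]
    exact of_congr Q (Over.w k.unop).symm k.unop (Over.homMk k.unop.left rfl) rfl x

/-- **restriction to `Over U` preserves injective presheaves** -/
theorem injective_restrict [Injective P] : Injective ((Over.forget U).op ⋙ P) where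
  factors {Q Q'} f m _ := by
    refine ⟨sharp P (Injective.factorThru (flat P f) (extMap m)), ?_⟩
    apply NatTrans.ext
    funext W
    apply AddCommGrpCat.hom_ext
    apply AddMonoidHom.ext
    intro x
    change ((Injective.factorThru (flat P f) (extMap m)).app (op W.unop.left)).hom
      (DirectSum.of (fun φ : W.unop.left ⟶ U => Summand Q' W.unop.left φ) W.unop.hom
        ((m.app W).hom x)) = (f.app W).hom x
    have h1 := ConcreteCategory.congr_hom (NatTrans.congr_app
      (Injective.comp_factorThru (flat P f) (extMap m)) (op W.unop.left))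
      (DirectSum.of (fun φ : W.unop.left ⟶ U => Summand Q W.unop.left φ) W.unop.hom x)
    rw [NatTrans.comp_app, ConcreteCategory.comp_apply] at h1
    have h2 : ((extMap m).app (op W.unop.left)).hom
        (DirectSum.of (fun φ : W.unop.left ⟶ U => Summand Q W.unop.left φ) W.unop.hom x) =
        DirectSum.of (fun φ : W.unop.left ⟶ U => Summand Q' W.unop.left φ) W.unop.hom
          ((m.app W).hom x) := DirectSum.map_of _ _ _
    rw [h2] at h1
    refine h1.trans ?_
    change (DirectSum.toAddMonoid (fun φ : W.unop.left ⟶ U => (f.app (op (Over.mk φ))).hom) :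
        ExtObj Q W.unop.left →+ P.obj (op W.unop.left))
      (DirectSum.of (fun φ : W.unop.left ⟶ U => Summand Q W.unop.left φ) W.unop.hom x) = _
    rw [DirectSum.toAddMonoid_of]
    rfl

end

end Groth.Agent.H18.OverInj
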