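import Groth.Agent.Lib.helper18.Cech12
import Groth.Agent.Lib.helper18.OverInj
import Groth.Prelude.Def_CohCx

set_option autoImplicit false
set_option linter.unusedSectionVars false
open CategoryTheory CategoryTheory.Limits CategoryTheory.Abelian Opposite

namespace Groth.Agent.H18.CechSite

open Groth.Agent.H18.Cech

universe u

variable {C : Type u} [SmallCategory C] {J : GrothendieckTopology C}

section Sheaf

variable (F : Sheaf J AddCommGrpCat.{u}) {I : Type u} {S : C} {X : I → C} (f : ∀ i, X i ⟶ S)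
  (hf : Sieve.ofArrows _ f ∈ J S)

lemma isSheaf_type : Presieve.IsSheaf J (F.obj ⋙ forget AddCommGrpCat.{u}) :=
  (isSheaf_iff_isSheaf_of_type _ _).mp
    ((Presheaf.isSheaf_iff_isSheaf_forget J F.obj (forget AddCommGrpCat.{u})).1 F.property)

include hf in
lemma sheaf_ext (s s' : F.obj.obj (op S))
    (h : ∀ i, (F.obj.map (f i).op).hom s = (F.obj.map (f i).op).hom s') : s = s' := by
  have hsh : Presieve.IsSheafFor (F.obj ⋙ forget AddCommGrpCat.{u}) (Presieve.ofArrows X f) :=
    (isSheaf_type F).isSheafFor (Presieve.ofArrows X f) hf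
  rw [Presieve.isSheafFor_arrows_iff] at hsh
  obtain ⟨t, _, ht⟩ := hsh (fun i => (F.obj.map (f i).op).hom s') (by
    intro i j Z gi gj comm
    change (F.obj.map gi.op).hom ((F.obj.map (f i).op).hom s') =
      (F.obj.map gj.op).hom ((F.obj.map (f j).op).hom s')
    rw [← ConcreteCategory.comp_apply, ← ConcreteCategory.comp_apply, ← F.obj.map_comp,
      ← F.obj.map_comp, ← op_comp, ← op_comp, comm])
  exact (ht s h).trans (ht s' (fun i => rfl)).symm

include hf in
lemma sheaf_sep (s : F.obj.obj (op S)) (h : ∀ i, (F.obj.map (f i).op).hom s = 0) : s = 0 :=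
  sheaf_ext F f hf s 0 (fun i => (h i).trans (map_zero _).symm)

include hf in
lemma sheaf_glue (t : ∀ i, F.obj.obj (op (X i)))
    (ht : ∀ (i j : I) (Z : C) (gi : Z ⟶ X i) (gj : Z ⟶ X j), gi ≫ f i = gj ≫ f j →
      (F.obj.map gi.op).hom (t i) = (F.obj.map gj.op).hom (t j)) :
    ∃ s : F.obj.obj (op S), ∀ i, (F.obj.map (f i).op).hom s = t i := by
  have hsh : Presieve.IsSheafFor (F.obj ⋙ forget AddCommGrpCat.{u}) (Presieve.ofArrows X f) :=
    (isSheaf_type F).isSheafFor (Presieve.ofArrows X f) hf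
  rw [Presieve.isSheafFor_arrows_iff] at hsh
  obtain ⟨s, hs, _⟩ := hsh t (fun i j Z gi gj comm => ht i j Z gi gj comm)
  exact ⟨s, hs⟩

end Sheaf


section Site

variable [HasPullbacks C] {U : C} {ι : Type u} (Y : ι → Over U)

/-- the structure maps of a family of objects over `U` -/
abbrev yy (i : ι) : (Over.forget U).obj (Y i) ⟶ U := (Y i).hom

lemma hinj_site (I : Sheaf J AddCommGrpCat.{u}) (hI : Injective I) :
    Injective ((Over.forget U).op ⋙ I.obj) := by
  haveI : Injective I.obj :=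
    Injective.injective_of_adjoint (sheafificationAdjunction J AddCommGrpCat.{u}) I
  exact OverInj.injective_restrict I.obj

variable [HasExt.{u} (Sheaf J AddCommGrpCat.{u})]

theorem F2_site (hY : Sieve.ofArrows (fun i => (Y i).left) (fun i => (Y i).hom) ∈ J U)
    (F : Sheaf J AddCommGrpCat.{u}) : F2 (Over.forget U) Y (yy Y) F := by
  apply F2_of
  · intro b
    exact (Over.w (Pi.π (Y ∘ b) 0)).trans (Over.w (Pi.π (Y ∘ b) 1)).symm
  · intro s hs
    exact sheaf_sep F _ hY s hs
  · intro t ht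
    apply sheaf_glue F _ hY t
    intro i j Z gi gj comm
    let W : Over U := Over.mk (gi ≫ (Y i).hom)
    let b : Fin 2 → ι := ![i, j]
    let g : W ⟶ ∏ᶜ (Y ∘ b) := Pi.lift (fun k =>
      Fin.cases (motive := fun k => W ⟶ (Y ∘ b) k) (Over.homMk gi rfl)
        (fun k' => Fin.cases (motive := fun k' => W ⟶ (Y ∘ b) k'.succ)
          (Over.homMk gj comm.symm) (fun k'' => k''.elim0) k') k)
    have h0 : g ≫ Pi.π (Y ∘ b) 0 = Over.homMk gi rfl := Pi.lift_π _ _
    have h1 : g ≫ Pi.π (Y ∘ b) 1 = Over.homMk gj comm.symm := Pi.lift_π _ _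
    have h0' : g.left ≫ (Pi.π (Y ∘ b) 0).left = gi := congrArg CommaMorphism.left h0
    have h1' : g.left ≫ (Pi.π (Y ∘ b) 1).left = gj := congrArg CommaMorphism.left h1
    have key := congrArg (F.obj.map g.left.op).hom (ht b)
    have e0 := map_map_apply F.obj g.left (Pi.π (Y ∘ b) 0).left gi h0' (t i)
    have e1 := map_map_apply F.obj g.left (Pi.π (Y ∘ b) 1).left gj h1' (t j)
    exact e0.symm.trans (key.trans e1)

end Site

end Groth.Agent.H18.CechSite
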