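import Groth.Agent.Lib.helper18.CechExt2
import Groth.Agent.Lib.helper18.CechSite
import Groth.Agent.Lib.helper18.PshPush
import Groth.Agent.Lib.helper18.SSWrap

set_option autoImplicit false
set_option linter.unusedSectionVars false
open CategoryTheory CategoryTheory.Limits CategoryTheory.Abelian Opposite

namespace Groth.Agent.H18.CechSS

open Groth.Agent.H18.Cech Groth.Agent.H18.CechExt Groth.Agent.H18.CechSite

universe u

variable {C : Type u} [SmallCategory C] [HasPullbacks C] (J : GrothendieckTopology C)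
  {X : C} {ι : Type u} (Y : ι → Over X)

/-- restriction of presheaves to `Over X` -/
abbrev Res : (Cᵒᵖ ⥤ AddCommGrpCat.{u}) ⥤ ((Over X)ᵒᵖ ⥤ AddCommGrpCat.{u}) :=
  (Functor.whiskeringLeft _ _ _).obj (Over.forget X).op

/-- sheaves to presheaves on `Over X` -/
noncomputable abbrev TT : Sheaf J AddCommGrpCat.{u} ⥤ ((Over X)ᵒᵖ ⥤ AddCommGrpCat.{u}) := Rr (Over.forget X)

/-- `Hom(Z, -)` on presheaves on `Over X` -/
noncomputable abbrev GG : ((Over X)ᵒᵖ ⥤ AddCommGrpCat.{u}) ⥤ AddCommGrpCat.{u} := ExtDer.hF (ZZ Y)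

variable (hY : Sieve.ofArrows (fun i => (Y i).left) (fun i => (Y i).hom) ∈ J X)

/-- `Hom(Z, F|) ≅ F(X)` naturally in the sheaf `F` -/
noncomputable def sectIso : TT J ⋙ GG Y ≅ PshDer.T J ⋙ PshDer.E (op X) :=
  NatIso.ofComponents
    (fun F => h0ZIso Y ((TT J).obj F) ≪≫ (h0 (F2_site Y hY F)).symm)
    (fun {F G} φ => by
      have h1 := h0ZIso_naturality Y ((TT J).map φ)
      have h2 := h0_naturality (F2_site Y hY F) (F2_site Y hY G) φ
      have h3 : HomologicalComplex.homologyMap (CFmap (Over.forget X) Y φ) 0 ≫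
          (h0 (F2_site Y hY G)).inv = (h0 (F2_site Y hY F)).inv ≫ φ.hom.app (op X) := by
        rw [Iso.comp_inv_eq, Category.assoc, ← h2, Iso.inv_hom_id_assoc]
      change (ExtDer.hF (ZZ Y)).map ((TT J).map φ) ≫
        ((h0ZIso Y ((TT J).obj G)).hom ≫ (h0 (F2_site Y hY G)).inv) =
        ((h0ZIso Y ((TT J).obj F)).hom ≫ (h0 (F2_site Y hY F)).inv) ≫ φ.hom.app (op X)
      rw [← Category.assoc, ← h1, Category.assoc, Category.assoc]
      exact congrArg (fun t => (h0ZIso Y ((TT J).obj F)).hom ≫ t) h3)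

/-- `Hom(Z, F|) ≅ Hom(ℤ_X, F)` naturally in the sheaf `F` -/
noncomputable def compIso : TT J ⋙ GG Y ≅ ExtDer.hF (CohCx.freeSheaf J X) :=
  sectIso J Y hY ≪≫ PshDer.σ J (op X)


/-- `R^q(F ↦ F|_{Over X})(M) ≅ ℋ^q(M)|_{Over X}` -/
theorem rightDerived_TT (M : Sheaf J AddCommGrpCat.{u}) (q : ℕ) :
    Nonempty (((TT (X := X) J).rightDerived q).obj M ≅
      (Res (X := X)).obj (M.cohomologyPresheaf q)) := by
  have := PshPush.isGrothendieckAbelian_presheaf C
  have := PshPush.isGrothendieckAbelian_presheaf (Over X)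
  obtain ⟨e1⟩ := SSDegenerate.iso_of_cols_vanish (PshDer.T J) (Res (X := X)) M
    (fun Q _ q hq => CohTopOpen.isZero_rightDerived_of_exact (Res (X := X)) _ q hq)
    (fun p' q hp => CohTopOpen.isZero_rightDerived_of_exact (Res (X := X)) _ p' hp) q
  have e2 := (Res (X := X)).rightDerivedZeroIsoSelf.app (((PshDer.T J).rightDerived q).obj M)
  have e3 := (Res (X := X)).mapIso (PshDer.rightDerivedForgetIso J M q)
  exact ⟨e1 ≪≫ e2 ≪≫ e3⟩


include hY in
/-- **The Čech-to-derived-functor (Cartan–Leray) spectral sequence of a covering family** -/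
theorem cartanLeray (M : Sheaf J AddCommGrpCat.{u}) :
    ∃ (E : E₂CohomologicalSpectralSequence AddCommGrpCat.{u})
      (a : SpSeq.Abutment E (fun n : ℤ =>
        if 0 ≤ n then AddCommGrpCat.of (CohSite.HU M n.toNat X) else AddCommGrpCat.of PUnit.{u + 1})),
      (∀ n, a.IsFinite n) ∧ SpSeq.IsBounded E ∧
      ∀ p q : ℤ, Nonempty ((E.page 2 le_rfl).X (p, q) ≅
        (if 0 ≤ p ∧ 0 ≤ q then CohCx.cechH (M.cohomologyPresheaf q.toNat) Y p.toNat
         else AddCommGrpCat.of PUnit.{u + 1})) := by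
  have := PshPush.isGrothendieckAbelian_presheaf C
  have := PshPush.isGrothendieckAbelian_presheaf (Over X)
  have hT : ∀ Q : Sheaf J AddCommGrpCat.{u}, Injective Q → ∀ q : ℕ, 0 < q →
      IsZero (((GG Y).rightDerived q).obj ((TT J).obj Q)) := by
    intro Q hQ q hq
    obtain ⟨q', rfl⟩ : ∃ q', q = q' + 1 := ⟨q - 1, by omega⟩
    have : Injective ((TT (X := X) J).obj Q) := hinj_site Q hQ
    exact (GG Y).isZero_rightDerived_obj_injective_succ q' _
  refine SSWrap.ss_wrap (TT J) (GG Y) M hT (AddCommGrpCat.of PUnit.{u + 1})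
    (AddCommGrpCat.isZero_of_subsingleton _)
    (fun n => AddCommGrpCat.of (CohSite.HU M n X))
    (fun p q => CohCx.cechH (M.cohomologyPresheaf q) Y p) ?_ ?_
  · intro n
    have e1 : ((TT J ⋙ GG Y).rightDerived n).obj M ≅
        (extFunctorObj (CohCx.freeSheaf J X) n).obj M :=
      (ExtDer.rightDerivedIsoOfIso (compIso J Y hY) n).app M ≪≫ (ExtDer.natIso _ n).app M
    have e0 : AddCommGrpCat.of (CohSite.HU M n X) ≅
        (extFunctorObj (CohCx.freeSheaf J X) n).obj M := Iso.refl _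
    exact ⟨e0 ≪≫ e1.symm⟩
  · intro p q
    obtain ⟨a1⟩ := rightDerived_TT (X := X) J M q
    have a2 : ((GG Y).rightDerived p).obj (((TT (X := X) J).rightDerived q).obj M) ≅
        (extFunctorObj (ZZ Y) p).obj (((TT (X := X) J).rightDerived q).obj M) :=
      (ExtDer.natIso (ZZ Y) p).app _
    obtain ⟨a3⟩ := cechExt Y p (((TT (X := X) J).rightDerived q).obj M)
    have a4 : ((cechComplexFunctor Y).obj (((TT (X := X) J).rightDerived q).obj M)).homology p ≅
        ((cechComplexFunctor Y).obj ((Res (X := X)).obj (M.cohomologyPresheaf q))).homology p :=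
      (cechComplexFunctor Y ⋙ HomologicalComplex.homologyFunctor _ _ p).mapIso a1
    have a3' : ((cechComplexFunctor Y).obj (((TT (X := X) J).rightDerived q).obj M)).homology p ≅
        (extFunctorObj (ZZ Y) p).obj (((TT (X := X) J).rightDerived q).obj M) :=
      a3.toAddCommGrpIso
    exact ⟨a4.symm ≪≫ a3' ≪≫ a2.symm⟩

end Groth.Agent.H18.CechSS
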