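import Groth.Agent.Lib.helper18.CechSite
import Mathlib.CategoryTheory.Sites.EpiMono

set_option autoImplicit false
set_option linter.unusedSectionVars false
open CategoryTheory CategoryTheory.Limits CategoryTheory.Abelian Opposite

namespace Groth.Agent.H18.CechSite

open Groth.Agent.H18.Cech

universe u

variable {C : Type u} [SmallCategory C] {J : GrothendieckTopology C} [HasPullbacks C]
  [HasExt.{u} (Sheaf J AddCommGrpCat.{u})]

/-- sections of the quotient lift when every covering sieve can be refined by a covering family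
with vanishing `Ȟ¹` -/
theorem surj_site (S : ShortComplex (Sheaf J AddCommGrpCat.{u})) (hS : S.ShortExact) (U : C)
    (h : ∀ T ∈ J U, ∃ (ι : Type u) (Y : ι → Over U), (∀ i, T.arrows (Y i).hom) ∧
      Sieve.ofArrows (fun i => (Y i).left) (fun i => (Y i).hom) ∈ J U ∧
      IsZero (CohCx.cechH S.X₁.obj Y 1)) :
    Function.Surjective (S.g.hom.app (op U)) := by
  intro t
  have : Epi S.g := hS.epi_g
  have hloc : Sheaf.IsLocallySurjective S.g := (Sheaf.isLocallySurjective_iff_epi' AddCommGrpCat.{u} S.g).2 this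
  have hT := Presheaf.imageSieve_mem J S.g.hom (U := op U) t
  obtain ⟨ι, Y, hYT, hcov, hH1⟩ := h _ hT
  choose s hs using hYT
  let P₂ : (Over U)ᵒᵖ ⥤ AddCommGrpCat.{u} := (Over.forget U).op ⋙ S.X₂.obj
  let P₃ : (Over U)ᵒᵖ ⥤ AddCommGrpCat.{u} := (Over.forget U).op ⋙ S.X₃.obj
  let s' : EV P₂ ((FormalCoproduct.mk ι Y).power (Fin 1)) :=
    toEV P₂ ((FormalCoproduct.mk ι Y).power (Fin 1))
      (fun a => (S.X₂.obj.map (Pi.π (Y ∘ a) 0).left.op).hom (s (a 0)))
  have hs' : (EVnat ((Rr (Over.forget U)).map S.g) ((FormalCoproduct.mk ι Y).power (Fin 1))).hom s' =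
      (aug' (Over.forget U) Y (yy Y) S.X₃).hom t := by
    apply EV_ext P₃
    intro (a : Fin 1 → ι)
    have e1 : pr P₃ ((FormalCoproduct.mk ι Y).power (Fin 1)) a
        ((EVnat ((Rr (Over.forget U)).map S.g) ((FormalCoproduct.mk ι Y).power (Fin 1))).hom s') =
        (S.g.hom.app (op (∏ᶜ (Y ∘ a)).left)).hom
          (pr P₂ ((FormalCoproduct.mk ι Y).power (Fin 1)) a s') :=
      pr_EVnat ((Rr (Over.forget U)).map S.g) _ s' a
    have e1' : pr P₂ ((FormalCoproduct.mk ι Y).power (Fin 1)) a s' =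
        (S.X₂.obj.map (Pi.π (Y ∘ a) 0).left.op).hom (s (a 0)) :=
      pr_toEV P₂ ((FormalCoproduct.mk ι Y).power (Fin 1)) _ a
    have e2 := pr_aug' (Over.forget U) Y (yy Y) S.X₃ t a
    have e3 := ConcreteCategory.congr_hom
      (S.g.hom.naturality (Pi.π (Y ∘ a) 0).left.op) (s (a 0))
    rw [ConcreteCategory.comp_apply, ConcreteCategory.comp_apply] at e3
    have e4 : (S.X₃.obj.map (Pi.π (Y ∘ a) 0).left.op).hom
        ((S.g.hom.app (op (Y (a 0)).left)).hom (s (a 0))) =
        (S.X₃.obj.map ((Pi.π (Y ∘ a) 0).left ≫ (Y (a 0)).hom).op).hom t := by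
      have h5 : (S.g.hom.app (op (Y (a 0)).left)).hom (s (a 0)) =
          (S.X₃.obj.map (Y (a 0)).hom.op).hom t := hs (a 0)
      rw [h5]
      exact map_map_apply S.X₃.obj _ _ _ rfl t
    exact e1.trans ((congrArg _ e1').trans (e3.trans (e4.trans e2.symm)))
  exact ⟨_, (surj_of_cech_h1 hS (fun G => F2_site Y hcov G) hH1 t s' hs').choose_spec⟩

end Groth.Agent.H18.CechSite
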