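import Groth.Agent.Lib.helper18.CechSite2
import Groth.Agent.Lib.helper18.Cech11

set_option autoImplicit false
set_option linter.unusedSectionVars false
open CategoryTheory CategoryTheory.Limits CategoryTheory.Abelian Opposite

namespace Groth.Agent.H18.CechSite

open Groth.Agent.H18.Cech

universe u

variable {C : Type u} [SmallCategory C] {J : GrothendieckTopology C} [HasPullbacks C]
  [HasExt.{u} (Sheaf J AddCommGrpCat.{u})] [EnoughInjectives (Sheaf J AddCommGrpCat.{u})]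

/-- the Čech datum of a family of objects over `U` -/
noncomputable def datum {U : C} {ι : Type u} (Y : ι → Over U) : CechDatum C where
  D := Over U
  Φ := Over.forget U
  ι := ι
  Y := Y
  U := U
  y := yy Y

/-- **Cartan's criterion on a site** -/
theorem cartan_site (B : Set C) (Cov : ∀ (U : C) (ι : Type u), (ι → Over U) → Prop)
    (h1 : ∀ (U : C) (ι : Type u) (Y : ι → Over U), Cov U ι Y → U ∈ B ∧
      Sieve.ofArrows (fun i => (Y i).left) (fun i => (Y i).hom) ∈ J U ∧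
      ∀ (p : ℕ) (a : Fin (p + 1) → ι), (∏ᶜ fun k => Y (a k)).left ∈ B)
    (h2 : ∀ U ∈ B, ∀ T ∈ J U, ∃ (ι : Type u) (Y : ι → Over U), Cov U ι Y ∧ ∀ i, T.arrows (Y i).hom)
    (F : Sheaf J AddCommGrpCat.{u})
    (h3 : ∀ (U : C) (ι : Type u) (Y : ι → Over U), Cov U ι Y →
      ∀ p : ℕ, IsZero (CohCx.cechH F.obj Y (p + 1)))
    (U : C) (hU : U ∈ B) (p : ℕ) : Subsingleton (CohSite.HU F (p + 1) U) := by
  let 𝒦 : Type (u + 1) := Σ (U : C) (ι : Type u), {Y : ι → Over U // Cov U ι Y}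
  let K : 𝒦 → CechDatum C := fun k => datum k.2.2.1
  have hB : ∀ (k : 𝒦) (n : ℕ) (a : Fin (n + 1) → (K k).ι), (K k).Φ.obj (∏ᶜ ((K k).Y ∘ a)) ∈ B := by
    rintro ⟨V, ι, Y, hY⟩ n a
    exact (h1 V ι Y hY).2.2 n a
  have hinj : ∀ (k : 𝒦) (I : Sheaf J AddCommGrpCat.{u}), Injective I →
      Injective ((K k).Φ.op ⋙ I.obj) :=
    fun k I hI => hinj_site I hI
  have hsurj : ∀ (S : ShortComplex (Sheaf J AddCommGrpCat.{u})), S.ShortExact →
      (∀ k, IsZero ((CF (K k).Φ (K k).Y S.X₁).homology 1)) →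
      ∀ U ∈ B, Function.Surjective (S.g.hom.app (op U)).hom := by
    intro S hS hH1 V hV
    apply surj_site S hS V
    intro T hT
    obtain ⟨ι, Y, hcov, hYT⟩ := h2 V hV T hT
    exact ⟨ι, Y, hYT, (h1 V ι Y hcov).2.1, hH1 ⟨V, ι, Y, hcov⟩⟩
  have hF : CechAcyclic K F := by
    rintro ⟨V, ι, Y, hY⟩ p
    exact h3 V ι Y hY p
  exact ⟨fun x y => (cartan K B hB hinj hsurj p F hF U hU x).trans
    (cartan K B hB hinj hsurj p F hF U hU y).symm⟩

end Groth.Agent.H18.CechSite
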