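import Groth.Agent.Lib.helper18.Cech9
import Groth.Prelude.Def_CohTop

set_option autoImplicit false
set_option linter.unusedSectionVars false
open CategoryTheory CategoryTheory.Limits CategoryTheory.Abelian Opposite TopologicalSpace

namespace Groth.Agent.H18.CechTop

open Groth.Agent.H18.Cech

universe u

variable {X : TopCat.{u}}

lemma map_map_thin (F : CohTop.Ab X) {V W T : Opens X} (f : W ⟶ T) (g : V ⟶ W) (h : V ⟶ T)
    (s : F.obj.obj (op T)) :
    (F.obj.map g.op).hom ((F.obj.map f.op).hom s) = (F.obj.map h.op).hom s := by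
  have h1 : F.obj.map f.op ≫ F.obj.map g.op = F.obj.map h.op := by
    rw [← F.obj.map_comp, ← op_comp, Subsingleton.elim (g ≫ f) h]
  exact ConcreteCategory.congr_hom h1 s

/-- injective sheaves are injective presheaves -/
lemma injective_presheaf (I : CohTop.Ab X) [Injective I] :
    Injective ((𝟭 (Opens X)).op ⋙ I.obj) :=
  Injective.injective_of_adjoint
    (sheafificationAdjunction (Opens.grothendieckTopology X) AddCommGrpCat.{u}) I

variable {ι : Type u} (U : ι → Opens X)

/-- the structure maps to the union -/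
noncomputable def yy (i : ι) : (𝟭 (Opens X)).obj (U i) ⟶ iSup U := homOfLE (le_iSup U i)

lemma prod_le (n : ℕ) (a : Fin (n + 1) → ι) (k : Fin (n + 1)) : (∏ᶜ (U ∘ a) : Opens X) ≤ U (a k) :=
  leOfHom (Pi.π (U ∘ a) k)

lemma prod_eq_iInf (n : ℕ) (a : Fin (n + 1) → ι) : (∏ᶜ (U ∘ a) : Opens X) = ⨅ k, U (a k) :=
  le_antisymm (le_iInf fun k => prod_le U n a k)
    (leOfHom (Pi.lift (fun k => homOfLE (iInf_le (fun k => U (a k)) k))))


variable (F : CohTop.Ab X)

/-- the presheaf on `Opens X` -/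
noncomputable abbrev PP : (Opens X)ᵒᵖ ⥤ AddCommGrpCat.{u} := (𝟭 (Opens X)).op ⋙ F.obj

/-- the formal coproduct of the family -/
abbrev XX : FormalCoproduct.{u} (Opens X) := FormalCoproduct.mk ι U

lemma PP_map {V W : Opens X} (g : V ⟶ W) : (PP F).map g.op = F.obj.map g.op := rfl

lemma pr_aug_top (s : F.obj.obj (op (iSup U))) (a : Fin 1 → ι)
    (h : (∏ᶜ (U ∘ a) : Opens X) ⟶ iSup U) :
    pr (PP F) ((XX U).power (Fin 1)) a ((aug' (𝟭 (Opens X)) U (yy U) F).hom s) =
      (F.obj.map h.op).hom s := by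
  rw [pr_aug']
  exact congrArg (fun t : (∏ᶜ (U ∘ a) : Opens X) ⟶ iSup U => (F.obj.map t.op).hom s)
    (Subsingleton.elim _ _)

lemma d0_aug_top (s : F.obj.obj (op (iSup U))) :
    (d0 (PP F) (XX U)).hom ((aug' (𝟭 (Opens X)) U (yy U) F).hom s) = 0 := by
  apply EV_ext
  intro b
  rw [pr_d0, pr_zero, sub_eq_zero]
  have hb : ((XX U).power (Fin 2)).obj b ≤ iSup U :=
    (prod_le U 1 b 0).trans (le_iSup U (b 0))
  rw [pr_aug_top U F s _ (homOfLE ((prod_le U 0 _ 0).trans (le_iSup U _))),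
    pr_aug_top U F s _ (homOfLE ((prod_le U 0 _ 0).trans (le_iSup U _)))]
  erw [map_map_thin F _ _ (homOfLE hb) s, map_map_thin F _ _ (homOfLE hb) s]


/-- the opens of the degree-zero part -/
noncomputable abbrev Wa (a : Fin 1 → ι) : Opens X := ((XX U).power (Fin 1)).obj a

lemma Wa_le (a : Fin 1 → ι) : Wa U a ≤ iSup U := (prod_le U 0 a 0).trans (le_iSup U (a 0))

lemma le_iSup_Wa : iSup U ≤ iSup (Wa U) := by
  apply iSup_le
  intro i
  refine le_trans ?_ (le_iSup (Wa U) (fun _ => i))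
  exact leOfHom (Pi.lift (fun _ => 𝟙 (U i)))

lemma aug_top_injective : Function.Injective (aug' (𝟭 (Opens X)) U (yy U) F).hom := by
  rw [injective_iff_map_eq_zero]
  intro s hs
  apply TopCat.Sheaf.eq_of_locally_eq' F (Wa U) (iSup U) (fun a => homOfLE (Wa_le U a))
    (le_iSup_Wa U) s 0
  intro a
  have h1 := pr_aug_top U F s a (homOfLE (Wa_le U a))
  rw [hs, pr_zero] at h1
  rw [map_zero]
  exact h1.symm

lemma aug_top_exact (x : EV (PP F) ((XX U).power (Fin 1)))
    (hx : (d0 (PP F) (XX U)).hom x = 0) :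
    ∃ s, (aug' (𝟭 (Opens X)) U (yy U) F).hom s = x := by
  have hcompat : TopCat.Presheaf.IsCompatible F.obj (Wa U)
      (fun a => pr (PP F) ((XX U).power (Fin 1)) a x) := by
    intro a a'
    let b : Fin 2 → ι := ![a 0, a' 0]
    have h1 : a = (dd (XX U) 0 1).f b := by
      funext k
      obtain rfl : k = 0 := Subsingleton.elim (α := Fin 1) k 0
      rfl
    have h0 : a' = (dd (XX U) 0 0).f b := by
      funext k
      obtain rfl : k = 0 := Subsingleton.elim (α := Fin 1) k 0
      rfl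
    have hb := congrArg (pr (PP F) ((XX U).power (Fin 2)) b) hx
    rw [pr_d0, pr_zero, sub_eq_zero] at hb
    have hle : Wa U a ⊓ Wa U a' ≤ ((XX U).power (Fin 2)).obj b := by
      refine leOfHom (Pi.lift (fun k => ?_))
      refine Fin.cases ?_ (fun k => ?_) k
      · exact homOfLE (inf_le_left.trans (prod_le U 0 a 0))
      · obtain rfl : k = 0 := Subsingleton.elim (α := Fin 1) k 0
        exact homOfLE (inf_le_right.trans (prod_le U 0 a' 0))
    have hb' := congrArg (F.obj.map (homOfLE hle).op).hom hb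
    have e1 := pr_congr (PP F) h1 x
    have e0 := pr_congr (PP F) h0 x
    let t1 : Wa U a ⊓ Wa U a' ⟶ ((XX U).power (Fin 1)).obj ((dd (XX U) 0 1).f b) :=
      homOfLE (hle.trans (leOfHom ((dd (XX U) 0 1).φ b)))
    let t0 : Wa U a ⊓ Wa U a' ⟶ ((XX U).power (Fin 1)).obj ((dd (XX U) 0 0).f b) :=
      homOfLE (hle.trans (leOfHom ((dd (XX U) 0 0).φ b)))
    have A1 : (F.obj.map (Opens.infLELeft (Wa U a) (Wa U a')).op).hom
        (pr (PP F) ((XX U).power (Fin 1)) a x) =
        (F.obj.map t1.op).hom (pr (PP F) ((XX U).power (Fin 1)) ((dd (XX U) 0 1).f b) x) :=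
      (congrArg (F.obj.map (Opens.infLELeft (Wa U a) (Wa U a')).op).hom e1.symm).trans
        (map_map_thin F _ _ t1 _)
    have A0 : (F.obj.map (Opens.infLERight (Wa U a) (Wa U a')).op).hom
        (pr (PP F) ((XX U).power (Fin 1)) a' x) =
        (F.obj.map t0.op).hom (pr (PP F) ((XX U).power (Fin 1)) ((dd (XX U) 0 0).f b) x) :=
      (congrArg (F.obj.map (Opens.infLERight (Wa U a) (Wa U a')).op).hom e0.symm).trans
        (map_map_thin F _ _ t0 _)
    have B1 : (F.obj.map (homOfLE hle).op).hom (((PP F).map ((dd (XX U) 0 1).φ b).op).hom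
        (pr (PP F) ((XX U).power (Fin 1)) ((dd (XX U) 0 1).f b) x)) =
        (F.obj.map t1.op).hom (pr (PP F) ((XX U).power (Fin 1)) ((dd (XX U) 0 1).f b) x) :=
      map_map_thin F _ _ t1 _
    have B0 : (F.obj.map (homOfLE hle).op).hom (((PP F).map ((dd (XX U) 0 0).φ b).op).hom
        (pr (PP F) ((XX U).power (Fin 1)) ((dd (XX U) 0 0).f b) x)) =
        (F.obj.map t0.op).hom (pr (PP F) ((XX U).power (Fin 1)) ((dd (XX U) 0 0).f b) x) :=
      map_map_thin F _ _ t0 _
    exact A1.trans (B1.symm.trans (hb'.symm.trans (B0.trans A0.symm)))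
  obtain ⟨s, hs, -⟩ := TopCat.Sheaf.existsUnique_gluing' F (Wa U) (iSup U)
    (fun a => homOfLE (Wa_le U a)) (le_iSup_Wa U) _ hcompat
  refine ⟨s, ?_⟩
  apply EV_ext
  intro a
  rw [pr_aug_top U F s a (homOfLE (Wa_le U a))]
  exact hs a


variable [HasExt.{u} (CohTop.Ab X)]

theorem F2_top : F2 (𝟭 (Opens X)) U (yy U) F where
  w := by
    have h : aug' (𝟭 (Opens X)) U (yy U) F ≫ d0 (PP F) (XX U) = 0 := by
      apply AddCommGrpCat.hom_ext
      apply AddMonoidHom.ext
      intro s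
      exact d0_aug_top U F s
    exact (congrArg (fun t => aug' (𝟭 (Opens X)) U (yy U) F ≫ t) (CC_d0 (PP F) (XX U))).trans h
  inj := aug_top_injective U F
  ex := fun x hx => aug_top_exact U F x
    ((congrArg (fun t : EV (PP F) ((XX U).power (Fin 1)) ⟶ EV (PP F) ((XX U).power (Fin 2)) =>
      t.hom x) (CC_d0 (PP F) (XX U))).symm.trans hx)

/-- **Čech cohomology computes cohomology for acyclic families of opens** -/
theorem cech_iso_top [EnoughInjectives (CohTop.Ab X)]
    (h : ∀ (p : ℕ) (a : Fin (p + 1) → ι) (q : ℕ),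
      Subsingleton (CohTop.HU F (q + 1) (iInf fun k => U (a k))))
    (p : ℕ) : Nonempty (CohTop.cechH F.obj U p ≃+ CohTop.HU F p (iSup U)) := by
  have hacyc : Acyc (𝟭 (Opens X)) U F := by
    intro n a q x
    have := h n a q
    rw [← prod_eq_iInf U n a] at this
    exact Subsingleton.elim (α := CohTop.HU F (q + 1) (∏ᶜ (U ∘ a))) x 0
  exact cech_iso (fun I hI => injective_presheaf I) (fun G => F2_top U G) p F hacyc

end Groth.Agent.H18.CechTop
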