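import Groth.Agent.Lib.helper18.CechTop
import Groth.Agent.Lib.helper18.Cech10

set_option autoImplicit false
set_option linter.unusedSectionVars false
open CategoryTheory CategoryTheory.Limits CategoryTheory.Abelian Opposite TopologicalSpace

namespace Groth.Agent.H18.CechTop

open Groth.Agent.H18.Cech

universe u

variable {X : TopCat.{u}} [HasExt.{u} (CohTop.Ab X)]

/-- sections of the quotient lift when every covering can be refined by one with vanishing `Ȟ¹` -/
theorem surj_top (S : ShortComplex (CohTop.Ab X)) (hS : S.ShortExact) (U : Opens X)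
    (h : ∀ (ι : Type u) (V : ι → Opens X), iSup V = U →
      ∃ (κ : Type u) (W : κ → Opens X) (r : κ → ι), iSup W = U ∧ (∀ k, W k ≤ V (r k)) ∧
        IsZero (CohTop.cechH S.X₁.obj W 1)) :
    Function.Surjective (S.g.hom.app (op U)) := by
  intro t
  have : Epi S.g := hS.epi_g
  have hloc : TopCat.Presheaf.IsLocallySurjective S.g.hom :=
    (TopCat.Sheaf.isLocallySurjective_iff_epi S.g).2 ‹Epi S.g›
  rw [TopCat.Presheaf.isLocallySurjective_iff] at hloc
  choose V hV hs hxV using fun x : U => hloc U t x.1 x.2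
  choose s hs using hs
  have hsup : iSup V = U :=
    le_antisymm (iSup_le hV) (fun x hx => Opens.mem_iSup.2 ⟨⟨x, hx⟩, hxV ⟨x, hx⟩⟩)
  obtain ⟨κ, W, r, hW, hle, hH1⟩ := h U V hsup
  subst hW
  -- the zero cochain of local lifts
  let s' : EV (PP S.X₂) ((XX W).power (Fin 1)) :=
    toEV (PP S.X₂) ((XX W).power (Fin 1))
      (fun a => (S.X₂.obj.map (homOfLE ((prod_le W 0 a 0).trans (hle (a 0)))).op).hom (s (r (a 0))))
  have hs' : (EVnat ((Rr (𝟭 (Opens X))).map S.g) ((XX W).power (Fin 1))).hom s' =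
      (aug' (𝟭 (Opens X)) W (yy W) S.X₃).hom t := by
    apply EV_ext (PP S.X₃)
    intro a
    have e1 : pr (PP S.X₃) ((XX W).power (Fin 1)) a
        ((EVnat ((Rr (𝟭 (Opens X))).map S.g) ((XX W).power (Fin 1))).hom s') =
        (S.g.hom.app (op (((XX W).power (Fin 1)).obj a))).hom
          (pr (PP S.X₂) ((XX W).power (Fin 1)) a s') :=
      pr_EVnat ((Rr (𝟭 (Opens X))).map S.g) _ s' a
    have e1' : pr (PP S.X₂) ((XX W).power (Fin 1)) a s' =
        (S.X₂.obj.map (homOfLE ((prod_le W 0 a 0).trans (hle (a 0)))).op).hom (s (r (a 0))) :=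
      pr_toEV _ _ _ a
    have e2 := pr_aug_top W S.X₃ t a (homOfLE (Wa_le W a))
    have e3 := ConcreteCategory.congr_hom
      (S.g.hom.naturality (homOfLE ((prod_le W 0 a 0).trans (hle (a 0)))).op) (s (r (a 0)))
    rw [ConcreteCategory.comp_apply, ConcreteCategory.comp_apply] at e3
    have e4 : (S.X₃.obj.map (homOfLE ((prod_le W 0 a 0).trans (hle (a 0)))).op).hom
        ((S.g.hom.app (op (V (r (a 0))))).hom (s (r (a 0)))) =
        (S.X₃.obj.map (homOfLE (Wa_le W a)).op).hom t := by
      rw [hs (r (a 0))]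
      exact map_map_thin S.X₃ _ _ _ t
    exact e1.trans ((congrArg _ e1').trans (e3.trans (e4.trans e2.symm)))
  exact surj_of_cech_h1 hS (fun G => F2_top W G) hH1 t s' hs'

end Groth.Agent.H18.CechTop
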