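import Groth.Agent.Lib.helper18.ConeLift
import Groth.Agent.Lib.helper17.DRingBC

/-!
# Lifting bounded above acyclic complexes with terms in a class along `R → R ⧸ I`

`Groth.Agent.Lib.helper18.ClassLift`: the split acyclic complex `Pcx K` with terms
`K i × K (i+1)`, the inductive construction of lifts of the cycle modules (`Dat`, `step_exists`,
`datFam`) and the lifting theorem `exists_lift`.
-/

set_option autoImplicit false
set_option linter.style.haveILetI false
set_option linter.unusedSectionVars false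

universe u

open CategoryTheory CategoryTheory.Limits
open Groth.Agent.Lib.helper18.TraceCx Groth.Agent.Lib.helper18.AcycLift
open Groth.Agent.Lib.helper18.ConeLift

namespace Groth.Agent.Lib.helper18.ClassLift

section Delta

variable (R : Type u) [CommRing R] (M₁ M₂ M₃ M₄ : Type u)
  [AddCommGroup M₁] [Module R M₁] [AddCommGroup M₂] [Module R M₂]
  [AddCommGroup M₃] [Module R M₃] [AddCommGroup M₄] [Module R M₄]

/-- the shift map `(x, y) ↦ (y, 0)` -/
noncomputable def δM : (M₁ × M₂) →ₗ[R] (M₂ × M₃) :=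
  LinearMap.inl R M₂ M₃ ∘ₗ LinearMap.snd R M₁ M₂

lemma δM_apply (v : M₁ × M₂) : δM R M₁ M₂ M₃ v = (v.2, (0 : M₃)) := rfl

lemma δM_comp : δM R M₂ M₃ M₄ ∘ₗ δM R M₁ M₂ M₃ = 0 := by
  refine LinearMap.ext fun v => ?_
  rw [LinearMap.comp_apply, δM_apply, δM_apply]
  rfl

lemma δM_exact : Function.Exact (δM R M₁ M₂ M₃) (δM R M₂ M₃ M₄) := by
  intro v
  constructor
  · intro h
    rw [δM_apply] at h
    have h2 : v.2 = 0 := congrArg Prod.fst h
    refine ⟨(0, v.1), ?_⟩
    rw [δM_apply]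
    exact Prod.ext rfl h2.symm
  · rintro ⟨w, rfl⟩
    exact LinearMap.congr_fun (δM_comp R M₁ M₂ M₃ M₄) w

variable {R}

/-- the split acyclic complex with terms `K i × K (i+1)` -/
noncomputable def Pcx (K : ℤ → ModuleCat.{u} R) : CochainComplex (ModuleCat.{u} R) ℤ :=
  CochainComplex.of (fun n => ModuleCat.of R (K n × K (n + 1)))
    (fun n => ModuleCat.ofHom (δM R (K n) (K (n + 1)) (K (n + 1 + 1))))
    (fun n => by
      rw [← ModuleCat.ofHom_comp, δM_comp]
      rfl)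

lemma Pcx_d (K : ℤ → ModuleCat.{u} R) (n : ℤ) :
    (Pcx K).d n (n + 1) = ModuleCat.ofHom (δM R (K n) (K (n + 1)) (K (n + 1 + 1))) := by
  unfold Pcx
  exact CochainComplex.of_d (fun n => ModuleCat.of R (K n × K (n + 1)))
    (fun n => ModuleCat.ofHom (δM R (K n) (K (n + 1)) (K (n + 1 + 1)))) n

lemma Pcx_acyclic (K : ℤ → ModuleCat.{u} R) : (Pcx K).Acyclic := by
  intro n
  obtain ⟨m, rfl⟩ : ∃ m, n = m + 1 := ⟨n - 1, by ring⟩
  rw [HomologicalComplex.exactAt_iff' _ m (m + 1) (m + 1 + 1) (by simp) (by simp),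
    ShortComplex.moduleCat_exact_iff]
  intro v hv
  have h1 : ((Pcx K).d (m + 1) (m + 1 + 1)).hom v = 0 := hv
  rw [Pcx_d] at h1
  have h1' : δM R (K (m + 1)) (K (m + 1 + 1)) (K (m + 1 + 1 + 1)) v = 0 := h1
  obtain ⟨w, hw⟩ := (δM_exact R (K m) (K (m + 1)) (K (m + 1 + 1)) (K (m + 1 + 1 + 1)) v).1 h1'
  refine ⟨w, ?_⟩
  change ((Pcx K).d m (m + 1)).hom w = v
  rw [Pcx_d]
  exact hw

end Delta

section Main

open TensorProduct

variable {R : Type u} [CommRing R] (I : Ideal R) (Pc : ObjectProperty (ModuleCat.{u} R))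
  (E : CochainComplex (ModuleCat.{u} (R ⧸ I)) ℤ)

/-- a lift of the cycle module `Z E i` in the class `Pc` -/
structure Dat (i : ℤ) where
  /-- the lift -/
  K : ModuleCat.{u} R
  /-- it lies in the class -/
  hK : Pc K
  /-- its reduction is the cycle module -/
  κ : ((R ⧸ I) ⊗[R] K) ≃ₗ[R ⧸ I] Z E i

variable [Pc.IsClosedUnderIsomorphisms]
  (h1 : ∀ X : ModuleCat.{u} R, Pc X → Module.Projective R X)
  (h2 : ∀ X Y : ModuleCat.{u} R, Pc X → Pc (ModuleCat.of R (X × Y)) → Pc Y)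
  (h3 : ∀ (X Y : ModuleCat.{u} R) (f : X ⟶ Y), Pc X → Pc Y →
    LinearMap.range f.hom ⊔ I • (⊤ : Submodule R Y) = ⊤ → Function.Surjective f.hom)
  (hEa : E.Acyclic)
  (hEt : ∀ i : ℤ, ∃ X : ModuleCat.{u} R, Pc X ∧
    Nonempty (TensorProduct R (R ⧸ I) X ≃ₗ[R ⧸ I] E.X i))

include h3 in
lemma subsingleton_of_dat (i : ℤ) (D : Dat I Pc E i) [Subsingleton (Z E i)] :
    Subsingleton D.K := by
  haveI : Subsingleton ((R ⧸ I) ⊗[R] D.K) := D.κ.injective.subsingleton
  have htop : I • (⊤ : Submodule R D.K) = ⊤ := by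
    rw [eq_top_iff]
    intro k _
    apply rP_ker I D.K
    rw [LinearMap.mem_ker]
    exact Subsingleton.elim _ _
  have hs := h3 D.K D.K 0 D.hK D.hK (by rw [htop, sup_top_eq])
  refine ⟨fun x y => ?_⟩
  obtain ⟨x', hx'⟩ := hs x
  obtain ⟨y', hy'⟩ := hs y
  rw [← hx', ← hy']
  rfl

include h1 h2 h3 hEa hEt in
theorem step_exists (i : ℤ) (D' : Dat I Pc E (i + 1)) :
    Nonempty {D : Dat I Pc E i // Pc (ModuleCat.of R (D.K × D'.K))} := by
  obtain ⟨X, hX, ⟨ξ⟩⟩ := hEt i
  haveI := h1 X hX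
  haveI := h1 D'.K D'.hK
  obtain ⟨G, hGdef⟩ : ∃ G : ((R ⧸ I) ⊗[R] X) →ₗ[R ⧸ I] ((R ⧸ I) ⊗[R] D'.K),
      ∀ t, G t = D'.κ.symm (dZ E i (ξ t)) :=
    ⟨D'.κ.symm.toLinearMap ∘ₗ dZ E i ∘ₗ ξ.toLinearMap, fun t => rfl⟩
  have hGs : Function.Surjective G := by
    intro w
    obtain ⟨e, he⟩ := dZ_surjective E hEa i (D'.κ w)
    refine ⟨ξ.symm e, ?_⟩
    rw [hGdef, LinearEquiv.apply_symm_apply, he, LinearEquiv.symm_apply_apply]
  obtain ⟨g, hg⟩ := Module.projective_lifting_property (rP I D'.K)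
    ((G.restrictScalars R) ∘ₗ rP I X) (rP_surjective I D'.K)
  have hg' : ∀ x, rP I D'.K (g x) = G (rP I X x) := fun x => LinearMap.congr_fun hg x
  have hgs : Function.Surjective g := by
    refine h3 X D'.K (ModuleCat.ofHom g) hX D'.hK ?_
    rw [eq_top_iff]
    intro k _
    obtain ⟨t, ht⟩ := hGs (rP I D'.K k)
    obtain ⟨x, rfl⟩ := rP_surjective I X t
    have hk : k - g x ∈ I • (⊤ : Submodule R D'.K) := by
      apply rP_ker I D'.K
      rw [LinearMap.mem_ker, map_sub, hg', ht, sub_self]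
    have e : k = g x + (k - g x) := by abel
    rw [e]
    exact Submodule.add_mem_sup (LinearMap.mem_range_self g x) hk
  obtain ⟨r, s, hri, hps, hid⟩ := exists_splitting (LinearMap.ker g).subtype g
    (Submodule.injective_subtype _) hgs (LinearMap.exact_subtype_ker_map g)
  have hri' : ∀ z : LinearMap.ker g, r (z : X) = z := fun z => LinearMap.congr_fun hri z
  have hps' : ∀ k, g (s k) = k := fun k => LinearMap.congr_fun hps k
  have hid' : ∀ x, ((r x : LinearMap.ker g) : X) + s (g x) = x := fun x =>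
    LinearMap.congr_fun hid x
  have hrs : ∀ k, r (s k) = 0 := by
    intro k
    have h := hid' (s k)
    rw [hps'] at h
    have h0 : ((r (s k) : LinearMap.ker g) : X) = 0 :=
      add_right_cancel (b := s k) (h.trans (zero_add _).symm)
    exact Subtype.ext h0
  -- the decomposition `X ≃ K' × ker g`
  have eX : X ≃ₗ[R] (D'.K × LinearMap.ker g) :=
    LinearEquiv.ofLinear (g.prod r) (s.coprod (LinearMap.ker g).subtype)
      (LinearMap.ext fun v => by
        obtain ⟨k, z⟩ := v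
        change (g (s k + (z : X)), r (s k + (z : X))) = (k, z)
        rw [map_add, map_add, hps', hrs, LinearMap.mem_ker.1 z.2, add_zero, zero_add, hri'])
      (LinearMap.ext fun x => by
        change s (g x) + ((r x : LinearMap.ker g) : X) = x
        rw [add_comm]
        exact hid' x)
  have hPc1 : Pc (ModuleCat.of R (D'.K × LinearMap.ker g)) :=
    Pc.prop_of_iso eX.toModuleIso hX
  have hPcK : Pc (ModuleCat.of R (LinearMap.ker g)) :=
    h2 D'.K (ModuleCat.of R (LinearMap.ker g)) D'.hK hPc1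
  have hPc2 : Pc (ModuleCat.of R (LinearMap.ker g × D'.K)) :=
    Pc.prop_of_iso (eX.trans (LinearEquiv.prodComm R _ _)).toModuleIso hX
  -- base change identities
  have hbc : ∀ t, (g.baseChange (R ⧸ I)) t = G t := by
    intro t
    obtain ⟨x, rfl⟩ := rP_surjective I X t
    rw [← hg' x]
    rfl
  have hsplit : ∀ t : (R ⧸ I) ⊗[R] (LinearMap.ker g),
      (r.baseChange (R ⧸ I)) (((LinearMap.ker g).subtype.baseChange (R ⧸ I)) t) = t := by
    intro t
    rw [← LinearMap.comp_apply, ← LinearMap.baseChange_comp, hri, LinearMap.baseChange_id]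
    rfl
  have hdec : ∀ t : (R ⧸ I) ⊗[R] X,
      ((LinearMap.ker g).subtype.baseChange (R ⧸ I)) ((r.baseChange (R ⧸ I)) t) +
        (s.baseChange (R ⧸ I)) ((g.baseChange (R ⧸ I)) t) = t := by
    intro t
    have h := congrArg (fun f => (f.baseChange (R ⧸ I)) t) hid
    simpa [LinearMap.baseChange_add, LinearMap.baseChange_comp] using h
  have hGd : ∀ u, dZ E i (ξ u) = D'.κ (G u) := fun u => by
    rw [hGdef, LinearEquiv.apply_symm_apply]
  obtain ⟨κf, hκf⟩ : ∃ κf : ((R ⧸ I) ⊗[R] (LinearMap.ker g)) →ₗ[R ⧸ I] E.X i,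
      ∀ t, κf t = ξ (((LinearMap.ker g).subtype.baseChange (R ⧸ I)) t) :=
    ⟨ξ.toLinearMap ∘ₗ ((LinearMap.ker g).subtype.baseChange (R ⧸ I)), fun t => rfl⟩
  have hκZ : ∀ t, κf t ∈ Z E i := by
    intro t
    have h0 : dZ E i (κf t) = 0 := by
      rw [hκf, hGd, ← hbc, ← LinearMap.comp_apply, ← LinearMap.baseChange_comp]
      have hz : g ∘ₗ (LinearMap.ker g).subtype = 0 :=
        LinearMap.ext fun z => LinearMap.mem_ker.1 z.2
      rw [hz, LinearMap.baseChange_zero, LinearMap.zero_apply, map_zero]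
    rw [LinearMap.mem_ker]
    exact congrArg Subtype.val h0
  have hinj : Function.Injective (κf.codRestrict (Z E i) hκZ) := by
    intro t t' htt
    have h := congrArg Subtype.val htt
    change κf t = κf t' at h
    rw [hκf, hκf] at h
    have h' := ξ.injective h
    rw [← hsplit t, ← hsplit t', h']
  have hsurj : Function.Surjective (κf.codRestrict (Z E i) hκZ) := by
    intro z'
    have hz0 : dZ E i (z' : E.X i) = 0 := Subtype.ext (LinearMap.mem_ker.1 z'.2)
    have hG0 : G (ξ.symm (z' : E.X i)) = 0 := by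
      rw [hGdef, LinearEquiv.apply_symm_apply, hz0, map_zero]
    refine ⟨(r.baseChange (R ⧸ I)) (ξ.symm (z' : E.X i)), Subtype.ext ?_⟩
    change κf _ = (z' : E.X i)
    have h := hdec (ξ.symm (z' : E.X i))
    rw [hbc, hG0, map_zero, add_zero] at h
    rw [hκf, h, LinearEquiv.apply_symm_apply]
  exact ⟨⟨⟨ModuleCat.of R (LinearMap.ker g), hPcK,
    LinearEquiv.ofBijective (κf.codRestrict (Z E i) hκZ) ⟨hinj, hsurj⟩⟩, hPc2⟩⟩

include hEt in
theorem zero_exists (i : ℤ) (hz : IsZero (E.X i)) : Nonempty (Dat I Pc E i) := by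
  obtain ⟨X, hX, ⟨ξ⟩⟩ := hEt i
  haveI : Subsingleton (E.X i) := ModuleCat.subsingleton_of_isZero hz
  haveI : Subsingleton ((R ⧸ I) ⊗[R] X) := ξ.injective.subsingleton
  haveI : Subsingleton (Z E i) := inferInstance
  exact ⟨⟨X, hX, LinearEquiv.ofSubsingleton _ _⟩⟩

/-- one step of the downward induction -/
noncomputable def step (i : ℤ) (D' : Dat I Pc E (i + 1)) :
    {D : Dat I Pc E i // Pc (ModuleCat.of R (D.K × D'.K))} :=
  Classical.choice (step_exists I Pc E h1 h2 h3 hEa hEt i D')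

/-- the family of lifts of the cycle modules -/
noncomputable def datFam (b : ℤ) (hb : ∀ i, b < i → IsZero (E.X i)) (i : ℤ) : Dat I Pc E i :=
  if h : b < i then Classical.choice (zero_exists I Pc E hEt i (hb i h))
  else (step I Pc E h1 h2 h3 hEa hEt i (datFam b hb (i + 1))).1
termination_by (b + 1 - i).toNat
decreasing_by omega

lemma datFam_of_le (b : ℤ) (hb : ∀ i, b < i → IsZero (E.X i)) (i : ℤ) (h : ¬ b < i) :
    datFam I Pc E h1 h2 h3 hEa hEt b hb i =
      (step I Pc E h1 h2 h3 hEa hEt i (datFam I Pc E h1 h2 h3 hEa hEt b hb (i + 1))).1 := by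
  rw [datFam, dif_neg h]

end Main


section Final

open TensorProduct

variable {R : Type u} [CommRing R] (I : Ideal R) (Pc : ObjectProperty (ModuleCat.{u} R))
  (E : CochainComplex (ModuleCat.{u} (R ⧸ I)) ℤ)
  [Pc.IsClosedUnderIsomorphisms]
  (h1 : ∀ X : ModuleCat.{u} R, Pc X → Module.Projective R X)
  (h2 : ∀ X Y : ModuleCat.{u} R, Pc X → Pc (ModuleCat.of R (X × Y)) → Pc Y)
  (h3 : ∀ (X Y : ModuleCat.{u} R) (f : X ⟶ Y), Pc X → Pc Y →
    LinearMap.range f.hom ⊔ I • (⊤ : Submodule R Y) = ⊤ → Function.Surjective f.hom)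
  (hEa : E.Acyclic)
  (hEt : ∀ i : ℤ, ∃ X : ModuleCat.{u} R, Pc X ∧
    Nonempty (TensorProduct R (R ⧸ I) X ≃ₗ[R ⧸ I] E.X i))

include h1 h2 h3 hEa hEt in
theorem exists_lift (b : ℤ) (hEb : ∀ i, b < i → IsZero (E.X i)) :
    ∃ (P : CochainComplex (ModuleCat.{u} R) ℤ) (b' : ℤ), (∀ i, b' < i → IsZero (P.X i)) ∧
      P.Acyclic ∧ (∀ i : ℤ, Pc (P.X i)) ∧
      Nonempty ((((ModuleCat.extendScalars (Ideal.Quotient.mk I)).mapHomologicalComplex
        (ComplexShape.up ℤ)).obj P) ≅ E) := by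
  classical
  have hsubE : ∀ n, b < n → Subsingleton (E.X n) := fun n h =>
    ModuleCat.subsingleton_of_isZero (hEb n h)
  haveI hprojE : ∀ n, Module.Projective (R ⧸ I) (E.X n) := fun n => by
    obtain ⟨X, hX, ⟨ξ⟩⟩ := hEt n
    haveI := h1 X hX
    exact Module.Projective.of_equiv ξ
  haveI hprojZ : ∀ n, Module.Projective (R ⧸ I) (Z E n) := projective_Z E hEa b hsubE
  obtain ⟨s, hs1, hs2⟩ := exists_sections E hEa
  obtain ⟨D, hD1, hD2⟩ : ∃ D : ∀ i, Dat I Pc E i,
      (∀ i, Pc (ModuleCat.of R ((D i).K × (D (i + 1)).K))) ∧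
      (∀ i, b < i → Subsingleton (D i).K) := by
    refine ⟨datFam I Pc E h1 h2 h3 hEa hEt b hEb, ?_, ?_⟩
    · intro i
      by_cases h : b < i
      · haveI := hsubE i h
        haveI := hsubE (i + 1) (by omega)
        haveI : Subsingleton (Z E i) := inferInstance
        haveI : Subsingleton (Z E (i + 1)) := inferInstance
        haveI := subsingleton_of_dat I Pc E h3 (i + 1)
          (datFam I Pc E h1 h2 h3 hEa hEt b hEb (i + 1))
        let e : (datFam I Pc E h1 h2 h3 hEa hEt b hEb i).K ≃ₗ[R]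
            ((datFam I Pc E h1 h2 h3 hEa hEt b hEb i).K ×
              (datFam I Pc E h1 h2 h3 hEa hEt b hEb (i + 1)).K) :=
          { toFun := fun x => (x, 0)
            invFun := fun p => p.1
            map_add' := fun x y => by simp
            map_smul' := fun c x => by simp
            left_inv := fun x => rfl
            right_inv := fun p => Prod.ext rfl (Subsingleton.elim _ _) }
        exact Pc.prop_of_iso e.toModuleIso (datFam I Pc E h1 h2 h3 hEa hEt b hEb i).hK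
      · rw [datFam_of_le I Pc E h1 h2 h3 hEa hEt b hEb i h]
        exact (step I Pc E h1 h2 h3 hEa hEt i
          (datFam I Pc E h1 h2 h3 hEa hEt b hEb (i + 1))).2
    · intro i h
      haveI := hsubE i h
      haveI : Subsingleton (Z E i) := inferInstance
      exact subsingleton_of_dat I Pc E h3 i _
  obtain ⟨θ, hθ⟩ : ∃ θ : ∀ i, ((R ⧸ I) ⊗[R] ((D i).K × (D (i + 1)).K)) ≃ₗ[R ⧸ I] E.X i,
      ∀ i (x : (D i).K) (y : (D (i + 1)).K), θ i ((1 : R ⧸ I) ⊗ₜ[R] (x, y)) =
        (((D i).κ ((1 : R ⧸ I) ⊗ₜ[R] x) : Z E i) : E.X i) +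
          s i ((D (i + 1)).κ ((1 : R ⧸ I) ⊗ₜ[R] y)) :=
    ⟨fun i => (TensorProduct.prodRight R (R ⧸ I) (R ⧸ I) (D i).K (D (i + 1)).K) ≪≫ₗ
        (((D i).κ.prodCongr (D (i + 1)).κ) ≪≫ₗ
          LinearEquiv.ofBijective ((Z E i).subtype.coprod (s i)) (hs2 i)),
      fun i x y => by simp [LinearMap.coprod_apply]⟩
  refine ⟨Pcx (fun i => (D i).K), b, ?_, Pcx_acyclic _, ?_, ?_⟩
  · intro i hi
    haveI := hD2 i hi
    haveI := hD2 (i + 1) (by omega)
    change IsZero (ModuleCat.of R ((D i).K × (D (i + 1)).K))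
    exact ModuleCat.isZero_of_subsingleton _
  · intro i
    exact hD1 i
  · refine ⟨HomologicalComplex.Hom.isoOfComponents (fun i =>
      ((Groth.Agent.Lib.helper17.DRingBC.extendScalarsObjEquiv (A := R) (B := R ⧸ I)
        ((Pcx (fun i => (D i).K)).X i)).trans (θ i)).toModuleIso) ?_⟩
    intro i j hij
    have hij' : i + 1 = j := hij
    subst hij'
    rw [Functor.mapHomologicalComplex_obj_d, Pcx_d]
    apply ModuleCat.ExtendScalars.hom_ext
    intro m
    obtain ⟨x, y⟩ := m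
    change (E.d i (i + 1)).hom (θ i ((1 : R ⧸ I) ⊗ₜ[R] (x, y))) =
      θ (i + 1) ((1 : R ⧸ I) ⊗ₜ[R] (y, (0 : (D (i + 1 + 1)).K)))
    rw [hθ, hθ, map_add, LinearMap.mem_ker.1 ((D i).κ ((1 : R ⧸ I) ⊗ₜ[R] x)).2, zero_add,
      ← dZ_coe, hs1, TensorProduct.tmul_zero, map_zero, map_zero, add_zero]

end Final

end Groth.Agent.Lib.helper18.ClassLift
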