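import Mathlib

set_option autoImplicit false
set_option linter.unusedSectionVars false
open CategoryTheory CategoryTheory.Limits CategoryTheory.Abelian

namespace Groth.Agent.H18.ExtAdapted

universe w v u

variable {C : Type u} [Category.{v} C] [Abelian C] [HasExt.{w} C] [EnoughInjectives C]

lemma shortExact_cokernel {X Y : C} (f : X ⟶ Y) [Mono f] :
    (ShortComplex.mk f (cokernel.π f) (cokernel.condition f)).ShortExact :=
  { exact := ShortComplex.exact_cokernel f
    mono_f := inferInstanceAs (Mono f)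
    epi_g := inferInstanceAs (Epi (cokernel.π f)) }

/-- If `𝒪` is a class of objects containing the injectives, stable under cokernels of monomorphisms
between its members, and such that `Hom(P, -)` is exact on short exact sequences with first two terms in
`𝒪`, then `Ext^{n+1}(P, X) = 0` for `X` in `𝒪`. -/
theorem ext_succ_eq_zero (P : C) (𝒪 : ObjectProperty C)
    (hinj : ∀ I : C, Injective I → 𝒪 I)
    (h2 : ∀ S : ShortComplex C, S.ShortExact → 𝒪 S.X₁ → 𝒪 S.X₂ →
      𝒪 S.X₃ ∧ ∀ φ : P ⟶ S.X₃, ∃ ψ : P ⟶ S.X₂, ψ ≫ S.g = φ)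
    (n : ℕ) : ∀ (X : C), 𝒪 X → ∀ x : Ext.{w} P X (n + 1), x = 0 := by
  induction n with
  | zero =>
    intro X hX x
    have hS := shortExact_cokernel (Injective.ι X)
    obtain ⟨hQ, hlift⟩ := h2 _ hS hX (hinj _ inferInstance)
    have h0 : x.comp (Ext.mk₀ (Injective.ι X)) (add_zero 1) = 0 := Ext.eq_zero_of_injective _
    obtain ⟨x₃, hx₃⟩ := Ext.covariant_sequence_exact₁ P hS x h0 (n₀ := 0) rfl
    obtain ⟨φ, rfl⟩ := (Ext.mk₀_bijective P _).2 x₃
    obtain ⟨ψ, hψ⟩ := hlift φ
    dsimp at hψ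
    have := hS.comp_extClass
    dsimp at this
    rw [← hx₃, ← hψ, ← Ext.mk₀_comp_mk₀, Ext.comp_assoc_of_second_deg_zero, this, Ext.comp_zero]
  | succ n ih =>
    intro X hX x
    have hS := shortExact_cokernel (Injective.ι X)
    obtain ⟨hQ, -⟩ := h2 _ hS hX (hinj _ inferInstance)
    have h0 : x.comp (Ext.mk₀ (Injective.ι X)) (add_zero (n + 1 + 1)) = 0 :=
      Ext.eq_zero_of_injective _
    obtain ⟨x₃, hx₃⟩ := Ext.covariant_sequence_exact₁ P hS x h0 (n₀ := n + 1) rfl
    rw [← hx₃, ih _ hQ x₃, Ext.zero_comp]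

end Groth.Agent.H18.ExtAdapted
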