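import Groth.Prelude.Def_LocCohZ
import Groth.Agent.Lib.helper18.ExtAdapted

set_option autoImplicit false
set_option linter.unusedSectionVars false
open CategoryTheory CategoryTheory.Limits CategoryTheory.Abelian Opposite TopologicalSpace

namespace Groth.Agent.H18.Flasque

universe u

variable {X : TopCat.{u}}

/-- `ℤ_W ⟶ ℤ_V` for `W ≤ V`. -/
noncomputable abbrev ιZ {W V : Opens X} (h : W ≤ V) :
    CohCx.freeSheaf (Opens.grothendieckTopology X) W ⟶ CohCx.freeSheaf (Opens.grothendieckTopology X) V :=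
  CohCx.freeSheafMap (Opens.grothendieckTopology X) (homOfLE h)

instance {W V : Opens X} (h : W ≤ V) : Mono (ιZ h) := (LocCohZ.zqSeq_shortExact h).mono_f

lemma evalGen_comp {V : Opens X} {F G : CohTop.Ab X}
    (φ : CohCx.freeSheaf (Opens.grothendieckTopology X) V ⟶ F) (g : F ⟶ G) :
    CohFree.evalGen (Opens.grothendieckTopology X) V G (φ ≫ g) =
      (g.hom.app (op V)).hom (CohFree.evalGen (Opens.grothendieckTopology X) V F φ) := rfl

lemma ofSect_comp {V : Opens X} {F G : CohTop.Ab X} (s : F.obj.obj (op V)) (g : F ⟶ G) :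
    CohFree.ofSect (Opens.grothendieckTopology X) V F s ≫ g =
      CohFree.ofSect (Opens.grothendieckTopology X) V G ((g.hom.app (op V)).hom s) := by
  apply (CohFree.homEquivSect (Opens.grothendieckTopology X) V G).injective
  rw [CohFree.homEquivSect_apply, CohFree.homEquivSect_apply, evalGen_comp, CohFree.evalGen_ofSect,
    CohFree.evalGen_ofSect]

/-- An injective abelian sheaf is flasque. -/
theorem isFlasque_of_injective (F : CohTop.Ab X) [Injective F] : TopCat.Sheaf.IsFlasque F where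
  epi {U V} i := by
    rw [AddCommGrpCat.epi_iff_surjective]
    intro s
    have h : V.unop ≤ U.unop := leOfHom i.unop
    let φ := CohFree.ofSect (Opens.grothendieckTopology X) V.unop F s
    refine ⟨CohFree.evalGen (Opens.grothendieckTopology X) U.unop F (Injective.factorThru φ (ιZ h)), ?_⟩
    have := CohFree.evalGen_freeSheafMap_comp (Opens.grothendieckTopology X) (homOfLE h) F
      (Injective.factorThru φ (ιZ h))
    rw [Injective.comp_factorThru, CohFree.evalGen_ofSect] at this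
    rw [this]
    rfl

/-- extension of maps out of `ℤ_W` along `ℤ_W ⟶ ℤ_V` into a flasque sheaf -/
lemma exists_extend (F : CohTop.Ab X) [TopCat.Sheaf.IsFlasque F] {W V : Opens X} (h : W ≤ V)
    (ρ : CohCx.freeSheaf (Opens.grothendieckTopology X) W ⟶ F) :
    ∃ ρ' : CohCx.freeSheaf (Opens.grothendieckTopology X) V ⟶ F, ιZ h ≫ ρ' = ρ := by
  have hepi : Epi (F.obj.map (homOfLE h).op) := TopCat.Presheaf.IsFlasque.epi _
  rw [AddCommGrpCat.epi_iff_surjective] at hepi
  obtain ⟨t, ht⟩ := hepi (CohFree.evalGen (Opens.grothendieckTopology X) W F ρ)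
  refine ⟨CohFree.ofSect (Opens.grothendieckTopology X) V F t, ?_⟩
  apply (CohFree.homEquivSect (Opens.grothendieckTopology X) W F).injective
  rw [CohFree.homEquivSect_apply, CohFree.homEquivSect_apply, CohFree.evalGen_freeSheafMap_comp,
    CohFree.evalGen_ofSect]
  exact ht

/-- lifting of maps out of `ℤ_V` along the epimorphism of a short exact sequence with flasque kernel -/
lemma exists_lift {S : ShortComplex (CohTop.Ab X)} (hS : S.ShortExact) [TopCat.Sheaf.IsFlasque S.X₁]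
    (V : Opens X) (φ : CohCx.freeSheaf (Opens.grothendieckTopology X) V ⟶ S.X₃) :
    ∃ ψ : CohCx.freeSheaf (Opens.grothendieckTopology X) V ⟶ S.X₂, ψ ≫ S.g = φ := by
  have hepi : Epi (S.g.hom.app (op V)) := TopCat.Sheaf.IsFlasque.epi_of_shortExact hS
  rw [AddCommGrpCat.epi_iff_surjective] at hepi
  obtain ⟨t, ht⟩ := hepi (CohFree.evalGen (Opens.grothendieckTopology X) V S.X₃ φ)
  refine ⟨CohFree.ofSect (Opens.grothendieckTopology X) V S.X₂ t, ?_⟩
  rw [ofSect_comp]
  erw [ht]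
  exact CohFree.ofSect_evalGen _ _ _ _

/-- lifting of maps out of `ℤ_V/ℤ_W` -/
lemma exists_lift_zq {S : ShortComplex (CohTop.Ab X)} (hS : S.ShortExact) [TopCat.Sheaf.IsFlasque S.X₁]
    {W V : Opens X} (h : W ≤ V) (φ : LocCohZ.zq h ⟶ S.X₃) :
    ∃ ψ : LocCohZ.zq h ⟶ S.X₂, ψ ≫ S.g = φ := by
  obtain ⟨ψ₀, hψ₀⟩ := exists_lift hS V (cokernel.π (ιZ h) ≫ φ)
  have h0 : (ιZ h ≫ ψ₀) ≫ S.g = 0 := by
    rw [Category.assoc, hψ₀, ← Category.assoc]
    erw [cokernel.condition]
    rw [zero_comp]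
  have := hS.mono_f
  let ρ := hS.exact.lift (ιZ h ≫ ψ₀) h0
  have hρ : ρ ≫ S.f = ιZ h ≫ ψ₀ := hS.exact.lift_f _ _
  obtain ⟨ρ', hρ'⟩ := exists_extend S.X₁ h ρ
  have h1 : ιZ h ≫ (ψ₀ - ρ' ≫ S.f) = 0 := by
    rw [Preadditive.comp_sub, ← Category.assoc, hρ', hρ, sub_self]
  refine ⟨cokernel.desc (ιZ h) (ψ₀ - ρ' ≫ S.f) h1, ?_⟩
  rw [← cancel_epi (cokernel.π (ιZ h)), ← Category.assoc, cokernel.π_desc, Preadditive.sub_comp,
    Category.assoc, S.zero, comp_zero, sub_zero, hψ₀]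

lemma addMonoidHom_ulift_int_ext {A : Type*} [AddCommGroup A] (f g : ULift.{u} ℤ →+ A)
    (h : f ⟨1⟩ = g ⟨1⟩) : f = g := by
  have h1 : f.comp (AddEquiv.ulift (α := ℤ)).symm.toAddMonoidHom =
      g.comp (AddEquiv.ulift (α := ℤ)).symm.toAddMonoidHom := by
    apply AddMonoidHom.ext_int
    exact h
  ext ⟨n⟩
  exact DFunLike.congr_fun h1 n

/-- lifting of maps out of the constant sheaf `ℤ` -/
lemma exists_lift_const {S : ShortComplex (CohTop.Ab X)} (hS : S.ShortExact) [TopCat.Sheaf.IsFlasque S.X₁]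
    (φ : (constantSheaf (Opens.grothendieckTopology X) AddCommGrpCat.{u}).obj
      (AddCommGrpCat.of (ULift.{u} ℤ)) ⟶ S.X₃) :
    ∃ ψ : (constantSheaf (Opens.grothendieckTopology X) AddCommGrpCat.{u}).obj
      (AddCommGrpCat.of (ULift.{u} ℤ)) ⟶ S.X₂, ψ ≫ S.g = φ := by
  have hT : IsTerminal (⊤ : Opens X) := isTerminalTop
  let adj := constantSheafAdj (Opens.grothendieckTopology X) AddCommGrpCat.{u} hT
  have hepi : Epi (S.g.hom.app (op (⊤ : Opens X))) := TopCat.Sheaf.IsFlasque.epi_of_shortExact hS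
  rw [AddCommGrpCat.epi_iff_surjective] at hepi
  let a := adj.homEquiv _ _ φ
  obtain ⟨t, ht⟩ := hepi (a.hom ⟨1⟩)
  let b : AddCommGrpCat.of (ULift.{u} ℤ) ⟶ S.X₂.obj.obj (op (⊤ : Opens X)) :=
    AddCommGrpCat.ofHom ((zmultiplesHom _ t).comp AddEquiv.ulift.toAddMonoidHom)
  have hb : b ≫ ((sheafSections (Opens.grothendieckTopology X) AddCommGrpCat.{u}).obj (op ⊤)).map S.g = a := by
    apply AddCommGrpCat.hom_ext
    apply addMonoidHom_ulift_int_ext
    change (S.g.hom.app (op ⊤)).hom ((zmultiplesHom _ t) (1 : ℤ)) = a.hom ⟨1⟩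
    rw [← ht]
    simp
  refine ⟨(adj.homEquiv _ _).symm b, ?_⟩
  rw [← Adjunction.homEquiv_naturality_right_symm, hb]
  exact Equiv.symm_apply_apply _ _

section

variable [HasExt.{u} (CohTop.Ab X)]

/-- flasque sheaves are acyclic for `Ext(ℤ_V, -)` -/
theorem ext_freeSheaf_eq_zero (F : CohTop.Ab X) [TopCat.Sheaf.IsFlasque F] (V : Opens X) (n : ℕ)
    (x : Ext.{u} (CohCx.freeSheaf (Opens.grothendieckTopology X) V) F (n + 1)) : x = 0 := by
  refine ExtAdapted.ext_succ_eq_zero _ (fun G : CohTop.Ab X => TopCat.Sheaf.IsFlasque G)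
    (fun I hI => isFlasque_of_injective I) ?_ n F inferInstance x
  intro S hS h1 h2
  have : TopCat.Sheaf.IsFlasque S.X₁ := h1
  have : TopCat.Sheaf.IsFlasque S.X₂ := h2
  exact ⟨TopCat.Sheaf.IsFlasque.of_shortExact_of_isFlasque₁₂ hS, fun φ => exists_lift hS V φ⟩

/-- flasque sheaves are acyclic for `Ext(ℤ_V/ℤ_W, -)` -/
theorem ext_zq_eq_zero (F : CohTop.Ab X) [TopCat.Sheaf.IsFlasque F] {W V : Opens X} (h : W ≤ V) (n : ℕ)
    (x : Ext.{u} (LocCohZ.zq h) F (n + 1)) : x = 0 := by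
  refine ExtAdapted.ext_succ_eq_zero _ (fun G : CohTop.Ab X => TopCat.Sheaf.IsFlasque G)
    (fun I hI => isFlasque_of_injective I) ?_ n F inferInstance x
  intro S hS h1 h2
  have : TopCat.Sheaf.IsFlasque S.X₁ := h1
  have : TopCat.Sheaf.IsFlasque S.X₂ := h2
  exact ⟨TopCat.Sheaf.IsFlasque.of_shortExact_of_isFlasque₁₂ hS, fun φ => exists_lift_zq hS h φ⟩

/-- flasque sheaves are acyclic for `Ext(ℤ, -)` (constant sheaf) -/
theorem ext_const_eq_zero (F : CohTop.Ab X) [TopCat.Sheaf.IsFlasque F] (n : ℕ)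
    (x : Ext.{u} ((constantSheaf (Opens.grothendieckTopology X) AddCommGrpCat.{u}).obj
      (AddCommGrpCat.of (ULift.{u} ℤ))) F (n + 1)) : x = 0 := by
  refine ExtAdapted.ext_succ_eq_zero _ (fun G : CohTop.Ab X => TopCat.Sheaf.IsFlasque G)
    (fun I hI => isFlasque_of_injective I) ?_ n F inferInstance x
  intro S hS h1 h2
  have : TopCat.Sheaf.IsFlasque S.X₁ := h1
  have : TopCat.Sheaf.IsFlasque S.X₂ := h2
  exact ⟨TopCat.Sheaf.IsFlasque.of_shortExact_of_isFlasque₁₂ hS, fun φ => exists_lift_const hS φ⟩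

end

end Groth.Agent.H18.Flasque
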