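import Groth.Prelude.Def_LocCohZ

set_option autoImplicit false
set_option linter.unusedSectionVars false
open CategoryTheory CategoryTheory.Limits Opposite TopologicalSpace

namespace Groth.Agent.H18.OpenRestr

universe u

variable {X : TopCat.{u}} (U : Opens X)

/-- image of opens of `U` in `X` -/
noncomputable abbrev L : Opens (TopCat.of U) ⥤ Opens X := U.isOpenEmbedding.isOpenMap.functor
/-- preimage -/
abbrev R : Opens X ⥤ Opens (TopCat.of U) := Opens.map (CohCx.incl U)

lemma LR_le (V : Opens X) : (L U).obj ((R U).obj V) ≤ V :=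
  leOfHom (U.isOpenEmbedding.isOpenMap.adjunction.counit.app V)

lemma le_RL (W : Opens (TopCat.of U)) : W ≤ (R U).obj ((L U).obj W) :=
  leOfHom (U.isOpenEmbedding.isOpenMap.adjunction.unit.app W)

lemma LR_eq (V : Opens X) : (L U).obj ((R U).obj V) = V ⊓ U := Opens.functor_map_eq_inf U V

lemma LR_top : (L U).obj ((R U).obj ⊤) = U := by
  rw [LR_eq, top_inf_eq]

/-- the explicit unit `F ⟶ j_*(F|_U)`: restriction from `V` to `V ∩ U`. -/
noncomputable def unitN : 𝟭 (CohTop.Ab X) ⟶ CohTop.restrFunctor U ⋙ CohTop.push (CohCx.incl U) where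
  app F := ObjectProperty.homMk
    { app := fun V => F.obj.map (homOfLE (LR_le U V.unop)).op
      naturality := fun V V' f => by
        change F.obj.map f ≫ F.obj.map _ = F.obj.map _ ≫ F.obj.map _
        rw [← F.obj.map_comp, ← F.obj.map_comp]
        congr 1 }
  naturality F G φ := by
    apply Sheaf.hom_ext
    apply NatTrans.ext
    funext V
    exact (φ.hom.naturality (homOfLE (LR_le U V.unop)).op).symm

/-- the explicit counit `(j_* G)|_U ⟶ G`. -/
noncomputable def counitN :
    CohTop.push (CohCx.incl U) ⋙ CohTop.restrFunctor U ⟶ 𝟭 (CohTop.Ab (TopCat.of U)) where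
  app G := ObjectProperty.homMk
    { app := fun W => G.obj.map (homOfLE (le_RL U W.unop)).op
      naturality := fun W W' f => by
        change G.obj.map _ ≫ G.obj.map _ = G.obj.map _ ≫ G.obj.map f
        rw [← G.obj.map_comp, ← G.obj.map_comp]
        congr 1 }
  naturality F G φ := by
    apply Sheaf.hom_ext
    apply NatTrans.ext
    funext W
    exact (φ.hom.naturality (homOfLE (le_RL U W.unop)).op).symm

/-- the explicit adjunction `(-)|_U ⊣ j_*` -/
noncomputable def adjN : CohTop.restrFunctor U ⊣ CohTop.push (CohCx.incl U) :=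
  Adjunction.mkOfUnitCounit
    { unit := unitN U
      counit := counitN U
      left_triangle := by
        apply NatTrans.ext
        funext F
        apply Sheaf.hom_ext
        apply NatTrans.ext
        funext W
        change (F.obj.map _ ≫ 𝟙 _ ≫ F.obj.map _) = 𝟙 _
        rw [Category.id_comp]
        rw [← F.obj.map_comp]
        exact F.obj.map_id _
      right_triangle := by
        apply NatTrans.ext
        funext G
        apply Sheaf.hom_ext
        apply NatTrans.ext
        funext V
        change (G.obj.map _ ≫ 𝟙 _ ≫ G.obj.map _) = 𝟙 _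
        rw [Category.id_comp]
        rw [← G.obj.map_comp]
        exact G.obj.map_id _ }

end Groth.Agent.H18.OpenRestr
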