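import Groth.Agent.Lib.helper18.DisjCech
import Groth.Agent.Lib.helper18.CechTop3
import Groth.Agent.Lib.helper18.Flasque
import Groth.Agent.Lib.helper18.OpenRestr

set_option autoImplicit false
set_option linter.unusedSectionVars false
set_option linter.unusedVariables false
open CategoryTheory CategoryTheory.Limits Opposite Simplicial TopologicalSpace

namespace Groth.Agent.H18.CoarseCech

open Groth.Agent.H18.Cech Groth.Agent.H18.DisjCech

universe u

section Transfer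

variable {X X' : TopCat.{u}} (P : (Opens X)ᵒᵖ ⥤ AddCommGrpCat.{u}) (Ψ : Opens X' ⥤ Opens X)
  {ι : Type u} (U : ι → Opens X) (U' : ι → Opens X')
  (hΨ : ∀ (n : ℕ) (a : Fin (n + 1) → ι),
    Ψ.obj (∏ᶜ (U' ∘ a) : Opens X') = (∏ᶜ (U ∘ a) : Opens X))

/-- the transferred presheaf -/
abbrev P' : (Opens X')ᵒᵖ ⥤ AddCommGrpCat.{u} := Ψ.op ⋙ P

lemma map_map_thin' {V W T : Opens X} (f : W ⟶ T) (g : V ⟶ W) (h : V ⟶ T)
    (s : P.obj (op T)) :
    (P.map g.op).hom ((P.map f.op).hom s) = (P.map h.op).hom s := by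
  have h1 : P.map f.op ≫ P.map g.op = P.map h.op := by
    rw [← P.map_comp, ← op_comp]
    congr 1
  exact ConcreteCategory.congr_hom h1 s

lemma map_id_thin {V : Opens X} (f : V ⟶ V) (s : P.obj (op V)) : (P.map f.op).hom s = s := by
  have : f = 𝟙 V := Subsingleton.elim _ _
  rw [this, op_id, P.map_id]
  rfl

include hΨ in
lemma hle (n : ℕ) (a : Fin (n + 1) → ι) :
    Ψ.obj (((W U') _⦋n⦌).obj a) ≤ ((W U) _⦋n⦌).obj a := (hΨ n a).le

include hΨ in
lemma hge (n : ℕ) (a : Fin (n + 1) → ι) :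
    ((W U) _⦋n⦌).obj a ≤ Ψ.obj (((W U') _⦋n⦌).obj a) := (hΨ n a).ge

/-- the comparison map of cochain groups -/
noncomputable def τ (n : ℕ) : EV P ((W U) _⦋n⦌) ⟶ EV (P' P Ψ) ((W U') _⦋n⦌) :=
  Pi.lift fun a : Fin (n + 1) → ι =>
    Pi.π (fun a : Fin (n + 1) → ι => P.obj (op (((W U) _⦋n⦌).obj a))) a ≫
      P.map (homOfLE (hle Ψ U U' hΨ n a)).op

lemma pr_τ (n : ℕ) (x : EV P ((W U) _⦋n⦌)) (a : Fin (n + 1) → ι) :
    pr (P' P Ψ) ((W U') _⦋n⦌) a ((τ P Ψ U U' hΨ n).hom x) =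
      (P.map (homOfLE (hle Ψ U U' hΨ n a)).op).hom (pr P ((W U) _⦋n⦌) a x) := by
  have h1 : τ P Ψ U U' hΨ n ≫
      Pi.π (fun a : Fin (n + 1) → ι => (P' P Ψ).obj (op (((W U') _⦋n⦌).obj a))) a =
      Pi.π (fun a : Fin (n + 1) → ι => P.obj (op (((W U) _⦋n⦌).obj a))) a ≫
        P.map (homOfLE (hle Ψ U U' hΨ n a)).op := Pi.lift_π _ _
  exact ConcreteCategory.congr_hom h1 x

lemma τ_injective (n : ℕ) : Function.Injective (τ P Ψ U U' hΨ n).hom := by
  rw [injective_iff_map_eq_zero]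
  intro x hx
  apply EV_ext
  intro a
  have h := congrArg (pr (P' P Ψ) ((W U') _⦋n⦌) a) hx
  rw [pr_τ, map_zero] at h
  have h2 := congrArg (P.map (homOfLE (hge Ψ U U' hΨ n a)).op).hom h
  rw [map_map_thin' P _ _ (𝟙 _), map_id_thin, map_zero] at h2
  rw [h2, map_zero]

lemma τ_surjective (n : ℕ) : Function.Surjective (τ P Ψ U U' hΨ n).hom := by
  intro y
  refine ⟨toEV P ((W U) _⦋n⦌) (fun a => (P.map (homOfLE (hge Ψ U U' hΨ n a)).op).hom
    (pr (P' P Ψ) ((W U') _⦋n⦌) a y)), ?_⟩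
  apply EV_ext
  intro a
  rw [pr_τ, pr_toEV]
  exact (map_map_thin' P _ _ (𝟙 _) _).trans (map_id_thin P _ _)

end Transfer

section Transfer2

variable {X X' : TopCat.{u}} (P : (Opens X)ᵒᵖ ⥤ AddCommGrpCat.{u}) (Ψ : Opens X' ⥤ Opens X)
  {ι : Type u} (U : ι → Opens X) (U' : ι → Opens X')
  (hΨ : ∀ (n : ℕ) (a : Fin (n + 1) → ι),
    Ψ.obj (∏ᶜ (U' ∘ a) : Opens X') = (∏ᶜ (U ∘ a) : Opens X))

lemma τ_EVmap (n : ℕ) (i : Fin (n + 2)) :
    τ P Ψ U U' hΨ n ≫ EVmap (P' P Ψ) ((W U').δ i) =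
      EVmap P ((W U).δ i) ≫ τ P Ψ U U' hΨ (n + 1) := by
  apply AddCommGrpCat.hom_ext
  apply AddMonoidHom.ext
  intro x
  apply EV_ext
  intro b
  change pr (P' P Ψ) _ b ((EVmap (P' P Ψ) ((W U').δ i)).hom ((τ P Ψ U U' hΨ n).hom x)) =
    pr (P' P Ψ) _ b ((τ P Ψ U U' hΨ (n + 1)).hom ((EVmap P ((W U).δ i)).hom x))
  rw [pr_EVmap, pr_τ, pr_τ, pr_EVmap]
  exact (map_map_thin' P _ (Ψ.map (((W U').δ i).φ b))
      (Ψ.map (((W U').δ i).φ b) ≫ homOfLE (hle Ψ U U' hΨ n _)) _).trans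
    (map_map_thin' P _ _ _ _).symm

lemma τ_dC (n : ℕ) :
    τ P Ψ U U' hΨ n ≫ dC (P' P Ψ) U' n = dC P U n ≫ τ P Ψ U U' hΨ (n + 1) := by
  rw [dC_eq, dC_eq, Preadditive.comp_sum, Preadditive.sum_comp]
  refine Finset.sum_congr rfl (fun i _ => ?_)
  rw [Preadditive.comp_zsmul, Preadditive.zsmul_comp, τ_EVmap]

include hΨ in
theorem exactAt_of (n : ℕ) (h : ((cechComplexFunctor U').obj (P' P Ψ)).ExactAt (n + 1)) :
    ((cechComplexFunctor U).obj P).ExactAt (n + 1) := by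
  change (CC (P' P Ψ) (W U')).ExactAt (n + 1) at h
  change (CC P (W U)).ExactAt (n + 1)
  rw [HomologicalComplex.exactAt_iff' _ n (n + 1) (n + 2) (by simp) (by simp),
    ShortComplex.ab_exact_iff] at h ⊢
  intro x hx
  have hx' : (dC P U (n + 1)).hom x = 0 := hx
  have h1 : (dC (P' P Ψ) U' (n + 1)).hom ((τ P Ψ U U' hΨ (n + 1)).hom x) = 0 := by
    have := ConcreteCategory.congr_hom (τ_dC P Ψ U U' hΨ (n + 1)) x
    rw [ConcreteCategory.comp_apply, ConcreteCategory.comp_apply] at this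
    rw [this]
    have h0 : (ConcreteCategory.hom (dC P U (n + 1))) x = 0 := hx'
    rw [h0, map_zero]
  obtain ⟨y', hy'⟩ := h ((τ P Ψ U U' hΨ (n + 1)).hom x) h1
  obtain ⟨y, rfl⟩ := τ_surjective P Ψ U U' hΨ n y'
  refine ⟨y, ?_⟩
  apply τ_injective P Ψ U U' hΨ (n + 1)
  have := ConcreteCategory.congr_hom (τ_dC P Ψ U U' hΨ n) y
  rw [ConcreteCategory.comp_apply, ConcreteCategory.comp_apply] at this
  exact this.symm.trans hy'

end Transfer2

section Good

variable {X : TopCat.{u}} {ι : Type u} (U : ι → Opens X)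

/-- a set whose trace on the union is a union of nonempty finite intersections of members -/
def Good (s : Set X) : Prop :=
  ∃ (κ : Type u) (l : κ → List ι), (∀ k, l k ≠ []) ∧
    s ∩ ((iSup U : Opens X) : Set X) = ⋃ k, ⋂ i ∈ l k, (U i : Set X)

lemma U_subset (i : ι) : (U i : Set X) ⊆ ((iSup U : Opens X) : Set X) := by
  intro x hx
  exact Opens.mem_iSup.2 ⟨i, hx⟩

lemma good_of_generateOpen (s : Set X)
    (h : TopologicalSpace.GenerateOpen (Set.range fun i => (U i : Set X)) s) : Good U s := by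
  induction h with
  | basic s hs =>
    obtain ⟨i, rfl⟩ := hs
    refine ⟨PUnit.{u + 1}, fun _ => [i], fun _ => by simp, ?_⟩
    ext x
    simp only [Set.mem_inter_iff, List.mem_singleton, Set.iInter_iInter_eq_left, Set.iUnion_const,
      and_iff_left_iff_imp]
    exact fun hx => U_subset U i hx
  | univ =>
    refine ⟨ι, fun i => [i], fun _ => by simp, ?_⟩
    ext x
    simp only [Set.univ_inter, List.mem_singleton, Set.iInter_iInter_eq_left, Set.mem_iUnion]
    exact Opens.mem_iSup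
  | inter s t _ _ ihs iht =>
    obtain ⟨κs, ls, hls, hs⟩ := ihs
    obtain ⟨κt, lt, hlt, ht⟩ := iht
    refine ⟨κs × κt, fun k => ls k.1 ++ lt k.2, fun k => by simp [hls k.1], ?_⟩
    have : (s ∩ t) ∩ ((iSup U : Opens X) : Set X) =
        (s ∩ ((iSup U : Opens X) : Set X)) ∩ (t ∩ ((iSup U : Opens X) : Set X)) := by
      ext x; simp only [Set.mem_inter_iff]; tauto
    rw [this, hs, ht]
    ext x
    simp only [Set.mem_inter_iff, Set.mem_iUnion, Set.mem_iInter, List.mem_append, Prod.exists]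
    constructor
    · rintro ⟨⟨k, hk⟩, ⟨l, hl⟩⟩
      exact ⟨k, l, fun i hi => hi.elim (hk i) (hl i)⟩
    · rintro ⟨k, l, h⟩
      exact ⟨⟨k, fun i hi => h i (Or.inl hi)⟩, ⟨l, fun i hi => h i (Or.inr hi)⟩⟩
  | sUnion S _ ih =>
    choose κ l hl hS using ih
    refine ⟨Σ s : S, κ s.1 s.2, fun k => l k.1.1 k.1.2 k.2, fun k => hl _ _ _, ?_⟩
    ext x
    simp only [Set.mem_inter_iff, Set.mem_sUnion, Set.mem_iUnion, Set.mem_iInter, Sigma.exists,
      Subtype.exists]
    constructor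
    · rintro ⟨⟨s, hsS, hxs⟩, hxU⟩
      have : x ∈ s ∩ ((iSup U : Opens X) : Set X) := ⟨hxs, hxU⟩
      rw [hS s hsS] at this
      obtain ⟨k, hk⟩ := Set.mem_iUnion.1 this
      exact ⟨s, hsS, k, fun i hi => Set.mem_iInter₂.1 hk i hi⟩
    · rintro ⟨s, hsS, k, hk⟩
      have : x ∈ s ∩ ((iSup U : Opens X) : Set X) := by
        rw [hS s hsS]
        exact Set.mem_iUnion.2 ⟨k, Set.mem_iInter₂.2 hk⟩
      exact ⟨⟨s, hsS, this.1⟩, this.2⟩

/-- convert a nonempty list to a tuple -/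
def tup (l : List ι) (hl : l ≠ []) : Σ p : ℕ, Fin (p + 1) → ι :=
  ⟨l.length - 1, fun j => l.get (Fin.cast (by
    have : 0 < l.length := List.length_pos_iff.2 hl
    omega) j)⟩

lemma iInter_tup (l : List ι) (hl : l ≠ []) :
    (⋂ j, (U ((tup l hl).2 j) : Set X)) = ⋂ i ∈ l, (U i : Set X) := by
  have hlen : l.length - 1 + 1 = l.length := by
    have : 0 < l.length := List.length_pos_iff.2 hl
    omega
  ext x
  simp only [Set.mem_iInter]
  constructor
  · intro h i hi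
    obtain ⟨n, hn⟩ := List.mem_iff_get.1 hi
    have := h (Fin.cast hlen.symm n)
    simp only [tup] at this
    rw [← hn]
    convert this using 3
    apply congrArg
    apply Fin.ext
    rfl
  · intro h j
    exact h _ (List.get_mem _ _)

end Good

section Coarse

variable {X : TopCat.{u}} (F : CohTop.Ab X) {ι : Type u} (U : ι → Opens X)

/-- the coarse topology generated by the family -/
@[reducible] def coarseTop : TopologicalSpace X :=
  TopologicalSpace.generateFrom (Set.range fun i => (U i : Set X))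

/-- the coarse space -/
def Xc : TopCat.{u} := @TopCat.of X (coarseTop U)

/-- a subset of the coarse space as a subset of `X` -/
def toX (s : Set (Xc U)) : Set X := s

/-- the identity map to the coarse space -/
def π : X ⟶ Xc U :=
  TopCat.ofHom (Y := Xc U) ⟨id, continuous_generateFrom_iff.2 (by
    rintro s ⟨i, rfl⟩
    exact (U i).2)⟩

/-- the family as opens of the coarse space -/
def Uc (i : ι) : Opens (Xc U) :=
  ⟨(U i : Set X), TopologicalSpace.GenerateOpen.basic _ ⟨i, rfl⟩⟩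

/-- the union -/
abbrev U₀ : Opens X := iSup U

/-- the comparison functor `W ↦ W ∩ U₀` -/
noncomputable abbrev Ψc : Opens (Xc U) ⥤ Opens X :=
  Opens.map (π U) ⋙ Opens.map (CohCx.incl (U₀ U)) ⋙ OpenRestr.L (U₀ U)

/-- the flasque sheaf on the coarse space -/
noncomputable abbrev Fc : CohTop.Ab (Xc U) :=
  (CohTop.push (π U)).obj ((CohTop.push (CohCx.incl (U₀ U))).obj ((CohTop.restrFunctor (U₀ U)).obj F))

lemma Fc_obj : (Fc F U).obj = (Ψc U).op ⋙ F.obj := rfl

lemma coe_Ψc (W : Opens (Xc U)) :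
    ((Ψc U).obj W : Set X) = toX U (W : Set (Xc U)) ∩ (U₀ U : Set X) := by
  have h := congrArg (fun V : Opens X => (V : Set X))
    (OpenRestr.LR_eq (U₀ U) ((Opens.map (π U)).obj W))
  exact h

lemma hΨc (n : ℕ) (a : Fin (n + 1) → ι) :
    (Ψc U).obj (∏ᶜ (Uc U ∘ a) : Opens (Xc U)) = (∏ᶜ (U ∘ a) : Opens X) := by
  apply Opens.ext
  rw [coe_Ψc, CechTop.prod_eq_iInf (Uc U) n a, CechTop.prod_eq_iInf U n a, Opens.coe_iInf,
    Opens.coe_iInf]
  have h1 : toX U (⋂ k, ((Uc U (a k) : Opens (Xc U)) : Set (Xc U))) = ⋂ k, (U (a k) : Set X) := rfl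
  rw [h1]
  apply Set.inter_eq_left.2
  intro x hx
  exact U_subset U (a 0) (Set.mem_iInter.1 hx 0)

end Coarse

section Main

variable {X : TopCat.{u}} (F : CohTop.Ab X) {ι : Type u} (U : ι → Opens X)

lemma surj_transport {W₁ W₂ T : Opens X} (e : W₁ = W₂) (h₁ : W₁ ≤ T) (h₂ : W₂ ≤ T)
    (hs : Function.Surjective (F.obj.map (homOfLE h₁).op)) :
    Function.Surjective (F.obj.map (homOfLE h₂).op) := by
  subst e
  exact hs

lemma Ψc_le (W : Opens (Xc U)) : (Ψc U).obj W ≤ U₀ U := by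
  intro x hx
  have : x ∈ ((Ψc U).obj W : Set X) := hx
  rw [coe_Ψc] at this
  exact this.2

variable (h : ∀ (κ : Type u) (a : κ → Σ p : ℕ, Fin (p + 1) → ι),
  Function.Surjective (F.obj.map (homOfLE
    (iSup_le fun k => (iInf_le _ ⟨0, Nat.succ_pos _⟩).trans
      (le_iSup U ((a k).2 ⟨0, Nat.succ_pos _⟩)) :
      (⨆ k, ⨅ j, U ((a k).2 j)) ≤ iSup U)).op))

include h in
lemma surj_top (W : Opens (Xc U)) :
    Function.Surjective (F.obj.map (homOfLE (Ψc_le U W)).op) := by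
  obtain ⟨κ, l, hl, hW⟩ := good_of_generateOpen U (toX U (W : Set (Xc U))) W.2
  let a : κ → Σ p : ℕ, Fin (p + 1) → ι := fun k => tup (l k) (hl k)
  have e : (⨆ k, ⨅ j, U ((a k).2 j)) = (Ψc U).obj W := by
    apply Opens.ext
    rw [coe_Ψc, hW, Opens.coe_iSup]
    refine Set.iUnion_congr (fun k => ?_)
    rw [Opens.coe_iInf]
    exact iInter_tup U (l k) (hl k)
  exact surj_transport F e _ _ (h κ a)

include h in
theorem isFlasque_Fc : TopCat.Sheaf.IsFlasque (Fc F U) where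
  epi {V V'} i := by
    rw [AddCommGrpCat.epi_iff_surjective]
    have hcomp : F.obj.map (homOfLE (Ψc_le U V.unop)).op ≫ (Fc F U).obj.map i =
        F.obj.map (homOfLE (Ψc_le U V'.unop)).op := by
      change F.obj.map _ ≫ F.obj.map _ = F.obj.map _
      rw [← F.obj.map_comp]
      rfl
    intro t
    obtain ⟨s, hs⟩ := surj_top F U h V'.unop t
    refine ⟨(F.obj.map (homOfLE (Ψc_le U V.unop)).op).hom s, ?_⟩
    have h2 := ConcreteCategory.congr_hom hcomp s
    rw [ConcreteCategory.comp_apply] at h2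
    exact h2.trans hs

include h in
theorem main (p : ℕ) : IsZero (CohTop.cechH F.obj U (p + 1)) := by
  have hfl := isFlasque_Fc F U h
  have hsub : ∀ (q : ℕ) (V : Opens (Xc U)), Subsingleton (CohTop.HU (Fc F U) (q + 1) V) := fun q V =>
    ⟨fun x y => (Flasque.ext_freeSheaf_eq_zero (Fc F U) V q x).trans
      (Flasque.ext_freeSheaf_eq_zero (Fc F U) V q y).symm⟩
  obtain ⟨e⟩ := CechTop.cech_iso_top (Uc U) (Fc F U) (fun p a q => hsub q _) (p + 1)
  have := hsub p (iSup (Uc U))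
  have hss : Subsingleton (CohTop.cechH (Fc F U).obj (Uc U) (p + 1)) := e.toEquiv.subsingleton
  have hz : IsZero (CohTop.cechH (Fc F U).obj (Uc U) (p + 1)) :=
    AddCommGrpCat.isZero_of_subsingleton _
  have hex' : ((cechComplexFunctor (Uc U)).obj (P' F.obj (Ψc U))).ExactAt (p + 1) :=
    (HomologicalComplex.exactAt_iff_isZero_homology _ _).2 hz
  have hex := exactAt_of F.obj (Ψc U) U (Uc U) (hΨc U) p hex'
  exact (HomologicalComplex.exactAt_iff_isZero_homology _ _).1 hex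

end Main

end Groth.Agent.H18.CoarseCech
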