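import Groth.Agent.Lib.helper18.CohTopLeray

set_option autoImplicit false
set_option linter.unusedSectionVars false
open CategoryTheory CategoryTheory.Limits CategoryTheory.Abelian Opposite TopologicalSpace

namespace Groth.Agent.H18.CohTopBaseRestr

open Groth.Agent.H18.OpenRestr Groth.Agent.H18.Flasque Groth.Agent.H18.SectSupp Groth.Agent.H18.CohTopH
  Groth.Agent.H18.CohTopOpen

universe u

variable {X Y : TopCat.{u}}

/-- the restriction of `f` over an open `V` of the base -/
abbrev resMap (f : X ⟶ Y) (V : Opens Y) : TopCat.of ((Opens.map f).obj V) ⟶ TopCat.of V :=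
  TopCat.ofHom ⟨(V : Set Y).restrictPreimage f, f.hom.continuous.restrictPreimage⟩

lemma opens_eq (f : X ⟶ Y) (V : Opens Y) (W : Opens (TopCat.of V)) :
    (Opens.map f).obj ((L V).obj W) = (L ((Opens.map f).obj V)).obj ((Opens.map (resMap f V)).obj W) := by
  ext x
  constructor
  · rintro ⟨⟨y, hy⟩, hW, hxy⟩
    have hxV : x ∈ (Opens.map f).obj V := by
      change f x ∈ V
      rw [← hxy]; exact hy
    refine ⟨⟨x, hxV⟩, ?_, rfl⟩
    change (⟨f x, hxV⟩ : V) ∈ W
    have : (⟨f x, hxV⟩ : V) = ⟨y, hy⟩ := Subtype.ext hxy.symm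
    rw [this]; exact hW
  · rintro ⟨⟨x', hx'⟩, hW, rfl⟩
    exact ⟨⟨f x', hx'⟩, hW, rfl⟩

/-- component of `pushRestrIso` -/
noncomputable def compHom (f : X ⟶ Y) (V : Opens Y) (F : CohTop.Ab X) :
    (CohTop.push f ⋙ CohTop.restrFunctor V).obj F ⟶
      (CohTop.restrFunctor ((Opens.map f).obj V) ⋙ CohTop.push (resMap f V)).obj F :=
  ObjectProperty.homMk
    { app := fun W => F.obj.map (eqToHom (congrArg op (opens_eq f V W.unop)))
      naturality := fun W W' i => by
        change F.obj.map _ ≫ F.obj.map _ = F.obj.map _ ≫ F.obj.map _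
        rw [← F.obj.map_comp, ← F.obj.map_comp]
        congr 1 }

/-- inverse component of `pushRestrIso` -/
noncomputable def compInv (f : X ⟶ Y) (V : Opens Y) (F : CohTop.Ab X) :
    (CohTop.restrFunctor ((Opens.map f).obj V) ⋙ CohTop.push (resMap f V)).obj F ⟶
      (CohTop.push f ⋙ CohTop.restrFunctor V).obj F :=
  ObjectProperty.homMk
    { app := fun W => F.obj.map (eqToHom (congrArg op (opens_eq f V W.unop).symm))
      naturality := fun W W' i => by
        change F.obj.map _ ≫ F.obj.map _ = F.obj.map _ ≫ F.obj.map _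
        rw [← F.obj.map_comp, ← F.obj.map_comp]
        congr 1 }

/-- `(f_* F)|_V = (f|_V)_* (F|_{f⁻¹V})`, naturally -/
noncomputable def pushRestrIso (f : X ⟶ Y) (V : Opens Y) :
    CohTop.push f ⋙ CohTop.restrFunctor V ≅
      CohTop.restrFunctor ((Opens.map f).obj V) ⋙ CohTop.push (resMap f V) :=
  NatIso.ofComponents (fun F =>
    { hom := compHom f V F
      inv := compInv f V F
      hom_inv_id := by
        apply Sheaf.hom_ext
        apply NatTrans.ext
        funext W
        change F.obj.map _ ≫ F.obj.map _ = 𝟙 _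
        rw [← F.obj.map_comp, eqToHom_trans, eqToHom_refl]
        exact F.obj.map_id _
      inv_hom_id := by
        apply Sheaf.hom_ext
        apply NatTrans.ext
        funext W
        change F.obj.map _ ≫ F.obj.map _ = 𝟙 _
        rw [← F.obj.map_comp, eqToHom_trans, eqToHom_refl]
        exact F.obj.map_id _ })
    (fun {F G} φ => by
      apply Sheaf.hom_ext
      apply NatTrans.ext
      funext W
      exact (φ.hom.naturality (eqToHom (congrArg op (opens_eq f V W.unop)))).symm)

lemma additive_push (g : X ⟶ Y) : (CohTop.push g).Additive := inferInstance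

lemma preservesFiniteLimits_push (g : X ⟶ Y) : PreservesFiniteLimits (CohTop.push g) := inferInstance

/-- `(R^p f_* F)|_V ≅ R^p (f|_V)_* (F|_{f⁻¹V})` -/
theorem Rpush_restr_iso (f : X ⟶ Y) (F : CohTop.Ab X) (V : Opens Y) (p : ℕ) :
    Nonempty (CohTop.restr ((CohTop.Rpush f p).obj F) V ≅
      (CohTop.Rpush (resMap f V) p).obj (CohTop.restr F ((Opens.map f).obj V))) := by
  have : (CohTop.push (resMap f V)).Additive := additive_push _
  have : PreservesFiniteLimits (CohTop.push (resMap f V)) := preservesFiniteLimits_push _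
  -- left: columns vanish since restriction is exact
  obtain ⟨e1⟩ := SSDegenerate.iso_of_cols_vanish (CohTop.push f) (CohTop.restrFunctor V) F
    (fun Q _ q hq => isZero_rightDerived_of_exact (CohTop.restrFunctor V) _ q hq)
    (fun p' q hp => isZero_rightDerived_of_exact (CohTop.restrFunctor V) _ p' hp) p
  -- right: rows vanish since restriction is exact and sends injectives to flasques
  obtain ⟨e2⟩ := SSDegenerate.iso_of_rows_vanish (CohTop.restrFunctor ((Opens.map f).obj V))
    (CohTop.push (resMap f V)) F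
    (fun Q hQ q hq => by
      have : TopCat.Sheaf.IsFlasque Q := isFlasque_of_injective Q
      obtain ⟨q', rfl⟩ : ∃ q', q = q' + 1 := ⟨q - 1, by omega⟩
      exact isZero_Rpush_of_isFlasque (resMap f V) _ q')
    (fun q hq => isZero_rightDerived_of_exact (CohTop.restrFunctor ((Opens.map f).obj V)) F q hq) p
  have e3 := (ExtDer.rightDerivedIsoOfIso (pushRestrIso f V) p).app F
  exact ⟨((CohTop.restrFunctor V).rightDerivedZeroIsoSelf.app _).symm ≪≫ e1.symm ≪≫ e3 ≪≫ e2 ≪≫
    ((CohTop.push (resMap f V)).rightDerived p).mapIso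
      ((CohTop.restrFunctor ((Opens.map f).obj V)).rightDerivedZeroIsoSelf.app F)⟩

end Groth.Agent.H18.CohTopBaseRestr
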