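import Groth.Agent.Lib.helper18.SSDegenerate2
import Groth.Agent.Lib.helper18.ClosedPush

set_option autoImplicit false
set_option linter.unusedSectionVars false
open CategoryTheory CategoryTheory.Limits CategoryTheory.Abelian Opposite TopologicalSpace

namespace Groth.Agent.H18.CohTopLeray

open Groth.Agent.H18.OpenRestr Groth.Agent.H18.Flasque Groth.Agent.H18.SectSupp Groth.Agent.H18.CohTopH

universe u

variable {X Y : TopCat.{u}}

lemma hT_push (f : X ⟶ Y) : ∀ Q : CohTop.Ab X, Injective Q → ∀ q : ℕ, 0 < q →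
    IsZero (((ExtDer.hF (constZ Y)).rightDerived q).obj ((CohTop.push f).obj Q)) := by
  intro Q hQ q hq
  have : TopCat.Sheaf.IsFlasque Q := isFlasque_of_injective Q
  have : TopCat.Sheaf.IsFlasque ((CohTop.push f).obj Q) :=
    TopCat.Sheaf.IsFlasque.pushforward_isFlasque Q f
  exact isZero_rightDerived_hF_const _ q hq

/-- **Leray, degenerate case (acyclic base)**: if `H^p(Y, R^q f_* F) = 0` for `p > 0` then
`H^q(X, F) ≅ Γ(Y, R^q f_* F)`. -/
theorem H_iso_sections_Rpush (f : X ⟶ Y) (F : CohTop.Ab X)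
    (h : ∀ p q : ℕ, Subsingleton (CohTop.H ((CohTop.Rpush f q).obj F) (p + 1))) (q : ℕ) :
    Nonempty (AddCommGrpCat.of (CohTop.H F q) ≅ ((CohTop.Rpush f q).obj F).obj.obj (op ⊤)) := by
  obtain ⟨e⟩ := SSDegenerate.iso_of_cols_vanish (CohTop.push f) (ExtDer.hF (constZ Y)) F (hT_push f)
    (fun p q hp => by
      obtain ⟨p', rfl⟩ : ∃ p', p = p' + 1 := ⟨p - 1, by omega⟩
      refine IsZero.of_iso ?_ ((ExtDer.natIso (constZ Y) (p' + 1)).app _)
      exact @AddCommGrpCat.isZero_of_subsingleton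
        ((extFunctorObj (constZ Y) (p' + 1)).obj ((CohTop.Rpush f q).obj F)) (h p' q)) q
  have e1 : ((CohTop.push f ⋙ ExtDer.hF (constZ Y)).rightDerived q).obj F ≅
      (extFunctorObj (constZ X) q).obj F :=
    (ExtDer.rightDerivedIsoOfIso (pushConstIso f) q).app F ≪≫ (ExtDer.natIso (constZ X) q).app F
  have e2 : ((ExtDer.hF (constZ Y)).rightDerived 0).obj (((CohTop.push f).rightDerived q).obj F) ≅
      ((CohTop.Rpush f q).obj F).obj.obj (op ⊤) :=
    (ExtDer.hF (constZ Y)).rightDerivedZeroIsoSelf.app _ ≪≫ (constIso Y).app _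
  have e3 : AddCommGrpCat.of (CohTop.H F q) ≅ (extFunctorObj (constZ X) q).obj F := Iso.refl _
  exact ⟨e3 ≪≫ e1.symm ≪≫ e ≪≫ e2⟩

end Groth.Agent.H18.CohTopLeray
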