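import Groth.Agent.Lib.helper18.ClosedPush

set_option autoImplicit false
set_option linter.unusedSectionVars false
open CategoryTheory CategoryTheory.Limits CategoryTheory.Abelian Opposite TopologicalSpace

namespace Groth.Agent.H18.ConstIrred

open Groth.Agent.H18.Flasque Groth.Agent.H18.CohTopH

universe u

variable {X : TopCat.{u}} (A : AddCommGrpCat.{u})

/-- the constant presheaf -/
abbrev P : (Opens X)ᵒᵖ ⥤ AddCommGrpCat.{u} := (Functor.const (Opens X)ᵒᵖ).obj A

/-- the constant sheaf -/
noncomputable abbrev F : CohTop.Ab X :=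
  (constantSheaf (Opens.grothendieckTopology X) AddCommGrpCat.{u}).obj A

/-- the unit of sheafification -/
noncomputable abbrev η : P (X := X) A ⟶ (F (X := X) A).obj :=
  toSheafify (Opens.grothendieckTopology X) (P A)

lemma η_res {U V : Opens X} (h : V ≤ U) (a : A) :
    (F (X := X) A).obj.map (homOfLE h).op ((η A).app (op U) a) = (η A).app (op V) a :=
  (ConcreteCategory.congr_hom ((η (X := X) A).naturality (homOfLE h).op) a).symm

lemma η_injective {U : Opens X} (hU : U ≠ ⊥) (a : A) (h : (η A).app (op U) a = 0) : a = 0 := by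
  have hinj : Presheaf.IsLocallyInjective (Opens.grothendieckTopology X) (η (X := X) A) :=
    Presheaf.isLocallyInjective_toSheafify' (Opens.grothendieckTopology X) (P (X := X) A)
  have h1 := hinj.equalizerSieve_mem (X := op U) a (0 : A) (h.trans (map_zero _).symm)
  obtain ⟨x, hx⟩ : ∃ x, x ∈ U := by
    by_contra hne
    apply hU
    ext y
    simp only [Opens.coe_bot, Set.mem_empty_iff_false, iff_false]
    exact fun hy => hne ⟨y, hy⟩
  obtain ⟨V, i, hV, -⟩ := h1 x hx
  exact hV

lemma exists_mem_of_ne_bot {U : Opens X} (hU : U ≠ ⊥) : ∃ x, x ∈ U := by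
  by_contra hne
  apply hU
  ext y
  simp only [Opens.coe_bot, Set.mem_empty_iff_false, iff_false]
  exact fun hy => hne ⟨y, hy⟩

lemma inf_ne_bot [IrreducibleSpace X] {V W : Opens X} (hV : V ≠ ⊥) (hW : W ≠ ⊥) : V ⊓ W ≠ ⊥ := by
  obtain ⟨x, hx⟩ := exists_mem_of_ne_bot hV
  obtain ⟨y, hy⟩ := exists_mem_of_ne_bot hW
  obtain ⟨z, hz⟩ := nonempty_preirreducible_inter V.2 W.2 ⟨x, hx⟩ ⟨y, hy⟩
  intro h
  have : z ∈ V ⊓ W := hz
  rw [h] at this
  exact this

lemma η_surjective [IrreducibleSpace X] {U : Opens X} (hU : U ≠ ⊥)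
    (s : (F (X := X) A).obj.obj (op U)) : ∃ a : A, (η A).app (op U) a = s := by
  have hsurj : Presheaf.IsLocallySurjective (Opens.grothendieckTopology X) (η (X := X) A) :=
    Presheaf.isLocallySurjective_toSheafify' (Opens.grothendieckTopology X) (P (X := X) A)
  have h1 := hsurj.imageSieve_mem (U := U) s
  obtain ⟨x₀, hx₀⟩ := exists_mem_of_ne_bot hU
  obtain ⟨V₀, i₀, h00, hxV₀⟩ := h1 x₀ hx₀
  obtain ⟨a₀, ha₀⟩ : ∃ a₀ : A, (η A).app (op V₀) a₀ = (F (X := X) A).obj.map i₀.op s := h00
  have hV₀ : V₀ ≠ ⊥ := by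
    intro h
    rw [h] at hxV₀
    exact hxV₀
  refine ⟨a₀, ?_⟩
  -- compare locally
  choose W j hW hxW using fun x : U => h1 x.1 x.2
  refine TopCat.Sheaf.eq_of_locally_eq' (F (X := X) A) W U j ?_ _ _ ?_
  · intro x hx
    exact Opens.mem_iSup.2 ⟨⟨x, hx⟩, hxW ⟨x, hx⟩⟩
  · intro x
    obtain ⟨a, ha⟩ : ∃ a : A, (η A).app (op (W x)) a = (F (X := X) A).obj.map (j x).op s := hW x
    have e1 : (F (X := X) A).obj.map (j x).op ((η A).app (op U) a₀) = (η A).app (op (W x)) a₀ :=
      η_res A (leOfHom (j x)) a₀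
    refine e1.trans ?_
    refine Eq.trans ?_ ha
    by_cases hWx : W x = ⊥
    · have := ClosedPush.subsingleton_sections_of_eq_bot (F (X := X) A) hWx
      exact Subsingleton.elim _ _
    · -- on the nonempty intersection the two constants agree
      have hne := inf_ne_bot hWx hV₀
      have h2 : (η A).app (op (W x ⊓ V₀)) (a₀ - a) = 0 := by
        rw [map_sub, sub_eq_zero]
        have l1 : (η A).app (op (W x ⊓ V₀)) a₀ =
            (F (X := X) A).obj.map (homOfLE (inf_le_right : W x ⊓ V₀ ≤ V₀)).op
              ((F (X := X) A).obj.map i₀.op s) := by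
          rw [← ha₀]
          exact (η_res A inf_le_right a₀).symm
        have l2 : (η A).app (op (W x ⊓ V₀)) a =
            (F (X := X) A).obj.map (homOfLE (inf_le_left : W x ⊓ V₀ ≤ W x)).op
              ((F (X := X) A).obj.map (j x).op s) := by
          rw [← ha]
          exact (η_res A inf_le_left a).symm
        rw [l1, l2, ← ConcreteCategory.comp_apply, ← ConcreteCategory.comp_apply,
          ← Functor.map_comp, ← Functor.map_comp]
        rfl
      have h3 := η_injective A hne (a₀ - a) h2
      rw [sub_eq_zero] at h3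
      exact congrArg ((η A).app (op (W x))) h3

/-- on an irreducible space constant sheaves are flasque -/
theorem isFlasque_const [IrreducibleSpace X] : TopCat.Sheaf.IsFlasque (F (X := X) A) where
  epi {U V} i := by
    rw [AddCommGrpCat.epi_iff_surjective]
    intro t
    by_cases hV : V.unop = ⊥
    · have := ClosedPush.subsingleton_sections_of_eq_bot (F (X := X) A) hV
      exact ⟨0, Subsingleton.elim _ _⟩
    · have hle : V.unop ≤ U.unop := leOfHom i.unop
      have hU : U.unop ≠ ⊥ := by
        intro h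
        apply hV
        rw [h] at hle
        exact le_bot_iff.1 hle
      obtain ⟨a, ha⟩ := η_surjective A hV t
      refine ⟨(η A).app (op U.unop) a, ?_⟩
      rw [← ha]
      exact η_res A hle a

end Groth.Agent.H18.ConstIrred
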