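import Mathlib

/-!
# Countable products of K-injective complexes in the derived category

`Groth.Agent.Lib.helper18.DProd`:
* `homotopyOfπ` : homotopies into a product complex can be assembled componentwise;
* `isKInjective_pi` : a product of K-injective complexes is K-injective;
* `existsUnique_lift` : `Q (∏ᶜ I)` with the projections `Q.map (Pi.π I n)` has the universal
  property of the product of the `Q (I n)` in the derived category if all `I n` are K-injective;
* `hasProduct_Q` : hence the product exists.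
-/

set_option autoImplicit false
set_option linter.style.haveILetI false

universe w v u

open CategoryTheory Limits HomologicalComplex

namespace Groth.Agent.Lib.helper18.DProd

variable {A : Type u} [Category.{v} A] [Abelian A] {J : Type} [HasLimitsOfShape (Discrete J) A]
  (I : J → CochainComplex A ℤ)

/-- degreewise limit cone -/
noncomputable def isLim (j : ℤ) :
    IsLimit ((eval A (ComplexShape.up ℤ) j).mapCone (limit.cone (Discrete.functor I))) :=
  isLimitOfPreserves _ (limit.isLimit _)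

/-- lift into a degree of the product complex -/
noncomputable def liftX {X : A} (j : ℤ) (φ : ∀ n, X ⟶ (I n).X j) : X ⟶ (∏ᶜ I).X j :=
  (isLim I j).lift
    { pt := X
      π := Discrete.natTrans (F := (Functor.const _).obj X)
        (G := Discrete.functor I ⋙ eval A (ComplexShape.up ℤ) j) (fun n => φ n.as) }

lemma liftX_π {X : A} (j : ℤ) (φ : ∀ n, X ⟶ (I n).X j) (n : J) :
    liftX I j φ ≫ (Pi.π I n).f j = φ n :=
  (isLim I j).fac _ ⟨n⟩

lemma hom_ext_X {X : A} (j : ℤ) {a b : X ⟶ (∏ᶜ I).X j}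
    (h : ∀ n, a ≫ (Pi.π I n).f j = b ≫ (Pi.π I n).f j) : a = b :=
  (isLim I j).hom_ext (fun ⟨n⟩ => h n)

/-- assemble homotopies componentwise -/
noncomputable def homotopyOfπ {M : CochainComplex A ℤ} (f g : M ⟶ ∏ᶜ I)
    (h : ∀ n, Homotopy (f ≫ Pi.π I n) (g ≫ Pi.π I n)) : Homotopy f g where
  hom i j := liftX I j (fun n => (h n).hom i j)
  zero i j hij := by
    apply hom_ext_X I j
    intro n
    rw [liftX_π, zero_comp]
    exact (h n).zero i j hij
  comm i := by
    apply hom_ext_X I i
    intro n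
    have h0 := (h n).comm i
    simp only [comp_f] at h0
    have r1 : (ComplexShape.up ℤ).Rel i (i + 1) := rfl
    have r2 : (ComplexShape.up ℤ).Rel (i - 1) i := by simp
    rw [dNext_eq _ r1, prevD_eq _ r2] at h0 ⊢
    rw [Preadditive.add_comp, Preadditive.add_comp, h0]
    congr 1
    congr 1
    · rw [Category.assoc, liftX_π]
    · rw [Category.assoc, ← (Pi.π I n).comm (i - 1) i, ← Category.assoc, liftX_π]

lemma isKInjective_pi [∀ n, (I n).IsKInjective] : (∏ᶜ I).IsKInjective where
  nonempty_homotopy_zero {M} f hM :=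
    ⟨homotopyOfπ I f 0 (fun n =>
      (CochainComplex.IsKInjective.homotopyZero (f ≫ Pi.π I n) hM).trans
        (Homotopy.ofEq (by simp)))⟩

variable [HasDerivedCategory.{w} A]

open DerivedCategory

lemma Q_map_surj (M L : CochainComplex A ℤ) [L.IsKInjective] (g : Q.obj M ⟶ Q.obj L) :
    ∃ f : M ⟶ L, Q.map f = g := by
  obtain ⟨φ, hφ⟩ := (CochainComplex.IsKInjective.Qh_map_bijective
    ((HomotopyCategory.quotient _ _).obj M) L).surjective
      ((quotientCompQhIso A).hom.app M ≫ g ≫ (quotientCompQhIso A).inv.app L)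
  obtain ⟨f, rfl⟩ := (HomotopyCategory.quotient _ _).map_surjective φ
  refine ⟨f, ?_⟩
  have h1 := quotientCompQhIso_hom_naturality f
  rw [hφ] at h1
  simp only [Category.assoc, Iso.inv_hom_id_app, Functor.comp_obj] at h1
  have h2 : (quotientCompQhIso A).hom.app M ≫ g = (quotientCompQhIso A).hom.app M ≫ Q.map f := by
    rw [← h1]
    erw [Category.comp_id]
  exact ((cancel_epi _).1 h2).symm

lemma Q_map_homotopy (M L : CochainComplex A ℤ) [L.IsKInjective] (f f' : M ⟶ L)
    (h : Q.map f = Q.map f') : Nonempty (Homotopy f f') := by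
  have h1 := quotientCompQhIso_hom_naturality f
  have h2 := quotientCompQhIso_hom_naturality f'
  have h3 : Qh.map ((HomotopyCategory.quotient _ _).map f) =
      Qh.map ((HomotopyCategory.quotient _ _).map f') := by
    rw [← cancel_mono ((quotientCompQhIso A).hom.app L), h1, h2, h]
  exact ⟨HomotopyCategory.homotopyOfEq _ _ ((CochainComplex.IsKInjective.Qh_map_bijective
    ((HomotopyCategory.quotient _ _).obj M) L).injective h3)⟩

lemma existsUnique_lift_Q [∀ n, (I n).IsKInjective] (M : CochainComplex A ℤ)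
    (g : ∀ n, Q.obj M ⟶ Q.obj (I n)) :
    ∃! u : Q.obj M ⟶ Q.obj (∏ᶜ I), ∀ n, u ≫ Q.map (Pi.π I n) = g n := by
  haveI := isKInjective_pi I
  choose f hf using fun n => Q_map_surj M (I n) (g n)
  refine ⟨Q.map (Pi.lift f), fun n => ?_, ?_⟩
  · rw [← Q.map_comp, Pi.lift_π, hf]
  · intro v hv
    obtain ⟨w, rfl⟩ := Q_map_surj M (∏ᶜ I) v
    have H : ∀ n, Nonempty (Homotopy (w ≫ Pi.π I n) (Pi.lift f ≫ Pi.π I n)) := fun n =>
      Q_map_homotopy _ _ _ _ (by rw [Q.map_comp, hv n, Pi.lift_π, hf])
    exact DerivedCategory.Q_map_eq_of_homotopy A (homotopyOfπ I w (Pi.lift f) (fun n => (H n).some))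

lemma existsUnique_lift [∀ n, (I n).IsKInjective] (M : DerivedCategory A)
    (g : ∀ n, M ⟶ Q.obj (I n)) :
    ∃! u : M ⟶ Q.obj (∏ᶜ I), ∀ n, u ≫ Q.map (Pi.π I n) = g n := by
  let e : Q.obj (Q.objPreimage M) ≅ M := Q.objObjPreimageIso M
  obtain ⟨u, hu, huniq⟩ := existsUnique_lift_Q I (Q.objPreimage M) (fun n => e.hom ≫ g n)
  refine ⟨e.inv ≫ u, fun n => ?_, ?_⟩
  · rw [Category.assoc, hu n, Iso.inv_hom_id_assoc]
  · intro v hv
    have := huniq (e.hom ≫ v) (fun n => by rw [Category.assoc, hv n])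
    rw [← this, Iso.inv_hom_id_assoc]

/-- The fan `Q (∏ᶜ I) → Q (I n)`. -/
noncomputable def fanQ : Fan (fun n => Q.obj (I n)) :=
  Fan.mk (Q.obj (∏ᶜ I)) (fun n => Q.map (Pi.π I n))

/-- The fan `fanQ` is a limit. -/
noncomputable def isLimitFanQ [∀ n, (I n).IsKInjective] : IsLimit (fanQ I) :=
  Fan.IsLimit.mk _ (fun s => (existsUnique_lift I s.pt s.proj).choose)
    (fun s j => (existsUnique_lift I s.pt s.proj).choose_spec.1 j)
    (fun s m hm => (existsUnique_lift I s.pt s.proj).choose_spec.2 m hm)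

lemma hasProduct_Q [∀ n, (I n).IsKInjective] : HasProduct (fun n => Q.obj (I n)) :=
  ⟨⟨⟨fanQ I, isLimitFanQ I⟩⟩⟩

end Groth.Agent.Lib.helper18.DProd
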