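import Mathlib

/-!
# Countability of the bounded derived category of a countable abelian category

`Groth.Agent.Lib.helper18.DbCount`: if all Hom-sets of an abelian category `A` are countable and
`A` has countably many isomorphism classes of objects, then there is a countable family of bounded
complexes containing every bounded complex up to isomorphism (`exists_family`), morphisms out of a
bounded complex form a countable set (`countable_hom_of_bdd`), and Hom-sets between bounded objects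
of `D(A)` are countable (`countable_hom_derived`).
-/

set_option autoImplicit false
set_option linter.style.haveILetI false

universe w v u

open CategoryTheory Limits

namespace Groth.Agent.Lib.helper18.DbCount

variable {A : Type u} [Category.{v} A] [Abelian A]

/-- complexes vanishing outside `[a, b]` -/
def Bdd (a b : ℤ) : Set (CochainComplex A ℤ) :=
  {C | ∀ i : ℤ, i ∉ Finset.Icc a b → IsZero (C.X i)}

lemma isStrictlyGE_of_mem_Bdd {a b : ℤ} {C : CochainComplex A ℤ} (hC : C ∈ Bdd a b) :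
    C.IsStrictlyGE a :=
  (C.isStrictlyGE_iff a).2 (fun i hi => hC i (by simp only [Finset.mem_Icc]; omega))

lemma isStrictlyLE_of_mem_Bdd {a b : ℤ} {C : CochainComplex A ℤ} (hC : C ∈ Bdd a b) :
    C.IsStrictlyLE b :=
  (C.isStrictlyLE_iff b).2 (fun i hi => hC i (by simp only [Finset.mem_Icc]; omega))

lemma mem_Bdd_of_isStrictly {a b : ℤ} (C : CochainComplex A ℤ) [C.IsStrictlyGE a]
    [C.IsStrictlyLE b] : C ∈ Bdd a b := by
  intro i hi
  simp only [Finset.mem_Icc, not_and_or, not_le] at hi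
  rcases hi with hi | hi
  · exact C.isZero_of_isStrictlyGE a i hi
  · exact C.isZero_of_isStrictlyLE b i hi

lemma countable_hom_of_bdd [∀ X Y : A, Countable (X ⟶ Y)] (a b : ℤ) (C X : CochainComplex A ℤ)
    (hC : C ∈ Bdd a b) : Countable (C ⟶ X) := by
  let F : (C ⟶ X) → (∀ i : Finset.Icc a b, C.X i.1 ⟶ X.X i.1) := fun f i => f.f i.1
  have hF : Function.Injective F := by
    intro f g hfg
    ext i
    by_cases hi : i ∈ Finset.Icc a b
    · exact congrFun hfg ⟨i, hi⟩
    · exact (hC i hi).eq_of_src _ _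
  exact hF.countable

section Code

variable (e : ℕ → A)

lemma code_eq {m m' k k' : ℕ} {f : e m ⟶ e m'} {g : e k ⟶ e k'}
    (h : (⟨m, m', f⟩ : Σ (m : ℕ) (m' : ℕ), (e m ⟶ e m')) = ⟨k, k', g⟩) :
    ∃ (h1 : m = k) (h2 : m' = k'),
      f ≫ eqToHom (by rw [h2]) = eqToHom (by rw [h1]) ≫ g := by
  cases h
  exact ⟨rfl, rfl, by simp⟩

variable (he : ∀ X : A, ∃ n : ℕ, Nonempty (X ≅ e n))

/-- chosen index of the iso class of `C.X i` -/
noncomputable def idx (C : CochainComplex A ℤ) (i : ℤ) : ℕ := (he (C.X i)).choose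

/-- chosen iso -/
noncomputable def θ (C : CochainComplex A ℤ) (i : ℤ) : C.X i ≅ e (idx e he C i) :=
  (he (C.X i)).choose_spec.some

/-- the code of the differential `i → i+1` -/
noncomputable def code (C : CochainComplex A ℤ) (i : ℤ) :
    Σ (m : ℕ) (m' : ℕ), (e m ⟶ e m') :=
  ⟨idx e he C i, idx e he C (i + 1),
    (θ e he C i).inv ≫ C.d i (i + 1) ≫ (θ e he C (i + 1)).hom⟩

lemma nonempty_iso_of_code_eq (a b : ℤ) (C C' : CochainComplex A ℤ) (hC : C ∈ Bdd a b)
    (hC' : C' ∈ Bdd a b)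
    (h : ∀ i ∈ Finset.Icc a b, code e he C i = code e he C' i) : Nonempty (C ≅ C') := by
  classical
  have h1 : ∀ i ∈ Finset.Icc a b, idx e he C i = idx e he C' i := fun i hi => by
    obtain ⟨h1, _, _⟩ := code_eq e (h i hi)
    exact h1
  let ψ : ∀ i, C.X i ≅ C'.X i := fun i =>
    if hi : i ∈ Finset.Icc a b then
      θ e he C i ≪≫ eqToIso (by rw [h1 i hi]) ≪≫ (θ e he C' i).symm
    else (hC i hi).iso (hC' i hi)
  refine ⟨HomologicalComplex.Hom.isoOfComponents ψ ?_⟩
  intro i j hij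
  obtain rfl : i + 1 = j := hij
  by_cases hi : i ∈ Finset.Icc a b
  · by_cases hj : i + 1 ∈ Finset.Icc a b
    · obtain ⟨e1, e2, e3⟩ := code_eq e (h i hi)
      have e4 := congrArg (fun z => (θ e he C i).hom ≫ z ≫ (θ e he C' (i + 1)).inv) e3
      simp only [Category.assoc, Iso.hom_inv_id_assoc, Iso.hom_inv_id, Category.comp_id] at e4
      simp only [ψ, dif_pos hi, dif_pos hj, Iso.trans_hom, eqToIso.hom, Iso.symm_hom,
        Category.assoc]
      exact e4.symm
    · exact (hC' (i + 1) hj).eq_of_tgt _ _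
  · exact (hC i hi).eq_of_src _ _

/-- the invariant of a complex relative to `[a, b]` -/
noncomputable def invt (a b : ℤ) (C : CochainComplex A ℤ) :
    (Finset.Icc a b) → Σ (m : ℕ) (m' : ℕ), (e m ⟶ e m') :=
  fun i => code e he C i.1

include he in
lemma exists_family [∀ X Y : A, Countable (X ⟶ Y)] :
    ∃ cx : ℕ → CochainComplex A ℤ, (∀ k, ∃ a b, cx k ∈ Bdd a b) ∧
      ∀ (a b : ℤ) (C : CochainComplex A ℤ), C ∈ Bdd a b →
        ∃ k, cx k ∈ Bdd a b ∧ Nonempty (C ≅ cx k) := by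
  classical
  let T := Σ (ab : ℤ × ℤ), (invt e he ab.1 ab.2 '' (Bdd ab.1 ab.2) : Set _)
  haveI : Countable T := inferInstance
  have h0 : (HomologicalComplex.single A (ComplexShape.up ℤ) 0).obj (e 0) ∈ Bdd (A := A) 0 0 := by
    intro i hi
    apply HomologicalComplex.isZero_single_obj_X
    intro h
    exact hi (by simp [h])
  haveI : Nonempty T := ⟨⟨(0, 0), ⟨_, ⟨_, h0, rfl⟩⟩⟩⟩
  obtain ⟨φ, hφ⟩ := exists_surjective_nat T
  let rep : T → CochainComplex A ℤ := fun t => t.2.2.choose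
  have hrep : ∀ t : T, rep t ∈ Bdd t.1.1 t.1.2 ∧ invt e he t.1.1 t.1.2 (rep t) = t.2.1 :=
    fun t => t.2.2.choose_spec
  refine ⟨fun k => rep (φ k), fun k => ⟨_, _, (hrep (φ k)).1⟩, ?_⟩
  intro a b C hC
  let t : T := ⟨(a, b), ⟨invt e he a b C, ⟨C, hC, rfl⟩⟩⟩
  obtain ⟨k, hk⟩ := hφ t
  refine ⟨k, ?_, ?_⟩
  · change rep (φ k) ∈ Bdd a b
    rw [hk]
    exact (hrep t).1
  · change Nonempty (C ≅ rep (φ k))
    rw [hk]
    apply nonempty_iso_of_code_eq e he a b C (rep t) hC (hrep t).1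
    intro i hi
    have := congrFun (hrep t).2 ⟨i, hi⟩
    exact this.symm

end Code

section Derived

variable [HasDerivedCategory.{w} A]

open DerivedCategory

lemma countable_hom_derived [∀ X Y : A, Countable (X ⟶ Y)]
    (cx : ℕ → CochainComplex A ℤ) (hcx : ∀ k, ∃ a b, cx k ∈ Bdd a b)
    (hfam : ∀ (a b : ℤ) (C : CochainComplex A ℤ), C ∈ Bdd a b →
        ∃ k, cx k ∈ Bdd a b ∧ Nonempty (C ≅ cx k))
    (K L : DerivedCategory A) (a b a' b' : ℤ) [K.IsGE a] [K.IsLE b] [L.IsGE a'] [L.IsLE b'] :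
    Countable (K ⟶ L) := by
  classical
  obtain ⟨X, hXa, hXb, ⟨eK⟩⟩ := exists_iso_Q_obj_of_isGE_of_isLE K a b
  obtain ⟨Y, hYa, hYb, ⟨eL⟩⟩ := exists_iso_Q_obj_of_isGE_of_isLE L a' b'
  haveI : X.IsStrictlyGE (min a a') := X.isStrictlyGE_of_ge (min a a') a (min_le_left _ _)
  haveI : Y.IsStrictlyGE (min a a') := Y.isStrictlyGE_of_ge (min a a') a' (min_le_right _ _)
  haveI : ∀ k, Countable (cx k ⟶ X) := fun k => by
    obtain ⟨a, b, h⟩ := hcx k
    exact countable_hom_of_bdd a b _ _ h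
  haveI : ∀ k, Countable (cx k ⟶ Y) := fun k => by
    obtain ⟨a, b, h⟩ := hcx k
    exact countable_hom_of_bdd a b _ _ h
  let S := Σ k : ℕ, (cx k ⟶ X) × (cx k ⟶ Y)
  haveI : Countable S := inferInstance
  let Φ : S → (Q.obj X ⟶ Q.obj Y) := fun s =>
    if h : IsIso (Q.map s.2.1) then @CategoryTheory.inv _ _ _ _ (Q.map s.2.1) h ≫ Q.map s.2.2
    else 0
  have hΦ : Function.Surjective Φ := by
    intro f
    obtain ⟨X', hX'a, hX'b, s, hs, g, hfac⟩ :=
      right_fac_of_isStrictlyLE_of_isStrictlyGE (min a a') b f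
    obtain ⟨k, hk, ⟨θ⟩⟩ := hfam (min a a') b X' (mem_Bdd_of_isStrictly X')
    refine ⟨⟨k, θ.inv ≫ s, θ.inv ≫ g⟩, ?_⟩
    have hiso : IsIso (Q.map (θ.inv ≫ s)) := by
      rw [Q.map_comp]
      infer_instance
    simp only [Φ, dif_pos hiso]
    rw [hfac, IsIso.inv_comp_eq]
    simp only [Functor.map_comp, Category.assoc, IsIso.hom_inv_id_assoc]
  haveI : Countable (Q.obj X ⟶ Q.obj Y) := hΦ.countable
  exact (Iso.homCongr eK eL).injective.countable

end Derived

end Groth.Agent.Lib.helper18.DbCount
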