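import Groth.Agent.Lib.helper18.DeltaUniv
import Mathlib

set_option autoImplicit false
set_option linter.unusedSectionVars false
open CategoryTheory CategoryTheory.Limits

namespace Groth.Agent.H18.Delta

universe v u v' u'

variable {A : Type u} [Category.{v} A] [Abelian A] {B : Type u'} [Category.{v'} B] [Abelian B]

open DeltaF

variable {T T' : CohDeltaFunctor A B ℕ} (φ : T ⟶ T')

/-- dimension shifting: monomorphy in degree `i + 1`. -/
lemma mono_app_succ (i : ℕ) {X M : A} (u : X ⟶ M) [Mono u] (hu : (T.F (i + 1)).map u = 0)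
    (h1 : Epi ((φ.app i).app M)) (h2 : Mono ((φ.app i).app (cokernel u))) :
    Mono ((φ.app (i + 1)).app X) := by
  have hδ := epi_δ_of_effacing T i u hu
  have hcomm := φ.comm (ses u) (ses_shortExact u) i (i + 1) rfl
  apply Preadditive.mono_of_cancel_zero
  intro W k hk
  obtain ⟨W₁, π₁, hπ₁, b, hb⟩ := surjective_up_to_refinements_of_epi
    (T.δ (ses u) (ses_shortExact u) i (i + 1) rfl) k
  have hz : (b ≫ (φ.app i).app (cokernel u)) ≫ T'.δ (ses u) (ses_shortExact u) i (i + 1) rfl = 0 := by
    rw [Category.assoc]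
    erw [← hcomm]
    rw [← Category.assoc, ← hb, Category.assoc, hk, comp_zero]
  obtain ⟨W₂, π₂, hπ₂, a', ha'⟩ :=
    (T'.exact₃ (ses u) (ses_shortExact u) i (i + 1) rfl).exact_up_to_refinements _ hz
  obtain ⟨W₃, π₃, hπ₃, a, ha⟩ := surjective_up_to_refinements_of_epi ((φ.app i).app M) a'
  have h4 : a ≫ (T.F i).map (cokernel.π u) = π₃ ≫ π₂ ≫ b := by
    rw [← cancel_mono ((φ.app i).app (cokernel u))]
    have nat := (φ.app i).naturality (cokernel.π u)
    calc (a ≫ (T.F i).map (cokernel.π u)) ≫ (φ.app i).app (cokernel u)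
        = a ≫ (φ.app i).app M ≫ (T'.F i).map (cokernel.π u) := by
          rw [Category.assoc, nat]
      _ = π₃ ≫ a' ≫ (T'.F i).map (cokernel.π u) := by
          rw [← Category.assoc, ← ha, Category.assoc]
      _ = π₃ ≫ π₂ ≫ b ≫ (φ.app i).app (cokernel u) := by
          rw [ha']
      _ = (π₃ ≫ π₂ ≫ b) ≫ (φ.app i).app (cokernel u) := by
          simp only [Category.assoc]
  have h5 : (π₃ ≫ π₂ ≫ π₁) ≫ k = 0 := by
    have hc := T.comp_δ (ses u) (ses_shortExact u) i (i + 1) rfl
    calc (π₃ ≫ π₂ ≫ π₁) ≫ k = π₃ ≫ π₂ ≫ (π₁ ≫ k) := by simp only [Category.assoc]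
      _ = (π₃ ≫ π₂ ≫ b) ≫ T.δ (ses u) (ses_shortExact u) i (i + 1) rfl := by
          rw [hb]; simp only [Category.assoc]
      _ = a ≫ (T.F i).map (cokernel.π u) ≫ T.δ (ses u) (ses_shortExact u) i (i + 1) rfl := by
          rw [← h4, Category.assoc]
      _ = 0 := by
          erw [hc]
          rw [comp_zero]
  have : Epi (π₃ ≫ π₂ ≫ π₁) := epi_comp _ _
  rw [← cancel_epi (π₃ ≫ π₂ ≫ π₁), h5, comp_zero]

/-- dimension shifting: epimorphy in degree `i + 1`. -/
lemma epi_app_succ (i : ℕ) {X M : A} (u : X ⟶ M) [Mono u] (hu : (T'.F (i + 1)).map u = 0)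
    (h : Epi ((φ.app i).app (cokernel u))) : Epi ((φ.app (i + 1)).app X) := by
  have hδ := epi_δ_of_effacing T' i u hu
  have hcomm := φ.comm (ses u) (ses_shortExact u) i (i + 1) rfl
  have : Epi (T.δ (ses u) (ses_shortExact u) i (i + 1) rfl ≫ (φ.app (i + 1)).app X) := by
    rw [hcomm]
    exact epi_comp _ _
  exact epi_of_epi (T.δ (ses u) (ses_shortExact u) i (i + 1) rfl) _


section compare

variable {T T' : CohDeltaFunctor A B ℕ} (φ : T ⟶ T')

lemma key_mono (hT : T.IsEffaceable) (i : ℕ) (h : ∀ X, IsIso ((φ.app i).app X)) (X : A) :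
    Mono ((φ.app (i + 1)).app X) := by
  obtain ⟨M, u, hu, hu0⟩ := hT i X
  have := h M
  have := h (cokernel u)
  exact mono_app_succ φ i u hu0 inferInstance inferInstance

lemma key_epi (i : ℕ) (hT' : ∀ X : A, ∃ (Y : A) (u : X ⟶ Y), Mono u ∧ (T'.F (i + 1)).map u = 0)
    (h : ∀ X, Epi ((φ.app i).app X)) (X : A) : Epi ((φ.app (i + 1)).app X) := by
  obtain ⟨M, u, hu, hu0⟩ := hT' X
  exact epi_app_succ φ i u hu0 (h _)

/-- comparison of delta-functors, conditions (a) ⇔ (b) ⇔ (c). -/
theorem compare_tfae (hT : T.IsEffaceable) (n : ℕ) :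
    ((∀ i : ℕ, i ≤ n → IsIso (φ.app i)) ∧ Mono (φ.app (n + 1)) ↔
      (Mono (φ.app 0) ∧ ∀ i : ℕ, i ≤ n → Epi (φ.app i))) ∧
    ((∀ i : ℕ, i ≤ n → IsIso (φ.app i)) ∧ Mono (φ.app (n + 1)) ↔
      (IsIso (φ.app 0) ∧ ∀ i : ℕ, 0 < i → i ≤ n → ∀ X : A, ∃ (Y : A) (u : X ⟶ Y),
        Mono u ∧ (T'.F i).map u = 0)) := by
  constructor
  · constructor
    · rintro ⟨h1, -⟩
      refine ⟨?_, fun i hi => ?_⟩
      · have := h1 0 (Nat.zero_le _)
        infer_instance
      · have := h1 i hi
        infer_instance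
    · rintro ⟨h0, hepi⟩
      rw [NatTrans.mono_iff_mono_app] at h0
      have key : ∀ i : ℕ, i ≤ n → ∀ X, IsIso ((φ.app i).app X) := by
        intro i
        induction i with
        | zero =>
          intro _ X
          have := h0 X
          have : Epi ((φ.app 0).app X) := by
            have := hepi 0 (Nat.zero_le _)
            rw [NatTrans.epi_iff_epi_app] at this
            exact this X
          exact isIso_of_mono_of_epi _
        | succ i ih =>
          intro hi X
          have := key_mono φ hT i (ih (by omega)) X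
          have : Epi ((φ.app (i + 1)).app X) := by
            have := hepi (i + 1) hi
            rw [NatTrans.epi_iff_epi_app] at this
            exact this X
          exact isIso_of_mono_of_epi _
      refine ⟨fun i hi => ?_, ?_⟩
      · rw [NatTrans.isIso_iff_isIso_app]
        exact key i hi
      · rw [NatTrans.mono_iff_mono_app]
        exact key_mono φ hT n (key n le_rfl)
  · constructor
    · rintro ⟨h1, -⟩
      refine ⟨h1 0 (Nat.zero_le _), fun i hi0 hi X => ?_⟩
      obtain ⟨j, rfl⟩ : ∃ j, i = j + 1 := ⟨i - 1, by omega⟩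
      obtain ⟨Y, u, hu, hu0⟩ := hT j X
      refine ⟨Y, u, hu, ?_⟩
      have := h1 (j + 1) hi
      have hX : IsIso ((φ.app (j + 1)).app X) := inferInstance
      have nat := (φ.app (j + 1)).naturality u
      rw [hu0, zero_comp] at nat
      rw [← cancel_epi ((φ.app (j + 1)).app X), ← nat, comp_zero]
    · rintro ⟨h0, heff⟩
      have key : ∀ i : ℕ, i ≤ n → ∀ X, IsIso ((φ.app i).app X) := by
        intro i
        induction i with
        | zero =>
          intro _ X
          infer_instance
        | succ i ih =>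
          intro hi X
          have := key_mono φ hT i (ih (by omega)) X
          have : Epi ((φ.app (i + 1)).app X) :=
            key_epi φ i (heff (i + 1) (by omega) hi) (fun Y => by
              have := ih (by omega) Y
              infer_instance) X
          exact isIso_of_mono_of_epi _
      refine ⟨fun i hi => ?_, ?_⟩
      · rw [NatTrans.isIso_iff_isIso_app]
        exact key i hi
      · rw [NatTrans.mono_iff_mono_app]
        exact key_mono φ hT n (key n le_rfl)

end compare

end Groth.Agent.H18.Delta
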