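import Groth.Prelude.Def_DeltaF
import Mathlib

set_option autoImplicit false
set_option linter.unusedSectionVars false
open CategoryTheory CategoryTheory.Limits

namespace Groth.Agent.H18.Delta

universe v u v' u'

variable {A : Type u} [Category.{v} A] [Abelian A] {B : Type u'} [Category.{v'} B] [Abelian B]

open DeltaF

/-- the short exact sequence `0 → X → M → M/X → 0` of a monomorphism. -/
noncomputable abbrev ses {X M : A} (u : X ⟶ M) : ShortComplex A :=
  ShortComplex.mk u (cokernel.π u) (cokernel.condition u)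

lemma ses_shortExact {X M : A} (u : X ⟶ M) [Mono u] : (ses u).ShortExact :=
  { exact := ShortComplex.exact_cokernel u
    mono_f := inferInstanceAs (Mono u)
    epi_g := inferInstanceAs (Epi (cokernel.π u)) }

variable (T T' : CohDeltaFunctor A B ℕ)

lemma epi_δ_of_effacing (n : ℕ) {X M : A} (u : X ⟶ M) [Mono u] (hu : (T.F (n + 1)).map u = 0) :
    Epi (T.δ (ses u) (ses_shortExact u) n (n + 1) rfl) :=
  (T.exact₁ (ses u) (ses_shortExact u) n (n + 1) rfl).epi_f hu

variable {T T'}

/-- the map `T^{n+1} X ⟶ T'^{n+1} X` induced by `σ : T^n ⟶ T'^n` and an effacing monomorphism. -/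
noncomputable def loc (n : ℕ) (σ : T.F n ⟶ T'.F n) {X M : A} (u : X ⟶ M) [Mono u]
    (hu : (T.F (n + 1)).map u = 0) : (T.F (n + 1)).obj X ⟶ (T'.F (n + 1)).obj X :=
  have := epi_δ_of_effacing T n u hu
  (T.exact₃ (ses u) (ses_shortExact u) n (n + 1) rfl).desc
    (σ.app (cokernel u) ≫ T'.δ (ses u) (ses_shortExact u) n (n + 1) rfl) (by
      show (T.F n).map (cokernel.π u) ≫ σ.app (cokernel u) ≫ _ = 0
      rw [← Category.assoc, σ.naturality, Category.assoc]
      erw [T'.comp_δ (ses u) (ses_shortExact u) n (n + 1) rfl]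
      rw [comp_zero])

lemma δ_loc (n : ℕ) (σ : T.F n ⟶ T'.F n) {X M : A} (u : X ⟶ M) [Mono u]
    (hu : (T.F (n + 1)).map u = 0) :
    T.δ (ses u) (ses_shortExact u) n (n + 1) rfl ≫ loc n σ u hu =
      σ.app (cokernel u) ≫ T'.δ (ses u) (ses_shortExact u) n (n + 1) rfl := by
  have := epi_δ_of_effacing T n u hu
  exact (T.exact₃ (ses u) (ses_shortExact u) n (n + 1) rfl).g_desc _ _

/-- Key lemma: compatibility of `loc` with a morphism of effacing monomorphisms. -/
lemma loc_natural_of_map (n : ℕ) (σ : T.F n ⟶ T'.F n) {X X' M M' : A} (f : X ⟶ X')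
    (u : X ⟶ M) [Mono u] (hu : (T.F (n + 1)).map u = 0)
    (u' : X' ⟶ M') [Mono u'] (hu' : (T.F (n + 1)).map u' = 0)
    (g : M ⟶ M') (hg : u ≫ g = f ≫ u') :
    (T.F (n + 1)).map f ≫ loc n σ u' hu' = loc n σ u hu ≫ (T'.F (n + 1)).map f := by
  have := epi_δ_of_effacing T n u hu
  let φ : ses u ⟶ ses u' :=
    { τ₁ := f
      τ₂ := g
      τ₃ := cokernel.map u u' f g hg
      comm₁₂ := hg.symm
      comm₂₃ := by simp }
  have h1 := T.δ_natural (ses_shortExact u) (ses_shortExact u') φ n (n + 1) rfl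
  have h2 := T'.δ_natural (ses_shortExact u) (ses_shortExact u') φ n (n + 1) rfl
  rw [← cancel_epi (T.δ (ses u) (ses_shortExact u) n (n + 1) rfl)]
  calc T.δ (ses u) (ses_shortExact u) n (n + 1) rfl ≫ (T.F (n + 1)).map f ≫ loc n σ u' hu'
      = ((T.F n).map φ.τ₃ ≫ T.δ (ses u') (ses_shortExact u') n (n + 1) rfl) ≫ loc n σ u' hu' := by
        rw [h1, Category.assoc]
    _ = (T.F n).map φ.τ₃ ≫ σ.app (cokernel u') ≫ T'.δ (ses u') (ses_shortExact u') n (n + 1) rfl := by
        rw [Category.assoc, δ_loc]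
    _ = σ.app (cokernel u) ≫ (T'.F n).map φ.τ₃ ≫ T'.δ (ses u') (ses_shortExact u') n (n + 1) rfl := by
        rw [← Category.assoc, σ.naturality, Category.assoc]
    _ = σ.app (cokernel u) ≫ T'.δ (ses u) (ses_shortExact u) n (n + 1) rfl ≫ (T'.F (n + 1)).map f := by
        rw [h2]
    _ = T.δ (ses u) (ses_shortExact u) n (n + 1) rfl ≫ loc n σ u hu ≫ (T'.F (n + 1)).map f := by
        rw [← Category.assoc, ← δ_loc, Category.assoc]

lemma map_lift_eq_zero (F : A ⥤ B) [F.Additive] {X M M' : A} (u : X ⟶ M) (w : X ⟶ M')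
    (hu : F.map u = 0) (hw : F.map w = 0) : F.map (biprod.lift u w) = 0 := by
  have h : biprod.lift u w = u ≫ biprod.inl + w ≫ biprod.inr := by
    ext <;> simp
  rw [h, F.map_add, F.map_comp, F.map_comp, hu, hw, zero_comp, zero_comp, add_zero]

/-- general naturality of `loc`. -/
lemma loc_natural (n : ℕ) (σ : T.F n ⟶ T'.F n) {X X' M M' : A} (f : X ⟶ X')
    (u : X ⟶ M) [Mono u] (hu : (T.F (n + 1)).map u = 0)
    (u' : X' ⟶ M') [Mono u'] (hu' : (T.F (n + 1)).map u' = 0) :
    (T.F (n + 1)).map f ≫ loc n σ u' hu' = loc n σ u hu ≫ (T'.F (n + 1)).map f := by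
  have : Mono (biprod.lift u (f ≫ u')) := mono_of_mono_fac (biprod.lift_fst u (f ≫ u'))
  have hv : (T.F (n + 1)).map (biprod.lift u (f ≫ u')) = 0 :=
    map_lift_eq_zero _ u (f ≫ u') hu (by rw [Functor.map_comp, hu', comp_zero])
  have e1 := loc_natural_of_map n σ (𝟙 X) (biprod.lift u (f ≫ u')) hv u hu biprod.fst (by simp)
  have e2 := loc_natural_of_map n σ f (biprod.lift u (f ≫ u')) hv u' hu' biprod.snd (by simp)
  rw [CategoryTheory.Functor.map_id, CategoryTheory.Functor.map_id, Category.id_comp, Category.comp_id] at e1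
  rw [e2, e1]


section universal

variable {T T' : CohDeltaFunctor A B ℕ} (hT : T.IsEffaceable)

/-- chosen effacing object -/
noncomputable def effObj (n : ℕ) (X : A) : A := (hT n X).choose

/-- chosen effacing monomorphism -/
noncomputable def effMap (n : ℕ) (X : A) : X ⟶ effObj hT n X := (hT n X).choose_spec.choose

instance (n : ℕ) (X : A) : Mono (effMap hT n X) := (hT n X).choose_spec.choose_spec.1

lemma effMap_spec (n : ℕ) (X : A) : (T.F (n + 1)).map (effMap hT n X) = 0 :=
  (hT n X).choose_spec.choose_spec.2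

/-- the extension of `σ : T^n ⟶ T'^n` to degree `n + 1`. -/
noncomputable def next (n : ℕ) (σ : T.F n ⟶ T'.F n) : T.F (n + 1) ⟶ T'.F (n + 1) where
  app X := loc n σ (effMap hT n X) (effMap_spec hT n X)
  naturality _ _ f := loc_natural n σ f _ _ _ _

lemma next_app_eq (n : ℕ) (σ : T.F n ⟶ T'.F n) {X M : A} (u : X ⟶ M) [Mono u]
    (hu : (T.F (n + 1)).map u = 0) : (next hT n σ).app X = loc n σ u hu := by
  have := loc_natural n σ (𝟙 X) u hu (effMap hT n X) (effMap_spec hT n X)
  rw [CategoryTheory.Functor.map_id, CategoryTheory.Functor.map_id, Category.id_comp,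
    Category.comp_id] at this
  exact this

lemma next_comm (n : ℕ) (σ : T.F n ⟶ T'.F n) (S : ShortComplex A) (hS : S.ShortExact) :
    T.δ S hS n (n + 1) rfl ≫ (next hT n σ).app S.X₁ = σ.app S.X₃ ≫ T'.δ S hS n (n + 1) rfl := by
  have := hS.mono_f
  have := hS.epi_g
  let v : S.X₁ ⟶ effObj hT n S.X₂ := S.f ≫ effMap hT n S.X₂
  have hvm : Mono v := mono_comp _ _
  have hv : (T.F (n + 1)).map v = 0 := by
    rw [CategoryTheory.Functor.map_comp, effMap_spec, comp_zero]
  have hz : S.f ≫ effMap hT n S.X₂ ≫ cokernel.π v = 0 := by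
    rw [← Category.assoc]
    exact cokernel.condition v
  let h : S.X₃ ⟶ cokernel v := hS.exact.desc (effMap hT n S.X₂ ≫ cokernel.π v) hz
  have hh : S.g ≫ h = effMap hT n S.X₂ ≫ cokernel.π v := hS.exact.g_desc _ _
  let φ : S ⟶ ses v :=
    { τ₁ := 𝟙 _
      τ₂ := effMap hT n S.X₂
      τ₃ := h
      comm₁₂ := by simp [v]
      comm₂₃ := hh.symm }
  have h1 := T.δ_natural hS (ses_shortExact v) φ n (n + 1) rfl
  have h2 := T'.δ_natural hS (ses_shortExact v) φ n (n + 1) rfl
  have h1' : (T.F n).map h ≫ T.δ (ses v) (ses_shortExact v) n (n + 1) rfl = T.δ S hS n (n + 1) rfl := by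
    rw [h1]
    show _ ≫ (T.F (n + 1)).map (𝟙 _) = _
    rw [CategoryTheory.Functor.map_id, Category.comp_id]
  have h2' : (T'.F n).map h ≫ T'.δ (ses v) (ses_shortExact v) n (n + 1) rfl =
      T'.δ S hS n (n + 1) rfl := by
    rw [h2]
    show _ ≫ (T'.F (n + 1)).map (𝟙 _) = _
    rw [CategoryTheory.Functor.map_id, Category.comp_id]
  rw [next_app_eq hT n σ v hv, ← h1', Category.assoc, δ_loc, ← Category.assoc, σ.naturality,
    Category.assoc, h2']

/-- the sequence of natural transformations extending `t`. -/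
noncomputable def seq (t : T.F 0 ⟶ T'.F 0) : ∀ n : ℕ, T.F n ⟶ T'.F n
  | 0 => t
  | n + 1 => next hT n (seq t n)

/-- the morphism of delta-functors extending `t`. -/
noncomputable def extend (t : T.F 0 ⟶ T'.F 0) : T ⟶ T' where
  app := seq hT t
  comm S hS n₀ n₁ h := by
    subst h
    exact next_comm hT n₀ (seq hT t n₀) S hS

lemma extend_app_zero (t : T.F 0 ⟶ T'.F 0) : (extend hT t).app 0 = t := rfl

include hT in
lemma hom_ext_of_effaceable (τ σ : T ⟶ T') (h : τ.app 0 = σ.app 0) : τ = σ := by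
  apply CohDeltaFunctor.hom_ext
  intro n
  induction n with
  | zero => exact h
  | succ n ih =>
    ext X
    have := epi_δ_of_effacing T n (effMap hT n X) (effMap_spec hT n X)
    rw [← cancel_epi (T.δ (ses (effMap hT n X)) (ses_shortExact _) n (n + 1) rfl)]
    have e1 := τ.comm (ses (effMap hT n X)) (ses_shortExact _) n (n + 1) rfl
    have e2 := σ.comm (ses (effMap hT n X)) (ses_shortExact _) n (n + 1) rfl
    rw [e1, e2, ih]

include hT in
theorem isUniversal_of_isEffaceable : T.IsUniversal := by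
  intro T' t
  refine ⟨extend hT t, rfl, ?_⟩
  intro τ hτ
  exact hom_ext_of_effaceable hT τ (extend hT t) hτ

end universal

end Groth.Agent.H18.Delta
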