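import Mathlib

/-!
# Dimension shifting along an exact sequence of sheaves (S14060)
-/

set_option autoImplicit false
open CategoryTheory CategoryTheory.Limits CategoryTheory.Abelian Opposite TopologicalSpace

namespace Groth.Agent.H18.DimShift

universe v u

section Abelian

variable {A : Type*} [Category A] [Abelian A]

/-- from `X₁ ⟶ X₂ ⟶ X₃` the complex `ker f ⟶ X₁ ⟶ ker g` -/
noncomputable def kerSES (S : ShortComplex A) : ShortComplex A :=
  ShortComplex.mk (kernel.ι S.f) (kernel.lift S.g S.f S.zero) (by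
    rw [← cancel_mono (kernel.ι S.g), Category.assoc, kernel.lift_ι, kernel.condition, zero_comp])

lemma kerSES_shortExact (S : ShortComplex A) (hS : S.Exact) : (kerSES S).ShortExact := by
  have hex : (kerSES S).Exact := by
    apply ShortComplex.exact_of_f_is_kernel
    exact isKernelOfComp (kernel.ι S.g) S.f (kernelIsKernel S.f) _ (kernel.lift_ι _ _ _)
  have : Mono (kerSES S).f := inferInstanceAs (Mono (kernel.ι S.f))
  have : Epi (kerSES S).g := (S.exact_iff_epi_kernel_lift).mp hS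
  exact ShortComplex.ShortExact.mk hex

/-- `ker g ⟶ X₂ ⟶ X₃` for an epi `g` -/
noncomputable def kerSES' {X Y : A} (g : X ⟶ Y) : ShortComplex A :=
  ShortComplex.mk (kernel.ι g) g (kernel.condition g)

lemma kerSES'_shortExact {X Y : A} (g : X ⟶ Y) [Epi g] : (kerSES' g).ShortExact := by
  have hex : (kerSES' g).Exact := ShortComplex.exact_of_f_is_kernel _ (kernelIsKernel g)
  have : Mono (kerSES' g).f := inferInstanceAs (Mono (kernel.ι g))
  have : Epi (kerSES' g).g := inferInstanceAs (Epi g)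
  exact ShortComplex.ShortExact.mk hex

variable [HasExt.{v} A]

/-- vanishing propagates along a short exact sequence -/
lemma subsingleton_ext_X₃ {S : ShortComplex A} (hS : S.ShortExact) (Z : A) (n : ℕ)
    (h2 : Subsingleton (Ext.{v} Z S.X₂ n)) (h1 : Subsingleton (Ext.{v} Z S.X₁ (n + 1))) :
    Subsingleton (Ext.{v} Z S.X₃ n) := by
  refine ⟨fun x y => ?_⟩
  have hx : ∀ x : Ext.{v} Z S.X₃ n, x = 0 := by
    intro x
    obtain ⟨x₂, rfl⟩ := Ext.covariant_sequence_exact₃ Z hS x rfl (Subsingleton.elim _ _)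
    rw [Subsingleton.elim x₂ 0, Ext.zero_comp]
  rw [hx x, hx y]

end Abelian

section Main

variable (X : TopCat.{u})
    [HasExt.{u} (Sheaf (Opens.grothendieckTopology X) AddCommGrpCat.{u})]
    (F : ChainComplex (Sheaf (Opens.grothendieckTopology X) AddCommGrpCat.{u}) ℕ)

/-- the kernels `Z_{j+1} = ker (F_{j+1} ⟶ F_j)` -/
noncomputable abbrev K (j : ℕ) : Sheaf (Opens.grothendieckTopology X) AddCommGrpCat.{u} :=
  kernel (F.d (j + 1) j)

lemma step (j : ℕ) (hex : F.ExactAt (j + 1))
    (h2 : Subsingleton (Sheaf.H (F.X (j + 2)) (j + 1)))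
    (h1 : Subsingleton (Sheaf.H (K X F (j + 1)) (j + 2))) :
    Subsingleton (Sheaf.H (K X F j) (j + 1)) := by
  rw [HomologicalComplex.exactAt_iff' F (j + 2) (j + 1) j (by simp) (by simp)] at hex
  exact subsingleton_ext_X₃ (kerSES_shortExact _ hex) _ (j + 1) h2 h1

theorem main (r : ℕ) (hr : 1 ≤ r)
    (hmono : Mono (F.d r (r - 1))) (hepi : Epi (F.d 1 0))
    (hex : ∀ j : ℕ, 1 ≤ j → j < r → F.ExactAt j)
    (hvan : ∀ j : ℕ, 2 ≤ j → j ≤ r → Subsingleton (Sheaf.H (F.X j) (j - 1))) :
    Function.Surjective ((F.d 1 0).hom.app (Opposite.op ⊤)) := by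
  obtain ⟨r', rfl⟩ : ∃ r', r = r' + 1 := ⟨r - 1, by omega⟩
  have hmono' : Mono (F.d (r' + 1) r') := hmono
  -- downward induction
  have key : ∀ d j : ℕ, j + d = r' → Subsingleton (Sheaf.H (K X F j) (j + 1)) := by
    intro d
    induction d with
    | zero =>
      intro j hj
      have hj' : j = r' := by omega
      subst hj'
      exact Sheaf.subsingleton_H_of_isZero (isZero_kernel_of_mono _) _
    | succ d ih =>
      intro j hj
      refine step X F j (hex (j + 1) (by omega) (by omega)) ?_ (ih (j + 1) (by omega))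
      exact hvan (j + 2) (by omega) (by omega)
  have h0 : Subsingleton (Sheaf.H (K X F 0) 1) := key r' 0 (by omega)
  have hS := kerSES'_shortExact (F.d 1 0)
  intro s
  let x₃ : Sheaf.H (F.X 0) 0 := (Sheaf.H.equiv₀ (F.X 0) isTerminalTop).symm s
  have hz : x₃.comp hS.extClass (rfl : 0 + 1 = 1) = 0 := h0.elim _ _
  obtain ⟨x₂', hx₂⟩ := Ext.covariant_sequence_exact₃ _ hS x₃ rfl hz
  let x₂ : Sheaf.H (F.X 1) 0 := x₂'
  have hx₂' : Sheaf.H.map (F.d 1 0) 0 x₂ = x₃ := hx₂
  refine ⟨Sheaf.H.equiv₀ (F.X 1) isTerminalTop x₂, ?_⟩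
  exact (Sheaf.H.equiv₀_naturality isTerminalTop (F.d 1 0) x₂).trans
    ((congrArg _ hx₂').trans (AddEquiv.apply_symm_apply _ s))

end Main

end Groth.Agent.H18.DimShift
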