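import Groth.Agent.Lib.helper18.Cech4
import Groth.Prelude.Def_CohTop

set_option autoImplicit false
set_option linter.unusedSectionVars false
set_option linter.unusedVariables false
open CategoryTheory CategoryTheory.Limits Opposite Simplicial TopologicalSpace

namespace Groth.Agent.H18.DisjCech

open Groth.Agent.H18.Cech

universe u

variable {X : TopCat.{u}} (P : (Opens X)ᵒᵖ ⥤ AddCommGrpCat.{u})

lemma EVmap_comp {Z Z' Z'' : FormalCoproduct.{u} (Opens X)} (g : Z'' ⟶ Z') (g' : Z' ⟶ Z) :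
    EVmap P (g ≫ g') = EVmap P g' ≫ EVmap P g := by
  exact ((FormalCoproduct.evalOp.{u} (Opens X) AddCommGrpCat.{u}).obj P).map_comp g'.op g.op

lemma pr_transport {Z : FormalCoproduct.{u} (Opens X)} (x : EV P Z) (i j : Z.I) (hj : j = i)
    (φ : Z.obj i ⟶ Z.obj j) : (P.map φ.op).hom (pr P Z j x) = pr P Z i x := by
  subst hj
  have : φ = 𝟙 _ := Subsingleton.elim _ _
  rw [this, op_id, P.map_id]
  rfl

lemma EVmap_eq_id_of {Z : FormalCoproduct.{u} (Opens X)} (g : Z ⟶ Z)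
    (h : ∀ i : Z.I, g.f i = i ∨ Subsingleton (P.obj (op (Z.obj i)))) : EVmap P g = 𝟙 _ := by
  apply AddCommGrpCat.hom_ext
  apply AddMonoidHom.ext
  intro x
  apply EV_ext
  intro i
  rw [pr_EVmap]
  rcases h i with hi | hi
  · exact pr_transport P x i (g.f i) hi (g.φ i)
  · exact Subsingleton.elim _ _

section Disj

variable {ι : Type u} (V : ι → Opens X)

/-- the formal coproduct of the family -/
abbrev ZV : FormalCoproduct.{u} (Opens X) := FormalCoproduct.mk _ V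

/-- its Čech object -/
noncomputable abbrev W : SimplicialObject (FormalCoproduct.{u} (Opens X)) := (ZV V).cech

lemma g_f (n : ℕ) (a : Fin (n + 2) → ι) :
    ((W V).δ (0 : Fin (n + 2)) ≫ (W V).σ (0 : Fin (n + 1))).f a =
      fun k => a ((0 : Fin (n + 2)).succAbove ((0 : Fin (n + 1)).predAbove k)) := rfl

lemma fix_of_eq (n : ℕ) (a : Fin (n + 2) → ι) (h : a 0 = a 1) :
    (fun k => a ((0 : Fin (n + 2)).succAbove ((0 : Fin (n + 1)).predAbove k))) = a := by
  funext k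
  induction k using Fin.cases with
  | zero =>
    have : (0 : Fin (n + 1)).predAbove (0 : Fin (n + 2)) = 0 := by simp
    rw [this, Fin.succAbove_zero]
    exact h.symm
  | succ j =>
    have : (0 : Fin (n + 1)).predAbove j.succ = j := by simp
    rw [this, Fin.succAbove_zero]

lemma obj_le (n : ℕ) (a : Fin (n + 2) → ι) (k : Fin (n + 2)) :
    ((W V) _⦋n + 1⦌).obj a ≤ V (a k) :=
  leOfHom (Pi.π (fun k => V (a k)) k)

variable (hdisj : ∀ i j, i ≠ j → V i ⊓ V j = ⊥) (hP : Subsingleton (P.obj (op ⊥)))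

include hdisj hP in
lemma subsingleton_of_ne (n : ℕ) (a : Fin (n + 2) → ι) (h : a 0 ≠ a 1) :
    Subsingleton (P.obj (op (((W V) _⦋n + 1⦌).obj a))) := by
  have hbot : ((W V) _⦋n + 1⦌).obj a = ⊥ := by
    apply le_bot_iff.1
    rw [← hdisj _ _ h]
    exact le_inf (obj_le V n a 0) (obj_le V n a 1)
  rw [hbot]
  exact hP

include hdisj hP in
lemma EVmap_g (n : ℕ) :
    EVmap P ((W V).δ (0 : Fin (n + 2)) ≫ (W V).σ (0 : Fin (n + 1))) = 𝟙 _ := by
  apply EVmap_eq_id_of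
  intro a
  by_cases h : a 0 = a 1
  · left
    rw [g_f]
    exact fix_of_eq n a h
  · right
    exact subsingleton_of_ne P V hdisj hP n a h

end Disj

section Htpy

variable {ι : Type u} (V : ι → Opens X)
  (hdisj : ∀ i j, i ≠ j → V i ⊓ V j = ⊥) (hP : Subsingleton (P.obj (op ⊥)))

lemma EVmap_id (Z : FormalCoproduct.{u} (Opens X)) : EVmap P (𝟙 Z) = 𝟙 _ :=
  EVmap_eq_id_of P (𝟙 Z) (fun _ => Or.inl rfl)

/-- the terms appearing in both sums -/
noncomputable def T (n : ℕ) (j : Fin (n + 1)) : EV P ((W V) _⦋n + 1⦌) ⟶ EV P ((W V) _⦋n + 1⦌) :=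
  EVmap P ((W V).δ (j.succ : Fin (n + 2)) ≫ (W V).σ (0 : Fin (n + 1)))

/-- the differential with a clean type -/
noncomputable def dC (n : ℕ) : EV P ((W V) _⦋n⦌) ⟶ EV P ((W V) _⦋n + 1⦌) := (CC P (W V)).d n (n + 1)

lemma dC_eq (n : ℕ) : dC P V n = ∑ i : Fin (n + 2), (-1 : ℤ) ^ (i : ℕ) • EVmap P ((W V).δ i) :=
  CC_d P (W V) n

lemma sum₁ (n : ℕ) :
    EVmap P ((W V).σ (0 : Fin (n + 1))) ≫ dC P V n =
      EVmap P ((W V).δ (0 : Fin (n + 2)) ≫ (W V).σ (0 : Fin (n + 1))) +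
        ∑ j : Fin (n + 1), (-1 : ℤ) ^ ((j : ℕ) + 1) • T P V n j := by
  rw [dC_eq, Preadditive.comp_sum, Fin.sum_univ_succ]
  congr 1
  · rw [Fin.val_zero, pow_zero, one_smul, ← EVmap_comp]
  · refine Finset.sum_congr rfl (fun j _ => ?_)
    rw [Preadditive.comp_zsmul, Fin.val_succ, ← EVmap_comp]
    rfl

lemma sum₂ (n : ℕ) :
    dC P V (n + 1) ≫ EVmap P ((W V).σ (0 : Fin (n + 2))) =
      ∑ j : Fin (n + 1), (-1 : ℤ) ^ (j : ℕ) • T P V n j := by
  rw [dC_eq, Preadditive.sum_comp, Fin.sum_univ_succ, Fin.sum_univ_succ]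
  have h0 : ((-1 : ℤ) ^ ((0 : Fin (n + 3)) : ℕ) • EVmap P ((W V).δ (0 : Fin (n + 3)))) ≫
      EVmap P ((W V).σ (0 : Fin (n + 2))) = 𝟙 _ := by
    rw [Fin.val_zero, pow_zero, one_smul, ← EVmap_comp]
    have := (W V).δ_comp_σ_self (i := (0 : Fin (n + 2)))
    rw [Fin.castSucc_zero] at this
    rw [this, EVmap_id]
  have h1 : ((-1 : ℤ) ^ (((0 : Fin (n + 2)).succ : Fin (n + 3)) : ℕ) •
      EVmap P ((W V).δ ((0 : Fin (n + 2)).succ : Fin (n + 3)))) ≫
      EVmap P ((W V).σ (0 : Fin (n + 2))) = -𝟙 _ := by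
    rw [Fin.val_succ, Fin.val_zero, zero_add, pow_one, Preadditive.zsmul_comp, ← EVmap_comp,
      (W V).δ_comp_σ_succ (i := (0 : Fin (n + 2))), EVmap_id, neg_one_zsmul]
  rw [h0, h1]
  have h2 : ∀ j : Fin (n + 1),
      ((-1 : ℤ) ^ ((j.succ.succ : Fin (n + 3)) : ℕ) • EVmap P ((W V).δ (j.succ.succ : Fin (n + 3)))) ≫
        EVmap P ((W V).σ (0 : Fin (n + 2))) = (-1 : ℤ) ^ (j : ℕ) • T P V n j := by
    intro j
    rw [Preadditive.zsmul_comp, ← EVmap_comp, Fin.val_succ, Fin.val_succ]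
    have hgt : (0 : Fin (n + 1)).castSucc < j.succ := by
      rw [Fin.castSucc_zero]
      exact Fin.succ_pos j
    have := (W V).δ_comp_σ_of_gt hgt
    rw [Fin.castSucc_zero] at this
    rw [this]
    have hs : (-1 : ℤ) ^ ((j : ℕ) + 1 + 1) = (-1 : ℤ) ^ (j : ℕ) := by
      rw [pow_succ, pow_succ]; ring
    rw [hs]
    rfl
  rw [Finset.sum_congr rfl (fun j _ => h2 j)]
  abel

include hdisj hP in
theorem htpy (n : ℕ) :
    EVmap P ((W V).σ (0 : Fin (n + 1))) ≫ dC P V n +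
      dC P V (n + 1) ≫ EVmap P ((W V).σ (0 : Fin (n + 2))) = 𝟙 _ := by
  rw [sum₁, sum₂, EVmap_g P V hdisj hP n, add_assoc, ← Finset.sum_add_distrib]
  have : ∀ j : Fin (n + 1), (-1 : ℤ) ^ ((j : ℕ) + 1) • T P V n j + (-1 : ℤ) ^ (j : ℕ) • T P V n j = 0 := by
    intro j
    rw [← add_smul, pow_succ]
    have : (-1 : ℤ) ^ (j : ℕ) * -1 + (-1) ^ (j : ℕ) = 0 := by ring
    rw [this, zero_smul]
  rw [Finset.sum_congr rfl (fun j _ => this j), Finset.sum_const_zero, add_zero]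

include hdisj hP in
/-- Čech complex of a pairwise disjoint family is exact in positive degrees -/
theorem exactAt (n : ℕ) : ((cechComplexFunctor V).obj P).ExactAt (n + 1) := by
  change (CC P (W V)).ExactAt (n + 1)
  rw [HomologicalComplex.exactAt_iff' (CC P (W V)) n (n + 1) (n + 2) (by simp) (by simp),
    ShortComplex.ab_exact_iff]
  intro x hx
  refine ⟨(EVmap P ((W V).σ (0 : Fin (n + 1)))).hom x, ?_⟩
  have hx' : (dC P V (n + 1)).hom x = 0 := hx
  have h := ConcreteCategory.congr_hom (htpy P V hdisj hP n) (x : EV P ((W V) _⦋n + 1⦌))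
  have h2 : (dC P V (n + 1) ≫ EVmap P ((W V).σ (0 : Fin (n + 2)))).hom x = 0 := by
    rw [AddCommGrpCat.hom_comp, AddMonoidHom.comp_apply, hx', map_zero]
  have h3 : (EVmap P ((W V).σ (0 : Fin (n + 1))) ≫ dC P V n +
      dC P V (n + 1) ≫ EVmap P ((W V).σ (0 : Fin (n + 2)))).hom x =
      (EVmap P ((W V).σ (0 : Fin (n + 1))) ≫ dC P V n).hom x +
        (dC P V (n + 1) ≫ EVmap P ((W V).σ (0 : Fin (n + 2)))).hom x := by
    rw [AddCommGrpCat.hom_add, AddMonoidHom.add_apply]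
  have h4 : (EVmap P ((W V).σ (0 : Fin (n + 1))) ≫ dC P V n).hom x = x := by
    rw [h2, add_zero] at h3
    exact h3.symm.trans h
  exact h4

include hdisj hP in
theorem isZero_cechH (n : ℕ) : IsZero (CohTop.cechH P V (n + 1)) :=
  (HomologicalComplex.exactAt_iff_isZero_homology _ _).1 (exactAt P V hdisj hP n)

end Htpy

end Groth.Agent.H18.DisjCech
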