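import Groth.Prelude.Def_CechEdge
import Groth.Agent.Lib.helper18.CechSite2
import Groth.Agent.Lib.helper18.DeltaUniv
import Groth.Agent.Lib.helper18.PshPush

set_option autoImplicit false
set_option linter.unusedSectionVars false
open CategoryTheory CategoryTheory.Limits CategoryTheory.Abelian Opposite

namespace Groth.Agent.H18.Edge

open Groth.Agent.H18.Cech Groth.Agent.H18.CechSite CechEdge DeltaF

universe u

variable {C : Type u} [SmallCategory C] [HasPullbacks C] {U : C} {ι : Type u} (Y : ι → Over U)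

/-- restriction of presheaves to `Over U` -/
abbrev Res : (Cᵒᵖ ⥤ AddCommGrpCat.{u}) ⥤ ((Over U)ᵒᵖ ⥤ AddCommGrpCat.{u}) :=
  (Functor.whiskeringLeft _ _ _).obj (Over.forget U).op

/-- a short exact sequence of presheaves gives a short exact sequence of Čech complexes -/
lemma cx_shortExact (S : ShortComplex (Cᵒᵖ ⥤ AddCommGrpCat.{u})) (hS : S.ShortExact) :
    (S.map (cxFunctor Y)).ShortExact :=
  cech_shortExact (S.map (Res (U := U))) Y
    (fun n a => (hS.map_of_exact (Res (U := U))).map_of_exact _)

instance : (cxFunctor (C := C) Y).Additive := by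
  dsimp only [cxFunctor]
  infer_instance

/-- Čech cohomology as a delta functor on presheaves -/
noncomputable def Tc : CohDeltaFunctor (Cᵒᵖ ⥤ AddCommGrpCat.{u}) AddCommGrpCat.{u} ℕ where
  F p := cxFunctor Y ⋙ HomologicalComplex.homologyFunctor _ _ p
  additive p := inferInstance
  δ S hS n₀ n₁ h := (cx_shortExact Y S hS).δ n₀ n₁ h
  δ_natural {S S'} hS hS' φ n₀ n₁ h :=
    (HomologicalComplex.HomologySequence.δ_naturality ((cxFunctor Y).mapShortComplex.map φ)
      (cx_shortExact Y S hS) (cx_shortExact Y S' hS') n₀ n₁ h).symm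
  exact₂ S hS n := (cx_shortExact Y S hS).homology_exact₂ n
  comp_δ S hS n₀ n₁ h := (cx_shortExact Y S hS).comp_δ n₀ n₁ h
  exact₃ S hS n₀ n₁ h := (cx_shortExact Y S hS).homology_exact₃ n₀ n₁ h
  δ_comp S hS n₀ n₁ h := (cx_shortExact Y S hS).δ_comp n₀ n₁ h
  exact₁ S hS n₀ n₁ h := (cx_shortExact Y S hS).homology_exact₁ n₀ n₁ h

lemma Tc_isEffaceable : (Tc Y).IsEffaceable := by
  intro n P
  have := PshPush.enoughInjectives_presheaf C
  refine ⟨Injective.under P, Injective.ι P, inferInstance, ?_⟩
  have hI : Injective ((Over.forget U).op ⋙ Injective.under P) :=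
    OverInj.injective_restrict (Injective.under P)
  have hz : IsZero (((Tc Y).F (n + 1)).obj (Injective.under P)) :=
    isZero_cechH_of_injective Y ((Over.forget U).op ⋙ Injective.under P) n
  exact hz.eq_of_tgt _ _

end Groth.Agent.H18.Edge
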