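import Groth.Agent.Lib.helper18.Edge1

set_option autoImplicit false
set_option linter.unusedSectionVars false
open CategoryTheory CategoryTheory.Limits CategoryTheory.Abelian Opposite

namespace Groth.Agent.H18.Edge

open Groth.Agent.H18.Cech Groth.Agent.H18.CechSite CechEdge DeltaF

universe u

variable {C : Type u} [SmallCategory C] (J : GrothendieckTopology C) (U : C)

/-- the sheafified short exact sequence -/
lemma shf_shortExact {S : ShortComplex (Cᵒᵖ ⥤ AddCommGrpCat.{u})} (hS : S.ShortExact) :
    (S.map (presheafToSheaf J AddCommGrpCat.{u})).ShortExact :=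
  hS.map_of_exact (presheafToSheaf J AddCommGrpCat.{u})

/-- cohomology over `U` of the associated sheaf, as a delta functor on presheaves -/
noncomputable def Td : CohDeltaFunctor (Cᵒᵖ ⥤ AddCommGrpCat.{u}) AddCommGrpCat.{u} ℕ where
  F p := presheafToSheaf J AddCommGrpCat.{u} ⋙ extFunctorObj (CohCx.freeSheaf J U) p
  additive p := inferInstance
  δ S hS n₀ n₁ h :=
    AddCommGrpCat.ofHom ((shf_shortExact J hS).extClass.postcomp (CohCx.freeSheaf J U) h)
  δ_natural {S S'} hS hS' φ n₀ n₁ h := by
    ext x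
    have hn := ShortComplex.ShortExact.extClass_naturality (shf_shortExact J hS)
      (shf_shortExact J hS') ((presheafToSheaf J AddCommGrpCat.{u}).mapShortComplex.map φ)
    change ((x : Ext.{u} (CohCx.freeSheaf J U) _ n₀).comp
        (Ext.mk₀ ((presheafToSheaf J AddCommGrpCat.{u}).map φ.τ₃)) (add_zero n₀)).comp
        (shf_shortExact J hS').extClass h =
      (x.comp (shf_shortExact J hS).extClass h).comp
        (Ext.mk₀ ((presheafToSheaf J AddCommGrpCat.{u}).map φ.τ₁)) (add_zero n₁)
    rw [Ext.comp_assoc _ _ _ (add_zero n₀) (zero_add 1) (by omega : n₀ + 0 + 1 = n₁),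
      Ext.comp_assoc _ _ _ h (add_zero 1) (by omega : n₀ + 1 + 0 = n₁)]
    exact congrArg (fun t => x.comp t h) hn.symm
  exact₂ S hS n := Ext.covariant_sequence_exact₂' _ (shf_shortExact J hS) n
  comp_δ S hS n₀ n₁ h := by
    ext x
    change ((x : Ext.{u} (CohCx.freeSheaf J U) _ n₀).comp
        (Ext.mk₀ ((presheafToSheaf J AddCommGrpCat.{u}).map S.g)) (add_zero n₀)).comp
        (shf_shortExact J hS).extClass h = 0
    rw [Ext.comp_assoc_of_second_deg_zero]
    have h1 := (shf_shortExact J hS).comp_extClass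
    exact (congrArg (fun t => x.comp t h) h1).trans (Ext.comp_zero _ _ _ _ _)
  exact₃ S hS n₀ n₁ h := Ext.covariant_sequence_exact₃' _ (shf_shortExact J hS) n₀ n₁ h
  δ_comp S hS n₀ n₁ h := by
    ext x
    change ((x : Ext.{u} (CohCx.freeSheaf J U) _ n₀).comp
        (shf_shortExact J hS).extClass h).comp
        (Ext.mk₀ ((presheafToSheaf J AddCommGrpCat.{u}).map S.f)) (add_zero n₁) = 0
    rw [Ext.comp_assoc_of_third_deg_zero]
    have h1 := (shf_shortExact J hS).extClass_comp
    exact (congrArg (fun t => x.comp t h) h1).trans (Ext.comp_zero _ _ _ _ _)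
  exact₁ S hS n₀ n₁ h := Ext.covariant_sequence_exact₁' _ (shf_shortExact J hS) n₀ n₁ h

end Groth.Agent.H18.Edge
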