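import Groth.Agent.Lib.helper18.Edge2

set_option autoImplicit false
set_option linter.unusedSectionVars false
open CategoryTheory CategoryTheory.Limits CategoryTheory.Abelian Opposite

namespace Groth.Agent.H18.Edge

open Groth.Agent.H18.Cech Groth.Agent.H18.CechSite CechEdge DeltaF

universe u

variable {C : Type u} [SmallCategory C] [HasPullbacks C] (J : GrothendieckTopology C)
  {U : C} {ι : Type u} (Y : ι → Over U)

/-- the prelude's augmentation is the augmentation of the Čech library -/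
lemma toCech₀_eq_aug (F : Sheaf J AddCommGrpCat.{u}) :
    toCech₀ F.obj Y = aug (Over.forget U) Y (yy Y) F := by
  apply Limits.Pi.hom_ext
  intro (a : Fin 1 → ι)
  have h1 : toCech₀ F.obj Y ≫ Pi.π _ a = F.obj.map (∏ᶜ (Y ∘ a)).hom.op := Limits.Pi.lift_π _ _
  have h2 : aug (Over.forget U) Y (yy Y) F ≫ Pi.π _ a =
      F.obj.map (((Over.forget U).map (Pi.π (Y ∘ a) 0) ≫ yy Y (a 0)).op) := Limits.Pi.lift_π _ _
  refine h1.trans (Eq.trans ?_ h2.symm)
  exact congrArg (fun t => F.obj.map (Quiver.Hom.op t)) (Over.w (Pi.π (Y ∘ a) 0)).symm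

lemma pr_toCech₀ (P : Cᵒᵖ ⥤ AddCommGrpCat.{u}) (s : P.obj (op U)) (a : Fin 1 → ι) :
    pr ((Over.forget U).op ⋙ P) ((FormalCoproduct.mk ι Y).power (Fin 1)) a
      ((toCech₀ P Y).hom s) = (P.map (∏ᶜ (Y ∘ a)).hom.op).hom s := by
  have h1 : toCech₀ P Y ≫ Pi.π _ a = P.map (∏ᶜ (Y ∘ a)).hom.op := Limits.Pi.lift_π _ _
  exact ConcreteCategory.congr_hom h1 s

/-- naturality of the augmentation in the presheaf -/
lemma toCech₀_naturality {P Q : Cᵒᵖ ⥤ AddCommGrpCat.{u}} (φ : P ⟶ Q) :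
    toCech₀ P Y ≫ ((cxFunctor Y).map φ).f 0 = φ.app (op U) ≫ toCech₀ Q Y := by
  apply AddCommGrpCat.hom_ext
  apply AddMonoidHom.ext
  intro s
  change (EVnat ((Res (U := U)).map φ) ((FormalCoproduct.mk ι Y).power (Fin 1))).hom
      ((toCech₀ P Y).hom s) = (toCech₀ Q Y).hom ((φ.app (op U)).hom s)
  apply EV_ext ((Over.forget U).op ⋙ Q)
  intro (a : Fin 1 → ι)
  have e1 := pr_EVnat ((Res (U := U)).map φ) ((FormalCoproduct.mk ι Y).power (Fin 1))
    ((toCech₀ P Y).hom s) a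
  have e2 := pr_toCech₀ Y P s a
  have e3 := pr_toCech₀ Y Q ((φ.app (op U)).hom s) a
  have e4 : (φ.app (op (∏ᶜ (Y ∘ a)).left)).hom ((P.map (∏ᶜ (Y ∘ a)).hom.op).hom s) =
      (Q.map (∏ᶜ (Y ∘ a)).hom.op).hom ((φ.app (op U)).hom s) := by
    have := ConcreteCategory.congr_hom (φ.naturality (∏ᶜ (Y ∘ a)).hom.op) s
    rw [ConcreteCategory.comp_apply, ConcreteCategory.comp_apply] at this
    exact this
  exact e1.trans ((congrArg _ e2).trans (e4.trans e3.symm))

lemma toCycles_naturality {P Q : Cᵒᵖ ⥤ AddCommGrpCat.{u}} (φ : P ⟶ Q) :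
    toCycles P Y ≫ HomologicalComplex.cyclesMap ((cxFunctor Y).map φ) 0 =
      φ.app (op U) ≫ toCycles Q Y := by
  have e1 : (toCycles P Y ≫ HomologicalComplex.cyclesMap ((cxFunctor Y).map φ) 0) ≫
      (cx Q Y).iCycles 0 = toCech₀ P Y ≫ ((cxFunctor Y).map φ).f 0 :=
    (Category.assoc _ _ _).trans ((congrArg (fun t => toCycles P Y ≫ t)
      (HomologicalComplex.cyclesMap_i ((cxFunctor Y).map φ) 0)).trans
      ((Category.assoc _ _ _).symm.trans
        (congrArg (fun t => t ≫ ((cxFunctor Y).map φ).f 0) (toCycles_i P Y))))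
  have e2 : (φ.app (op U) ≫ toCycles Q Y) ≫ (cx Q Y).iCycles 0 = φ.app (op U) ≫ toCech₀ Q Y :=
    (Category.assoc _ _ _).trans (congrArg (fun t => φ.app (op U) ≫ t) (toCycles_i Q Y))
  exact (cancel_mono ((cx Q Y).iCycles 0)).1 (e1.trans ((toCech₀_naturality Y φ).trans e2.symm))

/-- naturality of `toCech` in the presheaf -/
lemma toCech_naturality {P Q : Cᵒᵖ ⥤ AddCommGrpCat.{u}} (φ : P ⟶ Q) (s : P.obj (op U)) :
    cechHMap Y φ 0 (toCech Y P s) = toCech Y Q ((φ.app (op U)).hom s) := by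
  have h1 : (toCycles P Y ≫ (cx P Y).homologyπ 0) ≫
      HomologicalComplex.homologyMap ((cxFunctor Y).map φ) 0 =
      φ.app (op U) ≫ (toCycles Q Y ≫ (cx Q Y).homologyπ 0) :=
    (Category.assoc _ _ _).trans ((congrArg (fun t => toCycles P Y ≫ t)
      (HomologicalComplex.homologyπ_naturality ((cxFunctor Y).map φ) 0)).trans
      ((Category.assoc _ _ _).symm.trans ((congrArg (fun t => t ≫ (cx Q Y).homologyπ 0)
        (toCycles_naturality Y φ)).trans (Category.assoc _ _ _))))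
  exact ConcreteCategory.congr_hom h1 s

end Groth.Agent.H18.Edge
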