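import Groth.Agent.Lib.helper18.Edge3

set_option autoImplicit false
set_option linter.unusedSectionVars false
open CategoryTheory CategoryTheory.Limits CategoryTheory.Abelian Opposite

namespace Groth.Agent.H18.Edge

open Groth.Agent.H18.Cech Groth.Agent.H18.CechSite CechEdge DeltaF

universe u

variable {C : Type u} [SmallCategory C] [HasPullbacks C] (J : GrothendieckTopology C)
  [HasExt.{u} (Sheaf J AddCommGrpCat.{u})]
  {U : C} {ι : Type u} (Y : ι → Over U)
  (hY : Sieve.ofArrows (fun i => (Y i).left) (fun i => (Y i).hom) ∈ J U)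

lemma toCycles_eq_toCyc (F : Sheaf J AddCommGrpCat.{u}) :
    toCycles F.obj Y = toCyc (F2_site Y hY F) := by
  have e1 : toCycles F.obj Y ≫ (cx F.obj Y).iCycles 0 = toCech₀ F.obj Y := toCycles_i F.obj Y
  have e2 : toCyc (F2_site Y hY F) ≫ (cx F.obj Y).iCycles 0 = aug (Over.forget U) Y (yy Y) F :=
    toCyc_i (F2_site Y hY F)
  exact (cancel_mono ((cx F.obj Y).iCycles 0)).1 (e1.trans ((toCech₀_eq_aug J Y F).trans e2.symm))

/-- for a sheaf, `toCech` is the isomorphism `h0` -/
lemma toCech_eq_h0 (F : Sheaf J AddCommGrpCat.{u}) (s : F.obj.obj (op U)) :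
    toCech Y F.obj s = (h0 (F2_site Y hY F)).hom.hom s := by
  have h1 : toCycles F.obj Y ≫ (cx F.obj Y).homologyπ 0 = (h0 (F2_site Y hY F)).hom :=
    congrArg (fun t => t ≫ (cx F.obj Y).homologyπ 0) (toCycles_eq_toCyc J Y hY F)
  exact ConcreteCategory.congr_hom h1 s

include hY in
lemma toCech_bijective (F : Sheaf J AddCommGrpCat.{u}) : Function.Bijective (toCech Y F.obj) := by
  have hb : Function.Bijective (h0 (F2_site Y hY F)).hom.hom :=
    (ConcreteCategory.isIso_iff_bijective _).1 inferInstance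
  have : (toCech Y F.obj : F.obj.obj (op U) → _) = (h0 (F2_site Y hY F)).hom.hom :=
    funext (toCech_eq_h0 J Y hY F)
  rw [this]
  exact hb

/-- naturality of `sectExt` -/
lemma sectExt_naturality {F G : Sheaf J AddCommGrpCat.{u}} (ψ : F ⟶ G) (s : F.obj.obj (op U)) :
    sectExt G ((ψ.hom.app (op U)).hom s) =
      (sectExt (U := U) F s).comp (Ext.mk₀ ψ) (add_zero 0) := by
  rw [sectExt_apply, sectExt_apply, Ext.mk₀_comp_mk₀, ofSect_comp']


omit [HasExt.{u} (Sheaf J AddCommGrpCat.{u})] in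
lemma cechHMap_comp {P Q T : Cᵒᵖ ⥤ AddCommGrpCat.{u}} (φ : P ⟶ Q) (ψ : Q ⟶ T) (p : ℕ)
    (x : CohCx.cechH P Y p) :
    cechHMap Y (φ ≫ ψ) p x = cechHMap Y ψ p (cechHMap Y φ p x) := by
  have h1 : HomologicalComplex.homologyMap ((cxFunctor Y).map (φ ≫ ψ)) p =
      HomologicalComplex.homologyMap ((cxFunctor Y).map φ) p ≫
        HomologicalComplex.homologyMap ((cxFunctor Y).map ψ) p := by
    rw [← HomologicalComplex.homologyMap_comp, ← Functor.map_comp]
  exact ConcreteCategory.congr_hom h1 x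

/-- the degree zero comparison map for a presheaf -/
noncomputable def t0map (P : Cᵒᵖ ⥤ AddCommGrpCat.{u}) :
    CohCx.cechH P Y 0 →+ Ext.{u} (CohCx.freeSheaf J U) (shf J P) 0 :=
  ((sectExt (U := U) (shf J P)).toAddMonoidHom.comp
    (h0 (F2_site Y hY (shf J P))).inv.hom).comp (cechHMap Y (toSheafify J P) 0)

lemma t0map_apply (P : Cᵒᵖ ⥤ AddCommGrpCat.{u}) (x : CohCx.cechH P Y 0) :
    t0map J Y hY P x = sectExt (U := U) (shf J P)
      ((h0 (F2_site Y hY (shf J P))).inv.hom (cechHMap Y (toSheafify J P) 0 x)) := rfl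

lemma t0map_toCech (P : Cᵒᵖ ⥤ AddCommGrpCat.{u}) (s : P.obj (op U)) :
    t0map J Y hY P (toCech Y P s) =
      sectExt (U := U) (shf J P) (((toSheafify J P).app (op U)).hom s) := by
  rw [t0map_apply, toCech_naturality, toCech_eq_h0 J Y hY (shf J P)]
  congr 1
  exact ConcreteCategory.congr_hom (h0 (F2_site Y hY (shf J P))).hom_inv_id _

lemma h0_inv_naturality {F G : Sheaf J AddCommGrpCat.{u}} (ψ : F ⟶ G)
    (z : (CF (Over.forget U) Y F).homology 0) :
    (h0 (F2_site Y hY G)).inv.hom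
        ((HomologicalComplex.homologyMap (CFmap (Over.forget U) Y ψ) 0).hom z) =
      (ψ.hom.app (op U)).hom ((h0 (F2_site Y hY F)).inv.hom z) := by
  have h2 := h0_naturality (F2_site Y hY F) (F2_site Y hY G) ψ
  have h3 : HomologicalComplex.homologyMap (CFmap (Over.forget U) Y ψ) 0 ≫
      (h0 (F2_site Y hY G)).inv = (h0 (F2_site Y hY F)).inv ≫ ψ.hom.app (op U) := by
    rw [Iso.comp_inv_eq, Category.assoc, ← h2, Iso.inv_hom_id_assoc]
  exact ConcreteCategory.congr_hom h3 z

lemma t0map_natural {P Q : Cᵒᵖ ⥤ AddCommGrpCat.{u}} (φ : P ⟶ Q) (x : CohCx.cechH P Y 0) :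
    t0map J Y hY Q (cechHMap Y φ 0 x) =
      (t0map J Y hY P x).comp (Ext.mk₀ (shfMap J φ)) (add_zero 0) := by
  rw [t0map_apply, t0map_apply, ← cechHMap_comp, toSheafify_naturality, cechHMap_comp,
    ← sectExt_naturality]
  congr 1
  exact h0_inv_naturality J Y hY (shfMap J φ) _

/-- the degree zero comparison as a natural transformation -/
noncomputable def t0 : (Tc Y).F 0 ⟶ (Td J U).F 0 where
  app P := AddCommGrpCat.ofHom (t0map J Y hY P)
  naturality {P Q} φ := by
    ext x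
    exact t0map_natural J Y hY φ x

end Groth.Agent.H18.Edge
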