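import Groth.Agent.Lib.helper18.Edge4

set_option autoImplicit false
set_option linter.unusedSectionVars false
open CategoryTheory CategoryTheory.Limits CategoryTheory.Abelian Opposite

namespace Groth.Agent.H18.Edge

open Groth.Agent.H18.Cech Groth.Agent.H18.CechSite CechEdge DeltaF

universe u

variable {C : Type u} [SmallCategory C] [HasPullbacks C] (J : GrothendieckTopology C)
  {U : C} {ι : Type u} (Y : ι → Over U)

/-- **existence of the edge family** -/
theorem exists_isEdge (hY : Sieve.ofArrows (fun i => (Y i).left) (fun i => (Y i).hom) ∈ J U) :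
    ∃ e : ∀ (P : Cᵒᵖ ⥤ AddCommGrpCat.{u}) (p : ℕ),
      CohCx.cechH P Y p →+ CohSite.HU (CechEdge.shf J P) p U, CechEdge.IsEdge J Y e := by
  have hT : (Tc Y).IsEffaceable := Tc_isEffaceable Y
  let τ : Tc Y ⟶ Td J U := Delta.extend hT (t0 J Y hY)
  refine ⟨fun P p => ((τ.app p).app P).hom, ?_⟩
  refine ⟨hY, ?_, ?_, ?_⟩
  · intro P s
    exact t0map_toCech J Y hY P s
  · intro P Q φ p x
    exact ConcreteCategory.congr_hom ((τ.app p).naturality φ) x
  · intro S hS hC p x
    exact ConcreteCategory.congr_hom (τ.comm S hS p (p + 1) rfl) x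


omit [HasPullbacks C] in
lemma isIso_shfMap_toSheafify (P : Cᵒᵖ ⥤ AddCommGrpCat.{u}) :
    IsIso (shfMap J (toSheafify J P)) := by
  have h := (sheafificationAdjunction J AddCommGrpCat.{u}).left_triangle_components P
  exact IsIso.of_isIso_fac_right h

omit [HasPullbacks C] in
lemma HUmap_bijective_of_isIso {F G : Sheaf J AddCommGrpCat.{u}} (ψ : F ⟶ G) [IsIso ψ] (p : ℕ) :
    Function.Bijective (HUmap ψ p U) := by
  have : IsIso (((Sheaf.cohomologyPresheafFunctor J p).map ψ).app (op U)) := inferInstance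
  exact (ConcreteCategory.isIso_iff_bijective _).1 this

/-- an edge family as a morphism of delta functors -/
noncomputable def edgeHom (e : ∀ (P : Cᵒᵖ ⥤ AddCommGrpCat.{u}) (p : ℕ),
      CohCx.cechH P Y p →+ CohSite.HU (CechEdge.shf J P) p U) (he : CechEdge.IsEdge J Y e) :
    Tc Y ⟶ Td J U where
  app p :=
    { app := fun P => AddCommGrpCat.ofHom (e P p)
      naturality := fun {P Q} φ => by
        ext x
        exact he.natural P Q φ p x }
  comm S hS n₀ n₁ h := by
    subst h
    ext x
    exact he.delta S hS (cx_shortExact Y S hS) n₀ x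

/-- edge families agree in degree zero -/
lemma edge_zero_eq (e e' : ∀ (P : Cᵒᵖ ⥤ AddCommGrpCat.{u}) (p : ℕ),
      CohCx.cechH P Y p →+ CohSite.HU (CechEdge.shf J P) p U)
    (he : CechEdge.IsEdge J Y e) (he' : CechEdge.IsEdge J Y e')
    (P : Cᵒᵖ ⥤ AddCommGrpCat.{u}) (x : CohCx.cechH P Y 0) : e P 0 x = e' P 0 x := by
  have := isIso_shfMap_toSheafify J P
  apply (HUmap_bijective_of_isIso J (U := U) (shfMap J (toSheafify J P)) 0).1
  rw [← he.natural, ← he'.natural]
  obtain ⟨s, hs⟩ := (toCech_bijective J Y he.cover (shf J P)).2 (cechHMap Y (toSheafify J P) 0 x)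
  have hs' : toCech Y (sheafify J P) s = cechHMap Y (toSheafify J P) 0 x := hs
  rw [← hs']
  exact (he.zero (sheafify J P) s).trans (he'.zero (sheafify J P) s).symm

/-- **uniqueness of the edge family** -/
theorem isEdge_unique (e e' : ∀ (P : Cᵒᵖ ⥤ AddCommGrpCat.{u}) (p : ℕ),
      CohCx.cechH P Y p →+ CohSite.HU (CechEdge.shf J P) p U)
    (he : CechEdge.IsEdge J Y e) (he' : CechEdge.IsEdge J Y e') : e = e' := by
  have hT : (Tc Y).IsEffaceable := Tc_isEffaceable Y
  have h0 : (edgeHom J Y e he).app 0 = (edgeHom J Y e' he').app 0 := by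
    ext P x
    exact edge_zero_eq J Y e e' he he' P x
  have h := Delta.hom_ext_of_effaceable hT (edgeHom J Y e he) (edgeHom J Y e' he') h0
  funext P p
  have h1 : ((edgeHom J Y e he).app p).app P = ((edgeHom J Y e' he').app p).app P := by rw [h]
  exact congrArg AddCommGrpCat.Hom.hom h1

end Groth.Agent.H18.Edge
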