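import Groth.Agent.Lib.helper18.Edge5

set_option autoImplicit false
set_option linter.unusedSectionVars false
open CategoryTheory CategoryTheory.Limits CategoryTheory.Abelian Opposite

namespace Groth.Agent.H18.Edge

open Groth.Agent.H18.Cech Groth.Agent.H18.CechSite CechEdge DeltaF

universe u

section Sep

variable {C : Type u} [SmallCategory C] (J : GrothendieckTopology C)

/-- the cokernel (in presheaves) of a monomorphism of sheaves is a separated presheaf -/
lemma sep_of_shortExact (S : ShortComplex (Cᵒᵖ ⥤ AddCommGrpCat.{u})) (hS : S.ShortExact)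
    (h1 : Presheaf.IsSheaf J S.X₁) (h2 : Presheaf.IsSheaf J S.X₂) {X : C} (R : Sieve X)
    (hR : R ∈ J X) (x : S.X₃.obj (op X))
    (hx : ∀ ⦃W : C⦄ (f : W ⟶ X), R f → (S.X₃.map f.op).hom x = 0) : x = 0 := by
  have hev : ∀ W : Cᵒᵖ, (S.map ((evaluation _ _).obj W)).ShortExact :=
    fun W => hS.map_of_exact _
  obtain ⟨t, ht⟩ := (hev (op X)).ab_surjective_g x
  have ht' : (S.g.app (op X)).hom t = x := ht
  -- local lifts
  have hl : ∀ ⦃W : C⦄ (f : W ⟶ X), R f →
      ∃ s : S.X₁.obj (op W), (S.f.app (op W)).hom s = (S.X₂.map f.op).hom t := by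
    intro W f hf
    have hex := (hev (op W)).exact
    rw [ShortComplex.ab_exact_iff] at hex
    apply hex
    have hn := ConcreteCategory.congr_hom (S.g.naturality f.op) t
    rw [ConcreteCategory.comp_apply, ConcreteCategory.comp_apply] at hn
    change (S.g.app (op W)).hom ((S.X₂.map f.op).hom t) = 0
    exact hn.trans ((congrArg (S.X₃.map f.op).hom ht').trans (hx f hf))
  choose s hs using hl
  have hinj : ∀ W : Cᵒᵖ, Function.Injective (S.f.app W).hom :=
    fun W => (hev W).ab_injective_f
  let F₁ : Sheaf J AddCommGrpCat.{u} := ⟨S.X₁, h1⟩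
  let F₂ : Sheaf J AddCommGrpCat.{u} := ⟨S.X₂, h2⟩
  have sh1 : Presieve.IsSheafFor (S.X₁ ⋙ forget AddCommGrpCat.{u}) R.arrows :=
    isSheaf_type F₁ R hR
  have sh2 : Presieve.IsSheafFor (S.X₂ ⋙ forget AddCommGrpCat.{u}) R.arrows :=
    isSheaf_type F₂ R hR
  let fam : Presieve.FamilyOfElements (S.X₁ ⋙ forget AddCommGrpCat.{u}) R.arrows :=
    fun W f hf => s f hf
  have hcomp : fam.Compatible := by
    rw [Presieve.compatible_iff_sieveCompatible]
    intro W Z f g hf
    apply hinj (op Z)
    change (S.f.app (op Z)).hom (s (g ≫ f) (R.downward_closed hf g)) =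
      (S.f.app (op Z)).hom ((S.X₁.map g.op).hom (s f hf))
    rw [hs]
    have hn := ConcreteCategory.congr_hom (S.f.naturality g.op) (s f hf)
    rw [ConcreteCategory.comp_apply, ConcreteCategory.comp_apply] at hn
    rw [hn, hs, op_comp, S.X₂.map_comp]
    rfl
  let a : S.X₁.obj (op X) := sh1.amalgamate fam hcomp
  have ha : ∀ ⦃W : C⦄ (f : W ⟶ X) (hf : R f), (S.X₁.map f.op).hom a = s f hf :=
    fun W f hf => sh1.valid_glue hcomp f hf
  have hta : (S.f.app (op X)).hom a = t := by
    apply sh2.isSeparatedFor.ext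
    intro W f hf
    change (S.X₂.map f.op).hom ((S.f.app (op X)).hom a) = (S.X₂.map f.op).hom t
    have hn := ConcreteCategory.congr_hom (S.f.naturality f.op) a
    rw [ConcreteCategory.comp_apply, ConcreteCategory.comp_apply] at hn
    rw [← hn, ha f hf, hs]
  rw [← ht', ← hta]
  exact ConcreteCategory.congr_hom (congrArg (fun φ => φ.app (op X)) S.zero) a

/-- a separated abelian presheaf embeds in its associated sheaf -/
lemma mono_toSheafify_of_sep (P : Cᵒᵖ ⥤ AddCommGrpCat.{u})
    (hP : ∀ {X : C} (R : Sieve X), R ∈ J X → ∀ x : P.obj (op X),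
      (∀ ⦃W : C⦄ (f : W ⟶ X), R f → (P.map f.op).hom x = 0) → x = 0) :
    Mono (toSheafify J P) := by
  have hm : ∀ X : Cᵒᵖ, Mono ((toSheafify J P).app X) := by
    intro X
    rw [AddCommGrpCat.mono_iff_injective]
    rw [injective_iff_map_eq_zero]
    intro x hx
    have hmem := Presheaf.equalizerSieve_mem J (toSheafify J P) x 0 (by
      rw [hx]; exact (map_zero _).symm)
    apply hP _ hmem
    intro W f hf
    have : P.map f.op x = P.map f.op 0 := hf
    exact this.trans (map_zero _)
  exact NatTrans.mono_of_mono_app _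

end Sep

section Main

variable {C : Type u} [SmallCategory C] [HasPullbacks C] (J : GrothendieckTopology C)
  {U : C} {ι : Type u} (Y : ι → Over U)

/-- `Ȟ⁰` is left exact -/
lemma cechHMap_zero_injective {P Q : Cᵒᵖ ⥤ AddCommGrpCat.{u}} (φ : P ⟶ Q) [Mono φ] :
    Function.Injective (cechHMap Y φ 0) := by
  let S : ShortComplex (Cᵒᵖ ⥤ AddCommGrpCat.{u}) :=
    ShortComplex.mk φ (cokernel.π φ) (cokernel.condition φ)
  have hS : S.ShortExact :=
    { exact := ShortComplex.exact_cokernel φ
      mono_f := inferInstanceAs (Mono φ)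
      epi_g := inferInstanceAs (Epi (cokernel.π φ)) }
  have hC := cx_shortExact Y S hS
  have hm : Mono ((cxFunctor Y).map φ) := hC.mono_f
  have hm0 : Mono (((cxFunctor Y).map φ).f 0) := inferInstance
  have hmono : Mono (HomologicalComplex.homologyMap ((cxFunctor Y).map φ) 0) :=
    HomologicalComplex.mono_homologyMap_of_mono_of_not_rel _ 0 (by
      intro i hi
      simp at hi)
  exact (AddCommGrpCat.mono_iff_injective _).1 hmono

variable {J Y}

/-- in degree zero, an edge family is bijective on sheaves -/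
lemma edge_zero_bijective (e : ∀ (P : Cᵒᵖ ⥤ AddCommGrpCat.{u}) (p : ℕ),
      CohCx.cechH P Y p →+ CohSite.HU (CechEdge.shf J P) p U)
    (he : CechEdge.IsEdge J Y e) (F : Sheaf J AddCommGrpCat.{u}) :
    Function.Bijective (e F.obj 0) := by
  have hb1 := toCech_bijective J Y he.cover F
  have : IsIso (toSheafify J F.obj) := isIso_toSheafify J F.property
  have hb2 : Function.Bijective ((toSheafify J F.obj).app (op U)).hom :=
    (ConcreteCategory.isIso_iff_bijective ((toSheafify J F.obj).app (op U))).1 inferInstance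
  have hb3 : Function.Bijective (sectH0 J U (shf J F.obj)) := (sectH0 J U (shf J F.obj)).bijective
  have hcomp : (e F.obj 0 : _ → _) ∘ (toCech Y F.obj) =
      (sectH0 J U (shf J F.obj)) ∘ ((toSheafify J F.obj).app (op U)).hom :=
    funext (fun s => he.zero F.obj s)
  have h4 : Function.Bijective ((e F.obj 0 : _ → _) ∘ (toCech Y F.obj)) := by
    rw [hcomp]
    exact hb3.comp hb2
  exact (Function.Bijective.of_comp_iff _ hb1).1 h4

/-- in degree zero, an edge family is injective on separated presheaves -/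
lemma edge_zero_injective (e : ∀ (P : Cᵒᵖ ⥤ AddCommGrpCat.{u}) (p : ℕ),
      CohCx.cechH P Y p →+ CohSite.HU (CechEdge.shf J P) p U)
    (he : CechEdge.IsEdge J Y e) (P : Cᵒᵖ ⥤ AddCommGrpCat.{u}) [Mono (toSheafify J P)] :
    Function.Injective (e P 0) := by
  rw [injective_iff_map_eq_zero]
  intro w hw
  have h1 := he.natural P (sheafify J P) (toSheafify J P) 0 w
  rw [hw, map_zero] at h1
  have h2 : cechHMap Y (toSheafify J P) 0 w = 0 :=
    (edge_zero_bijective e he (shf J P)).1 (h1.trans (map_zero _).symm)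
  exact cechHMap_zero_injective Y (toSheafify J P) (h2.trans (map_zero _).symm)

/-- **injectivity of the comparison map in degree one** -/
theorem edgeSh_one_injective (e : ∀ (P : Cᵒᵖ ⥤ AddCommGrpCat.{u}) (p : ℕ),
      CohCx.cechH P Y p →+ CohSite.HU (CechEdge.shf J P) p U)
    (he : CechEdge.IsEdge J Y e) (F : Sheaf J AddCommGrpCat.{u}) :
    Function.Injective (CechEdge.edgeSh e F 1) := by
  rw [injective_iff_map_eq_zero]
  intro x hx
  -- reduce to `e F.obj 1 x = 0`
  have hx1 : e F.obj 1 x = 0 := by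
    apply (HUmap_bijective_of_isIso J (U := U)
      ((sheafificationAdjunction J AddCommGrpCat.{u}).counit.app F) 1).1
    exact hx.trans (map_zero _).symm
  -- embed `F` in an injective sheaf
  let I : Sheaf J AddCommGrpCat.{u} := Injective.under F
  let i : F ⟶ I := Injective.ι F
  have hi : Mono i.hom := inferInstanceAs (Mono ((sheafToPresheaf J AddCommGrpCat.{u}).map i))
  let S : ShortComplex (Cᵒᵖ ⥤ AddCommGrpCat.{u}) :=
    ShortComplex.mk i.hom (cokernel.π i.hom) (cokernel.condition i.hom)
  have hS : S.ShortExact :=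
    { exact := ShortComplex.exact_cokernel i.hom
      mono_f := hi
      epi_g := inferInstanceAs (Epi (cokernel.π i.hom)) }
  have hC := cx_shortExact Y S hS
  -- `Ȟ¹(I) = 0`
  have hI : Injective ((Over.forget U).op ⋙ I.obj) := hinj_site I inferInstance
  have hz : IsZero ((cx I.obj Y).homology 1) :=
    isZero_cechH_of_injective Y ((Over.forget U).op ⋙ I.obj) 0
  -- `x = δ q`
  obtain ⟨q, hq⟩ : ∃ q : CohCx.cechH S.X₃ Y 0, (hC.δ 0 1 rfl).hom q = x := by
    have hex := hC.homology_exact₁ 0 1 rfl
    rw [ShortComplex.ab_exact_iff] at hex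
    apply hex
    exact ConcreteCategory.congr_hom (hz.eq_of_tgt
      (HomologicalComplex.homologyMap ((cxFunctor Y).map S.f) 1) 0) x
  have hsep : Mono (toSheafify J S.X₃) :=
    mono_toSheafify_of_sep J S.X₃ (fun R hR y hy =>
      sep_of_shortExact J S hS F.property I.property R hR y hy)
  -- the Ext sequence
  have hd : e F.obj 1 ((hC.δ 0 1 rfl).hom q) =
      extδ (hS.map_of_exact (presheafToSheaf J AddCommGrpCat.{u})) U 0 (e S.X₃ 0 q) :=
    he.delta S hS hC 0 q
  rw [hq, hx1] at hd
  obtain ⟨y₂, hy₂⟩ := Ext.covariant_sequence_exact₃ (CohCx.freeSheaf J U)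
    (hS.map_of_exact (presheafToSheaf J AddCommGrpCat.{u})) (e S.X₃ 0 q) rfl hd.symm
  obtain ⟨z, hz2⟩ := (edge_zero_bijective e he I).2 y₂
  have hn := he.natural S.X₂ S.X₃ S.g 0 z
  have hqz : q = cechHMap Y S.g 0 z := by
    apply edge_zero_injective e he S.X₃
    rw [hn, hz2]
    exact hy₂.symm
  rw [← hq, hqz]
  exact ConcreteCategory.congr_hom (hC.comp_δ 0 1 rfl) z

end Main

end Groth.Agent.H18.Edge
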