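import Groth.Agent.Lib.helper18.Edge6

set_option autoImplicit false
set_option linter.unusedSectionVars false
open CategoryTheory CategoryTheory.Limits CategoryTheory.Abelian Opposite

namespace Groth.Agent.H18.Edge

open Groth.Agent.H18.Cech Groth.Agent.H18.CechSite CechEdge DeltaF

universe u

section Refine

variable {C : Type u} [SmallCategory C] [HasPullbacks C]
  {U : C} {ι κ : Type u} (Y : ι → Over U) (Y' : κ → Over U)
  (f : FormalCoproduct.mk ι Y ⟶ FormalCoproduct.mk κ Y')

/-- refinement, typed on the Čech complexes of the prelude -/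
noncomputable abbrev refine (P : Cᵒᵖ ⥤ AddCommGrpCat.{u}) : cx P Y' ⟶ cx P Y :=
  CohCx.cechRefine P f

/-- refinement is natural in the presheaf -/
lemma refine_naturality {P Q : Cᵒᵖ ⥤ AddCommGrpCat.{u}} (φ : P ⟶ Q) :
    (cxFunctor Y').map φ ≫ refine Y Y' f Q = refine Y Y' f P ≫ (cxFunctor Y).map φ := by
  let α := (Functor.whiskeringLeft _ _ AddCommGrpCat.{u}).map
    (NatTrans.rightOp (FormalCoproduct.cechFunctor.map f))
  let ψ := (FormalCoproduct.evalOp.{u} (Over U) AddCommGrpCat.{u}).map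
    (Functor.whiskerLeft (Over.forget U).op φ)
  change (AlgebraicTopology.alternatingCofaceMapComplex AddCommGrpCat.{u}).map _ ≫
    (AlgebraicTopology.alternatingCofaceMapComplex AddCommGrpCat.{u}).map (α.app _) =
    (AlgebraicTopology.alternatingCofaceMapComplex AddCommGrpCat.{u}).map (α.app _) ≫
    (AlgebraicTopology.alternatingCofaceMapComplex AddCommGrpCat.{u}).map _
  rw [← Functor.map_comp, ← Functor.map_comp]
  congr 1
  exact α.naturality ψ

lemma refine_f (P : Cᵒᵖ ⥤ AddCommGrpCat.{u}) (n : ℕ) : (refine Y Y' f P).f n =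
    EVmap ((Over.forget U).op ⋙ P) (FormalCoproduct.powerMap f (Fin (n + 1))) := rfl

/-- refinement is compatible with the augmentations -/
lemma toCech₀_refine (P : Cᵒᵖ ⥤ AddCommGrpCat.{u}) :
    toCech₀ P Y' ≫ (refine Y Y' f P).f 0 = toCech₀ P Y := by
  apply AddCommGrpCat.hom_ext
  apply AddMonoidHom.ext
  intro s
  change (EVmap ((Over.forget U).op ⋙ P) (FormalCoproduct.powerMap f (Fin 1))).hom
    ((toCech₀ P Y').hom s) = (toCech₀ P Y).hom s
  apply EV_ext ((Over.forget U).op ⋙ P)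
  intro (a : Fin 1 → ι)
  have e1 := pr_EVmap ((Over.forget U).op ⋙ P) (FormalCoproduct.powerMap f (Fin 1))
    ((toCech₀ P Y').hom s) a
  have e2 := pr_toCech₀ Y' P s (f.f ∘ a)
  have e3 := pr_toCech₀ Y P s a
  refine e1.trans (Eq.trans ?_ e3.symm)
  refine (congrArg _ e2).trans ?_
  change (P.map (((FormalCoproduct.powerMap f (Fin 1)).φ a).left).op).hom
    ((P.map (∏ᶜ (Y' ∘ (f.f ∘ a))).hom.op).hom s) = _
  exact map_map_apply P _ _ _ (Over.w ((FormalCoproduct.powerMap f (Fin 1)).φ a)) s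

lemma toCycles_refine (P : Cᵒᵖ ⥤ AddCommGrpCat.{u}) :
    toCycles P Y' ≫ HomologicalComplex.cyclesMap (refine Y Y' f P) 0 = toCycles P Y := by
  have e1 : (toCycles P Y' ≫ HomologicalComplex.cyclesMap (refine Y Y' f P) 0) ≫
      (cx P Y).iCycles 0 = toCech₀ P Y' ≫ (refine Y Y' f P).f 0 :=
    (Category.assoc _ _ _).trans ((congrArg (fun t => toCycles P Y' ≫ t)
      (HomologicalComplex.cyclesMap_i (refine Y Y' f P) 0)).trans
      ((Category.assoc _ _ _).symm.trans
        (congrArg (fun t => t ≫ (refine Y Y' f P).f 0) (toCycles_i P Y'))))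
  exact (cancel_mono ((cx P Y).iCycles 0)).1
    (e1.trans ((toCech₀_refine Y Y' f P).trans (toCycles_i P Y).symm))

/-- the map induced on Čech cohomology by a refinement -/
noncomputable abbrev refineH (P : Cᵒᵖ ⥤ AddCommGrpCat.{u}) (p : ℕ) :
    CohCx.cechH P Y' p →+ CohCx.cechH P Y p :=
  (HomologicalComplex.homologyMap (refine Y Y' f P) p).hom

lemma refineH_toCech (P : Cᵒᵖ ⥤ AddCommGrpCat.{u}) (s : P.obj (op U)) :
    refineH Y Y' f P 0 (toCech Y' P s) = toCech Y P s := by
  have h1 : (toCycles P Y' ≫ (cx P Y').homologyπ 0) ≫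
      HomologicalComplex.homologyMap (refine Y Y' f P) 0 =
      toCycles P Y ≫ (cx P Y).homologyπ 0 :=
    (Category.assoc _ _ _).trans ((congrArg (fun t => toCycles P Y' ≫ t)
      (HomologicalComplex.homologyπ_naturality (refine Y Y' f P) 0)).trans
      ((Category.assoc _ _ _).symm.trans (congrArg (fun t => t ≫ (cx P Y).homologyπ 0)
        (toCycles_refine Y Y' f P))))
  exact ConcreteCategory.congr_hom h1 s

lemma refineH_naturality {P Q : Cᵒᵖ ⥤ AddCommGrpCat.{u}} (φ : P ⟶ Q) (p : ℕ)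
    (x : CohCx.cechH P Y' p) :
    refineH Y Y' f Q p (cechHMap Y' φ p x) = cechHMap Y φ p (refineH Y Y' f P p x) := by
  have h1 : HomologicalComplex.homologyMap ((cxFunctor Y').map φ) p ≫
      HomologicalComplex.homologyMap (refine Y Y' f Q) p =
      HomologicalComplex.homologyMap (refine Y Y' f P) p ≫
      HomologicalComplex.homologyMap ((cxFunctor Y).map φ) p := by
    rw [← HomologicalComplex.homologyMap_comp, ← HomologicalComplex.homologyMap_comp,
      refine_naturality]
  exact ConcreteCategory.congr_hom h1 x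

/-- the refinement maps as a morphism of short complexes of Čech complexes -/
noncomputable def refineSC (S : ShortComplex (Cᵒᵖ ⥤ AddCommGrpCat.{u})) :
    S.map (cxFunctor Y') ⟶ S.map (cxFunctor Y) where
  τ₁ := refine Y Y' f S.X₁
  τ₂ := refine Y Y' f S.X₂
  τ₃ := refine Y Y' f S.X₃
  comm₁₂ := (refine_naturality Y Y' f S.f).symm
  comm₂₃ := (refine_naturality Y Y' f S.g).symm

lemma refineH_δ (S : ShortComplex (Cᵒᵖ ⥤ AddCommGrpCat.{u}))
    (hC' : (S.map (cxFunctor Y')).ShortExact) (hC : (S.map (cxFunctor Y)).ShortExact)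
    (p : ℕ) (x : CohCx.cechH S.X₃ Y' p) :
    refineH Y Y' f S.X₁ (p + 1) ((hC'.δ p (p + 1) rfl).hom x) =
      (hC.δ p (p + 1) rfl).hom (refineH Y Y' f S.X₃ p x) := by
  have h := HomologicalComplex.HomologySequence.δ_naturality (refineSC Y Y' f S) hC' hC
    p (p + 1) rfl
  exact ConcreteCategory.congr_hom h x

variable (J : GrothendieckTopology C)

/-- **the comparison maps respect refinement** -/
theorem edge_refine (e : ∀ (P : Cᵒᵖ ⥤ AddCommGrpCat.{u}) (p : ℕ),
      CohCx.cechH P Y p →+ CohSite.HU (CechEdge.shf J P) p U)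
    (e' : ∀ (P : Cᵒᵖ ⥤ AddCommGrpCat.{u}) (p : ℕ),
      CohCx.cechH P Y' p →+ CohSite.HU (CechEdge.shf J P) p U)
    (he : CechEdge.IsEdge J Y e) (he' : CechEdge.IsEdge J Y' e')
    (P : Cᵒᵖ ⥤ AddCommGrpCat.{u}) (p : ℕ) (x : CohCx.cechH P Y' p) :
    e P p (refineH Y Y' f P p x) = e' P p x := by
  let e'' : ∀ (P : Cᵒᵖ ⥤ AddCommGrpCat.{u}) (p : ℕ),
      CohCx.cechH P Y' p →+ CohSite.HU (CechEdge.shf J P) p U :=
    fun P p => (e P p).comp (refineH Y Y' f P p)
  have he'' : CechEdge.IsEdge J Y' e'' := by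
    refine ⟨he'.cover, ?_, ?_, ?_⟩
    · intro P s
      change e P 0 (refineH Y Y' f P 0 (toCech Y' P s)) = _
      rw [refineH_toCech]
      exact he.zero P s
    · intro P Q φ p x
      change e Q p (refineH Y Y' f Q p (cechHMap Y' φ p x)) =
        HUmap (shfMap J φ) p U (e P p (refineH Y Y' f P p x))
      rw [refineH_naturality]
      exact he.natural P Q φ p _
    · intro S hS hC p x
      change e S.X₁ (p + 1) (refineH Y Y' f S.X₁ (p + 1) ((hC.δ p (p + 1) rfl).hom x)) =
        extδ (hS.map_of_exact (presheafToSheaf J AddCommGrpCat.{u})) U p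
          (e S.X₃ p (refineH Y Y' f S.X₃ p x))
      rw [refineH_δ Y Y' f S hC (cx_shortExact Y S hS)]
      exact he.delta S hS (cx_shortExact Y S hS) p _
  have h := isEdge_unique J Y' e'' e' he'' he'
  have h2 : e'' P p x = e' P p x := by rw [h]
  exact h2

theorem edgeSh_refine (e : ∀ (P : Cᵒᵖ ⥤ AddCommGrpCat.{u}) (p : ℕ),
      CohCx.cechH P Y p →+ CohSite.HU (CechEdge.shf J P) p U)
    (e' : ∀ (P : Cᵒᵖ ⥤ AddCommGrpCat.{u}) (p : ℕ),
      CohCx.cechH P Y' p →+ CohSite.HU (CechEdge.shf J P) p U)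
    (he : CechEdge.IsEdge J Y e) (he' : CechEdge.IsEdge J Y' e')
    (F : Sheaf J AddCommGrpCat.{u}) (p : ℕ) (x : CohCx.cechH F.obj Y' p) :
    CechEdge.edgeSh e F p ((HomologicalComplex.homologyMap (CohCx.cechRefine F.obj f) p).hom x) =
      CechEdge.edgeSh e' F p x :=
  congrArg (HUmap ((sheafificationAdjunction J AddCommGrpCat.{u}).counit.app F) p U)
    (edge_refine Y Y' f J e e' he he' F.obj p x)

end Refine

end Groth.Agent.H18.Edge
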