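import Groth.Agent.Lib.helper18.Edge7

set_option autoImplicit false
set_option linter.unusedSectionVars false
open CategoryTheory CategoryTheory.Limits CategoryTheory.Abelian Opposite

namespace Groth.Agent.H18.Edge

open Groth.Agent.H18.Cech Groth.Agent.H18.CechSite CechEdge DeltaF

universe u

section Bij

variable {C : Type u} [SmallCategory C] {J : GrothendieckTopology C}

/-- `Ext` vanishing transfers along isomorphisms of the coefficient sheaf -/
lemma ext_eq_zero_of_iso {X F G : Sheaf J AddCommGrpCat.{u}} (ψ : G ⟶ F) [IsIso ψ] (n : ℕ)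
    (h : ∀ x : Ext.{u} X F n, x = 0) (x : Ext.{u} X G n) : x = 0 := by
  have h1 : (x.comp (Ext.mk₀ ψ) (add_zero n)).comp (Ext.mk₀ (inv ψ)) (add_zero n) = x := by
    rw [Ext.comp_assoc_of_third_deg_zero, Ext.mk₀_comp_mk₀, IsIso.hom_inv_id, Ext.comp_mk₀_id]
  rw [← h1, h (x.comp (Ext.mk₀ ψ) (add_zero n)), Ext.zero_comp]

/-- if `H¹(V, X₁) = 0` then the presheaf cokernel of a monomorphism of sheaves has the same
sections over `V` as its associated sheaf -/
lemma toSheafify_app_bijective_X₃ (S : ShortComplex (Cᵒᵖ ⥤ AddCommGrpCat.{u}))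
    (hS : S.ShortExact) (h1 : Presheaf.IsSheaf J S.X₁) (h2 : Presheaf.IsSheaf J S.X₂) (V : C)
    (hV : ∀ x : Ext.{u} (CohCx.freeSheaf J V) (shf J S.X₁) 1, x = 0) :
    Function.Bijective ((toSheafify J S.X₃).app (op V)).hom := by
  have hS' := hS.map_of_exact (presheafToSheaf J AddCommGrpCat.{u})
  have hsec := sections_shortExact hS' V hV
  have hev : (S.map ((evaluation _ _).obj (op V))).ShortExact := hS.map_of_exact _
  have n1 : ∀ x : S.X₁.obj (op V), ((shfMap J S.f).hom.app (op V)).hom
      (((toSheafify J S.X₁).app (op V)).hom x) =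
      ((toSheafify J S.X₂).app (op V)).hom ((S.f.app (op V)).hom x) := by
    intro x
    have := ConcreteCategory.congr_hom
      (congrArg (fun t => t.app (op V)) (toSheafify_naturality J S.f)) x
    exact this.symm
  have n2 : ∀ x : S.X₂.obj (op V), ((shfMap J S.g).hom.app (op V)).hom
      (((toSheafify J S.X₂).app (op V)).hom x) =
      ((toSheafify J S.X₃).app (op V)).hom ((S.g.app (op V)).hom x) := by
    intro x
    have := ConcreteCategory.congr_hom
      (congrArg (fun t => t.app (op V)) (toSheafify_naturality J S.g)) x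
    exact this.symm
  have i1 : IsIso (toSheafify J S.X₁) := isIso_toSheafify J h1
  have i2 : IsIso (toSheafify J S.X₂) := isIso_toSheafify J h2
  have b1 : Function.Bijective ((toSheafify J S.X₁).app (op V)).hom :=
    (ConcreteCategory.isIso_iff_bijective ((toSheafify J S.X₁).app (op V))).1 inferInstance
  have b2 : Function.Bijective ((toSheafify J S.X₂).app (op V)).hom :=
    (ConcreteCategory.isIso_iff_bijective ((toSheafify J S.X₂).app (op V))).1 inferInstance
  constructor
  · rw [injective_iff_map_eq_zero]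
    intro x hx
    obtain ⟨t, ht⟩ := hev.ab_surjective_g x
    have ht' : (S.g.app (op V)).hom t = x := ht
    have h3 : ((shfMap J S.g).hom.app (op V)).hom (((toSheafify J S.X₂).app (op V)).hom t) = 0 := by
      rw [n2, ht', hx]
    have hex := hsec.exact
    rw [ShortComplex.ab_exact_iff] at hex
    obtain ⟨s', hs'⟩ := hex _ h3
    obtain ⟨s, hs⟩ := b1.2 s'
    have hs'' : ((shfMap J S.f).hom.app (op V)).hom s' =
        ((toSheafify J S.X₂).app (op V)).hom t := hs'
    rw [← hs, n1] at hs''
    have h4 : (S.f.app (op V)).hom s = t := b2.1 hs''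
    rw [← ht', ← h4]
    exact ConcreteCategory.congr_hom (congrArg (fun φ => φ.app (op V)) S.zero) s
  · intro y
    obtain ⟨t', ht'⟩ := hsec.ab_surjective_g y
    obtain ⟨t, ht⟩ := b2.2 t'
    refine ⟨(S.g.app (op V)).hom t, ?_⟩
    rw [← n2, ht]
    exact ht'

variable [HasPullbacks C] {U : C} {ι : Type u} (Y : ι → Over U)

/-- a morphism of presheaves which is bijective on all the fibre products of the family induces
a bijection on Čech cohomology -/
lemma cechHMap_bijective_of_bijective {P Q : Cᵒᵖ ⥤ AddCommGrpCat.{u}} (φ : P ⟶ Q)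
    (h : ∀ (n : ℕ) (a : Fin (n + 1) → ι),
      Function.Bijective (φ.app (op (∏ᶜ (Y ∘ a)).left)).hom) (p : ℕ) :
    Function.Bijective (cechHMap Y φ p) := by
  have hf : ∀ n, IsIso (((cxFunctor Y).map φ).f n) := by
    intro n
    have : ∀ a : Fin (n + 1) → ι,
        IsIso (((Res (U := U)).map φ).app (op (∏ᶜ (Y ∘ a)))) :=
      fun a => (ConcreteCategory.isIso_iff_bijective _).2 (h n a)
    change IsIso (EVnat ((Res (U := U)).map φ) ((FormalCoproduct.mk ι Y).power (Fin (n + 1))))
    unfold EVnat
    exact @Limits.Pi.map_isIso _ _ _ _ _ _ _ this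
  have : IsIso ((cxFunctor Y).map φ) := HomologicalComplex.Hom.isIso_of_components _
  have h2 : IsIso (HomologicalComplex.homologyMap ((cxFunctor Y).map φ) p) := inferInstance
  exact (ConcreteCategory.isIso_iff_bijective _).1 h2

variable {Y}

instance injective_shf (I : Sheaf J AddCommGrpCat.{u}) [Injective I] : Injective (shf J I.obj) :=
  Injective.of_iso (asIso ((sheafificationAdjunction J AddCommGrpCat.{u}).counit.app I)).symm
    inferInstance

/-- on injective sheaves an edge family is surjective in every degree -/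
lemma edge_surjective_of_injective (e : ∀ (P : Cᵒᵖ ⥤ AddCommGrpCat.{u}) (p : ℕ),
      CohCx.cechH P Y p →+ CohSite.HU (CechEdge.shf J P) p U)
    (he : CechEdge.IsEdge J Y e) (I : Sheaf J AddCommGrpCat.{u}) [Injective I] (p : ℕ) :
    Function.Surjective (e I.obj p) := by
  cases p with
  | zero => exact (edge_zero_bijective e he I).2
  | succ p =>
    intro y
    have hy : y = 0 :=
      Ext.eq_zero_of_injective (y : Ext.{u} (CohCx.freeSheaf J U) (shf J I.obj) (p + 1))
    exact ⟨0, (map_zero _).trans hy.symm⟩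

/-- **bijectivity of the comparison maps for acyclic families** -/
theorem edge_bijective_of_acyc (e : ∀ (P : Cᵒᵖ ⥤ AddCommGrpCat.{u}) (p : ℕ),
      CohCx.cechH P Y p →+ CohSite.HU (CechEdge.shf J P) p U)
    (he : CechEdge.IsEdge J Y e) :
    ∀ (p : ℕ) (F : Sheaf J AddCommGrpCat.{u}), Acyc (Over.forget U) Y F →
      Function.Bijective (e F.obj p)
  | 0, F, _ => edge_zero_bijective e he F
  | (p + 1), F, hF => by
    let I : Sheaf J AddCommGrpCat.{u} := Injective.under F
    let i : F ⟶ I := Injective.ι F
    have hi : Mono i.hom := inferInstanceAs (Mono ((sheafToPresheaf J AddCommGrpCat.{u}).map i))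
    let S : ShortComplex (Cᵒᵖ ⥤ AddCommGrpCat.{u}) :=
      ShortComplex.mk i.hom (cokernel.π i.hom) (cokernel.condition i.hom)
    have hS : S.ShortExact :=
      { exact := ShortComplex.exact_cokernel i.hom
        mono_f := hi
        epi_g := inferInstanceAs (Epi (cokernel.π i.hom)) }
    have hC := cx_shortExact Y S hS
    have hS' := hS.map_of_exact (presheafToSheaf J AddCommGrpCat.{u})
    have hA1 : Acyc (Over.forget U) Y (shf J F.obj) := fun n a q x =>
      ext_eq_zero_of_iso ((sheafificationAdjunction J AddCommGrpCat.{u}).counit.app F) (q + 1)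
        (hF n a q) x
    have hI2 : Injective (S.map (presheafToSheaf J AddCommGrpCat.{u})).X₂ :=
      injective_shf (J := J) I
    have hA3 : Acyc (Over.forget U) Y (shf J S.X₃) := acyc_X₃ hS' hA1
    have IH := edge_bijective_of_acyc e he p (shf J S.X₃) hA3
    -- `e S.X₃ p` is bijective
    have hη : Function.Bijective (cechHMap Y (toSheafify J S.X₃) p) :=
      cechHMap_bijective_of_bijective Y _ (fun n a =>
        toSheafify_app_bijective_X₃ S hS F.property I.property _ (hA1 n a 0)) p
    have := isIso_shfMap_toSheafify J S.X₃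
    have hH := HUmap_bijective_of_isIso J (U := U) (shfMap J (toSheafify J S.X₃)) p
    have hb3 : Function.Bijective (e S.X₃ p) := by
      have hcomp : (HUmap (shfMap J (toSheafify J S.X₃)) p U : _ → _) ∘ (e S.X₃ p) =
          (e (sheafify J S.X₃) p) ∘ (cechHMap Y (toSheafify J S.X₃) p) :=
        funext (fun x => (he.natural _ _ (toSheafify J S.X₃) p x).symm)
      have h4 : Function.Bijective
          ((HUmap (shfMap J (toSheafify J S.X₃)) p U : _ → _) ∘ (e S.X₃ p)) := by
        rw [hcomp]
        exact IH.comp hη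
      exact (Function.Bijective.of_comp_iff' hH _).1 h4
    have hsI : Function.Surjective (e I.obj p) := edge_surjective_of_injective e he I p
    have hI : Injective ((Over.forget U).op ⋙ I.obj) := hinj_site I inferInstance
    have hzC : IsZero ((cx I.obj Y).homology (p + 1)) :=
      isZero_cechH_of_injective Y ((Over.forget U).op ⋙ I.obj) p
    constructor
    · rw [injective_iff_map_eq_zero]
      intro x hx1
      obtain ⟨q, hq⟩ : ∃ q : CohCx.cechH S.X₃ Y p, (hC.δ p (p + 1) rfl).hom q = x := by
        have hex := hC.homology_exact₁ p (p + 1) rfl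
        rw [ShortComplex.ab_exact_iff] at hex
        apply hex
        exact ConcreteCategory.congr_hom (hzC.eq_of_tgt
          (HomologicalComplex.homologyMap ((cxFunctor Y).map S.f) (p + 1)) 0) x
      have hd : e F.obj (p + 1) ((hC.δ p (p + 1) rfl).hom q) =
          extδ (hS.map_of_exact (presheafToSheaf J AddCommGrpCat.{u})) U p (e S.X₃ p q) :=
        he.delta S hS hC p q
      rw [hq, hx1] at hd
      obtain ⟨y₂, hy₂⟩ := Ext.covariant_sequence_exact₃ (CohCx.freeSheaf J U)
        (hS.map_of_exact (presheafToSheaf J AddCommGrpCat.{u})) (e S.X₃ p q) rfl hd.symm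
      obtain ⟨z, hz2⟩ := hsI y₂
      have hn := he.natural S.X₂ S.X₃ S.g p z
      have hqz : q = cechHMap Y S.g p z := by
        apply hb3.1
        rw [hn, hz2]
        exact hy₂.symm
      rw [← hq, hqz]
      exact ConcreteCategory.congr_hom (hC.comp_δ p (p + 1) rfl) z
    · intro y
      have hy0 : (y : Ext.{u} (CohCx.freeSheaf J U) (shf J F.obj) (p + 1)).comp
          (Ext.mk₀ (S.map (presheafToSheaf J AddCommGrpCat.{u})).f) (add_zero (p + 1)) = 0 :=
        Ext.eq_zero_of_injective _
      obtain ⟨w, hw⟩ := Ext.covariant_sequence_exact₁ (CohCx.freeSheaf J U) hS'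
        (y : Ext.{u} (CohCx.freeSheaf J U) (shf J F.obj) (p + 1)) hy0 rfl
      obtain ⟨q, hq⟩ := hb3.2 w
      refine ⟨(hC.δ p (p + 1) rfl).hom q, ?_⟩
      have hd : e F.obj (p + 1) ((hC.δ p (p + 1) rfl).hom q) =
          extδ (hS.map_of_exact (presheafToSheaf J AddCommGrpCat.{u})) U p (e S.X₃ p q) :=
        he.delta S hS hC p q
      rw [hd, hq]
      exact hw

theorem edgeSh_bijective_of_acyclic (e : ∀ (P : Cᵒᵖ ⥤ AddCommGrpCat.{u}) (p : ℕ),
      CohCx.cechH P Y p →+ CohSite.HU (CechEdge.shf J P) p U)
    (he : CechEdge.IsEdge J Y e) (F : Sheaf J AddCommGrpCat.{u})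
    (h : ∀ (p : ℕ) (a : Fin (p + 1) → ι) (q : ℕ),
      Subsingleton (CohSite.HU F (q + 1) (∏ᶜ fun k => Y (a k)).left))
    (p : ℕ) : Function.Bijective (CechEdge.edgeSh e F p) := by
  have hAc : Acyc (Over.forget U) Y F := by
    intro n a q x
    have := h n a q
    exact Subsingleton.elim (α := CohSite.HU F (q + 1) (∏ᶜ fun k => Y (a k)).left) x 0
  have h1 := edge_bijective_of_acyc e he p F hAc
  have h2 := HUmap_bijective_of_isIso J (U := U)
    ((sheafificationAdjunction J AddCommGrpCat.{u}).counit.app F) p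
  exact h2.comp h1

end Bij

end Groth.Agent.H18.Edge
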