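import Groth.Agent.Lib.helper18.Edge8

set_option autoImplicit false
set_option linter.unusedSectionVars false
open CategoryTheory CategoryTheory.Limits CategoryTheory.Abelian Opposite

namespace Groth.Agent.H18.Edge

open Groth.Agent.H18.Cech Groth.Agent.H18.CechSite CechEdge DeltaF

universe u

section Conv

variable {C : Type u} [SmallCategory C] [HasPullbacks C]
  {U : C} {ι : Type u} (Y : ι → Over U) (P : Cᵒᵖ ⥤ AddCommGrpCat.{u})

lemma toCycles_i_apply (s : P.obj (op U)) :
    ((cx P Y).iCycles 0).hom ((toCycles P Y).hom s) = (toCech₀ P Y).hom s := by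
  have h := ConcreteCategory.congr_hom (toCycles_i P Y) s
  rw [ConcreteCategory.comp_apply] at h
  exact h

lemma toCech_apply (s : P.obj (op U)) :
    toCech Y P s = ((cx P Y).homologyπ 0).hom ((toCycles P Y).hom s) := rfl

/-- injectivity of `toCech` gives injectivity of the augmentation -/
lemma toCech₀_injective_of (h : Function.Injective (toCech Y P)) :
    Function.Injective (toCech₀ P Y).hom := by
  intro s s' hs
  apply h
  rw [toCech_apply, toCech_apply]
  congr 1
  have hmono : Function.Injective ((cx P Y).iCycles 0).hom :=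
    (AddCommGrpCat.mono_iff_injective _).1 inferInstance
  apply hmono
  rw [toCycles_i_apply, toCycles_i_apply, hs]

/-- surjectivity of `toCech` gives exactness of the augmented complex in degree zero -/
lemma toCech₀_exact_of (h : Function.Surjective (toCech Y P))
    (x : (cx P Y).X 0) (hx : ((cx P Y).d 0 1).hom x = 0) : ∃ s, (toCech₀ P Y).hom s = x := by
  have hex : (ShortComplex.mk ((cx P Y).iCycles 0) ((cx P Y).d 0 1)
      ((cx P Y).iCycles_d 0 1)).Exact :=
    ShortComplex.exact_of_f_is_kernel _ ((cx P Y).cyclesIsKernel 0 1 (by simp))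
  rw [ShortComplex.ab_exact_iff] at hex
  obtain ⟨z, hz⟩ := hex x hx
  obtain ⟨s, hs⟩ := h (((cx P Y).homologyπ 0).hom z)
  refine ⟨s, ?_⟩
  have hiso : Function.Injective ((cx P Y).homologyπ 0).hom := by
    have : IsIso ((cx P Y).homologyπ 0) :=
      inferInstanceAs (IsIso (cx P Y).isoHomologyπ₀.hom)
    exact ((ConcreteCategory.isIso_iff_bijective _).1 this).1
  have h1 : (toCycles P Y).hom s = z := hiso hs
  rw [← toCycles_i_apply, h1]
  exact hz

lemma comp0_toCech₀ (s : P.obj (op U)) (i : ι) :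
    comp0 ((Over.forget U).op ⋙ P) Y i ((toCech₀ P Y).hom s) = (P.map (Y i).hom.op).hom s := by
  rw [comp0, pr_toCech₀]
  exact map_map_apply P (ll Y i).left _ _ (Over.w (ll Y i)) s

lemma sep_of (h : Function.Injective (toCech Y P)) (s s' : P.obj (op U))
    (hs : ∀ i, (P.map (Y i).hom.op).hom s = (P.map (Y i).hom.op).hom s') : s = s' := by
  apply toCech₀_injective_of Y P h
  apply EV_ext ((Over.forget U).op ⋙ P)
  intro (a : Fin 1 → ι)
  have e1 := map_map_apply P (Pi.π (Y ∘ a) 0).left (Y (a 0)).hom _ (Over.w (Pi.π (Y ∘ a) 0)) s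
  have e2 := map_map_apply P (Pi.π (Y ∘ a) 0).left (Y (a 0)).hom _ (Over.w (Pi.π (Y ∘ a) 0)) s'
  exact (pr_toCech₀ Y P s a).trans ((e1.symm.trans ((congrArg _ (hs (a 0))).trans e2)).trans
    (pr_toCech₀ Y P s' a).symm)

lemma glue_of (h : Function.Surjective (toCech Y P)) (t : ∀ i, P.obj (op (Y i).left))
    (ht : ∀ b : Fin 2 → ι,
      (((Over.forget U).op ⋙ P).map (Pi.π (Y ∘ b) 0).op).hom (t (b 0)) =
      (((Over.forget U).op ⋙ P).map (Pi.π (Y ∘ b) 1).op).hom (t (b 1))) :
    ∃ s : P.obj (op U), ∀ i, (P.map (Y i).hom.op).hom s = t i := by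
  let x : EV ((Over.forget U).op ⋙ P) ((FormalCoproduct.mk ι Y).power (Fin 1)) :=
    toEV ((Over.forget U).op ⋙ P) ((FormalCoproduct.mk ι Y).power (Fin 1))
      (fun a => (((Over.forget U).op ⋙ P).map (Pi.π (Y ∘ a) 0).op).hom (t (a 0)))
  have hc : ∀ i, comp0 ((Over.forget U).op ⋙ P) Y i x = t i := by
    intro i
    rw [comp0, pr_toEV]
    exact (map_map_apply ((Over.forget U).op ⋙ P) _ _ _ (ll_π Y i) _).trans
      (map_id_apply ((Over.forget U).op ⋙ P) _ rfl _)
  have hx0 : (d0 ((Over.forget U).op ⋙ P) (FormalCoproduct.mk ι Y)).hom x = 0 := by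
    apply EV_ext
    intro b
    rw [pr_d0', hc, hc, pr_zero]
    exact sub_eq_zero.mpr (ht b).symm
  have hx : ((cx P Y).d 0 1).hom x = 0 :=
    (congrArg (fun t : EV ((Over.forget U).op ⋙ P) ((FormalCoproduct.mk ι Y).power (Fin 1)) ⟶
      EV ((Over.forget U).op ⋙ P) ((FormalCoproduct.mk ι Y).power (Fin 2)) => t.hom x)
      (CC_d0 ((Over.forget U).op ⋙ P) (FormalCoproduct.mk ι Y))).trans hx0
  obtain ⟨s, hs⟩ := toCech₀_exact_of Y P h x hx
  refine ⟨s, fun i => ?_⟩
  rw [← comp0_toCech₀, hs, hc]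

end Conv

section Main

variable {C : Type u} [SmallCategory C] [HasPullbacks C] (J : GrothendieckTopology C)
  (P : Cᵒᵖ ⥤ AddCommGrpCat.{u})

theorem isSheaf_of_toCech_bijective
    (h : ∀ (U : C) (ι : Type u) (Y : ι → Over U),
      Sieve.ofArrows (fun i => (Y i).left) (fun i => (Y i).hom) ∈ J U →
        Function.Bijective (CechEdge.toCech Y P)) : Presheaf.IsSheaf J P := by
  rw [Presheaf.isSheaf_iff_isSheaf_forget J P (forget AddCommGrpCat.{u}),
    isSheaf_iff_isSheaf_of_type]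
  intro U S hS
  let ι : Type u := Σ V : C, {f : V ⟶ U // S f}
  let Y : ι → Over U := fun i => Over.mk i.2.1
  have hY : Sieve.ofArrows (fun i => (Y i).left) (fun i => (Y i).hom) = S := by
    ext V f
    constructor
    · intro hf
      obtain ⟨i, a, rfl⟩ := (Sieve.mem_ofArrows_iff _ _ f).1 hf
      exact S.downward_closed i.2.2 a
    · intro hf
      exact (Sieve.mem_ofArrows_iff _ _ f).2 ⟨⟨V, f, hf⟩, 𝟙 _, (Category.id_comp _).symm⟩
  have hb := h U ι Y (hY ▸ hS)
  intro x hx
  obtain ⟨s, hs⟩ := glue_of Y P hb.2 (fun i => x i.2.1 i.2.2) (fun b =>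
    hx (Pi.π (Y ∘ b) 0).left (Pi.π (Y ∘ b) 1).left (b 0).2.2 (b 1).2.2
      ((Over.w (Pi.π (Y ∘ b) 0)).trans (Over.w (Pi.π (Y ∘ b) 1)).symm))
  refine ⟨s, fun V f hf => hs ⟨V, f, hf⟩, fun s' hs' => ?_⟩
  apply sep_of Y P hb.1
  intro i
  exact (hs' i.2.1 i.2.2).trans (hs i).symm

theorem isSheaf_iff_toCech_bijective :
    Presheaf.IsSheaf J P ↔ ∀ (U : C) (ι : Type u) (Y : ι → Over U),
      Sieve.ofArrows (fun i => (Y i).left) (fun i => (Y i).hom) ∈ J U →
        Function.Bijective (CechEdge.toCech Y P) :=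
  ⟨fun hP _ _ Y hY => toCech_bijective J Y hY ⟨P, hP⟩, isSheaf_of_toCech_bijective J P⟩

end Main

end Groth.Agent.H18.Edge
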