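import Mathlib

/-!
# `Ext^q(P, -)` and filtered colimits: dimension shifting

If `Hom(P, -)` commutes with `ι`-shaped filtered colimits and there is a functorial embedding
`ε : 𝟭 ⟶ E` such that `E X` and `colim (D ⋙ E)` are `Ext(P, -)`-acyclic, then every `Ext^q(P, -)`
commutes with `ι`-shaped colimits.
-/

set_option autoImplicit false
set_option linter.unusedSectionVars false
set_option linter.unusedVariables false
open CategoryTheory CategoryTheory.Limits CategoryTheory.Abelian

namespace Groth.Agent.H18.ExtColim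

universe w v u

section
variable {C : Type*} [Category C] [Abelian C]

lemma shortExact_cokernel' {X Y : C} (f : X ⟶ Y) [Mono f] :
    (ShortComplex.mk f (cokernel.π f) (cokernel.condition f)).ShortExact :=
  { exact := ShortComplex.exact_cokernel f
    mono_f := inferInstanceAs (Mono f)
    epi_g := inferInstanceAs (Epi (cokernel.π f)) }
end

/-- recognizing filtered colimits of abelian groups -/
lemma isColimit_of_surj_inj {J : Type w} [SmallCategory J] [IsFiltered J]
    {K : J ⥤ AddCommGrpCat.{w}} (t : Cocone K)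
    (hsurj : ∀ x : t.pt, ∃ (i : J) (xi : K.obj i), (t.ι.app i).hom xi = x)
    (hinj : ∀ (i : J) (xi : K.obj i), (t.ι.app i).hom xi = 0 →
      ∃ (j : J) (f : i ⟶ j), (K.map f).hom xi = 0) :
    Nonempty (IsColimit t) := by
  let c := colimit.cocone K
  let hc : IsColimit c := colimit.isColimit K
  have hd : Function.Bijective (hc.desc t).hom := by
    constructor
    · rw [injective_iff_map_eq_zero]
      intro y hy
      obtain ⟨i, yi, rfl⟩ := Concrete.isColimit_exists_rep K hc y
      have h1 : (t.ι.app i).hom yi = 0 := by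
        rw [← hy]
        exact (ConcreteCategory.congr_hom (hc.fac t i) yi).symm
      obtain ⟨j, f, hf⟩ := hinj i yi h1
      have h2 := ConcreteCategory.congr_hom (c.w f) yi
      rw [ConcreteCategory.comp_apply] at h2
      rw [← h2]
      exact (congrArg (fun z => (c.ι.app j).hom z) hf).trans (map_zero _)
    · intro x
      obtain ⟨i, xi, rfl⟩ := hsurj x
      exact ⟨(c.ι.app i).hom xi, ConcreteCategory.congr_hom (hc.fac t i) xi⟩
  have : IsIso (hc.desc t) := (ConcreteCategory.isIso_iff_bijective (hc.desc t)).mpr hd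
  exact ⟨IsColimit.ofPointIso hc⟩

variable {A : Type u} [Category.{v} A] [Abelian A] [HasExt.{w} A]

lemma δ_nat {S₁ S₂ : ShortComplex A} (h₁ : S₁.ShortExact) (h₂ : S₂.ShortExact) (φ : S₁ ⟶ S₂)
    (P : A) {q q' : ℕ} (hq : q + 1 = q') (z : Ext.{w} P S₁.X₃ q) :
    (z.comp h₁.extClass hq).comp (Ext.mk₀ φ.τ₁) (add_zero q') =
      (z.comp (Ext.mk₀ φ.τ₃) (add_zero q)).comp h₂.extClass hq := by
  rw [Ext.comp_assoc_of_third_deg_zero, ShortComplex.ShortExact.extClass_naturality h₁ h₂ φ,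
    ← Ext.comp_assoc_of_second_deg_zero]

variable {ι : Type w} [SmallCategory ι] [IsFiltered ι] [HasColimitsOfShape ι A]
  [HasExactColimitsOfShape ι A] (P : A)

/-- every class on the colimit comes from a stage -/
def SurjP (q : ℕ) (D : ι ⥤ A) : Prop :=
  ∀ x : Ext.{w} P (colimit D) q, ∃ (i : ι) (y : Ext.{w} P (D.obj i) q),
    y.comp (Ext.mk₀ (colimit.ι D i)) (add_zero q) = x

/-- a class dying on the colimit dies at a later stage -/
def InjP (q : ℕ) (D : ι ⥤ A) : Prop :=
  ∀ (i : ι) (y : Ext.{w} P (D.obj i) q), y.comp (Ext.mk₀ (colimit.ι D i)) (add_zero q) = 0 →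
    ∃ (j : ι) (f : i ⟶ j), y.comp (Ext.mk₀ (D.map f)) (add_zero q) = 0

/-- Hom-level versions -/
def SurjH (D : ι ⥤ A) : Prop :=
  ∀ x : P ⟶ colimit D, ∃ (i : ι) (y : P ⟶ D.obj i), y ≫ colimit.ι D i = x

def InjH (D : ι ⥤ A) : Prop :=
  ∀ (i : ι) (y : P ⟶ D.obj i), y ≫ colimit.ι D i = 0 → ∃ (j : ι) (f : i ⟶ j), y ≫ D.map f = 0

lemma surjP_zero {D : ι ⥤ A} (h : SurjH P D) : SurjP P 0 D := by
  intro x
  obtain ⟨ξ, rfl⟩ := (Ext.mk₀_bijective P _).2 x
  obtain ⟨i, y, hy⟩ := h ξ
  exact ⟨i, Ext.mk₀ y, by rw [Ext.mk₀_comp_mk₀, hy]⟩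

lemma injP_zero {D : ι ⥤ A} (h : InjH P D) : InjP P 0 D := by
  intro i y hy
  obtain ⟨η, rfl⟩ := (Ext.mk₀_bijective P _).2 y
  rw [Ext.mk₀_comp_mk₀] at hy
  have h0 : η ≫ colimit.ι D i = 0 := by
    apply (Ext.mk₀_bijective P _).1
    rw [hy, Ext.mk₀_zero]
  obtain ⟨j, f, hf⟩ := h i η h0
  exact ⟨j, f, by rw [Ext.mk₀_comp_mk₀, hf, Ext.mk₀_zero]⟩

variable (E : A ⥤ A) (ε : 𝟭 A ⟶ E) [∀ X, Mono (ε.app X)]

/-- the embedding of a diagram -/
def α (D : ι ⥤ A) : D ⟶ D ⋙ E where
  app i := ε.app (D.obj i)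
  naturality i j f := ε.naturality (D.map f)

instance mono_α (D : ι ⥤ A) : Mono (α E ε D) := by
  have : ∀ i, Mono ((α E ε D).app i) := fun i => inferInstanceAs (Mono (ε.app (D.obj i)))
  exact NatTrans.mono_of_mono_app _

/-- the quotient diagram -/
noncomputable abbrev Qf (D : ι ⥤ A) : ι ⥤ A := cokernel (α E ε D)

/-- the short exact sequence of diagrams -/
noncomputable abbrev SS (D : ι ⥤ A) : ShortComplex (ι ⥤ A) :=
  ShortComplex.mk (α E ε D) (cokernel.π (α E ε D)) (cokernel.condition _)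

lemma hSS (D : ι ⥤ A) : (SS E ε D).ShortExact := shortExact_cokernel' _

/-- the colimit legs as a natural transformation -/
noncomputable def τ (i : ι) : (evaluation ι A).obj i ⟶ (colim : (ι ⥤ A) ⥤ A) where
  app D := colimit.ι D i
  naturality D D' φ := (colimit.ι_map φ i).symm

lemma hSinf (D : ι ⥤ A) : ((SS E ε D).map (colim : (ι ⥤ A) ⥤ A)).ShortExact :=
  (hSS E ε D).map_of_exact colim

lemma hSi (D : ι ⥤ A) (i : ι) : ((SS E ε D).map ((evaluation ι A).obj i)).ShortExact :=
  (hSS E ε D).map_of_exact _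

include ε in
theorem main (h0 : ∀ D : ι ⥤ A, SurjH P D ∧ InjH P D)
    (hE : ∀ (X : A) (n : ℕ) (x : Ext.{w} P (E.obj X) (n + 1)), x = 0)
    (hcolim : ∀ (D : ι ⥤ A) (n : ℕ) (x : Ext.{w} P (colimit (D ⋙ E)) (n + 1)), x = 0) :
    ∀ (q : ℕ) (D : ι ⥤ A), SurjP P q D ∧ InjP P q D := by
  intro q
  induction q with
  | zero => exact fun D => ⟨surjP_zero P (h0 D).1, injP_zero P (h0 D).2⟩
  | succ q ih =>
    intro D
    have hSI := hSinf E ε D
    constructor
    · intro x
      have hx0 : x.comp (Ext.mk₀ ((SS E ε D).map (colim : (ι ⥤ A) ⥤ A)).f) (add_zero (q + 1)) = 0 :=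
        hcolim D q _
      obtain ⟨z, hz⟩ := Ext.covariant_sequence_exact₁ P hSI x hx0 (n₀ := q) rfl
      obtain ⟨i, zi, hzi⟩ := (ih (Qf E ε D)).1 z
      refine ⟨i, zi.comp (hSi E ε D i).extClass rfl, ?_⟩
      have hn := δ_nat (hSi E ε D i) hSI ((SS E ε D).mapNatTrans (τ i)) P rfl zi
      rw [← hz, ← hzi]
      exact hn
    · intro i y hy
      have hy0 : y.comp (Ext.mk₀ ((SS E ε D).map ((evaluation ι A).obj i)).f)
          (add_zero (q + 1)) = 0 := hE _ q _
      obtain ⟨z, hz⟩ : ∃ z : Ext.{w} P ((Qf E ε D).obj i) q,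
          z.comp (hSi E ε D i).extClass rfl = y :=
        Ext.covariant_sequence_exact₁ P (hSi E ε D i) y hy0 (n₀ := q) rfl
      have h1 : (z.comp (Ext.mk₀ (colimit.ι (Qf E ε D) i)) (add_zero q)).comp hSI.extClass rfl =
          0 := by
        have hn := δ_nat (hSi E ε D i) hSI ((SS E ε D).mapNatTrans (τ i)) P rfl z
        exact hn.symm.trans ((congrArg (fun t => t.comp (Ext.mk₀ (colimit.ι D i))
          (add_zero (q + 1))) hz).trans hy)
      obtain ⟨w, hw⟩ : ∃ w : Ext.{w} P (colimit (D ⋙ E)) q,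
          w.comp (Ext.mk₀ (colimMap (cokernel.π (α E ε D)))) (add_zero q) =
            z.comp (Ext.mk₀ (colimit.ι (Qf E ε D) i)) (add_zero q) :=
        Ext.covariant_sequence_exact₃ P hSI _ rfl h1
      have key : ∃ (j : ι) (f : i ⟶ j) (wj : Ext.{w} P (E.obj (D.obj j)) q),
          z.comp (Ext.mk₀ ((Qf E ε D).map f)) (add_zero q) =
            wj.comp (Ext.mk₀ ((cokernel.π (α E ε D)).app j)) (add_zero q) := by
        cases q with
        | zero =>
          obtain ⟨ζ, rfl⟩ := (Ext.mk₀_bijective P _).2 z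
          obtain ⟨ω, rfl⟩ := (Ext.mk₀_bijective P _).2 w
          rw [Ext.mk₀_comp_mk₀, Ext.mk₀_comp_mk₀] at hw
          have hw' : ω ≫ colimMap (cokernel.π (α E ε D)) = ζ ≫ colimit.ι (Qf E ε D) i :=
            (Ext.mk₀_bijective P _).1 hw
          obtain ⟨k, ωk, hωk⟩ := (h0 (D ⋙ E)).1 ω
          let m := IsFiltered.max i k
          let fi : i ⟶ m := IsFiltered.leftToMax i k
          let fk : k ⟶ m := IsFiltered.rightToMax i k
          have hu : (ζ ≫ (Qf E ε D).map fi -
              ωk ≫ (D ⋙ E).map fk ≫ (cokernel.π (α E ε D)).app m) ≫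
                colimit.ι (Qf E ε D) m = 0 := by
            rw [Preadditive.sub_comp, Category.assoc, colimit.w, Category.assoc, Category.assoc,
              ← colimit.ι_map (cokernel.π (α E ε D)) m, colimit.w_assoc, reassoc_of% hωk]
            change ζ ≫ colimit.ι (Qf E ε D) i - ω ≫ colimMap (cokernel.π (α E ε D)) = 0
            rw [hw', sub_self]
          obtain ⟨j, f', hf'⟩ := (h0 (Qf E ε D)).2 m _ hu
          rw [Preadditive.sub_comp, sub_eq_zero] at hf'
          refine ⟨j, fi ≫ f', Ext.mk₀ (ωk ≫ (D ⋙ E).map (fk ≫ f')), ?_⟩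
          rw [Ext.mk₀_comp_mk₀, Ext.mk₀_comp_mk₀]
          congr 1
          rw [Functor.map_comp, ← Category.assoc, hf']
          simp only [Category.assoc, Functor.map_comp]
          rw [(cokernel.π (α E ε D)).naturality f']
        | succ q' =>
          have hw0 : w = 0 := hcolim D q' w
          rw [hw0, Ext.zero_comp] at hw
          obtain ⟨j, f, hf⟩ := (ih (Qf E ε D)).2 i z hw.symm
          exact ⟨j, f, 0, by rw [hf, Ext.zero_comp]⟩
      obtain ⟨j, f, wj, hj⟩ := key
      refine ⟨j, f, ?_⟩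
      have hn := δ_nat (hSi E ε D i) (hSi E ε D j)
        ((SS E ε D).mapNatTrans ((evaluation ι A).map f)) P rfl z
      rw [← hz]
      refine hn.trans ?_
      change (z.comp (Ext.mk₀ ((Qf E ε D).map f)) (add_zero q)).comp (hSi E ε D j).extClass rfl = 0
      rw [hj, Ext.comp_assoc_of_second_deg_zero]
      exact (congrArg (fun t => wj.comp t rfl) (hSi E ε D j).comp_extClass).trans
        (Ext.comp_zero _ _ _ _ _)

/-- conclusion: `Ext^q(P, -)` preserves the colimit -/
theorem preservesColimit (D : ι ⥤ A) (q : ℕ) (hs : SurjP P q D) (hi : InjP P q D) :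
    PreservesColimit D (extFunctorObj.{w} P q) := by
  obtain ⟨hc⟩ := isColimit_of_surj_inj ((extFunctorObj.{w} P q).mapCocone (colimit.cocone D))
    (fun x => by
      obtain ⟨i, y, hy⟩ := hs x
      exact ⟨i, y, hy⟩)
    (fun i y hy => by
      obtain ⟨j, f, hf⟩ := hi i y hy
      exact ⟨j, f, hf⟩)
  exact preservesColimit_of_preserves_colimit_cocone (colimit.isColimit D) hc

end Groth.Agent.H18.ExtColim
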