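import Groth.Agent.Lib.helper18.RightDerivedLES

set_option autoImplicit false
set_option linter.unusedSectionVars false

namespace Groth.Agent.H18.RLES

open CategoryTheory CategoryTheory.Limits

universe v u v' u'

variable {C : Type u} [Category.{v} C] [Abelian C] [HasInjectiveResolutions C]
  {D : Type u'} [Category.{v'} D] [Abelian D]
variable {F₁ F₂ F₃ : C ⥤ D} [F₁.Additive] [F₂.Additive] [F₃.Additive]
  (α : F₁ ⟶ F₂) (β : F₂ ⟶ F₃) (w : α ≫ β = 0)
  (hex : ∀ (I : C), Injective I →
    (ShortComplex.mk (α.app I) (β.app I) (by rw [← NatTrans.comp_app, w]; rfl)).ShortExact)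

lemma mono_δNat_app (n : ℕ) (X : C) (h : IsZero ((F₂.rightDerived n).obj X)) :
    Mono ((δNat α β w hex n).app X) :=
  (exact₃ α β w hex (injectiveResolution X) n).mono_g (h.eq_of_src _ _)

lemma epi_δNat_app (n : ℕ) (X : C) (h : IsZero ((F₂.rightDerived (n + 1)).obj X)) :
    Epi ((δNat α β w hex n).app X) :=
  (exact₁ α β w hex (injectiveResolution X) n).epi_f (h.eq_of_tgt _ _)

lemma isIso_δNat_app (n : ℕ) (X : C) (h : IsZero ((F₂.rightDerived n).obj X))
    (h' : IsZero ((F₂.rightDerived (n + 1)).obj X)) :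
    IsIso ((δNat α β w hex n).app X) :=
  have := mono_δNat_app α β w hex n X h
  have := epi_δNat_app α β w hex n X h'
  isIso_of_mono_of_epi _

/-- `RⁿF₃ ≅ Rⁿ⁺¹F₁` when `RⁿF₂ = 0 = Rⁿ⁺¹F₂`. -/
noncomputable def δNatIso (n : ℕ) (h : ∀ X, IsZero ((F₂.rightDerived n).obj X))
    (h' : ∀ X, IsZero ((F₂.rightDerived (n + 1)).obj X)) :
    F₃.rightDerived n ≅ F₁.rightDerived (n + 1) :=
  have : ∀ X, IsIso ((δNat α β w hex n).app X) := fun X =>
    isIso_δNat_app α β w hex n X (h X) (h' X)
  have : IsIso (δNat α β w hex n) := NatIso.isIso_of_isIso_app _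
  asIso (δNat α β w hex n)

omit [HasInjectiveResolutions C] in
/-- exactness in functor categories is detected objectwise -/
lemma exact_of_evaluation {J : Type*} [Category J] (S : ShortComplex (J ⥤ D))
    (h : ∀ X, (S.map ((evaluation J D).obj X)).Exact) : S.Exact := by
  rw [ShortComplex.exact_iff_isZero_homology, Functor.isZero_iff]
  intro X
  have := h X
  rw [ShortComplex.exact_iff_isZero_homology] at this
  exact IsZero.of_iso this (S.mapHomologyIso ((evaluation J D).obj X)).symm

omit [HasInjectiveResolutions C] [Abelian C] in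
lemma gen_aux {P Q ZG HG RG ZF HF RF : C} (gX : P ⟶ Q) (tG : Q ⟶ ZG) (pG : ZG ⟶ HG) (jG : HG ⟶ RG)
    (tF : P ⟶ ZF) (pF : ZF ⟶ HF) (jFinv : HF ⟶ RF) (jFhom : RF ⟶ HF) (m : HF ⟶ HG) (c : ZF ⟶ ZG)
    (h1 : gX ≫ tG = tF ≫ c) (h2 : c ≫ pG = pF ≫ m) (h3 : jFinv ≫ jFhom = 𝟙 _) :
    gX ≫ tG ≫ pG ≫ jG = (tF ≫ pF ≫ jFinv) ≫ jFhom ≫ m ≫ jG := by
  rw [← Category.assoc, h1, Category.assoc, ← Category.assoc c, h2]
  simp only [Category.assoc]
  rw [reassoc_of% h3]

/-- `toRightDerivedZero` is natural in the functor. -/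
lemma toRightDerivedZero_naturality {F G : C ⥤ D} [F.Additive] [G.Additive] (γ : F ⟶ G) :
    γ ≫ G.toRightDerivedZero = F.toRightDerivedZero ≫ NatTrans.rightDerived γ 0 := by
  ext X
  let I := injectiveResolution X
  rw [NatTrans.comp_app, NatTrans.comp_app, I.toRightDerivedZero_eq F, I.toRightDerivedZero_eq G,
    InjectiveResolution.rightDerived_app_eq γ I 0]
  have h1 : γ.app X ≫ I.toRightDerivedZero' G = I.toRightDerivedZero' F ≫
      HomologicalComplex.cyclesMap ((NatTrans.mapHomologicalComplex γ _).app I.cocomplex) 0 := by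
    rw [← cancel_mono (HomologicalComplex.iCycles _ _), Category.assoc, Category.assoc,
      InjectiveResolution.toRightDerivedZero'_comp_iCycles, HomologicalComplex.cyclesMap_i,
      InjectiveResolution.toRightDerivedZero'_comp_iCycles_assoc]
    exact (γ.naturality _).symm
  have h2 := HomologicalComplex.homologyπ_naturality
    ((NatTrans.mapHomologicalComplex γ (ComplexShape.up ℕ)).app I.cocomplex) 0
  have h2' : HomologicalComplex.cyclesMap
        ((NatTrans.mapHomologicalComplex γ (ComplexShape.up ℕ)).app I.cocomplex) 0 ≫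
      (CochainComplex.isoHomologyπ₀ ((G.mapHomologicalComplex (ComplexShape.up ℕ)).obj I.cocomplex)).hom =
      (CochainComplex.isoHomologyπ₀ ((F.mapHomologicalComplex (ComplexShape.up ℕ)).obj I.cocomplex)).hom ≫
        (HomologicalComplex.homologyFunctor D (ComplexShape.up ℕ) 0).map
          ((NatTrans.mapHomologicalComplex γ (ComplexShape.up ℕ)).app I.cocomplex) := h2.symm
  exact gen_aux _ _ _ _ _ _ _ _ _ _ h1 h2' (Iso.inv_hom_id _)


section coker

variable [PreservesFiniteLimits F₂] [PreservesFiniteLimits F₃]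

/-- the map `F₃ ⟶ R¹F₁`. -/
noncomputable def p₁ : F₃ ⟶ F₁.rightDerived 1 := F₃.toRightDerivedZero ≫ δNat α β w hex 0

lemma β_p₁ : β ≫ p₁ α β w hex = 0 := by
  dsimp only [p₁]
  rw [← Category.assoc, toRightDerivedZero_naturality, Category.assoc]
  have : NatTrans.rightDerived β 0 ≫ δNat α β w hex 0 = 0 := by
    ext X
    exact map_g_δ α β w hex (injectiveResolution X) 0
  rw [this, comp_zero]

lemma exact_β_p₁ : (ShortComplex.mk β (p₁ α β w hex) (β_p₁ α β w hex)).Exact := by
  apply exact_of_evaluation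
  intro X
  let i₂ : F₂.obj X ≅ (F₂.rightDerived 0).obj X := asIso (F₂.toRightDerivedZero.app X)
  let i₃ : F₃.obj X ≅ (F₃.rightDerived 0).obj X := asIso (F₃.toRightDerivedZero.app X)
  have e : (ShortComplex.mk β (p₁ α β w hex) (β_p₁ α β w hex)).map ((evaluation C D).obj X) ≅
      ShortComplex.mk ((NatTrans.rightDerived β 0).app X) (δ α β w hex (injectiveResolution X) 0)
        (map_g_δ α β w hex (injectiveResolution X) 0) :=
    ShortComplex.isoMk i₂ i₃ (Iso.refl _)
      (congrArg (fun t => t.app X) (toRightDerivedZero_naturality β)).symm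
      (Category.comp_id _).symm
  exact ShortComplex.exact_of_iso e.symm (exact₃ α β w hex (injectiveResolution X) 0)

lemma epi_p₁ (h : ∀ X, IsZero ((F₂.rightDerived 1).obj X)) : Epi (p₁ α β w hex) := by
  have : ∀ X, Epi ((p₁ α β w hex).app X) := fun X => by
    have := epi_δNat_app α β w hex 0 X (h X)
    dsimp only [p₁]
    rw [NatTrans.comp_app]
    infer_instance
  exact NatTrans.epi_of_epi_app _

/-- If `F₂`, `F₃` are left exact and `R¹F₂ = 0`, then `coker(β) ≅ R¹F₁`. -/
noncomputable def cokernelIso (h : ∀ X, IsZero ((F₂.rightDerived 1).obj X)) :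
    cokernel β ≅ F₁.rightDerived 1 :=
  have := epi_p₁ α β w hex h
  (cokernelIsCokernel β).coconePointUniqueUpToIso (exact_β_p₁ α β w hex).gIsCokernel

end coker

end Groth.Agent.H18.RLES
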