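import Groth.Agent.Lib.helper18.ExtDer
import Groth.Agent.Lib.helper18.RightDerivedLES2

/-!
# Naturality of `R^n Hom(P, -) ≅ Ext^n(P, -)` in the first variable `P`
-/

set_option autoImplicit false
set_option linter.unusedSectionVars false
open CategoryTheory CategoryTheory.Limits CategoryTheory.Abelian Opposite

namespace Groth.Agent.H18.ExtDer

universe v u

variable {C : Type u} [Category.{v} C] [Abelian C] [HasExt.{v} C]

/-- `Hom(g, -) : Hom(P, -) ⟶ Hom(P', -)` for `g : P' ⟶ P` -/
abbrev hFmap {P P' : C} (g : P' ⟶ P) : hF P ⟶ hF P' := preadditiveCoyoneda.map g.op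

/-- `Ext^n(g, N) : Ext^n(P, N) ⟶ Ext^n(P', N)` -/
noncomputable def extPre {P P' : C} (g : P' ⟶ P) (N : C) (n : ℕ) :
    (extFunctorObj P n).obj N ⟶ (extFunctorObj P' n).obj N :=
  AddCommGrpCat.ofHom ((Ext.mk₀ g).precomp N (zero_add n))

lemma extPre_apply {P P' : C} (g : P' ⟶ P) (N : C) (n : ℕ) (x : Ext.{v} P N n) :
    (extPre g N n).hom x = (Ext.mk₀ g).comp x (zero_add n) := rfl

section

variable {P P' N : C} (g : P' ⟶ P) (I : InjectiveResolution N)

/-- naturality of `homologyToExt` in the first variable -/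
lemma homologyToExt_naturality_left (m : ℕ) :
    HomologicalComplex.homologyMap
        ((NatTrans.mapHomologicalComplex (hFmap g) (ComplexShape.up ℕ)).app I.cocomplex) (m + 1) ≫
        homologyToExt (P := P') I m =
      homologyToExt (P := P) I m ≫
        extPre g N (m + 1) := by
  rw [← cancel_epi ((K (P := P) I).homologyπ (m + 1)), π_homologyToExt_assoc,
    HomologicalComplex.homologyπ_naturality_assoc, π_homologyToExt]
  ext z
  change (cyclesToExt (P := P') I (m + 1)).hom ((HomologicalComplex.cyclesMap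
      ((NatTrans.mapHomologicalComplex (hFmap g) (ComplexShape.up ℕ)).app I.cocomplex) (m + 1)).hom z) =
    (Ext.mk₀ g).comp ((cyclesToExt (P := P) I (m + 1)).hom z) (zero_add _)
  rw [cyclesToExt_apply, cyclesToExt_apply, InjectiveResolution.mk₀_comp_extMk]
  refine extMk_congr I ?_ _ rfl _
  exact congrArg (toHom (P := P') I (m + 1)) (ConcreteCategory.congr_hom
    (HomologicalComplex.cyclesMap_i
      ((NatTrans.mapHomologicalComplex (hFmap g) (ComplexShape.up ℕ)).app I.cocomplex) (m + 1)) z)

end

variable [HasInjectiveResolutions C]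

lemma isoSucc_naturality_left {P P' : C} (g : P' ⟶ P) (N : C) (m : ℕ) :
    (NatTrans.rightDerived (hFmap g) (m + 1)).app N ≫ (isoSucc P' N m).hom =
      (isoSucc P N m).hom ≫ extPre g N (m + 1) := by
  dsimp only [isoSucc, Iso.trans_hom, asIso_hom]
  rw [InjectiveResolution.rightDerived_app_eq (hFmap g) (injectiveResolution N) (m + 1)]
  simp only [Category.assoc, Iso.inv_hom_id_assoc]
  congr 1
  exact homologyToExt_naturality_left g (injectiveResolution N) m

lemma natIsoZero'_naturality_left {P P' : C} (g : P' ⟶ P) (N : C) :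
    (hFmap g).app N ≫ (natIsoZero' P').hom.app N =
      (natIsoZero' P).hom.app N ≫ extPre g N 0 := by
  ext (f : P ⟶ N)
  change Ext.mk₀ (g ≫ f) = (Ext.mk₀ g).comp (Ext.mk₀ f) (zero_add 0)
  rw [Ext.mk₀_comp_mk₀]

lemma natIsoZero_naturality_left {P P' : C} (g : P' ⟶ P) (N : C) :
    (NatTrans.rightDerived (hFmap g) 0).app N ≫ (natIsoZero P').hom.app N =
      (natIsoZero P).hom.app N ≫ extPre g N 0 := by
  dsimp only [natIsoZero, Iso.trans_hom, NatTrans.comp_app]
  have h1 : (hF P).rightDerivedZeroIsoSelf.hom.app N ≫ (hFmap g).app N =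
      (NatTrans.rightDerived (hFmap g) 0).app N ≫ (hF P').rightDerivedZeroIsoSelf.hom.app N := by
    have h := congrArg (fun t => t.app N) (RLES.toRightDerivedZero_naturality (hFmap g))
    simp only [NatTrans.comp_app] at h
    rw [← cancel_epi ((hF P).toRightDerivedZero.app N), ← Category.assoc,
      Functor.rightDerivedZeroIsoSelf_inv_hom_id_app, Category.id_comp, ← Category.assoc, ← h,
      Category.assoc, Functor.rightDerivedZeroIsoSelf_inv_hom_id_app, Category.comp_id]
  rw [← Category.assoc, ← h1, Category.assoc, natIsoZero'_naturality_left, Category.assoc]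

/-- **naturality of `natIso` in the first variable** -/
lemma natIso_naturality_left {P P' : C} (g : P' ⟶ P) (N : C) : ∀ n : ℕ,
    (NatTrans.rightDerived (hFmap g) n).app N ≫ (natIso P' n).hom.app N =
      (natIso P n).hom.app N ≫ extPre g N n
  | 0 => natIsoZero_naturality_left g N
  | (m + 1) => isoSucc_naturality_left g N m

end Groth.Agent.H18.ExtDer
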