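import Groth.Agent.Lib.helper23.FiltSh
import Groth.Prelude.Def_CohTop

/-!
# Filtered colimits of flasque sheaves on a Noetherian space are flasque (S11320)
-/

set_option autoImplicit false
set_option linter.unusedSectionVars false
open CategoryTheory CategoryTheory.Limits Opposite TopologicalSpace

namespace Groth.Agent.H18.FlasqueColim

universe u

variable {X : TopCat.{u}}

/-- on a Noetherian space, every covering sieve contains a finite covering family -/
lemma finite_subcover [NoetherianSpace X] (U : Opens X) (S : Sieve U)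
    (hS : S ∈ Opens.grothendieckTopology X U) :
    ∃ (n : ℕ) (V : Fin n → Opens X) (g : ∀ k, V k ⟶ U), (∀ k, S (g k)) ∧
      Sieve.ofArrows V g ∈ Opens.grothendieckTopology X U := by
  have hc : IsCompact (U : Set X) := NoetherianSpace.isCompact _
  -- the family of opens in the sieve
  let T := {V : Opens X // ∃ f : V ⟶ U, S f}
  have hcov : (U : Set X) ⊆ ⋃ V : T, (V.1 : Set X) := by
    intro x hx
    obtain ⟨V, f, hf, hxV⟩ := hS x hx
    exact Set.mem_iUnion.mpr ⟨⟨V, f, hf⟩, hxV⟩
  obtain ⟨t, ht⟩ := hc.elim_finite_subcover (fun V : T => (V.1 : Set X)) (fun V => V.1.isOpen) hcov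
  let e := t.equivFin
  refine ⟨t.card, fun k => (e.symm k).1.1, fun k => (e.symm k).1.2.choose, fun k =>
    (e.symm k).1.2.choose_spec, ?_⟩
  intro x hx
  obtain ⟨V, hV, hxV⟩ := Set.mem_iUnion₂.mp (ht hx)
  refine ⟨V.1, V.2.choose, ?_, hxV⟩
  have hk : (e.symm (e ⟨V, hV⟩)).1 = V := by rw [Equiv.symm_apply_apply]
  have hk' : V.1 = (e.symm (e ⟨V, hV⟩)).1.1 := by rw [hk]
  exact ⟨_, eqToHom hk', (e.symm (e ⟨V, hV⟩)).1.2.choose, ⟨e ⟨V, hV⟩⟩, Subsingleton.elim _ _⟩

variable [NoetherianSpace X] {ι : Type u} [SmallCategory ι] [IsFiltered ι] (D : ι ⥤ CohTop.Ab X)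

/-- presheaf-level diagram -/
noncomputable abbrev DP : ι ⥤ ((Opens X)ᵒᵖ ⥤ AddCommGrpCat.{u}) :=
  D ⋙ sheafToPresheaf (Opens.grothendieckTopology X) AddCommGrpCat.{u}

/-- its colimit -/
noncomputable abbrev P : (Opens X)ᵒᵖ ⥤ AddCommGrpCat.{u} := colimit (DP D)

/-- forgetting to presheaves of types -/
noncomputable abbrev W : ((Opens X)ᵒᵖ ⥤ AddCommGrpCat.{u}) ⥤ ((Opens X)ᵒᵖ ⥤ Type u) :=
  (Functor.whiskeringRight _ _ _).obj (forget AddCommGrpCat.{u})

noncomputable def hcT : IsColimit ((W (X := X)).mapCocone (colimit.cocone (DP D))) :=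
  isColimitOfPreserves _ (colimit.isColimit _)

lemma isSheaf_P : Presheaf.IsSheaf (Opens.grothendieckTopology X) (P D) := by
  rw [Presheaf.isSheaf_iff_isSheaf_forget _ _ (forget AddCommGrpCat.{u}), isSheaf_iff_isSheaf_of_type]
  refine Groth.Agent.Lib.helper23.FiltSh.isSheaf_pt (DP D ⋙ W) _ (hcT D) _ (fun i => ?_)
    (fun U S hS => finite_subcover U S hS)
  have := (D.obj i).property
  rw [Presheaf.isSheaf_iff_isSheaf_forget _ _ (forget AddCommGrpCat.{u}),
    isSheaf_iff_isSheaf_of_type] at this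
  exact this

/-- the cocone of sheaves on the presheaf colimit -/
noncomputable def cS : Cocone D where
  pt := ⟨P D, isSheaf_P D⟩
  ι :=
    { app := fun i => ⟨colimit.ι (DP D) i⟩
      naturality := fun i j f => by
        ext1
        simpa using colimit.w (DP D) f }

noncomputable def isColimit_cS : IsColimit (cS D) :=
  isColimitOfReflects (sheafToPresheaf (Opens.grothendieckTopology X) AddCommGrpCat.{u})
    (IsColimit.ofIsoColimit (colimit.isColimit (DP D)) (Cocone.ext (Iso.refl _) (fun i => by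
      simp [cS])))

lemma isFlasque_P (hD : ∀ i, TopCat.Sheaf.IsFlasque (D.obj i)) : TopCat.Presheaf.IsFlasque (P D) where
  epi {U V} m := by
    rw [AddCommGrpCat.epi_iff_surjective]
    intro t
    obtain ⟨i, a, ha⟩ := Groth.Agent.Lib.helper23.FiltSh.rep (DP D ⋙ W) _ (hcT D) V t
    have hsurj : Function.Surjective ((D.obj i).obj.map m).hom := by
      rw [← AddCommGrpCat.epi_iff_surjective]
      exact (hD i).epi m
    obtain ⟨b, hb⟩ := hsurj a
    refine ⟨((colimit.ι (DP D) i).app U).hom b, ?_⟩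
    have := NatTrans.naturality_apply (colimit.ι (DP D) i) m b
    refine this.symm.trans ?_
    rw [← ha]
    exact congrArg _ hb

theorem main (hD : ∀ i, TopCat.Sheaf.IsFlasque (D.obj i)) :
    TopCat.Sheaf.IsFlasque (colimit D : CohTop.Ab X) where
  epi {U V} m := by
    let e : colimit D ≅ (cS D).pt :=
      (colimit.isColimit D).coconePointUniqueUpToIso (isColimit_cS D)
    let e' := (sheafToPresheaf (Opens.grothendieckTopology X) AddCommGrpCat.{u}).mapIso e
    have hn : (colimit D).obj.map m = (e'.app U).hom ≫ (P D).map m ≫ (e'.app V).inv := by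
      rw [← Category.assoc, Iso.eq_comp_inv]
      exact (e'.hom.naturality m)
    have h1 : Epi ((P D).map m) := (isFlasque_P D hD).epi m
    have h2 : Epi ((P D).map m ≫ (e'.app V).inv) := @epi_comp _ _ _ _ _ _ h1 _ inferInstance
    rw [hn]
    exact @epi_comp _ _ _ _ _ _ inferInstance _ h2

end Groth.Agent.H18.FlasqueColim
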