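import Groth.Agent.Lib.helper18.Flasque
import Groth.Agent.Lib.helper18.RDPlus5

set_option autoImplicit false
set_option linter.unusedSectionVars false
open CategoryTheory CategoryTheory.Limits CategoryTheory.Abelian Opposite TopologicalSpace

namespace Groth.Agent.H18.Flasque

universe u

variable {X : TopCat.{u}}

/-- a morphism of abelian sheaves which is surjective on all sections is an epimorphism -/
lemma epi_of_sections_surjective {F G : CohTop.Ab X} (g : F ⟶ G)
    (h : ∀ V : (Opens X)ᵒᵖ, Function.Surjective (g.hom.app V)) : Epi g := by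
  have : Sheaf.IsLocallySurjective g := by
    dsimp only [Sheaf.IsLocallySurjective]
    exact Presheaf.isLocallySurjective_of_surjective _ _ h
  exact Sheaf.epi_of_isLocallySurjective g

instance {Y : TopCat.{u}} (f : X ⟶ Y) : PreservesFiniteLimits (CohTop.push f) := by
  have : (CohTop.push f).IsRightAdjoint :=
    (TopCat.Sheaf.pullbackPushforwardAdjunction AddCommGrpCat.{u} f).isRightAdjoint
  infer_instance

/-- pushforward is exact on short exact sequences with flasque kernel -/
lemma push_shortExact {Y : TopCat.{u}} (f : X ⟶ Y) {S : ShortComplex (CohTop.Ab X)}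
    (hS : S.ShortExact) [TopCat.Sheaf.IsFlasque S.X₁] : (S.map (CohTop.push f)).ShortExact := by
  have hP : PreservesFiniteLimits (CohTop.push f) := inferInstance
  obtain ⟨h1, h2⟩ := (Functor.preservesFiniteLimits_iff_forall_exact_map_and_mono (CohTop.push f)).1 hP S hS
  have h3 : Epi ((CohTop.push f).map S.g) := by
    apply epi_of_sections_surjective
    intro V
    have hepi : Epi (S.g.hom.app (op ((Opens.map f).obj V.unop))) :=
      TopCat.Sheaf.IsFlasque.epi_of_shortExact hS
    rw [AddCommGrpCat.epi_iff_surjective] at hepi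
    exact hepi
  exact { exact := h1, mono_f := h2, epi_g := h3 }

/-- flasque sheaves are acyclic for direct images -/
theorem isZero_Rpush_of_isFlasque {Y : TopCat.{u}} (f : X ⟶ Y) (F : CohTop.Ab X)
    [TopCat.Sheaf.IsFlasque F] (q : ℕ) : IsZero ((CohTop.Rpush f (q + 1)).obj F) := by
  refine RDPlus.facyc_of_adapted (CohTop.push f) (fun G : CohTop.Ab X => TopCat.Sheaf.IsFlasque G)
    ?_ ?_ F inferInstance (q + 1) (by omega)
  · intro G
    exact ⟨Injective.under G, Injective.ι G, isFlasque_of_injective _, inferInstance⟩
  · intro S hS h1 h2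
    have : TopCat.Sheaf.IsFlasque S.X₁ := h1
    have : TopCat.Sheaf.IsFlasque S.X₂ := h2
    exact ⟨TopCat.Sheaf.IsFlasque.of_shortExact_of_isFlasque₁₂ hS, push_shortExact f hS⟩

end Groth.Agent.H18.Flasque
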