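import Groth.Agent.Lib.helper18.RepLift

/-!
# Freeness lifts along `R → R ⧸ I` for `I` in the Jacobson radical

`Groth.Agent.Lib.helper18.FreeLift.free_of_free_quot`: a finite projective `R`-module `Y` with
`(R ⧸ I) ⊗ Y` free over `R ⧸ I` is free, when `I ≤ rad R`.
-/

set_option autoImplicit false
set_option linter.style.haveILetI false
set_option linter.unusedSectionVars false

universe u

open TensorProduct
open Groth.Agent.Lib.helper18.ConeLift

namespace Groth.Agent.Lib.helper18.FreeLift

lemma free_of_free_quot {R : Type u} [CommRing R] (I : Ideal R)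
    (hI : I ≤ Ideal.jacobson (⊥ : Ideal R))
    (Y : Type u) [AddCommGroup Y] [Module R Y] [Module.Finite R Y] [Module.Projective R Y]
    (hfree : Module.Free (R ⧸ I) ((R ⧸ I) ⊗[R] Y)) : Module.Free R Y := by
  classical
  haveI := hfree
  haveI : Module.Finite (R ⧸ I) ((R ⧸ I) ⊗[R] Y) := inferInstance
  let κ := Module.Free.ChooseBasisIndex (R ⧸ I) ((R ⧸ I) ⊗[R] Y)
  let bs : Module.Basis κ (R ⧸ I) ((R ⧸ I) ⊗[R] Y) := Module.Free.chooseBasis _ _
  let q : (κ → R) →ₗ[R] ((R ⧸ I) ⊗[R] Y) :=
    (bs.equivFun.symm.toLinearMap.restrictScalars R) ∘ₗ redA I κ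
  have hq : Function.Surjective q := (bs.equivFun.symm.surjective).comp (redA_surjective I κ)
  have hkq : LinearMap.ker q ≤ I • ⊤ := by
    intro x hx
    have hx' : bs.equivFun.symm (redA I κ x) = 0 := LinearMap.mem_ker.1 hx
    have h0 : redA I κ x = 0 := bs.equivFun.symm.injective (by rw [map_zero]; exact hx')
    have h5 := mem_smul_top_of_coords I (LinearMap.id : (κ → R) →ₗ[R] (κ → R)) x
      (fun i => redA_ker I x h0 i)
    simpa using h5
  obtain ⟨θ, hθ⟩ := Module.projective_lifting_property (rP I Y) q (rP_surjective I Y)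
  have hb := bij_of_lift hI q (rP I Y) hq hkq (rP_ker I Y) θ
    (fun x => LinearMap.congr_fun hθ x)
  exact Module.Free.of_equiv (LinearEquiv.ofBijective θ hb)

end Groth.Agent.Lib.helper18.FreeLift
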