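import Groth.Agent.Lib.helper18.PshDer2

/-!
# Derived functors of a presheaf-valued functor that is pointwise corepresentable

If `T : Sh ⥤ PSh` satisfies `T(-)(U) ≅ Hom(Z U, -)` compatibly with restriction, then
`(R^p T F)(U) ≅ Ext^p(Z U, F)` compatibly with restriction.
-/

set_option autoImplicit false
set_option linter.unusedSectionVars false
open CategoryTheory CategoryTheory.Limits CategoryTheory.Abelian Opposite

namespace Groth.Agent.H18.GenPshDer

open Groth.Agent.H18.PshDer

universe u

variable {C : Type u} [SmallCategory C] {J : GrothendieckTopology C}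
  (T : Sheaf J AddCommGrpCat.{u} ⥤ (Cᵒᵖ ⥤ AddCommGrpCat.{u})) [T.Additive]
  (Z : Cᵒᵖ → Sheaf J AddCommGrpCat.{u})
  (Zmap : ∀ {U V : Cᵒᵖ} (_ : U ⟶ V), Z V ⟶ Z U)
  (σ : ∀ U : Cᵒᵖ, T ⋙ E U ≅ ExtDer.hF (Z U))
  (σ_nat : ∀ {U V : Cᵒᵖ} (f : U ⟶ V),
    Functor.whiskerLeft T (τ f) ≫ (σ V).hom = (σ U).hom ≫ ExtDer.hFmap (Zmap f))
  (F : Sheaf J AddCommGrpCat.{u}) (p : ℕ)

/-- the complex of presheaves `T(I^•)` -/
noncomputable abbrev KK : CochainComplex (Cᵒᵖ ⥤ AddCommGrpCat.{u}) ℕ :=
  (T.mapHomologicalComplex (ComplexShape.up ℕ)).obj (injectiveResolution F).cocomplex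

/-- `(H^p K)(U) ≅ H^p(K(U))` -/
noncomputable def evalHomologyIso (U : Cᵒᵖ) :
    ((KK T F).homology p).obj U ≅
      (((T ⋙ E U).mapHomologicalComplex (ComplexShape.up ℕ)).obj
        (injectiveResolution F).cocomplex).homology p :=
  (((KK T F).sc p).mapHomologyIso (E U)).symm

lemma evalHomologyIso_naturality {U V : Cᵒᵖ} (f : U ⟶ V) :
    ((KK T F).homology p).map f ≫ (evalHomologyIso T F p V).hom =
      (evalHomologyIso T F p U).hom ≫
        HomologicalComplex.homologyMap ((NatTrans.mapHomologicalComplex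
          (Functor.whiskerLeft T (τ f)) (ComplexShape.up ℕ)).app
            (injectiveResolution F).cocomplex) p := by
  have h := ShortComplex.homologyMap_mapNatTrans ((KK T F).sc p) (τ f)
  have h' : HomologicalComplex.homologyMap ((NatTrans.mapHomologicalComplex
      (Functor.whiskerLeft T (τ f)) (ComplexShape.up ℕ)).app
        (injectiveResolution F).cocomplex) p =
      (((KK T F).sc p).mapHomologyIso (E U)).hom ≫ (τ f).app ((KK T F).sc p).homology ≫
        (((KK T F).sc p).mapHomologyIso (E V)).inv := h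
  rw [h']
  exact aux_conj ((τ f).app ((KK T F).sc p).homology) (((KK T F).sc p).mapHomologyIso (E U))
    (((KK T F).sc p).mapHomologyIso (E V))

/-- the component isomorphism `(R^p T F)(U) ≅ Ext^p(Z U, F)` -/
noncomputable def compIso (U : Cᵒᵖ) :
    ((T.rightDerived p).obj F).obj U ≅ (extFunctorObj (Z U) p).obj F :=
  (E U).mapIso ((injectiveResolution F).isoRightDerivedObj T p) ≪≫
  evalHomologyIso T F p U ≪≫
  ((injectiveResolution F).isoRightDerivedObj (T ⋙ E U) p).symm ≪≫
  (ExtDer.rightDerivedIsoOfIso (σ U) p).app F ≪≫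
  (ExtDer.natIso (Z U) p).app F

include σ_nat in
lemma compIso_naturality {U V : Cᵒᵖ} (f : U ⟶ V) :
    ((T.rightDerived p).obj F).map f ≫ (compIso T Z σ F p V).hom =
      (compIso T Z σ F p U).hom ≫ ExtDer.extPre (Zmap f) F p := by
  have h1 : ((T.rightDerived p).obj F).map f ≫
      ((injectiveResolution F).isoRightDerivedObj T p).hom.app V =
      ((injectiveResolution F).isoRightDerivedObj T p).hom.app U ≫
        ((KK T F).homology p).map f :=
    ((injectiveResolution F).isoRightDerivedObj T p).hom.naturality f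
  have h2 := evalHomologyIso_naturality T F p f
  have h3 : HomologicalComplex.homologyMap ((NatTrans.mapHomologicalComplex
          (Functor.whiskerLeft T (τ f)) (ComplexShape.up ℕ)).app
            (injectiveResolution F).cocomplex) p ≫
        ((injectiveResolution F).isoRightDerivedObj (T ⋙ E V) p).inv =
      ((injectiveResolution F).isoRightDerivedObj (T ⋙ E U) p).inv ≫
        (NatTrans.rightDerived (Functor.whiskerLeft T (τ f)) p).app F := by
    rw [InjectiveResolution.rightDerived_app_eq (Functor.whiskerLeft T (τ f))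
      (injectiveResolution F) p, Iso.inv_hom_id_assoc]
    rfl
  have h4 : (NatTrans.rightDerived (Functor.whiskerLeft T (τ f)) p).app F ≫
        (NatTrans.rightDerived (σ V).hom p).app F =
      (NatTrans.rightDerived (σ U).hom p).app F ≫
        (NatTrans.rightDerived (ExtDer.hFmap (Zmap f)) p).app F := by
    rw [← NatTrans.comp_app, ← NatTrans.comp_app, ← NatTrans.rightDerived_comp,
      ← NatTrans.rightDerived_comp, σ_nat]
  have h5 := ExtDer.natIso_naturality_left (Zmap f) F p
  exact five_sq _ _ _ _ _ _ _ _ _ _ _ _ _ _ _ _ h1 h2 h3 h4 h5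

end Groth.Agent.H18.GenPshDer
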