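import Groth.Agent.Lib.helper18.ProfAcyc

set_option autoImplicit false
open CategoryTheory CategoryTheory.Limits Opposite TopologicalSpace CategoryTheory.Abelian

namespace Groth.Agent.H18.HUTop

universe u v w

/-- an isomorphism in the first variable induces an isomorphism of Ext groups -/
noncomputable def extEquivOfIso {C : Type u} [Category.{v} C] [Abelian C] [HasExt.{w} C]
    {A A' B : C} (e : A ≅ A') (n : ℕ) : Ext A' B n ≃+ Ext A B n where
  toFun x := (Ext.mk₀ e.hom).comp x (zero_add n)
  invFun y := (Ext.mk₀ e.inv).comp y (zero_add n)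
  left_inv x := by
    simp only [Ext.mk₀_comp_mk₀_assoc, Iso.inv_hom_id, Ext.mk₀_id_comp]
  right_inv y := by
    simp only [Ext.mk₀_comp_mk₀_assoc, Iso.hom_inv_id, Ext.mk₀_id_comp]
  map_add' x y := Ext.comp_add _ _ _ _

/-- cohomology of the whole space -/
noncomputable def HUtopEquiv {X : TopCat.{u}} (F : CohTop.Ab X) (n : ℕ) :
    CohTop.H F n ≃+ CohTop.HU F n (⊤ : Opens X) :=
  extEquivOfIso (ProfAcyc.freeTopIso X) n

end Groth.Agent.H18.HUTop
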