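import Groth.Agent.Lib.helper18.RDPlus4
import Mathlib

/-!
# The triangulated equivalence `K⁺(Inj C) ≌ D⁺(C)` and a triangulated model of `RF`
-/

set_option autoImplicit false
set_option linter.unusedSectionVars false

universe w w' v v' u u'

open CategoryTheory CategoryTheory.Limits Pretriangulated

namespace Groth.Agent.H18.RDPlus

variable {C : Type u} [Category.{v} C] [Abelian C] [HasDerivedCategory.{w} C] [EnoughInjectives C]

/-- `K⁺(Inj C) ⥤ D⁺(C)`. -/
noncomputable abbrev injQ :
    HomotopyCategory.Plus (InjectiveObject C) ⥤ DerivedCategory.Plus C :=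
  injι ⋙ DerivedCategory.Plus.Qh

instance : (injQ (C := C)).Full where
  map_surjective {K L} f := by
    obtain ⟨g, hg⟩ := (DerivedCategory.Plus.Qh_map_bijective_of_isKInjective
      (injι.obj K) (injι.obj L) (isKInjective_injι L)).2 f
    obtain ⟨h, rfl⟩ := (injι (C := C)).map_surjective g
    exact ⟨h, hg⟩

instance : (injQ (C := C)).Faithful where
  map_injective {K L} _ _ h :=
    (injι (C := C)).map_injective ((DerivedCategory.Plus.Qh_map_bijective_of_isKInjective
      (injι.obj K) (injι.obj L) (isKInjective_injι L)).1 h)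

instance : (injQ (C := C)).EssSurj :=
  inferInstanceAs ((InjectiveObject.ι C).mapHomotopyCategoryPlus ⋙ DerivedCategory.Plus.Qh).EssSurj

instance : (injQ (C := C)).IsEquivalence where

variable (C) in
/-- The equivalence `K⁺(Inj C) ≌ D⁺(C)`. -/
noncomputable def injEquiv :
    HomotopyCategory.Plus (InjectiveObject C) ≌ DerivedCategory.Plus C :=
  (injQ (C := C)).asEquivalence

noncomputable instance : (injEquiv C).functor.CommShift ℤ :=
  inferInstanceAs ((injQ (C := C)).CommShift ℤ)

instance : (injEquiv C).functor.IsTriangulated :=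
  inferInstanceAs ((injQ (C := C)).IsTriangulated)

noncomputable instance : (injEquiv C).inverse.CommShift ℤ :=
  (injEquiv C).commShiftInverse ℤ

instance : (injEquiv C).CommShift ℤ := (injEquiv C).commShift_of_functor ℤ

instance : (injEquiv C).IsTriangulated :=
  Equivalence.IsTriangulated.mk' (injEquiv C) inferInstance

instance : (injEquiv C).inverse.IsTriangulated := inferInstance

variable {D : Type u'} [Category.{v'} D] [Abelian D] [HasDerivedCategory.{w'} D]
  (F : C ⥤ D) [F.Additive]

/-- A triangulated model of `RF : D⁺(C) ⥤ D⁺(D)`. -/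
noncomputable def RF' : DerivedCategory.Plus C ⥤ DerivedCategory.Plus D :=
  (injEquiv C).inverse ⋙ injι ⋙ F.mapHomotopyCategoryPlus ⋙ DerivedCategory.Plus.Qh

noncomputable instance : (RF' F).CommShift ℤ := by
  dsimp only [RF']
  infer_instance

instance : (RF' F).IsTriangulated := by
  dsimp only [RF']
  infer_instance

/-- the unit isomorphism on complexes of injectives. -/
noncomputable def unitIsoInj :
    injι ⋙ F.mapHomotopyCategoryPlus ⋙ DerivedCategory.Plus.Qh ≅
      injι ⋙ DerivedCategory.Plus.Qh ⋙ F.rightDerivedFunctorPlus :=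
  NatIso.ofComponents (fun J => asIso (F.rightDerivedFunctorPlusUnit.app (injι.obj J)))
    (fun _ => F.rightDerivedFunctorPlusUnit.naturality _)

/-- `RF' ≅ RF`. -/
noncomputable def RF'Iso : RF' F ≅ F.rightDerivedFunctorPlus :=
  Functor.isoWhiskerLeft (injEquiv C).inverse (unitIsoInj F) ≪≫
    (Functor.associator _ _ _).symm ≪≫
    Functor.isoWhiskerRight (injEquiv C).counitIso F.rightDerivedFunctorPlus ≪≫
    Functor.leftUnitor _

end Groth.Agent.H18.RDPlus
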