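import Groth.Agent.Lib.helper18.LocCohRes2

set_option autoImplicit false
set_option linter.unusedSectionVars false
open CategoryTheory CategoryTheory.Limits CategoryTheory.Abelian Opposite TopologicalSpace

namespace Groth.Agent.H18.KillClass

open Groth.Agent.H18.OpenRestr Groth.Agent.H18.Flasque Groth.Agent.H18.SectSupp Groth.Agent.H18.CohTopH
  Groth.Agent.H18.LocCohRes

universe u

variable {X : TopCat.{u}}

lemma res_apply' (F : CohTop.Ab X) {W V : Opens X} (h : W ≤ V) (i : ℕ) (x : CohTop.HU F i V) :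
    CohTop.res F i h x =
      (Ext.mk₀ (ιZ h)).comp (x : Ext.{u} (CohCx.freeSheaf (Opens.grothendieckTopology X) V) F i)
        (zero_add i) := rfl

/-- local lifting of a map `ℤ_U ⟶ Q` along an epimorphism `I ⟶ Q` -/
lemma exists_local_lift {I Q : CohTop.Ab X} (π : I ⟶ Q) [Epi π] (U : Opens X)
    (q : CohCx.freeSheaf (Opens.grothendieckTopology X) U ⟶ Q) (x : X) (hx : x ∈ U) :
    ∃ (V : Opens X) (hV : V ≤ U) (_ : x ∈ V)
      (σ : CohCx.freeSheaf (Opens.grothendieckTopology X) V ⟶ I), σ ≫ π = ιZ hV ≫ q := by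
  have hloc : TopCat.Presheaf.IsLocallySurjective π.hom :=
    (TopCat.Sheaf.isLocallySurjective_iff_epi π).2 ‹Epi π›
  rw [TopCat.Presheaf.isLocallySurjective_iff] at hloc
  obtain ⟨V, hV, ⟨s, hs⟩, hxV⟩ := hloc U
    (CohFree.evalGen (Opens.grothendieckTopology X) U Q q) x hx
  refine ⟨V, hV, hxV, CohFree.ofSect (Opens.grothendieckTopology X) V _ s, ?_⟩
  apply (CohFree.homEquivSect (Opens.grothendieckTopology X) V Q).injective
  rw [CohFree.homEquivSect_apply, CohFree.homEquivSect_apply, evalGen_comp,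
    CohFree.evalGen_ofSect, CohFree.evalGen_freeSheafMap_comp]
  exact hs

section generic

universe v' u'

variable {C : Type u'} [Category.{v'} C] [Abelian C] [HasExt.{v'} C]
  (S : ShortComplex C) (hS : S.ShortExact)

include hS in
lemma exists_preimage_δ [Injective S.X₂] (P : C) (n : ℕ) (ξ : Ext.{v'} P S.X₁ (n + 1)) :
    ∃ y : Ext.{v'} P S.X₃ n, y.comp hS.extClass rfl = ξ :=
  Ext.covariant_sequence_exact₁ _ hS ξ (Ext.eq_zero_of_injective _) rfl

lemma precomp_δ_eq_zero {P P' : C} (g : P' ⟶ P) (n : ℕ) (y : Ext.{v'} P S.X₃ n)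
    (hy : (Ext.mk₀ g).comp y (zero_add n) = 0) :
    (Ext.mk₀ g).comp (y.comp hS.extClass (rfl : n + 1 = n + 1)) (zero_add (n + 1)) = 0 := by
  rw [← Ext.comp_assoc (a₁₂ := n) _ _ _ (by omega) (by omega) (by omega), hy, Ext.zero_comp]

lemma precomp_δ_mk₀_eq_zero {P P' : C} (g : P' ⟶ P) (q : P ⟶ S.X₃) (σ : P' ⟶ S.X₂)
    (hσ : σ ≫ S.g = g ≫ q) :
    (Ext.mk₀ g).comp ((Ext.mk₀ q).comp hS.extClass (zero_add 1)) (zero_add 1) = 0 := by
  rw [← Ext.comp_assoc_of_second_deg_zero, Ext.mk₀_comp_mk₀, ← hσ,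
    ← Ext.mk₀_comp_mk₀, Ext.comp_assoc_of_second_deg_zero, hS.comp_extClass, Ext.comp_zero]

end generic

/-- every cohomology class of positive degree is locally zero -/
theorem exists_cover_comp_eq_zero (n : ℕ) : ∀ (F : CohTop.Ab X) (U : Opens X)
    (ξ : Ext.{u} (CohCx.freeSheaf (Opens.grothendieckTopology X) U) F (n + 1)),
    ∃ (ι : Type u) (V : ι → Opens X) (hV : ∀ i, V i ≤ U), iSup V = U ∧
      ∀ i, (Ext.mk₀ (ιZ (hV i))).comp ξ (zero_add (n + 1)) = 0 := by
  induction n with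
  | zero =>
    intro F U ξ
    have hS := injSES_shortExact F
    have : Epi (injSES F).g := hS.epi_g
    obtain ⟨x₃, hx₃⟩ := exists_preimage_δ.{u, u + 1} (injSES F) hS _ 0 ξ
    obtain ⟨q, rfl⟩ := (Ext.mk₀_bijective _ _).2 x₃
    choose V hV hxV σ hσ using fun x : U => exists_local_lift (injSES F).g U q x.1 x.2
    refine ⟨U, V, hV, le_antisymm (iSup_le hV) (fun x hx => Opens.mem_iSup.2 ⟨⟨x, hx⟩, hxV ⟨x, hx⟩⟩), ?_⟩
    intro i
    have h1 := precomp_δ_mk₀_eq_zero.{u, u + 1} (injSES F) hS (ιZ (hV i)) q (σ i) (hσ i)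
    rw [hx₃] at h1
    exact h1
  | succ n ih =>
    intro F U ξ
    have hS := injSES_shortExact F
    obtain ⟨y, hy⟩ := exists_preimage_δ.{u, u + 1} (injSES F) hS _ (n + 1) ξ
    obtain ⟨ι, V, hV, hcov, hres⟩ := ih (injSES F).X₃ U y
    refine ⟨ι, V, hV, hcov, fun i => ?_⟩
    have h1 := precomp_δ_eq_zero.{u, u + 1} (injSES F) hS (ιZ (hV i)) (n + 1) y (hres i)
    rw [hy] at h1
    exact h1

end Groth.Agent.H18.KillClass
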