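import Groth.Agent.Lib.helper18.LocCohExc
import Groth.Agent.Lib.helper18.GenPshDer
import Groth.Agent.Lib.helper18.RDCompExact
import Groth.Prelude.Def_SuppFam

/-!
# Local cohomology sheaves for a locally closed subset as sheafified presheaves of `Ext` groups
-/

set_option autoImplicit false
set_option linter.unusedSectionVars false
set_option linter.unusedVariables false
open CategoryTheory CategoryTheory.Limits CategoryTheory.Abelian Opposite TopologicalSpace

namespace Groth.Agent.H18.LCSheaf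

open Groth.Agent.H18.OpenRestr Groth.Agent.H18.Flasque Groth.Agent.H18.SectSupp
  Groth.Agent.H18.LocCohSS

universe u

section general

variable {Y : TopCat.{u}} (U : Opens Y) (G : CohTop.Ab Y) (Ω : Opens Y)

/-- sections of `Γ_Z G` over `Ω` are the sections of `G` over `Ω` vanishing on `Ω ∩ U` -/
noncomputable def secEquiv :
    ((LocCohZ.sectSuppF U).obj G).obj.obj (op Ω) ≃+
      AddMonoidHom.ker (G.obj.map (homOfLE (LR_le U Ω)).op).hom :=
  ((CohFree.homEquivSect (Opens.grothendieckTopology Y) Ω ((LocCohZ.sectSuppF U).obj G)).symm).trans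
    ((homEquiv U (LR_le U Ω) rfl G).trans (zqEquiv (LR_le U Ω) G))

lemma secEquiv_coe (s : ((LocCohZ.sectSuppF U).obj G).obj.obj (op Ω)) :
    (secEquiv U G Ω s).1 = ((κ U G).hom.app (op Ω)).hom s := by
  change CohFree.evalGen (Opens.grothendieckTopology Y) Ω G
    (cokernel.π (ιZ (LR_le U Ω)) ≫ cokernel.desc (ιZ (LR_le U Ω))
      (CohFree.ofSect (Opens.grothendieckTopology Y) Ω _ s ≫ κ U G) _) = _
  rw [cokernel.π_desc, evalGen_comp, CohFree.evalGen_ofSect]

lemma π_zqMap {W V W' V' : Opens Y} (h : W ≤ V) (h' : W' ≤ V') (hW : W' ≤ W) (hV : V' ≤ V) :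
    cokernel.π (ιZ h') ≫ LocCohZ.zqMap h h' hW hV = ιZ hV ≫ cokernel.π (ιZ h) := by
  delta LocCohZ.zqMap cokernel.map
  exact cokernel.π_desc _ _ _

lemma zqEquiv_zqMap_comp {W V W' V' : Opens Y} (h : W ≤ V) (h' : W' ≤ V') (hW : W' ≤ W)
    (hV : V' ≤ V) (ψ : LocCohZ.zq h ⟶ G) :
    (zqEquiv h' G (LocCohZ.zqMap h h' hW hV ≫ ψ)).1 =
      (G.obj.map (homOfLE hV).op).hom (zqEquiv h G ψ).1 := by
  rw [zqEquiv_apply_coe, zqEquiv_apply_coe, ← Category.assoc, π_zqMap, Category.assoc,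
    map_evalGen]

/-- transport of kernels of restriction maps along equalities of opens -/
noncomputable def kerCast {A B A' B' : Opens Y} (hAB : A ≤ B) (hAB' : A' ≤ B')
    (eB : B' ≤ B) (eB' : B ≤ B') (eA : A' ≤ A) (eA' : A ≤ A') :
    AddMonoidHom.ker (G.obj.map (homOfLE hAB).op).hom ≃+
      AddMonoidHom.ker (G.obj.map (homOfLE hAB').op).hom where
  toFun s := ⟨(G.obj.map (homOfLE eB).op).hom s.1, by
    have hs := s.2
    rw [AddMonoidHom.mem_ker] at hs ⊢
    have e : G.obj.map (homOfLE eB).op ≫ G.obj.map (homOfLE hAB').op =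
        G.obj.map (homOfLE hAB).op ≫ G.obj.map (homOfLE eA).op := by
      rw [← G.obj.map_comp, ← G.obj.map_comp]; rfl
    have e' := ConcreteCategory.congr_hom e s.1
    rw [ConcreteCategory.comp_apply, ConcreteCategory.comp_apply] at e'
    rw [e', hs, map_zero]⟩
  invFun t := ⟨(G.obj.map (homOfLE eB').op).hom t.1, by
    have ht := t.2
    rw [AddMonoidHom.mem_ker] at ht ⊢
    have e : G.obj.map (homOfLE eB').op ≫ G.obj.map (homOfLE hAB).op =
        G.obj.map (homOfLE hAB').op ≫ G.obj.map (homOfLE eA').op := by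
      rw [← G.obj.map_comp, ← G.obj.map_comp]; rfl
    have e' := ConcreteCategory.congr_hom e t.1
    rw [ConcreteCategory.comp_apply, ConcreteCategory.comp_apply] at e'
    rw [e', ht, map_zero]⟩
  left_inv s := by
    apply Subtype.ext
    change (G.obj.map (homOfLE eB').op).hom ((G.obj.map (homOfLE eB).op).hom s.1) = s.1
    rw [← ConcreteCategory.comp_apply, ← G.obj.map_comp]
    exact ConcreteCategory.congr_hom (G.obj.map_id _) s.1
  right_inv t := by
    apply Subtype.ext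
    change (G.obj.map (homOfLE eB).op).hom ((G.obj.map (homOfLE eB').op).hom t.1) = t.1
    rw [← ConcreteCategory.comp_apply, ← G.obj.map_comp]
    exact ConcreteCategory.congr_hom (G.obj.map_id _) t.1
  map_add' s s' := by
    apply Subtype.ext
    exact map_add _ _ _

end general

variable {X : TopCat.{u}} {W V : Opens X} (h : W ≤ V)

/-- the pair `W ⊓ V' ≤ V ⊓ V'` -/
abbrev hp (V' : Opens X) : W ⊓ V' ≤ V ⊓ V' := inf_le_inf_right V' h

/-- the sheaves `ℤ_{V ∩ V'}/ℤ_{W ∩ V'}` -/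
noncomputable abbrev Zf (V' : (Opens X)ᵒᵖ) : CohTop.Ab X := LocCohZ.zq (hp h V'.unop)

/-- the transition maps -/
noncomputable abbrev Zmap {V' V'' : (Opens X)ᵒᵖ} (g : V' ⟶ V'') : Zf h V'' ⟶ Zf h V' :=
  LocCohZ.zqMap (hp h V'.unop) (hp h V''.unop) (inf_le_inf_left W (leOfHom g.unop))
    (inf_le_inf_left V (leOfHom g.unop))

/-- `Γ_Z` as a presheaf-valued functor -/
noncomputable abbrev TT : CohTop.Ab X ⥤ ((Opens X)ᵒᵖ ⥤ AddCommGrpCat.{u}) :=
  SuppFam.sectSuppLC h ⋙ sheafToPresheaf (Opens.grothendieckTopology X) AddCommGrpCat.{u}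

/-- the open `W ∩ V` of `V` -/
abbrev W₀ : Opens (TopCat.of V) := SuppFam.inOpen V W

/-- `F|_V` -/
noncomputable abbrev GV (F : CohTop.Ab X) : CohTop.Ab (TopCat.of V) := (CohTop.restrFunctor V).obj F

lemma le1 (V' : Opens X) : V ⊓ V' ≤ (L V).obj ((R V).obj V') := by
  rw [LR_eq]; exact le_of_eq (inf_comm _ _)
lemma le1' (V' : Opens X) : (L V).obj ((R V).obj V') ≤ V ⊓ V' := by
  rw [LR_eq]; exact le_of_eq (inf_comm _ _)
include h in
lemma le2 (V' : Opens X) :
    W ⊓ V' ≤ (L V).obj ((L (W₀ (V := V) (W := W))).obj ((R (W₀ (V := V) (W := W))).obj ((R V).obj V'))) := by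
  rintro x ⟨hxW, hxV'⟩
  exact ⟨⟨x, h hxW⟩, ⟨⟨⟨x, h hxW⟩, hxW⟩, hxV', rfl⟩, rfl⟩
lemma le2' (V' : Opens X) :
    (L V).obj ((L (W₀ (V := V) (W := W))).obj ((R (W₀ (V := V) (W := W))).obj ((R V).obj V'))) ≤ W ⊓ V' := by
  rintro x ⟨y, ⟨z, hz, rfl⟩, rfl⟩
  exact ⟨z.2, hz⟩

/-- sections of `Γ_Z(F)` over `V'` correspond to maps `ℤ_{V∩V'}/ℤ_{W∩V'} ⟶ F` -/
noncomputable def σEquiv (F : CohTop.Ab X) (V' : Opens X) :
    ((SuppFam.sectSuppLC h).obj F).obj.obj (op V') ≃+ (LocCohZ.zq (hp h V') ⟶ F) :=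
  ((secEquiv (W₀ (V := V) (W := W)) (GV (V := V) F) ((R V).obj V')).trans
    (kerCast F
      ((L V).map (homOfLE (LR_le (W₀ (V := V) (W := W)) ((R V).obj V')))).le
      (hp h V') (le1 (V := V) V') (le1' (V := V) V') (le2 h V') (le2' (V := V) (W := W) V'))).trans
    (zqEquiv (hp h V') F).symm

/-- the section of `F` underlying a section of `Γ_Z(F|_V)` -/
noncomputable def und (F : CohTop.Ab X) (V' : Opens X)
    (s : ((SuppFam.sectSuppLC h).obj F).obj.obj (op V')) :
    F.obj.obj (op ((L V).obj ((R V).obj V'))) :=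
  ((κ (W₀ (V := V) (W := W)) (GV (V := V) F)).hom.app (op ((R V).obj V'))).hom s

lemma und_natF {F F' : CohTop.Ab X} (φ : F ⟶ F') (V' : Opens X)
    (s : ((SuppFam.sectSuppLC h).obj F).obj.obj (op V')) :
    und h F' V' ((((SuppFam.sectSuppLC h).map φ).hom.app (op V')).hom s) =
      (φ.hom.app (op ((L V).obj ((R V).obj V')))).hom (und h F V' s) :=
  congrArg (fun t => (t.hom.app (op ((R V).obj V'))).hom s)
    (sectSuppF_map_κ (W₀ (V := V) (W := W)) ((CohTop.restrFunctor V).map φ))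

lemma und_natV (F : CohTop.Ab X) {V' V'' : (Opens X)ᵒᵖ} (g : V' ⟶ V'')
    (s : ((SuppFam.sectSuppLC h).obj F).obj.obj V') :
    und h F V''.unop ((((SuppFam.sectSuppLC h).obj F).obj.map g).hom s) =
      (F.obj.map ((L V).map ((R V).map g.unop)).op).hom (und h F V'.unop s) := by
  have e1 := ConcreteCategory.congr_hom
    ((κ (W₀ (V := V) (W := W)) (GV (V := V) F)).hom.naturality ((R V).map g.unop).op) s
  rw [ConcreteCategory.comp_apply, ConcreteCategory.comp_apply] at e1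
  exact e1

lemma σEquiv_spec (F : CohTop.Ab X) (V' : Opens X)
    (s : ((SuppFam.sectSuppLC h).obj F).obj.obj (op V')) :
    (zqEquiv (hp h V') F (σEquiv h F V' s)).1 =
      (F.obj.map (homOfLE (le1 (V := V) V')).op).hom (und h F V' s) := by
  have e : zqEquiv (hp h V') F (σEquiv h F V' s) =
      kerCast F ((L V).map (homOfLE (LR_le (W₀ (V := V) (W := W)) ((R V).obj V')))).le
        (hp h V') (le1 (V := V) V') (le1' (V := V) V') (le2 h V') (le2' (V := V) (W := W) V')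
        (secEquiv (W₀ (V := V) (W := W)) (GV (V := V) F) ((R V).obj V') s) :=
    AddEquiv.apply_symm_apply (zqEquiv (hp h V') F) _
  rw [e]
  exact congrArg (fun t : F.obj.obj (op ((L V).obj ((R V).obj V'))) =>
    (F.obj.map (homOfLE (le1 (V := V) V')).op).hom t)
    (secEquiv_coe (W₀ (V := V) (W := W)) (GV (V := V) F) ((R V).obj V') s)

lemma σEquiv_natF {F F' : CohTop.Ab X} (φ : F ⟶ F') (V' : Opens X)
    (s : ((SuppFam.sectSuppLC h).obj F).obj.obj (op V')) :
    σEquiv h F' V' ((((SuppFam.sectSuppLC h).map φ).hom.app (op V')).hom s) =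
      σEquiv h F V' s ≫ φ := by
  apply (zqEquiv (hp h V') F').injective
  apply Subtype.ext
  rw [σEquiv_spec, zqEquiv_comp, σEquiv_spec, und_natF]
  exact (ConcreteCategory.congr_hom (φ.hom.naturality (homOfLE (le1 (V := V) V')).op) _).symm

lemma σEquiv_natV (F : CohTop.Ab X) {V' V'' : (Opens X)ᵒᵖ} (g : V' ⟶ V'')
    (s : ((SuppFam.sectSuppLC h).obj F).obj.obj V') :
    σEquiv h F V''.unop ((((SuppFam.sectSuppLC h).obj F).obj.map g).hom s) =
      Zmap h g ≫ σEquiv h F V'.unop s := by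
  apply (zqEquiv (hp h V''.unop) F).injective
  apply Subtype.ext
  rw [σEquiv_spec, zqEquiv_zqMap_comp, σEquiv_spec, und_natV,
    ← ConcreteCategory.comp_apply, ← ConcreteCategory.comp_apply, ← F.obj.map_comp,
    ← F.obj.map_comp]
  rfl

/-- the natural isomorphisms `Γ_Z(-)(V') ≅ Hom(ℤ_{V∩V'}/ℤ_{W∩V'}, -)` -/
noncomputable def σ (V' : (Opens X)ᵒᵖ) : TT h ⋙ PshDer.E V' ≅ ExtDer.hF (Zf h V') :=
  NatIso.ofComponents (fun F => (σEquiv h F V'.unop).toAddCommGrpIso) (fun {F F'} φ => by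
    ext (s : ((SuppFam.sectSuppLC h).obj F).obj.obj (op V'.unop))
    exact σEquiv_natF h φ V'.unop s)

lemma σ_nat {V' V'' : (Opens X)ᵒᵖ} (g : V' ⟶ V'') :
    Functor.whiskerLeft (TT h) (PshDer.τ g) ≫ (σ h V'').hom =
      (σ h V').hom ≫ ExtDer.hFmap (Zmap h g) := by
  apply NatTrans.ext
  funext F
  ext (s : ((SuppFam.sectSuppLC h).obj F).obj.obj V')
  exact σEquiv_natV h F g s

/-- `R^q(Γ_Z as presheaf)(F) ≅ (V' ↦ Ext^q(ℤ_{V∩V'}/ℤ_{W∩V'}, F))` -/
noncomputable def presheafIso (F : CohTop.Ab X) (q : ℕ) :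
    ((TT h).rightDerived q).obj F ≅ SuppFam.HZpre F q h :=
  NatIso.ofComponents
    (fun V' => GenPshDer.compIso (TT h) (Zf h) (σ h) F q V')
    (fun {V' V''} g => GenPshDer.compIso_naturality (TT h) (Zf h) (Zmap h) (σ h)
      (fun g => σ_nat h g) F q g)

/-- `Γ_Z ≅ (Γ_Z as presheaf) ⋙ sheafification` -/
noncomputable def sectIso : SuppFam.sectSuppLC h ≅
    TT h ⋙ presheafToSheaf (Opens.grothendieckTopology X) AddCommGrpCat.{u} :=
  (Functor.rightUnitor _).symm ≪≫
    Functor.isoWhiskerLeft (SuppFam.sectSuppLC h)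
      (sheafificationNatIso (Opens.grothendieckTopology X) AddCommGrpCat.{u}) ≪≫
    (Functor.associator _ _ _).symm

theorem main (F : CohTop.Ab X) (q : ℕ) :
    Nonempty ((SuppFam.HZshLC h q).obj F ≅
      (presheafToSheaf (Opens.grothendieckTopology X) AddCommGrpCat.{u}).obj
        (SuppFam.HZpre F q h)) := by
  have e1 := (ExtDer.rightDerivedIsoOfIso (sectIso h) q).app F
  have e2 := ((RDCompExact.natIso (TT h)
    (presheafToSheaf (Opens.grothendieckTopology X) AddCommGrpCat.{u}) q).app F).symm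
  have e3 := (presheafToSheaf (Opens.grothendieckTopology X) AddCommGrpCat.{u}).mapIso
    (presheafIso h F q)
  exact ⟨e1 ≪≫ e2 ≪≫ e3⟩

end Groth.Agent.H18.LCSheaf
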