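import Groth.Agent.Lib.helper18.CohTopOpen

set_option autoImplicit false
set_option linter.unusedSectionVars false
open CategoryTheory CategoryTheory.Limits CategoryTheory.Abelian Opposite TopologicalSpace

namespace Groth.Agent.H18.LocCohDepth

open Groth.Agent.H18.OpenRestr Groth.Agent.H18.Flasque Groth.Agent.H18.SectSupp Groth.Agent.H18.CohTopH

universe u

variable {X : TopCat.{u}}

/-- a sheaf all of whose groups of sections vanish is zero -/
lemma isZero_of_sections (M : CohTop.Ab X) (h : ∀ V : Opens X, IsZero (M.obj.obj (op V))) :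
    IsZero M := by
  rw [IsZero.iff_id_eq_zero]
  apply Sheaf.hom_ext
  apply NatTrans.ext
  funext V
  exact (h V.unop).eq_of_src _ _

/-- `R^i(Γ_Z ⋙ Hom(ℤ_V,-)) F ≅ H^i_{Z∩V}(V, F)` -/
noncomputable def compIso (U V : Opens X) (i : ℕ) (F : CohTop.Ab X) :
    ((LocCohZ.sectSuppF U ⋙ ExtDer.hF (CohCx.freeSheaf (Opens.grothendieckTopology X) V)).rightDerived i).obj F ≅
      (extFunctorObj (LocCohZ.zq (inf_le_left : V ⊓ U ≤ V)) i).obj F :=
  (ExtDer.rightDerivedIsoOfIso (homNatIso U (inf_le_left : V ⊓ U ≤ V) (LR_eq U V)) i).app F ≪≫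
    (ExtDer.natIso _ i).app F

lemma hT (U V : Opens X) : ∀ Q : CohTop.Ab X, Injective Q → ∀ q : ℕ, 0 < q →
    IsZero (((ExtDer.hF (CohCx.freeSheaf (Opens.grothendieckTopology X) V)).rightDerived q).obj
      ((LocCohZ.sectSuppF U).obj Q)) := by
  intro Q hQ q hq
  have : TopCat.Sheaf.IsFlasque Q := isFlasque_of_injective Q
  have : TopCat.Sheaf.IsFlasque ((LocCohZ.sectSuppF U).obj Q) := isFlasque_sectSuppF U Q
  exact LocCohSS.isZero_rightDerived_hF_freeSheaf V _ q hq

/-- if `ℋ^k_Z(F) = 0` for `k < m` then `H^m_{Z∩V}(V,F) ≅ Γ(V, ℋ^m_Z(F))` -/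
theorem HZ_iso_sections (U V : Opens X) (F : CohTop.Ab X) (m : ℕ)
    (hlow : ∀ q : ℕ, q < m → IsZero ((LocCohZ.HZsh U q).obj F)) :
    Nonempty ((extFunctorObj (LocCohZ.zq (inf_le_left : V ⊓ U ≤ V)) m).obj F ≅
      ((LocCohZ.HZsh U m).obj F).obj.obj (op V)) := by
  obtain ⟨-, ⟨e⟩⟩ := SSDegenerate.vanishing_range (LocCohZ.sectSuppF U)
    (ExtDer.hF (CohCx.freeSheaf (Opens.grothendieckTopology X) V)) F (hT U V) m hlow
  exact ⟨(compIso U V m F).symm ≪≫ e ≪≫
    (ExtDer.hF (CohCx.freeSheaf (Opens.grothendieckTopology X) V)).rightDerivedZeroIsoSelf.app _ ≪≫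
    (LocCohSS.sectionsIso V).symm.app _⟩

theorem depth_iff (F : CohTop.Ab X) (U : Opens X) (n : ℕ) :
    (∀ i : ℕ, i < n → IsZero ((LocCohZ.HZsh U i).obj F)) ↔
      ∀ (V : Opens X) (i : ℕ), i < n → Subsingleton (LocCohZ.HZ F i (inf_le_left : V ⊓ U ≤ V)) := by
  constructor
  · intro h V i hi
    obtain ⟨e⟩ := HZ_iso_sections U V F i (fun q hq => h q (by omega))
    have hz : IsZero (((LocCohZ.HZsh U i).obj F).obj.obj (op V)) :=
      (sheafToPresheaf (Opens.grothendieckTopology X) AddCommGrpCat.{u} ⋙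
        (evaluation (Opens X)ᵒᵖ AddCommGrpCat.{u}).obj (op V)).map_isZero (h i hi)
    exact AddCommGrpCat.subsingleton_of_isZero (hz.of_iso e)
  · induction n with
    | zero => intro _ i hi; omega
    | succ n ih =>
      intro h
      have hlow := ih (fun V i hi => h V i (by omega))
      intro i hi
      by_cases hin : i < n
      · exact hlow i hin
      · obtain rfl : i = n := by omega
        apply isZero_of_sections
        intro V
        obtain ⟨e⟩ := HZ_iso_sections U V F i hlow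
        have hs : Subsingleton (LocCohZ.HZ F i (inf_le_left : V ⊓ U ≤ V)) := h V i (by omega)
        have hz : IsZero ((extFunctorObj (LocCohZ.zq (inf_le_left : V ⊓ U ≤ V)) i).obj F) :=
          @AddCommGrpCat.isZero_of_subsingleton _ hs
        exact hz.of_iso e.symm

end Groth.Agent.H18.LocCohDepth
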