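import Groth.Agent.Lib.helper18.LocCohPush
import Groth.Agent.Lib.helper18.NatRows
import Groth.Agent.Lib.helper18.CohTopOpen

/-!
# Excision for cohomology with supports, naturally in the sheaf

`H^i_{V∖W}(V, F) = Ext^i_X(ℤ_V/ℤ_W, F) ≅ Ext^i_V(ℤ_V/ℤ_{W}, F|_V) = H^i_{V∖W}(V, F|_V)`, natural in `F`.
-/

set_option autoImplicit false
set_option linter.unusedSectionVars false
open CategoryTheory CategoryTheory.Limits CategoryTheory.Abelian Opposite TopologicalSpace

namespace Groth.Agent.H18.LocCohExc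

open Groth.Agent.H18.OpenRestr Groth.Agent.H18.Flasque Groth.Agent.H18.SectSupp
  Groth.Agent.H18.LocCohSS

universe u

variable {X : TopCat.{u}} {W V : Opens X} (h : W ≤ V)

lemma L_top_le : (L V).obj ⊤ ≤ V := (LR_top V).le
lemma le_L_top : V ≤ (L V).obj ⊤ := (LR_top V).ge
include h in
lemma L_RW_le : (L V).obj ((R V).obj W) ≤ W := LR_le V W
include h in
lemma le_L_RW : W ≤ (L V).obj ((R V).obj W) := by
  rw [LR_eq]; exact le_inf le_rfl h

/-- sections of `F` over `V` vanishing on `W` are the sections of `F|_V` over `⊤` vanishing on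
`W ∩ V`. -/
noncomputable def kerEquiv (F : CohTop.Ab X) :
    (AddMonoidHom.ker (F.obj.map (homOfLE h).op).hom) ≃+
      (AddMonoidHom.ker (((CohTop.restrFunctor V).obj F).obj.map
        (homOfLE (le_top : (R V).obj W ≤ ⊤)).op).hom) where
  toFun s := ⟨(F.obj.map (homOfLE (L_top_le (V := V))).op).hom s.1, by
    have hs := s.2
    rw [AddMonoidHom.mem_ker] at hs ⊢
    change (F.obj.map ((L V).map (homOfLE (le_top : (R V).obj W ≤ ⊤))).op).hom
      ((F.obj.map (homOfLE (L_top_le (V := V))).op).hom s.1) = 0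
    have e : (F.obj.map (homOfLE (L_top_le (V := V))).op ≫
        F.obj.map ((L V).map (homOfLE (le_top : (R V).obj W ≤ ⊤))).op) =
        F.obj.map (homOfLE h).op ≫ F.obj.map (homOfLE (L_RW_le h)).op := by
      rw [← F.obj.map_comp, ← F.obj.map_comp]; rfl
    have e' := ConcreteCategory.congr_hom e s.1
    rw [ConcreteCategory.comp_apply, ConcreteCategory.comp_apply] at e'
    rw [e', hs, map_zero]⟩
  invFun t := ⟨(F.obj.map (homOfLE (le_L_top (V := V))).op).hom t.1, by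
    have ht := t.2
    rw [AddMonoidHom.mem_ker] at ht ⊢
    change (F.obj.map ((L V).map (homOfLE (le_top : (R V).obj W ≤ ⊤))).op).hom t.1 = 0 at ht
    have e : (F.obj.map (homOfLE (le_L_top (V := V))).op ≫ F.obj.map (homOfLE h).op) =
        F.obj.map ((L V).map (homOfLE (le_top : (R V).obj W ≤ ⊤))).op ≫
          F.obj.map (homOfLE (le_L_RW h)).op := by
      rw [← F.obj.map_comp, ← F.obj.map_comp]; rfl
    have e' := ConcreteCategory.congr_hom e t.1
    rw [ConcreteCategory.comp_apply, ConcreteCategory.comp_apply] at e'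
    rw [e', ht, map_zero]⟩
  left_inv s := by
    apply Subtype.ext
    change (F.obj.map (homOfLE (le_L_top (V := V))).op).hom
      ((F.obj.map (homOfLE (L_top_le (V := V))).op).hom s.1) = s.1
    rw [← ConcreteCategory.comp_apply, ← F.obj.map_comp]
    exact ConcreteCategory.congr_hom (F.obj.map_id _) s.1
  right_inv t := by
    apply Subtype.ext
    change (F.obj.map (homOfLE (L_top_le (V := V))).op).hom
      ((F.obj.map (homOfLE (le_L_top (V := V))).op).hom t.1) = t.1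
    rw [← ConcreteCategory.comp_apply, ← F.obj.map_comp]
    exact ConcreteCategory.congr_hom (F.obj.map_id _) t.1
  map_add' s s' := by
    apply Subtype.ext
    exact map_add _ _ _

/-- `Hom_X(ℤ_V/ℤ_W, F) ≃ Hom_V(ℤ_V/ℤ_{W∩V}, F|_V)` -/
noncomputable def restrZqEquiv (F : CohTop.Ab X) :
    (LocCohZ.zq h ⟶ F) ≃+
      (LocCohZ.zq (le_top : (R V).obj W ≤ ⊤) ⟶ (CohTop.restrFunctor V).obj F) :=
  ((zqEquiv h F).trans (kerEquiv h F)).trans
    (zqEquiv (le_top : (R V).obj W ≤ ⊤) ((CohTop.restrFunctor V).obj F)).symm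

/-- `Hom_X(ℤ_V/ℤ_W, -) ≅ (-)|_V ⋙ Hom_V(ℤ_V/ℤ_{W∩V}, -)` -/
noncomputable def restrZqNatIso :
    ExtDer.hF (LocCohZ.zq h) ≅
      CohTop.restrFunctor V ⋙ ExtDer.hF (LocCohZ.zq (le_top : (R V).obj W ≤ ⊤)) :=
  NatIso.ofComponents (fun F => (restrZqEquiv h F).toAddCommGrpIso) (fun {F F'} φ => by
    ext (ψ : LocCohZ.zq h ⟶ F)
    change (zqEquiv (le_top : (R V).obj W ≤ ⊤) ((CohTop.restrFunctor V).obj F')).symm
        (kerEquiv h F' (zqEquiv h F' (ψ ≫ φ))) =
      (zqEquiv (le_top : (R V).obj W ≤ ⊤) ((CohTop.restrFunctor V).obj F)).symm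
        (kerEquiv h F (zqEquiv h F ψ)) ≫ (CohTop.restrFunctor V).map φ
    rw [AddEquiv.symm_apply_eq]
    apply Subtype.ext
    rw [zqEquiv_comp, AddEquiv.apply_symm_apply]
    change (F'.obj.map (homOfLE (L_top_le (V := V))).op).hom (zqEquiv h F' (ψ ≫ φ)).1 =
      (φ.hom.app (op ((L V).obj ⊤))).hom
        ((F.obj.map (homOfLE (L_top_le (V := V))).op).hom (zqEquiv h F ψ).1)
    rw [zqEquiv_comp]
    exact (ConcreteCategory.congr_hom (φ.hom.naturality (homOfLE (L_top_le (V := V))).op)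
      (zqEquiv h F ψ).1).symm)

/-- restrictions of injective sheaves are acyclic for `Hom(ℤ_V/ℤ_W, -)` -/
lemma facyc_restr {U : Opens X} {W' : Opens (TopCat.of U)} (I : CohTop.Ab X) (hI : Injective I) :
    RDPlus.FAcyc (ExtDer.hF (LocCohZ.zq (le_top : W' ≤ ⊤))) ((CohTop.restrFunctor U).obj I) := by
  intro q hq
  have : TopCat.Sheaf.IsFlasque I := isFlasque_of_injective I
  obtain ⟨q', rfl⟩ : ∃ q', q = q' + 1 := ⟨q - 1, by omega⟩
  refine IsZero.of_iso ?_ ((ExtDer.natIso (LocCohZ.zq (le_top : W' ≤ ⊤)) (q' + 1)).app _)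
  have : Subsingleton (Ext.{u} (LocCohZ.zq (le_top : W' ≤ ⊤)) ((CohTop.restrFunctor U).obj I) (q' + 1)) :=
    ⟨fun x y => (ext_zq_eq_zero _ _ q' x).trans (ext_zq_eq_zero _ _ q' y).symm⟩
  exact @AddCommGrpCat.isZero_of_subsingleton
    ((extFunctorObj (LocCohZ.zq (le_top : W' ≤ ⊤)) (q' + 1)).obj _) this

/-- **Excision, naturally**: `Ext^i_X(ℤ_V/ℤ_W, -) ≅ (-)|_V ⋙ Ext^i_V(ℤ_V/ℤ_{W∩V}, -)`. -/
noncomputable def extNatIso (i : ℕ) :
    extFunctorObj (LocCohZ.zq h) i ≅
      CohTop.restrFunctor V ⋙ extFunctorObj (LocCohZ.zq (le_top : (R V).obj W ≤ ⊤)) i :=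
  (ExtDer.natIso _ i).symm ≪≫ ExtDer.rightDerivedIsoOfIso (restrZqNatIso h) i ≪≫
    RDPlus.rightDerivedCompIso (CohTop.restrFunctor V)
      (ExtDer.hF (LocCohZ.zq (le_top : (R V).obj W ≤ ⊤))) (fun I hI => facyc_restr I hI) i ≪≫
    Functor.isoWhiskerLeft _ (ExtDer.natIso _ i)

attribute [local irreducible] extNatIso in
/-- the excision isomorphism on `Ext` groups -/
noncomputable def extEquiv (i : ℕ) (F : CohTop.Ab X) :
    Ext.{u} (LocCohZ.zq h) F i ≃+
      Ext.{u} (LocCohZ.zq (le_top : (R V).obj W ≤ ⊤)) ((CohTop.restrFunctor V).obj F) i :=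
  ((extNatIso h i).app F).addCommGroupIsoToAddEquiv

attribute [local irreducible] extNatIso in
lemma extEquiv_natural (i : ℕ) {F G : CohTop.Ab X} (φ : F ⟶ G) (x : Ext.{u} (LocCohZ.zq h) F i) :
    extEquiv h i G (x.comp (Ext.mk₀ φ) (add_zero i)) =
      (extEquiv h i F x).comp (Ext.mk₀ ((CohTop.restrFunctor V).map φ)) (add_zero i) := by
  have := ConcreteCategory.congr_hom ((extNatIso h i).hom.naturality φ) x
  rw [ConcreteCategory.comp_apply, ConcreteCategory.comp_apply] at this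
  exact this

end Groth.Agent.H18.LocCohExc
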