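import Groth.Agent.Lib.helper18.LocCohRes

set_option autoImplicit false
set_option linter.unusedSectionVars false
open CategoryTheory CategoryTheory.Limits CategoryTheory.Abelian Opposite TopologicalSpace

namespace Groth.Agent.H18.LocCohRes

open Groth.Agent.H18.OpenRestr Groth.Agent.H18.Flasque Groth.Agent.H18.SectSupp Groth.Agent.H18.CohTopH

section general

universe v v' u u'

variable {A : Type u} [Category.{v} A] [Abelian A] [EnoughInjectives A]
  {B : Type u'} [Category.{v'} B] [Abelian B] (F : A ⥤ B) [F.Additive]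
  (S : ShortComplex A) (hS : S.ShortExact) (n : ℕ)

include hS in
lemma isZero_succ_X₁_of_epi (h2 : IsZero ((F.rightDerived (n + 1)).obj S.X₂))
    (hg : Epi ((F.rightDerived n).map S.g)) : IsZero ((F.rightDerived (n + 1)).obj S.X₁) := by
  obtain ⟨-, δ, ⟨w₃, ex₃⟩, ⟨w₁, ex₁⟩⟩ := RDPlus.rightDerived_homologySequence F S hS n
  have hδ : Epi δ := ex₁.epi_f (h2.eq_of_tgt _ _)
  have hδ0 : δ = 0 := by
    rw [← cancel_epi ((F.rightDerived n).map S.g), w₃, comp_zero]
  rw [IsZero.iff_id_eq_zero, ← cancel_epi δ, hδ0, zero_comp, zero_comp]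

include hS in
lemma isZero_succ_X₁_of_isZero (h2 : IsZero ((F.rightDerived (n + 1)).obj S.X₂))
    (h3 : IsZero ((F.rightDerived n).obj S.X₃)) : IsZero ((F.rightDerived (n + 1)).obj S.X₁) := by
  obtain ⟨-, δ, ⟨w₃, ex₃⟩, ⟨w₁, ex₁⟩⟩ := RDPlus.rightDerived_homologySequence F S hS n
  have hδ : Epi δ := ex₁.epi_f (h2.eq_of_tgt _ _)
  exact IsZero.of_epi δ h3

include hS in
lemma isZero_X₃_of_isZero (h2 : IsZero ((F.rightDerived n).obj S.X₂))
    (h1 : IsZero ((F.rightDerived (n + 1)).obj S.X₁)) : IsZero ((F.rightDerived n).obj S.X₃) := by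
  obtain ⟨-, δ, ⟨w₃, ex₃⟩, ⟨w₁, ex₁⟩⟩ := RDPlus.rightDerived_homologySequence F S hS n
  have hδ : Mono δ := ex₃.mono_g (h2.eq_of_src _ _)
  exact IsZero.of_mono δ h1

end general

universe u

variable {X : TopCat.{u}} (U : Opens X)

/-- naturality of `homEquiv` in the sheaf -/
lemma homEquiv_comp {W V : Opens X} (hWV : W ≤ V) (hW : (L U).obj ((R U).obj V) = W)
    {F G : CohTop.Ab X} (φ : F ⟶ G)
    (τ : CohCx.freeSheaf (Opens.grothendieckTopology X) V ⟶ (LocCohZ.sectSuppF U).obj F) :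
    homEquiv U hWV hW G (τ ≫ (LocCohZ.sectSuppF U).map φ) = homEquiv U hWV hW F τ ≫ φ := by
  change cokernel.desc (ιZ hWV) ((τ ≫ (LocCohZ.sectSuppF U).map φ) ≫ κ U G) _ =
    cokernel.desc (ιZ hWV) (τ ≫ κ U F) _ ≫ φ
  rw [← cancel_epi (cokernel.π (ιZ hWV)), cokernel.π_desc, cokernel.π_desc_assoc, Category.assoc,
    sectSuppF_map_κ, Category.assoc]

lemma π_homEquiv {W V : Opens X} (hWV : W ≤ V) (hW : (L U).obj ((R U).obj V) = W)
    {F : CohTop.Ab X}
    (τ : CohCx.freeSheaf (Opens.grothendieckTopology X) V ⟶ (LocCohZ.sectSuppF U).obj F) :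
    cokernel.π (ιZ hWV) ≫ homEquiv U hWV hW F τ = τ ≫ κ U F :=
  cokernel.π_desc _ _ _

instance preservesFiniteLimits_pull_incl : PreservesFiniteLimits (CohTop.pull (CohCx.incl U)) :=
  preservesFiniteLimits_of_natIso (pullIso U).symm

lemma preservesMono_push {Y Y' : TopCat.{u}} (g : Y ⟶ Y') :
    (CohTop.push g).PreservesMonomorphisms := inferInstance

lemma mono_pullPush_map {F G : CohTop.Ab X} (f : F ⟶ G) [Mono f] :
    Mono ((CohTop.pull (CohCx.incl U) ⋙ CohTop.push (CohCx.incl U)).map f) := by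
  have h1 : Mono ((CohTop.pull (CohCx.incl U)).map f) := inferInstance
  have h2 : (CohTop.push (CohCx.incl U)).PreservesMonomorphisms := preservesMono_push _
  exact (CohTop.push (CohCx.incl U)).map_mono ((CohTop.pull (CohCx.incl U)).map f)

lemma sectSuppF_map_comp_zero {F G H : CohTop.Ab X} (f : F ⟶ G) (g : G ⟶ H) (w : f ≫ g = 0) :
    (LocCohZ.sectSuppF U).map f ≫ (LocCohZ.sectSuppF U).map g = 0 := by
  rw [← Functor.map_comp, w, Functor.map_zero]

/-- `Γ_Z` preserves kernels of monomorphisms' cokernels (left exactness, explicit form) -/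
noncomputable def sectSuppF_isLimit {F G H : CohTop.Ab X} (f : F ⟶ G) (g : G ⟶ H) (w : f ≫ g = 0)
    (hf : IsLimit (KernelFork.ofι f w)) [Mono f] :
    IsLimit (KernelFork.ofι ((LocCohZ.sectSuppF U).map f) (sectSuppF_map_comp_zero U f g w)) := by
  have hΦ := mono_pullPush_map U f
  have key : ∀ {M : CohTop.Ab X} (σ : M ⟶ (LocCohZ.sectSuppF U).obj G)
      (hσ : σ ≫ (LocCohZ.sectSuppF U).map g = 0), (σ ≫ κ U G) ≫ g = 0 := by
    intro M σ hσ
    rw [Category.assoc, ← sectSuppF_map_κ, reassoc_of% hσ, zero_comp]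
  have fac : ∀ {M : CohTop.Ab X} (σ : M ⟶ (LocCohZ.sectSuppF U).obj G)
      (hσ : σ ≫ (LocCohZ.sectSuppF U).map g = 0),
      hf.lift (KernelFork.ofι (σ ≫ κ U G) (key σ hσ)) ≫ f = σ ≫ κ U G := fun σ hσ =>
    hf.fac (KernelFork.ofι (σ ≫ κ U G) (key σ hσ)) WalkingParallelPair.zero
  have hη : ∀ {M : CohTop.Ab X} (σ : M ⟶ (LocCohZ.sectSuppF U).obj G)
      (hσ : σ ≫ (LocCohZ.sectSuppF U).map g = 0),
      hf.lift (KernelFork.ofι (σ ≫ κ U G) (key σ hσ)) ≫ (η U).app F = 0 := by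
    intro M σ hσ
    rw [← cancel_mono ((CohTop.pull (CohCx.incl U) ⋙ CohTop.push (CohCx.incl U)).map f),
      zero_comp, Category.assoc]
    have h1 := (η U).naturality f
    dsimp only [Functor.id_map] at h1
    rw [← h1, reassoc_of% (fac σ hσ), κ_η, comp_zero]
  refine KernelFork.IsLimit.ofι _ _
    (fun {M} σ hσ => liftκ U (hf.lift (KernelFork.ofι (σ ≫ κ U G) (key σ hσ))) (hη σ hσ)) ?_ ?_
  · intro M σ hσ
    rw [← cancel_mono (κ U G), Category.assoc, sectSuppF_map_κ, liftκ_κ_assoc]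
    exact fac σ hσ
  · intro M σ hσ m hm
    have : Mono ((LocCohZ.sectSuppF U).map f ≫ κ U G) := by
      rw [sectSuppF_map_κ]
      infer_instance
    rw [← cancel_mono ((LocCohZ.sectSuppF U).map f ≫ κ U G), reassoc_of% hm, sectSuppF_map_κ,
      liftκ_κ_assoc]
    exact (fac σ hσ).symm

/-- `Γ_Z` is left exact -/
instance preservesFiniteLimits_sectSuppF : PreservesFiniteLimits (LocCohZ.sectSuppF U) := by
  rw [Functor.preservesFiniteLimits_iff_forall_exact_map_and_mono]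
  intro S hS
  have : Mono S.f := hS.mono_f
  have hmono : Mono ((LocCohZ.sectSuppF U).map S.f) := by
    have h : Mono ((LocCohZ.sectSuppF U).map S.f ≫ κ U S.X₂) := by
      rw [sectSuppF_map_κ]
      infer_instance
    exact mono_of_mono _ (κ U S.X₂)
  exact ⟨ShortComplex.exact_of_f_is_kernel _ (sectSuppF_isLimit U S.f S.g S.zero hS.fIsKernel), hmono⟩

/-- Key local lifting: if `H^1_Z(V', F) → H^1(V', F)` is injective for all `V'`, then `Γ_Z` preserves
the epimorphism of a short exact sequence `0 → F → G → H → 0`. -/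
theorem epi_sectSuppF_map (S : ShortComplex (CohTop.Ab X)) (hS : S.ShortExact)
    (hinj : ∀ V : Opens X, Function.Injective (LocCohZ.toHU S.X₁ 1 (inf_le_left : V ⊓ U ≤ V))) :
    Epi ((LocCohZ.sectSuppF U).map S.g) := by
  have hg : Epi S.g := hS.epi_g
  have hloc : TopCat.Presheaf.IsLocallySurjective S.g.hom :=
    (TopCat.Sheaf.isLocallySurjective_iff_epi S.g).2 hg
  rw [TopCat.Presheaf.isLocallySurjective_iff] at hloc
  refine (TopCat.Sheaf.isLocallySurjective_iff_epi ((LocCohZ.sectSuppF U).map S.g)).1 ?_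
  rw [TopCat.Presheaf.isLocallySurjective_iff]
  intro V t x hx
  -- the section `t` as a morphism
  let τ : CohCx.freeSheaf (Opens.grothendieckTopology X) V ⟶ (LocCohZ.sectSuppF U).obj S.X₃ :=
    CohFree.ofSect (Opens.grothendieckTopology X) V _ t
  let q : CohCx.freeSheaf (Opens.grothendieckTopology X) V ⟶ S.X₃ := τ ≫ κ U S.X₃
  -- lift `q` locally
  obtain ⟨V', hV', ⟨s', hs'⟩, hxV'⟩ := hloc V
    (CohFree.evalGen (Opens.grothendieckTopology X) V S.X₃ q) x hx
  let σ₀ : CohCx.freeSheaf (Opens.grothendieckTopology X) V' ⟶ S.X₂ :=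
    CohFree.ofSect (Opens.grothendieckTopology X) V' _ s'
  have hσ₀ : σ₀ ≫ S.g = ιZ hV' ≫ q := by
    apply (CohFree.homEquivSect (Opens.grothendieckTopology X) V' S.X₃).injective
    rw [CohFree.homEquivSect_apply, CohFree.homEquivSect_apply, evalGen_comp,
      CohFree.evalGen_ofSect, CohFree.evalGen_freeSheafMap_comp]
    exact hs'
  -- restrict to `V'`
  let τ' : CohCx.freeSheaf (Opens.grothendieckTopology X) V' ⟶ (LocCohZ.sectSuppF U).obj S.X₃ :=
    ιZ hV' ≫ τ
  let ψ : LocCohZ.zq (inf_le_left : V' ⊓ U ≤ V') ⟶ S.X₃ :=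
    homEquiv U (inf_le_left : V' ⊓ U ≤ V') (LR_eq U V') S.X₃ τ'
  have hψ : cokernel.π (ιZ (inf_le_left : V' ⊓ U ≤ V')) ≫ ψ = σ₀ ≫ S.g := by
    rw [hσ₀]
    exact (π_homEquiv U _ _ τ').trans (Category.assoc _ _ _)
  -- the class `δ ψ` dies in `H^1(V', F)`, hence is zero
  have hx0 : (Ext.mk₀ ψ).comp hS.extClass (zero_add 1) = 0 := by
    apply hinj V'
    rw [map_zero]
    change (Ext.mk₀ (cokernel.π (ιZ (inf_le_left : V' ⊓ U ≤ V')))).comp
      ((Ext.mk₀ ψ).comp hS.extClass (zero_add 1)) (zero_add 1) = 0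
    rw [← Ext.comp_assoc_of_second_deg_zero, Ext.mk₀_comp_mk₀, hψ, ← Ext.mk₀_comp_mk₀,
      Ext.comp_assoc_of_second_deg_zero, hS.comp_extClass, Ext.comp_zero]
  obtain ⟨x₂, hx₂⟩ := Ext.covariant_sequence_exact₃ _ hS (Ext.mk₀ ψ) rfl hx0
  obtain ⟨σt, rfl⟩ := (Ext.mk₀_bijective _ _).2 x₂
  rw [Ext.mk₀_comp_mk₀] at hx₂
  have hσt : σt ≫ S.g = ψ := (Ext.mk₀_bijective _ _).1 hx₂
  -- the lift as a section of `Γ_Z G`
  let σ : CohCx.freeSheaf (Opens.grothendieckTopology X) V' ⟶ (LocCohZ.sectSuppF U).obj S.X₂ :=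
    (homEquiv U (inf_le_left : V' ⊓ U ≤ V') (LR_eq U V') S.X₂).symm σt
  have hσ : σ ≫ (LocCohZ.sectSuppF U).map S.g = τ' := by
    apply (homEquiv U (inf_le_left : V' ⊓ U ≤ V') (LR_eq U V') S.X₃).injective
    rw [homEquiv_comp, AddEquiv.apply_symm_apply]
    exact hσt
  refine ⟨V', hV', ⟨CohFree.evalGen (Opens.grothendieckTopology X) V' _ σ, ?_⟩, hxV'⟩
  have h1 := congrArg (CohFree.evalGen (Opens.grothendieckTopology X) V' _) hσ
  rw [evalGen_comp] at h1
  refine h1.trans ?_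
  refine (CohFree.evalGen_freeSheafMap_comp _ (homOfLE hV') _ τ).trans ?_
  rw [CohFree.evalGen_ofSect]
  rfl

/-- the short exact sequence `0 → F → I → I/F → 0` with `I` injective -/
noncomputable def injSES (F : CohTop.Ab X) : ShortComplex (CohTop.Ab X) :=
  ShortComplex.mk (Injective.ι F) (cokernel.π (Injective.ι F)) (cokernel.condition _)

lemma injSES_shortExact (F : CohTop.Ab X) : (injSES F).ShortExact :=
  RDPlus.shortExact_cokernel (Injective.ι F)

instance (F : CohTop.Ab X) : Injective (injSES F).X₂ := inferInstanceAs (Injective (Injective.under F))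

/-- injectivity of `H^{n+1}_Z(V, Q) → H^{n+1}(V, Q)` from that of `H^{n+2}_Z(V, F) → H^{n+2}(V, F)`
by dimension shifting -/
lemma toHU_injective_shift (S : ShortComplex (CohTop.Ab X)) (hS : S.ShortExact) [Injective S.X₂]
    {W V : Opens X} (h : W ≤ V) (n : ℕ)
    (hinj : Function.Injective (LocCohZ.toHU S.X₁ (n + 2) h)) :
    Function.Injective (LocCohZ.toHU S.X₃ (n + 1) h) := by
  rw [injective_iff_map_eq_zero]
  intro y hy
  have hy' : (Ext.mk₀ (cokernel.π (ιZ h))).comp (y : Ext.{u} (LocCohZ.zq h) S.X₃ (n + 1))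
      (zero_add (n + 1)) = 0 := hy
  have hx : (y : Ext.{u} (LocCohZ.zq h) S.X₃ (n + 1)).comp hS.extClass (rfl : n + 1 + 1 = n + 2) = 0 := by
    apply hinj
    rw [map_zero]
    change (Ext.mk₀ (cokernel.π (ιZ h))).comp
      ((y : Ext.{u} (LocCohZ.zq h) S.X₃ (n + 1)).comp hS.extClass (rfl : n + 1 + 1 = n + 2))
      (zero_add (n + 2)) = 0
    rw [← Ext.comp_assoc (a₁₂ := n + 1) _ _ _ (by omega) (by omega) (by omega), hy', Ext.zero_comp]
  obtain ⟨y₂, hy₂⟩ := Ext.covariant_sequence_exact₃ _ hS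
    (y : Ext.{u} (LocCohZ.zq h) S.X₃ (n + 1)) rfl hx
  rw [← hy₂, Ext.eq_zero_of_injective y₂, Ext.zero_comp]

/-- **P(N)**: if `ℋ^i_Z F = 0` for `0 < i < N` and `H^N_Z(V,F) → H^N(V,F)` is injective for all opens
`V`, then `ℋ^N_Z F = 0` (`N ≥ 1`). -/
theorem HZsh_isZero_of_toHU_injective (m : ℕ) : ∀ F : CohTop.Ab X,
    (∀ i : ℕ, 0 < i → i < m + 1 → IsZero ((LocCohZ.HZsh U i).obj F)) →
    (∀ V : Opens X, Function.Injective (LocCohZ.toHU F (m + 1) (inf_le_left : V ⊓ U ≤ V))) →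
    IsZero ((LocCohZ.HZsh U (m + 1)).obj F) := by
  induction m with
  | zero =>
    intro F _ hinj
    have hS := injSES_shortExact F
    refine isZero_succ_X₁_of_epi (LocCohZ.sectSuppF U) (injSES F) hS 0
      (Functor.isZero_rightDerived_obj_injective_succ _ 0 _) ?_
    have hepi : Epi ((LocCohZ.sectSuppF U).map (injSES F).g) := epi_sectSuppF_map U (injSES F) hS hinj
    have hnat := (LocCohZ.sectSuppF U).rightDerivedZeroIsoSelf.hom.naturality (injSES F).g
    have : Epi (((LocCohZ.sectSuppF U).rightDerived 0).map (injSES F).g ≫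
        (LocCohZ.sectSuppF U).rightDerivedZeroIsoSelf.hom.app (injSES F).X₃) := by
      rw [hnat]
      infer_instance
    have h4 : ((LocCohZ.sectSuppF U).rightDerived 0).map (injSES F).g =
        (((LocCohZ.sectSuppF U).rightDerived 0).map (injSES F).g ≫
          (LocCohZ.sectSuppF U).rightDerivedZeroIsoSelf.hom.app (injSES F).X₃) ≫
        (LocCohZ.sectSuppF U).rightDerivedZeroIsoSelf.inv.app (injSES F).X₃ := by
      rw [Category.assoc, Iso.hom_inv_id_app, Category.comp_id]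
    rw [h4]
    exact epi_comp _ _
  | succ m ih =>
    intro F hlow hinj
    have hS := injSES_shortExact F
    refine isZero_succ_X₁_of_isZero (LocCohZ.sectSuppF U) (injSES F) hS (m + 1)
      (Functor.isZero_rightDerived_obj_injective_succ _ (m + 1) _) ?_
    refine ih (injSES F).X₃ ?_ ?_
    · intro i hi hi'
      exact isZero_X₃_of_isZero (LocCohZ.sectSuppF U) (injSES F) hS i
        (by
          obtain ⟨j, rfl⟩ : ∃ j, i = j + 1 := ⟨i - 1, by omega⟩
          exact Functor.isZero_rightDerived_obj_injective_succ _ j _)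
        (hlow (i + 1) (by omega) (by omega))
    · intro V
      exact toHU_injective_shift (injSES F) hS _ m (hinj V)

/-- surjectivity of `res^m` gives injectivity of `H^{m+1}_Z → H^{m+1}` -/
lemma toHU_injective_of_res_surjective (F : CohTop.Ab X) {W V : Opens X} (h : W ≤ V) (m : ℕ)
    (hsurj : Function.Surjective (CohTop.res F m h)) :
    Function.Injective (LocCohZ.toHU F (m + 1) h) := by
  have hS := LocCohZ.zqSeq_shortExact h
  rw [injective_iff_map_eq_zero]
  intro x₃ h0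
  have h0' : (Ext.mk₀ (LocCohZ.zqSeq h).g).comp (x₃ : Ext.{u} (LocCohZ.zqSeq h).X₃ F (m + 1))
      (zero_add (m + 1)) = 0 := h0
  obtain ⟨x₁, hx₁⟩ := Ext.contravariant_sequence_exact₃ hS F
    (x₃ : Ext.{u} (LocCohZ.zqSeq h).X₃ F (m + 1)) h0' (Nat.add_comm 1 m)
  obtain ⟨x₂, hx₂⟩ := hsurj x₁
  rw [res_apply] at hx₂
  rw [← hx₁, ← hx₂, ← Ext.comp_assoc_of_second_deg_zero, hS.extClass_comp, Ext.zero_comp]
  rfl

/-- if the restrictions `H^i(V,F) → H^i(V ∩ U,F)` are bijective for `i < N` (`N > 0`), then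
`ℋ^i_Z(F) = 0` for `i ≤ N`. -/
theorem HZsh_isZero_of_res_bijective (F : CohTop.Ab X) (N : ℕ) (hN : 0 < N)
    (h : ∀ (V : Opens X) (i : ℕ), i < N →
      Function.Bijective (CohTop.res F i (inf_le_left : V ⊓ U ≤ V))) :
    ∀ i : ℕ, i ≤ N → IsZero ((LocCohZ.HZsh U i).obj F) := by
  obtain ⟨m, rfl⟩ : ∃ m, N = m + 1 := ⟨N - 1, by omega⟩
  have h1 : ∀ i : ℕ, i ≤ m → IsZero ((LocCohZ.HZsh U i).obj F) :=
    (HZsh_isZero_iff_res F U m).2 (fun V =>
      ⟨fun i hi => h V i (by omega), (h V m (by omega)).1⟩)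
  have h2 : IsZero ((LocCohZ.HZsh U (m + 1)).obj F) :=
    HZsh_isZero_of_toHU_injective U m F (fun i _ hi => h1 i (by omega))
      (fun V => toHU_injective_of_res_surjective F _ m (h V m (by omega)).2)
  intro i hi
  rcases Nat.lt_or_ge i (m + 1) with h3 | h3
  · exact h1 i (by omega)
  · obtain rfl : i = m + 1 := by omega
    exact h2

end Groth.Agent.H18.LocCohRes
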