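import Groth.Agent.Lib.helper18.RightDerivedLES2
import Groth.Agent.Lib.helper18.NatRows
import Groth.Agent.Lib.helper18.LocCohRes2
import Groth.Agent.Lib.helper18.CohTopOpen
import Groth.Agent.Lib.helper18.FlasquePush
import Groth.Prelude.Def_CohPull

/-!
# The long exact sequence `0 → Γ_Z F → F → j_* j⁻¹ F → ℋ¹_Z F → 0`, `ℋ^{i+1}_Z ≅ R^i j_* ∘ j⁻¹`
as isomorphisms of functors.
-/

set_option autoImplicit false
set_option linter.unusedSectionVars false
open CategoryTheory CategoryTheory.Limits CategoryTheory.Abelian Opposite TopologicalSpace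

namespace Groth.Agent.H18.LocCohLES

open Groth.Agent.H18.OpenRestr Groth.Agent.H18.Flasque Groth.Agent.H18.SectSupp

universe u

variable {X : TopCat.{u}} (U : Opens X)

/-- the inclusion `Γ_Z ⟶ 𝟭` -/
noncomputable def αZ : LocCohZ.sectSuppF U ⟶ 𝟭 (CohTop.Ab X) where
  app F := κ U F
  naturality _ _ φ := sectSuppF_map_κ U φ

lemma αZ_η : αZ U ≫ η U = 0 := by
  apply NatTrans.ext
  funext F
  exact κ_η U F

/-- for a flasque sheaf, `F ⟶ j_* j⁻¹ F` is an epimorphism -/
lemma epi_η_of_isFlasque (F : CohTop.Ab X) [TopCat.Sheaf.IsFlasque F] : Epi ((η U).app F) := by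
  have h1 : Epi ((unitN U).app F) := by
    apply epi_of_sections_surjective
    intro V
    have : Epi (F.obj.map (homOfLE (LR_le U V.unop)).op) :=
      TopCat.Presheaf.IsFlasque.epi (F := F.obj) _
    exact (AddCommGrpCat.epi_iff_surjective _).1 this
  have h2 : (η U).app F = (unitN U).app F ≫
      inv ((CohTop.push (CohCx.incl U)).map ((pullIso U).hom.app F)) := by
    rw [← η_comp, Category.assoc, IsIso.hom_inv_id, Category.comp_id]
  rw [h2]
  infer_instance

lemma hex (I : CohTop.Ab X) (hI : Injective I) :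
    (ShortComplex.mk ((αZ U).app I) ((η U).app I)
      (by rw [← NatTrans.comp_app, αZ_η]; rfl)).ShortExact := by
  have : TopCat.Sheaf.IsFlasque I := isFlasque_of_injective I
  have h3 : Epi ((η U).app I) := epi_η_of_isFlasque U I
  have h1 : Mono ((αZ U).app I) := inferInstanceAs (Mono (κ U I))
  exact { exact := ShortComplex.exact_of_f_is_kernel _ (kernelIsKernel ((η U).app I))
          mono_f := h1
          epi_g := h3 }

/-- the identity functor has no higher derived functors -/
lemma isZero_rightDerived_id (F : CohTop.Ab X) (n : ℕ) (hn : 0 < n) :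
    IsZero (((𝟭 (CohTop.Ab X)).rightDerived n).obj F) :=
  CohTopOpen.isZero_rightDerived_of_exact (𝟭 (CohTop.Ab X)) F n hn

section generic

variable {Y Z : TopCat.{u}} (g : Y ⟶ Z)

attribute [local instance] CohPull.additive_pull CohPull.preservesFiniteColimits_pull

lemma additive_pullPush : (CohTop.pull g ⋙ CohTop.push g).Additive := inferInstance

lemma additive_push : (CohTop.push g).Additive := inferInstance

lemma preservesFiniteLimits_pullPush [PreservesFiniteLimits (CohTop.pull g)] :
    PreservesFiniteLimits (CohTop.pull g ⋙ CohTop.push g) := inferInstance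

/-- `R^i(g_* g⁻¹) ≅ g⁻¹ ⋙ R^i g_*` when `g⁻¹` is exact and sends injectives to `g_*`-acyclics. -/
noncomputable def RpullPushIso [PreservesFiniteLimits (CohTop.pull g)]
    (h : ∀ I : CohTop.Ab Z, Injective I → RDPlus.FAcyc (CohTop.push g) ((CohTop.pull g).obj I))
    (i : ℕ) :
    (CohTop.pull g ⋙ CohTop.push g).rightDerived i ≅ CohTop.pull g ⋙ CohTop.Rpush g i :=
  RDPlus.rightDerivedCompIso (CohTop.pull g) (CohTop.push g) h i

/-- flasque sheaves are `g_*`-acyclic -/
lemma facyc_push_of_isFlasque (F : CohTop.Ab Y) [TopCat.Sheaf.IsFlasque F] :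
    RDPlus.FAcyc (CohTop.push g) F := by
  intro q hq
  obtain ⟨q', rfl⟩ : ∃ q', q = q' + 1 := ⟨q - 1, by omega⟩
  exact isZero_Rpush_of_isFlasque g _ q'

end generic

/-- `ℋ^{i+1}_Z ≅ j⁻¹ ⋙ R^i j_*` for `i ≥ 1`. -/
noncomputable def HZshSuccIso (i : ℕ) (hi : 1 ≤ i) :
    LocCohZ.HZsh U (i + 1) ≅ CohTop.pull (CohCx.incl U) ⋙ CohTop.Rpush (CohCx.incl U) i :=
  haveI := additive_pullPush (CohCx.incl U)
  haveI := additive_push (CohCx.incl U)
  (RLES.δNatIso (αZ U) (η U) (αZ_η U) (hex U) i
    (fun F => isZero_rightDerived_id F i (by omega))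
    (fun F => isZero_rightDerived_id F (i + 1) (by omega))).symm ≪≫
  RpullPushIso (CohCx.incl U) (fun I hI => by
    have : TopCat.Sheaf.IsFlasque I := isFlasque_of_injective I
    exact RDPlus.FAcyc.of_iso _ ((pullIso U).symm.app I)
      (facyc_push_of_isFlasque (CohCx.incl U) ((CohTop.restrFunctor U).obj I))) i

/-- `ℋ¹_Z ≅ coker(F ⟶ j_* j⁻¹ F)`. -/
noncomputable def HZshOneIso : LocCohZ.HZsh U 1 ≅ cokernel (η U) :=
  haveI := additive_pullPush (CohCx.incl U)
  haveI := preservesFiniteLimits_pullPush (CohCx.incl U)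
  (RLES.cokernelIso (αZ U) (η U) (αZ_η U) (hex U)
    (fun F => isZero_rightDerived_id F 1 (by omega))).symm

end Groth.Agent.H18.LocCohLES
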