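import Groth.Agent.Lib.helper18.LocCohSS
import Groth.Agent.Lib.helper18.FlasquePush

set_option autoImplicit false
set_option linter.unusedSectionVars false
open CategoryTheory CategoryTheory.Limits CategoryTheory.Abelian Opposite TopologicalSpace

namespace Groth.Agent.H18.LocCohSS

open Groth.Agent.H18.OpenRestr Groth.Agent.H18.Flasque Groth.Agent.H18.SectSupp

universe u

variable {X : TopCat.{u}}

/-- `Hom(ℤ_V/ℤ_W, G)` is the group of sections over `V` vanishing on `W` -/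
noncomputable def zqEquiv {W V : Opens X} (h : W ≤ V) (G : CohTop.Ab X) :
    (LocCohZ.zq h ⟶ G) ≃+ (AddMonoidHom.ker (G.obj.map (homOfLE h).op).hom) where
  toFun ψ := ⟨CohFree.evalGen (Opens.grothendieckTopology X) V G (cokernel.π (ιZ h) ≫ ψ), by
    rw [AddMonoidHom.mem_ker, map_evalGen, ← Category.assoc, cokernel.condition, zero_comp, map_zero]⟩
  invFun s := cokernel.desc (ιZ h) (CohFree.ofSect (Opens.grothendieckTopology X) V G s.1) (by
    rw [ιZ_ofSect]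
    have := s.2
    rw [AddMonoidHom.mem_ker] at this
    rw [this]
    apply (CohFree.homEquivSect (Opens.grothendieckTopology X) W G).injective
    rw [CohFree.homEquivSect_apply, CohFree.evalGen_ofSect, map_zero])
  left_inv ψ := by
    rw [← cancel_epi (cokernel.π (ιZ h)), cokernel.π_desc]
    exact CohFree.ofSect_evalGen _ _ _ _
  right_inv s := by
    apply Subtype.ext
    change CohFree.evalGen (Opens.grothendieckTopology X) V G (cokernel.π (ιZ h) ≫ cokernel.desc _ _ _) = s.1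
    rw [cokernel.π_desc, CohFree.evalGen_ofSect]
  map_add' ψ ψ' := by
    apply Subtype.ext
    change CohFree.evalGen (Opens.grothendieckTopology X) V G (cokernel.π (ιZ h) ≫ (ψ + ψ')) = _
    rw [Preadditive.comp_add, map_add]
    rfl

lemma zqEquiv_apply_coe {W V : Opens X} (h : W ≤ V) (G : CohTop.Ab X) (ψ : LocCohZ.zq h ⟶ G) :
    (zqEquiv h G ψ).1 = CohFree.evalGen (Opens.grothendieckTopology X) V G (cokernel.π (ιZ h) ≫ ψ) := rfl

lemma zqEquiv_comp {W V : Opens X} (h : W ≤ V) {G G' : CohTop.Ab X} (ψ : LocCohZ.zq h ⟶ G) (φ : G ⟶ G') :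
    (zqEquiv h G' (ψ ≫ φ)).1 = (φ.hom.app (op V)).hom (zqEquiv h G ψ).1 := by
  rw [zqEquiv_apply_coe, zqEquiv_apply_coe, ← Category.assoc, evalGen_comp]

variable {Y : TopCat.{u}} (f : X ⟶ Y)

/-- sections of `f_* F` over `⊤` vanishing on `V` are sections of `F` over `⊤` vanishing on `f⁻¹ V` -/
def pushKerEquiv (V : Opens Y) (F : CohTop.Ab X) :
    (AddMonoidHom.ker (((CohTop.push f).obj F).obj.map (homOfLE (le_top : V ≤ ⊤)).op).hom) ≃+
      (AddMonoidHom.ker (F.obj.map (homOfLE (le_top : (Opens.map f).obj V ≤ ⊤)).op).hom) where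
  toFun s := ⟨s.1, s.2⟩
  invFun s := ⟨s.1, s.2⟩
  left_inv s := rfl
  right_inv s := rfl
  map_add' s s' := rfl

/-- `Hom_Y(ℤ_Y/ℤ_V, f_* F) ≃ Hom_X(ℤ_X/ℤ_{f⁻¹V}, F)` -/
noncomputable def pushZqEquiv (V : Opens Y) (F : CohTop.Ab X) :
    (LocCohZ.zq (le_top : V ≤ ⊤) ⟶ (CohTop.push f).obj F) ≃+
      (LocCohZ.zq (le_top : (Opens.map f).obj V ≤ ⊤) ⟶ F) :=
  ((zqEquiv (le_top : V ≤ ⊤) ((CohTop.push f).obj F)).trans (pushKerEquiv f V F)).trans
    (zqEquiv (le_top : (Opens.map f).obj V ≤ ⊤) F).symm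

/-- `f_* ⋙ Hom_Y(ℤ_Y/ℤ_V, -) ≅ Hom_X(ℤ_X/ℤ_{f⁻¹V}, -)` -/
noncomputable def pushZqNatIso (V : Opens Y) :
    CohTop.push f ⋙ ExtDer.hF (LocCohZ.zq (le_top : V ≤ ⊤)) ≅
      ExtDer.hF (LocCohZ.zq (le_top : (Opens.map f).obj V ≤ ⊤)) :=
  NatIso.ofComponents (fun F => (pushZqEquiv f V F).toAddCommGrpIso) (fun {F F'} φ => by
    ext (ψ : LocCohZ.zq (le_top : V ≤ ⊤) ⟶ (CohTop.push f).obj F)
    change (zqEquiv (le_top : (Opens.map f).obj V ≤ ⊤) F').symm
        (pushKerEquiv f V F' (zqEquiv (le_top : V ≤ ⊤) ((CohTop.push f).obj F') (ψ ≫ (CohTop.push f).map φ))) =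
      (zqEquiv (le_top : (Opens.map f).obj V ≤ ⊤) F).symm
        (pushKerEquiv f V F (zqEquiv (le_top : V ≤ ⊤) ((CohTop.push f).obj F) ψ)) ≫ φ
    rw [AddEquiv.symm_apply_eq]
    apply Subtype.ext
    rw [zqEquiv_comp, AddEquiv.apply_symm_apply]
    exact zqEquiv_comp (le_top : V ≤ ⊤) ψ ((CohTop.push f).map φ))

end Groth.Agent.H18.LocCohSS
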