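import Groth.Agent.Lib.helper18.LocCohDepth

set_option autoImplicit false
set_option linter.unusedSectionVars false
open CategoryTheory CategoryTheory.Limits CategoryTheory.Abelian Opposite TopologicalSpace

namespace Groth.Agent.H18.LocCohRes

open Groth.Agent.H18.OpenRestr Groth.Agent.H18.Flasque Groth.Agent.H18.SectSupp Groth.Agent.H18.CohTopH

universe u

variable {X : TopCat.{u}}

section pair

variable (F : CohTop.Ab X) {W V : Opens X} (h : W ≤ V)

lemma res_apply (i : ℕ) (x : CohTop.HU F i V) :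
    CohTop.res F i h x =
      (Ext.mk₀ (LocCohZ.zqSeq h).f).comp (x : Ext.{u} (LocCohZ.zqSeq h).X₂ F i) (zero_add i) := rfl

/-- vanishing of `H^i_Z` in degrees `≤ N` in terms of restriction maps -/
theorem HZ_subsingleton_iff (N : ℕ) :
    (∀ i : ℕ, i ≤ N → Subsingleton (LocCohZ.HZ F i h)) ↔
      (∀ i : ℕ, i < N → Function.Bijective (CohTop.res F i h)) ∧
        Function.Injective (CohTop.res F N h) := by
  have hS := LocCohZ.zqSeq_shortExact h
  have hinj : (∀ i : ℕ, i ≤ N → Subsingleton (LocCohZ.HZ F i h)) →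
      ∀ i : ℕ, i ≤ N → Function.Injective (CohTop.res F i h) := by
    intro hz i hi
    rw [injective_iff_map_eq_zero]
    intro x hx
    obtain ⟨x₁, rfl⟩ := Ext.contravariant_sequence_exact₂ hS F
      (x : Ext.{u} (LocCohZ.zqSeq h).X₂ F i) hx
    have : Subsingleton (Ext.{u} (LocCohZ.zqSeq h).X₃ F i) := hz i hi
    rw [Subsingleton.elim x₁ 0, Ext.comp_zero]
    rfl
  constructor
  · intro hz
    refine ⟨fun i hi => ⟨hinj hz i hi.le, ?_⟩, hinj hz N le_rfl⟩
    intro y
    have : Subsingleton (Ext.{u} (LocCohZ.zqSeq h).X₃ F (1 + i)) := hz (1 + i) (by omega)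
    obtain ⟨x₂, hx₂⟩ := Ext.contravariant_sequence_exact₁ hS F
      (y : Ext.{u} (LocCohZ.zqSeq h).X₁ F i) (rfl : 1 + i = 1 + i) (Subsingleton.elim _ _)
    exact ⟨x₂, hx₂⟩
  · rintro ⟨hbij, hinjN⟩ i hi
    have hi' : Function.Injective (CohTop.res F i h) := by
      rcases Nat.lt_or_ge i N with h1 | h1
      · exact (hbij i h1).1
      · obtain rfl : i = N := by omega
        exact hinjN
    refine ⟨fun a b => ?_⟩
    suffices H : ∀ x₃ : Ext.{u} (LocCohZ.zqSeq h).X₃ F i, x₃ = 0 from (H a).trans (H b).symm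
    intro x₃
    have h0 : (Ext.mk₀ (LocCohZ.zqSeq h).g).comp x₃ (zero_add i) = 0 := by
      have e1 : (Ext.mk₀ (LocCohZ.zqSeq h).f).comp
          ((Ext.mk₀ (LocCohZ.zqSeq h).g).comp x₃ (zero_add i)) (zero_add i) = 0 := by
        rw [← Ext.comp_assoc_of_second_deg_zero, Ext.mk₀_comp_mk₀,
          (LocCohZ.zqSeq h).zero, Ext.mk₀_zero, Ext.zero_comp]
      exact hi' (e1.trans (map_zero (CohTop.res F i h)).symm)
    cases i with
    | zero =>
      have : Epi (LocCohZ.zqSeq h).g := hS.epi_g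
      exact Ext.precomp_mk₀_injective_of_epi F (LocCohZ.zqSeq h).g (h0.trans (map_zero _).symm)
    | succ i' =>
      obtain ⟨x₁, rfl⟩ := Ext.contravariant_sequence_exact₃ hS F x₃ h0 (Nat.add_comm 1 i')
      obtain ⟨x₂, hx₂⟩ := (hbij i' (by omega)).2 x₁
      rw [res_apply] at hx₂
      rw [← hx₂, ← Ext.comp_assoc_of_second_deg_zero, hS.extClass_comp, Ext.zero_comp]

end pair

/-- `ℋ^i_Z(F) = 0` for `i ≤ N` iff restrictions `H^i(V,F) → H^i(V ∩ U,F)` are bijective for `i < N`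
and injective for `i = N`. -/
theorem HZsh_isZero_iff_res (F : CohTop.Ab X) (U : Opens X) (N : ℕ) :
    (∀ i : ℕ, i ≤ N → IsZero ((LocCohZ.HZsh U i).obj F)) ↔
      ∀ V : Opens X, (∀ i : ℕ, i < N → Function.Bijective (CohTop.res F i (inf_le_left : V ⊓ U ≤ V))) ∧
        Function.Injective (CohTop.res F N (inf_le_left : V ⊓ U ≤ V)) := by
  have h1 : (∀ i : ℕ, i ≤ N → IsZero ((LocCohZ.HZsh U i).obj F)) ↔
      (∀ i : ℕ, i < N + 1 → IsZero ((LocCohZ.HZsh U i).obj F)) :=
    ⟨fun h i hi => h i (by omega), fun h i hi => h i (by omega)⟩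
  rw [h1, LocCohDepth.depth_iff F U (N + 1)]
  constructor
  · intro h V
    exact (HZ_subsingleton_iff F (inf_le_left : V ⊓ U ≤ V) N).1 (fun i hi => h V i (by omega))
  · intro h V i hi
    exact (HZ_subsingleton_iff F (inf_le_left : V ⊓ U ≤ V) N).2 (h V) i (by omega)

end Groth.Agent.H18.LocCohRes
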