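import Groth.Prelude.Def_CohCx
import Mathlib.CategoryTheory.Sites.MayerVietorisSquare
import Mathlib.Algebra.Homology.ExactSequence
import Mathlib.Algebra.Homology.DerivedCategory.SingleTriangle

set_option autoImplicit false
set_option linter.unusedSectionVars false
open CategoryTheory CategoryTheory.Limits CategoryTheory.Pretriangulated Opposite

namespace Groth.Agent.H18.MVDer

universe v u

section Tri

variable {D : Type u} [Category.{v} D] [Preadditive D] [HasZeroObject D] [HasShift D ℤ]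
  [∀ n : ℤ, (shiftFunctor D n).Additive] [Pretriangulated D]
  (T : Triangle D) (hT : T ∈ distTriang D) (K : D)

/-- the connecting map `Hom(T₁, K[n]) → Hom(T₃, K[n+1])` -/
noncomputable def conn (n : ℤ) : (T.obj₁ ⟶ K⟦n⟧) →+ (T.obj₃ ⟶ K⟦n + 1⟧) :=
  AddMonoidHom.mk' (fun x => T.mor₃ ≫ x⟦(1 : ℤ)⟧' ≫ (shiftFunctorAdd' D n 1 (n + 1) rfl).inv.app K)
    (fun x y => by
      rw [Functor.map_add, Preadditive.add_comp, Preadditive.comp_add])

lemma conn_apply (n : ℤ) (x : T.obj₁ ⟶ K⟦n⟧) :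
    conn T K n x = T.mor₃ ≫ x⟦(1 : ℤ)⟧' ≫ (shiftFunctorAdd' D n 1 (n + 1) rfl).inv.app K := rfl

include hT

lemma conn_comp (n : ℤ) (y : T.obj₂ ⟶ K⟦n⟧) : conn T K n (T.mor₁ ≫ y) = 0 := by
  rw [conn_apply, Functor.map_comp, Category.assoc, ← Category.assoc T.mor₃,
    comp_distTriang_mor_zero₃₁ T hT, zero_comp]

lemma comp_conn (n : ℤ) (x : T.obj₁ ⟶ K⟦n⟧) : T.mor₂ ≫ conn T K n x = 0 := by
  rw [conn_apply, ← Category.assoc, comp_distTriang_mor_zero₂₃ T hT, zero_comp]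

lemma exact_two (n : ℤ) (y : T.obj₂ ⟶ K⟦n⟧) (hy : T.mor₁ ≫ y = 0) :
    ∃ z : T.obj₃ ⟶ K⟦n⟧, y = T.mor₂ ≫ z :=
  Triangle.yoneda_exact₂ T hT y hy

lemma exists_rot {Z : D} (x' : T.obj₁⟦(1 : ℤ)⟧ ⟶ Z) (h : T.mor₃ ≫ x' = 0) :
    ∃ g : T.obj₂⟦(1 : ℤ)⟧ ⟶ Z, x' = (-(T.mor₁⟦(1 : ℤ)⟧')) ≫ g :=
  Triangle.yoneda_exact₃ T.rotate (rot_of_distTriang T hT) x' h

lemma exact_one (n : ℤ) (x : T.obj₁ ⟶ K⟦n⟧) (hx : conn T K n x = 0) :
    ∃ y : T.obj₂ ⟶ K⟦n⟧, x = T.mor₁ ≫ y := by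
  have h1 : T.mor₃ ≫ x⟦(1 : ℤ)⟧' = 0 := by
    rw [conn_apply, ← Category.assoc] at hx
    rw [← cancel_mono ((shiftFunctorAdd' D n 1 (n + 1) rfl).inv.app K), hx, zero_comp]
  obtain ⟨g, hg'⟩ := exists_rot T hT (x⟦(1 : ℤ)⟧') h1
  obtain ⟨y, hy⟩ := (shiftFunctor D (1 : ℤ)).map_surjective g
  refine ⟨-y, ?_⟩
  apply (shiftFunctor D (1 : ℤ)).map_injective
  rw [hg', ← hy, Functor.map_comp, Functor.map_neg, Preadditive.neg_comp, Preadditive.comp_neg]

lemma exact_three (n : ℤ) (z : T.obj₃ ⟶ K⟦n + 1⟧) (hz : T.mor₂ ≫ z = 0) :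
    ∃ x : T.obj₁ ⟶ K⟦n⟧, z = conn T K n x := by
  obtain ⟨g, hg⟩ := Triangle.yoneda_exact₃ T hT z hz
  obtain ⟨x, hx⟩ := (shiftFunctor D (1 : ℤ)).map_surjective
    (g ≫ (shiftFunctorAdd' D n 1 (n + 1) rfl).hom.app K)
  refine ⟨x, ?_⟩
  rw [conn_apply, hx, Category.assoc, Iso.hom_inv_id_app, Category.comp_id, hg]

end Tri

section Ab

lemma exact_mk₂ {A B E : Type u} [AddCommGroup A] [AddCommGroup B] [AddCommGroup E]
    (f : A →+ B) (g : B →+ E) (w : ∀ a, g (f a) = 0) (h : ∀ b, g b = 0 → ∃ a, f a = b) :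
    (ComposableArrows.mk₂ (AddCommGrpCat.ofHom f) (AddCommGrpCat.ofHom g)).Exact := by
  have hw : AddCommGrpCat.ofHom f ≫ AddCommGrpCat.ofHom g = 0 := by
    ext a
    exact w a
  have hex : (ShortComplex.mk _ _ hw).Exact := by
    rw [ShortComplex.ab_exact_iff]
    intro b hb
    exact h b hb
  exact hex.exact_toComposableArrows

end Ab


section Bip

variable {A : Type u} [Category.{v} A] [Preadditive A] {D : Type*} [Category D] [Preadditive D]
  (F : A ⥤ D) [F.Additive] {X Y W : A} [HasBinaryBiproduct X Y]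

lemma map_lift_comp {M : D} (f : W ⟶ X) (g : W ⟶ Y) (y : F.obj (X ⊞ Y) ⟶ M) :
    F.map (biprod.lift f (-g)) ≫ y =
      F.map f ≫ (F.map biprod.inl ≫ y) - F.map g ≫ (F.map biprod.inr ≫ y) := by
  rw [biprod.lift_eq, Functor.map_add, Functor.map_comp, Functor.map_comp, Functor.map_neg,
    Preadditive.add_comp, Preadditive.neg_comp, Preadditive.neg_comp, Category.assoc,
    Category.assoc, sub_eq_add_neg]

lemma map_inl_desc_comp {M : D} (f : X ⟶ W) (g : Y ⟶ W) (z : F.obj W ⟶ M) :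
    F.map biprod.inl ≫ F.map (biprod.desc f g) ≫ z = F.map f ≫ z := by
  rw [← Category.assoc, ← Functor.map_comp, biprod.inl_desc]

lemma map_inr_desc_comp {M : D} (f : X ⟶ W) (g : Y ⟶ W) (z : F.obj W ⟶ M) :
    F.map biprod.inr ≫ F.map (biprod.desc f g) ≫ z = F.map g ≫ z := by
  rw [← Category.assoc, ← Functor.map_comp, biprod.inr_desc]

lemma inl_pair {M : D} (a : F.obj X ⟶ M) (b : F.obj Y ⟶ M) :
    F.map (biprod.inl : X ⟶ X ⊞ Y) ≫ (F.map biprod.fst ≫ a + F.map biprod.snd ≫ b) = a := by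
  rw [Preadditive.comp_add, ← Category.assoc, ← Category.assoc, ← Functor.map_comp,
    ← Functor.map_comp, biprod.inl_fst, biprod.inl_snd, CategoryTheory.Functor.map_id, Functor.map_zero,
    Category.id_comp, zero_comp, add_zero]

lemma inr_pair {M : D} (a : F.obj X ⟶ M) (b : F.obj Y ⟶ M) :
    F.map (biprod.inr : Y ⟶ X ⊞ Y) ≫ (F.map biprod.fst ≫ a + F.map biprod.snd ≫ b) = b := by
  rw [Preadditive.comp_add, ← Category.assoc, ← Category.assoc, ← Functor.map_comp,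
    ← Functor.map_comp, biprod.inr_fst, biprod.inr_snd, CategoryTheory.Functor.map_id, Functor.map_zero,
    Category.id_comp, zero_comp, zero_add]

lemma bip_ext {M : D} (y y' : F.obj (X ⊞ Y) ⟶ M)
    (h₁ : F.map biprod.inl ≫ y = F.map biprod.inl ≫ y')
    (h₂ : F.map biprod.inr ≫ y = F.map biprod.inr ≫ y') : y = y' := by
  have key : ∀ w : F.obj (X ⊞ Y) ⟶ M,
      w = F.map biprod.fst ≫ (F.map biprod.inl ≫ w) + F.map biprod.snd ≫ (F.map biprod.inr ≫ w) := by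
    intro w
    rw [← Category.assoc, ← Category.assoc, ← Functor.map_comp, ← Functor.map_comp,
      ← Preadditive.add_comp, ← Functor.map_add, biprod.total, CategoryTheory.Functor.map_id, Category.id_comp]
  rw [key y, key y', h₁, h₂]

end Bip

section MV

variable {C : Type u} [SmallCategory C] {J : GrothendieckTopology C}
  [HasWeakSheafify J (Type u)] [HasDerivedCategory.{u} (Sheaf J AddCommGrpCat.{u})]
  (S : J.MayerVietorisSquare) (K : DerivedCategory (Sheaf J AddCommGrpCat.{u}))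

/-- the single functor in degree zero -/
noncomputable abbrev Q : Sheaf J AddCommGrpCat.{u} ⥤ DerivedCategory (Sheaf J AddCommGrpCat.{u}) :=
  DerivedCategory.singleFunctor (Sheaf J AddCommGrpCat.{u}) 0

/-- the Mayer–Vietoris distinguished triangle -/
noncomputable abbrev TT : Triangle (DerivedCategory (Sheaf J AddCommGrpCat.{u})) :=
  S.shortComplex_shortExact.singleTriangle

lemma hTT : TT S ∈ distTriang (DerivedCategory (Sheaf J AddCommGrpCat.{u})) :=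
  S.shortComplex_shortExact.singleTriangle_distinguished

/-- the connecting homomorphism -/
noncomputable def δ (n : ℤ) : CohCx.HDU K n S.X₁ →+ CohCx.HDU K (n + 1) S.X₄ :=
  conn (TT S) K n

/-- the free sheaves -/
noncomputable abbrev Z (U : C) : Sheaf J AddCommGrpCat.{u} := CohCx.freeSheaf J U

lemma mor₁_eq : (TT S).mor₁ = (Q (J := J)).map
    (biprod.lift (CohCx.freeSheafMap J S.f₁₂) (-CohCx.freeSheafMap J S.f₁₃)) := rfl

lemma mor₂_eq : (TT S).mor₂ = (Q (J := J)).map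
    (biprod.desc (CohCx.freeSheafMap J S.f₂₄) (CohCx.freeSheafMap J S.f₃₄)) := rfl


/-- the middle object of the triangle -/
noncomputable abbrev B : Sheaf J AddCommGrpCat.{u} := Z (J := J) S.X₂ ⊞ Z (J := J) S.X₃

/-- first map of the triangle, with a clean type -/
noncomputable def m₁ : (Q (J := J)).obj (Z (J := J) S.X₁) ⟶ (Q (J := J)).obj (B S) :=
  (Q (J := J)).map (biprod.lift (CohCx.freeSheafMap J S.f₁₂) (-CohCx.freeSheafMap J S.f₁₃))

/-- second map of the triangle, with a clean type -/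
noncomputable def m₂ : (Q (J := J)).obj (B S) ⟶ (Q (J := J)).obj (Z (J := J) S.X₄) :=
  (Q (J := J)).map (biprod.desc (CohCx.freeSheafMap J S.f₂₄) (CohCx.freeSheafMap J S.f₃₄))

lemma m₁_m₂ : m₁ S ≫ m₂ S = 0 := comp_distTriang_mor_zero₁₂ _ (hTT S)

lemma δ_m₁ (n : ℤ) (y : (Q (J := J)).obj (B S) ⟶ K⟦n⟧) : δ S K n (m₁ S ≫ y) = 0 :=
  conn_comp (TT S) (hTT S) K n y

lemma m₂_δ (n : ℤ) (x : CohCx.HDU K n S.X₁) : m₂ S ≫ δ S K n x = 0 :=
  comp_conn (TT S) (hTT S) K n x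

lemma ex_two (n : ℤ) (y : (Q (J := J)).obj (B S) ⟶ K⟦n⟧) (hy : m₁ S ≫ y = 0) :
    ∃ z : CohCx.HDU K n S.X₄, y = m₂ S ≫ z :=
  exact_two (TT S) (hTT S) K n y hy

lemma ex_one (n : ℤ) (x : CohCx.HDU K n S.X₁) (hx : δ S K n x = 0) :
    ∃ y : (Q (J := J)).obj (B S) ⟶ K⟦n⟧, x = m₁ S ≫ y :=
  exact_one (TT S) (hTT S) K n x hx

lemma ex_three (n : ℤ) (z : CohCx.HDU K (n + 1) S.X₄) (hz : m₂ S ≫ z = 0) :
    ∃ x : CohCx.HDU K n S.X₁, z = δ S K n x :=
  exact_three (TT S) (hTT S) K n z hz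

lemma m₁_comp (n : ℤ) (y : (Q (J := J)).obj (B S) ⟶ K⟦n⟧) :
    m₁ S ≫ y =
      (Q (J := J)).map (CohCx.freeSheafMap J S.f₁₂) ≫ ((Q (J := J)).map biprod.inl ≫ y) -
        (Q (J := J)).map (CohCx.freeSheafMap J S.f₁₃) ≫ ((Q (J := J)).map biprod.inr ≫ y) :=
  map_lift_comp (Q (J := J)) _ _ y

lemma inl_m₂_comp (n : ℤ) (z : CohCx.HDU K n S.X₄) :
    (Q (J := J)).map (biprod.inl : Z (J := J) S.X₂ ⟶ B S) ≫ (m₂ S ≫ z) =
      (Q (J := J)).map (CohCx.freeSheafMap J S.f₂₄) ≫ z :=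
  map_inl_desc_comp (Q (J := J)) _ _ z

lemma inr_m₂_comp (n : ℤ) (z : CohCx.HDU K n S.X₄) :
    (Q (J := J)).map (biprod.inr : Z (J := J) S.X₃ ⟶ B S) ≫ (m₂ S ≫ z) =
      (Q (J := J)).map (CohCx.freeSheafMap J S.f₃₄) ≫ z :=
  map_inr_desc_comp (Q (J := J)) _ _ z

/-- glue a pair of classes on `X₂`, `X₃` to a class on the biproduct -/
noncomputable def pair (n : ℤ) (a : CohCx.HDU K n S.X₂) (b : CohCx.HDU K n S.X₃) :
    (Q (J := J)).obj (B S) ⟶ K⟦n⟧ :=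
  (Q (J := J)).map biprod.fst ≫ a + (Q (J := J)).map biprod.snd ≫ b

lemma inl_pair' (n : ℤ) (a : CohCx.HDU K n S.X₂) (b : CohCx.HDU K n S.X₃) :
    (Q (J := J)).map (biprod.inl : Z (J := J) S.X₂ ⟶ B S) ≫ pair S K n a b = a :=
  inl_pair (Q (J := J)) a b

lemma inr_pair' (n : ℤ) (a : CohCx.HDU K n S.X₂) (b : CohCx.HDU K n S.X₃) :
    (Q (J := J)).map (biprod.inr : Z (J := J) S.X₃ ⟶ B S) ≫ pair S K n a b = b :=
  inr_pair (Q (J := J)) a b

/-- the "difference of restrictions" map -/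
noncomputable abbrev diff (n : ℤ) : CohCx.HDU K n S.X₂ × CohCx.HDU K n S.X₃ →+ CohCx.HDU K n S.X₁ :=
  (CohCx.HDUres K n S.f₁₂).coprod (-(CohCx.HDUres K n S.f₁₃))

/-- the "pair of restrictions" map -/
noncomputable abbrev rest (n : ℤ) : CohCx.HDU K n S.X₄ →+ CohCx.HDU K n S.X₂ × CohCx.HDU K n S.X₃ :=
  (CohCx.HDUres K n S.f₂₄).prod (CohCx.HDUres K n S.f₃₄)

lemma diff_eq (n : ℤ) (a : CohCx.HDU K n S.X₂) (b : CohCx.HDU K n S.X₃) :
    diff S K n (a, b) = (Q (J := J)).map (CohCx.freeSheafMap J S.f₁₂) ≫ a -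
      (Q (J := J)).map (CohCx.freeSheafMap J S.f₁₃) ≫ b := by
  simp only [diff, AddMonoidHom.coprod_apply, AddMonoidHom.neg_apply, sub_eq_add_neg]
  rfl

lemma diff_comp (n : ℤ) (y : (Q (J := J)).obj (B S) ⟶ K⟦n⟧) :
    diff S K n ((Q (J := J)).map biprod.inl ≫ y, (Q (J := J)).map biprod.inr ≫ y) = m₁ S ≫ y :=
  (diff_eq S K n _ _).trans (m₁_comp S K n y).symm

lemma diff_apply (n : ℤ) (a : CohCx.HDU K n S.X₂) (b : CohCx.HDU K n S.X₃) :
    diff S K n (a, b) = m₁ S ≫ pair S K n a b := by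
  have h := diff_comp S K n (pair S K n a b)
  rw [inl_pair', inr_pair'] at h
  exact h

lemma rest_apply (n : ℤ) (z : CohCx.HDU K n S.X₄) :
    rest S K n z = ((Q (J := J)).map biprod.inl ≫ (m₂ S ≫ z),
      (Q (J := J)).map biprod.inr ≫ (m₂ S ≫ z)) := by
  rw [inl_m₂_comp, inr_m₂_comp]
  rfl

lemma exact₁ (n : ℤ) : (ComposableArrows.mk₂ (AddCommGrpCat.ofHom (rest S K n))
    (AddCommGrpCat.ofHom (diff S K n))).Exact := by
  apply exact_mk₂
  · intro z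
    rw [rest_apply, diff_comp, ← Category.assoc, m₁_m₂, zero_comp]
  · rintro ⟨a, b⟩ hab
    rw [diff_apply] at hab
    obtain ⟨z, hz⟩ := ex_two S K n (pair S K n a b) hab
    refine ⟨z, ?_⟩
    rw [rest_apply, ← hz, inl_pair', inr_pair']

lemma exact₂ (n : ℤ) : (ComposableArrows.mk₂ (AddCommGrpCat.ofHom (diff S K n))
    (AddCommGrpCat.ofHom (δ S K n))).Exact := by
  apply exact_mk₂
  · rintro ⟨a, b⟩
    rw [diff_apply]
    exact δ_m₁ S K n _
  · intro x hx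
    obtain ⟨y, hy⟩ := ex_one S K n x hx
    exact ⟨((Q (J := J)).map biprod.inl ≫ y, (Q (J := J)).map biprod.inr ≫ y),
      (diff_comp S K n y).trans hy.symm⟩

lemma exact₃ (n : ℤ) : (ComposableArrows.mk₂ (AddCommGrpCat.ofHom (δ S K n))
    (AddCommGrpCat.ofHom (rest S K (n + 1)))).Exact := by
  apply exact_mk₂
  · intro x
    rw [rest_apply, m₂_δ, comp_zero, comp_zero]
    rfl
  · intro z hz
    rw [rest_apply] at hz
    have h1 : (Q (J := J)).map (biprod.inl : Z (J := J) S.X₂ ⟶ B S) ≫ (m₂ S ≫ z) = 0 :=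
      congrArg Prod.fst hz
    have h2 : (Q (J := J)).map (biprod.inr : Z (J := J) S.X₃ ⟶ B S) ≫ (m₂ S ≫ z) = 0 :=
      congrArg Prod.snd hz
    have hz' : m₂ S ≫ z = 0 := by
      apply bip_ext (Q (J := J))
      · rw [h1, comp_zero]
      · rw [h2, comp_zero]
    obtain ⟨x, hx⟩ := ex_three S K n z hz'
    exact ⟨x, hx.symm⟩

theorem main : ∃ δ : ∀ n : ℤ, CohCx.HDU K n S.X₁ →+ CohCx.HDU K (n + 1) S.X₄,
      ∀ n : ℤ,
        (ComposableArrows.mk₂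
          (AddCommGrpCat.ofHom ((CohCx.HDUres K n S.f₂₄).prod (CohCx.HDUres K n S.f₃₄)))
          (AddCommGrpCat.ofHom ((CohCx.HDUres K n S.f₁₂).coprod (-(CohCx.HDUres K n S.f₁₃))))).Exact ∧
        (ComposableArrows.mk₂
          (AddCommGrpCat.ofHom ((CohCx.HDUres K n S.f₁₂).coprod (-(CohCx.HDUres K n S.f₁₃))))
          (AddCommGrpCat.ofHom (δ n))).Exact ∧
        (ComposableArrows.mk₂ (AddCommGrpCat.ofHom (δ n))
          (AddCommGrpCat.ofHom ((CohCx.HDUres K (n + 1) S.f₂₄).prod (CohCx.HDUres K (n + 1) S.f₃₄)))).Exact :=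
  ⟨fun n => δ S K n, fun n => ⟨exact₁ S K n, exact₂ S K n, exact₃ S K n⟩⟩

end MV

end Groth.Agent.H18.MVDer
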