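import Groth.Agent.Lib.helper18.ExtDerNat
import Groth.Agent.Lib.helper18.LocCohSS
import Groth.Prelude.Def_FreeSh
import Groth.Prelude.Def_CohCx

/-!
# The derived functors of `sheafToPresheaf` are the cohomology presheaves

For an abelian sheaf `F` on a small site, `R^p(forget)(F) ≅ (U ↦ H^p(U, F))` as presheaves.
-/

set_option autoImplicit false
set_option linter.unusedSectionVars false
open CategoryTheory CategoryTheory.Limits CategoryTheory.Abelian Opposite

namespace Groth.Agent.H18.PshDer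

universe u

variable {C : Type u} [SmallCategory C] (J : GrothendieckTopology C)

/-- the forgetful functor -/
abbrev T : Sheaf J AddCommGrpCat.{u} ⥤ (Cᵒᵖ ⥤ AddCommGrpCat.{u}) :=
  sheafToPresheaf J AddCommGrpCat.{u}

/-- evaluation at `U` -/
abbrev E (U : Cᵒᵖ) : (Cᵒᵖ ⥤ AddCommGrpCat.{u}) ⥤ AddCommGrpCat.{u} :=
  (evaluation Cᵒᵖ AddCommGrpCat.{u}).obj U

/-- restriction as a natural transformation of evaluations -/
abbrev τ {U V : Cᵒᵖ} (f : U ⟶ V) : E (C := C) U ⟶ E V := (evaluation Cᵒᵖ AddCommGrpCat.{u}).map f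

lemma ofSect_comp {V : C} {F G : Sheaf J AddCommGrpCat.{u}} (s : F.obj.obj (op V)) (g : F ⟶ G) :
    CohFree.ofSect J V F s ≫ g = CohFree.ofSect J V G ((g.hom.app (op V)).hom s) := by
  apply (CohFree.homEquivSect J V G).injective
  rw [CohFree.homEquivSect_apply, CohFree.homEquivSect_apply, CohFree.evalGen_ofSect]
  exact congrArg (g.hom.app (op V)).hom (CohFree.evalGen_ofSect J V F s)

/-- sections over `U` as `Hom(ℤ_U, -)`, naturally -/
noncomputable def σ (U : Cᵒᵖ) : T J ⋙ E U ≅ ExtDer.hF (CohCx.freeSheaf J U.unop) :=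
  NatIso.ofComponents
    (fun F => (CohFree.homEquivSect J U.unop F).symm.toAddCommGrpIso)
    (fun {F G} φ => by
      ext (s : F.obj.obj (op U.unop))
      exact (ofSect_comp J s φ).symm)

lemma σ_naturality {U V : Cᵒᵖ} (f : U ⟶ V) :
    Functor.whiskerLeft (T J) (τ f) ≫ (σ J V).hom =
      (σ J U).hom ≫ ExtDer.hFmap (CohCx.freeSheafMap J f.unop) := by
  apply NatTrans.ext
  funext F
  ext (s : F.obj.obj (op U.unop))
  change CohFree.ofSect J V.unop F ((F.obj.map f).hom s) =
    CohCx.freeSheafMap J f.unop ≫ CohFree.ofSect J U.unop F s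
  apply (CohFree.homEquivSect J V.unop F).injective
  rw [CohFree.homEquivSect_apply, CohFree.homEquivSect_apply, CohFree.evalGen_ofSect,
    CohFree.evalGen_freeSheafMap_comp, CohFree.evalGen_ofSect]
  rfl

end Groth.Agent.H18.PshDer
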