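import Groth.Agent.Lib.helper18.PshDer

set_option autoImplicit false
set_option linter.unusedSectionVars false
open CategoryTheory CategoryTheory.Limits CategoryTheory.Abelian Opposite

namespace Groth.Agent.H18.PshDer

universe u

variable {C : Type u} [SmallCategory C] (J : GrothendieckTopology C)
  (F : Sheaf J AddCommGrpCat.{u}) (p : ℕ)

lemma aux_conj {A : Type*} [Category A] {X Y X' Y' : A} (a : X ⟶ Y) (iU : X' ≅ X) (iV : Y' ≅ Y) :
    a ≫ iV.inv = iU.inv ≫ (iU.hom ≫ a ≫ iV.inv) := by simp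

/-- the complex of presheaves `forget(I^•)` -/
noncomputable abbrev KK : CochainComplex (Cᵒᵖ ⥤ AddCommGrpCat.{u}) ℕ :=
  ((T J).mapHomologicalComplex (ComplexShape.up ℕ)).obj (injectiveResolution F).cocomplex

/-- step 2+3: `(H^p K)(U) ≅ H^p(K(U))` -/
noncomputable def evalHomologyIso (U : Cᵒᵖ) :
    ((KK J F).homology p).obj U ≅
      (((T J ⋙ E U).mapHomologicalComplex (ComplexShape.up ℕ)).obj
        (injectiveResolution F).cocomplex).homology p :=
  (((KK J F).sc p).mapHomologyIso (E U)).symm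

lemma evalHomologyIso_naturality {U V : Cᵒᵖ} (f : U ⟶ V) :
    ((KK J F).homology p).map f ≫ (evalHomologyIso J F p V).hom =
      (evalHomologyIso J F p U).hom ≫
        HomologicalComplex.homologyMap ((NatTrans.mapHomologicalComplex
          (Functor.whiskerLeft (T J) (τ f)) (ComplexShape.up ℕ)).app
            (injectiveResolution F).cocomplex) p := by
  have h := ShortComplex.homologyMap_mapNatTrans ((KK J F).sc p) (τ f)
  have h' : HomologicalComplex.homologyMap ((NatTrans.mapHomologicalComplex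
      (Functor.whiskerLeft (T J) (τ f)) (ComplexShape.up ℕ)).app
        (injectiveResolution F).cocomplex) p =
      (((KK J F).sc p).mapHomologyIso (E U)).hom ≫ (τ f).app ((KK J F).sc p).homology ≫
        (((KK J F).sc p).mapHomologyIso (E V)).inv := h
  rw [h']
  exact aux_conj ((τ f).app ((KK J F).sc p).homology) (((KK J F).sc p).mapHomologyIso (E U))
    (((KK J F).sc p).mapHomologyIso (E V))


lemma five_sq {A : Type*} [Category A] {X0 X1 X2 X3 X4 X5 Y0 Y1 Y2 Y3 Y4 Y5 : A}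
    (a0 : X0 ⟶ Y0) (a1 : X1 ⟶ Y1) (a2 : X2 ⟶ Y2) (a3 : X3 ⟶ Y3) (a4 : X4 ⟶ Y4) (a5 : X5 ⟶ Y5)
    (u1 : X0 ⟶ X1) (u2 : X1 ⟶ X2) (u3 : X2 ⟶ X3) (u4 : X3 ⟶ X4) (u5 : X4 ⟶ X5)
    (v1 : Y0 ⟶ Y1) (v2 : Y1 ⟶ Y2) (v3 : Y2 ⟶ Y3) (v4 : Y3 ⟶ Y4) (v5 : Y4 ⟶ Y5)
    (h1 : a0 ≫ v1 = u1 ≫ a1) (h2 : a1 ≫ v2 = u2 ≫ a2) (h3 : a2 ≫ v3 = u3 ≫ a3)
    (h4 : a3 ≫ v4 = u4 ≫ a4) (h5 : a4 ≫ v5 = u5 ≫ a5) :
    a0 ≫ (v1 ≫ v2 ≫ v3 ≫ v4 ≫ v5) = (u1 ≫ u2 ≫ u3 ≫ u4 ≫ u5) ≫ a5 := by
  rw [reassoc_of% h1, reassoc_of% h2, reassoc_of% h3, reassoc_of% h4, h5]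
  simp only [Category.assoc]

/-- the component isomorphism `(R^p forget F)(U) ≅ H^p(U, F)` -/
noncomputable def compIso (U : Cᵒᵖ) :
    (((T J).rightDerived p).obj F).obj U ≅ (F.cohomologyPresheaf p).obj U :=
  (E U).mapIso ((injectiveResolution F).isoRightDerivedObj (T J) p) ≪≫
  evalHomologyIso J F p U ≪≫
  ((injectiveResolution F).isoRightDerivedObj (T J ⋙ E U) p).symm ≪≫
  (ExtDer.rightDerivedIsoOfIso (σ J U) p).app F ≪≫
  (ExtDer.natIso (CohCx.freeSheaf J U.unop) p).app F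

lemma compIso_naturality {U V : Cᵒᵖ} (f : U ⟶ V) :
    (((T J).rightDerived p).obj F).map f ≫ (compIso J F p V).hom =
      (compIso J F p U).hom ≫ (F.cohomologyPresheaf p).map f := by
  have h1 : (((T J).rightDerived p).obj F).map f ≫
      ((injectiveResolution F).isoRightDerivedObj (T J) p).hom.app V =
      ((injectiveResolution F).isoRightDerivedObj (T J) p).hom.app U ≫
        ((KK J F).homology p).map f :=
    ((injectiveResolution F).isoRightDerivedObj (T J) p).hom.naturality f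
  have h2 := evalHomologyIso_naturality J F p f
  have h3 : HomologicalComplex.homologyMap ((NatTrans.mapHomologicalComplex
          (Functor.whiskerLeft (T J) (τ f)) (ComplexShape.up ℕ)).app
            (injectiveResolution F).cocomplex) p ≫
        ((injectiveResolution F).isoRightDerivedObj (T J ⋙ E V) p).inv =
      ((injectiveResolution F).isoRightDerivedObj (T J ⋙ E U) p).inv ≫
        (NatTrans.rightDerived (Functor.whiskerLeft (T J) (τ f)) p).app F := by
    rw [InjectiveResolution.rightDerived_app_eq (Functor.whiskerLeft (T J) (τ f))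
      (injectiveResolution F) p, Iso.inv_hom_id_assoc]
    rfl
  have h4 : (NatTrans.rightDerived (Functor.whiskerLeft (T J) (τ f)) p).app F ≫
        (NatTrans.rightDerived (σ J V).hom p).app F =
      (NatTrans.rightDerived (σ J U).hom p).app F ≫
        (NatTrans.rightDerived (ExtDer.hFmap (CohCx.freeSheafMap J f.unop)) p).app F := by
    rw [← NatTrans.comp_app, ← NatTrans.comp_app, ← NatTrans.rightDerived_comp,
      ← NatTrans.rightDerived_comp, σ_naturality]
  have h5 := ExtDer.natIso_naturality_left (CohCx.freeSheafMap J f.unop) F p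
  exact five_sq _ _ _ _ _ _ _ _ _ _ _ _ _ _ _ _ h1 h2 h3 h4 h5

/-- **`R^p(forget)(F) ≅ ℋ^p(F)`** as presheaves. -/
noncomputable def rightDerivedForgetIso :
    ((T J).rightDerived p).obj F ≅ F.cohomologyPresheaf p :=
  NatIso.ofComponents (fun U => compIso J F p U) (fun f => compIso_naturality J F p f)

end Groth.Agent.H18.PshDer
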