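import Groth.Agent.Lib.helper18.PshDer2
import Groth.Agent.Lib.helper18.RDCompExact

/-!
# Naturality in the sheaf of `R^p(forget)(F) ≅ ℋ^p(F)`
-/

set_option autoImplicit false
set_option linter.unusedSectionVars false
open CategoryTheory CategoryTheory.Limits CategoryTheory.Abelian Opposite

namespace Groth.Agent.H18.PshDer

universe u

variable {C : Type u} [SmallCategory C] (J : GrothendieckTopology C) (p : ℕ)

lemma compIso_hom_eq (F : Sheaf J AddCommGrpCat.{u}) (U : Cᵒᵖ) :
    (compIso J F p U).hom = (RDCompExact.objIso (T J) (E U) F p).hom ≫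
      ((ExtDer.rightDerivedIsoOfIso (σ J U) p).app F).hom ≫
        ((ExtDer.natIso (CohCx.freeSheaf J U.unop) p).app F).hom := by
  dsimp only [compIso, RDCompExact.objIso, Iso.trans_hom]
  simp only [Category.assoc]
  rfl

lemma compIso_naturality_sheaf {F F' : Sheaf J AddCommGrpCat.{u}} (g : F ⟶ F') (U : Cᵒᵖ) :
    (((T J).rightDerived p).map g).app U ≫ (compIso J F' p U).hom =
      (compIso J F p U).hom ≫ ((Sheaf.cohomologyPresheafFunctor J p).map g).app U := by
  rw [compIso_hom_eq, compIso_hom_eq]
  have h1 : (((T J).rightDerived p).map g).app U ≫ (RDCompExact.objIso (T J) (E U) F' p).hom =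
      (RDCompExact.objIso (T J) (E U) F p).hom ≫ ((T J ⋙ E U).rightDerived p).map g :=
    RDCompExact.objIso_naturality (T J) (E U) g p
  have h2 : ((T J ⋙ E U).rightDerived p).map g ≫
        ((ExtDer.rightDerivedIsoOfIso (σ J U) p).app F').hom =
      ((ExtDer.rightDerivedIsoOfIso (σ J U) p).app F).hom ≫
        ((ExtDer.hF (CohCx.freeSheaf J U.unop)).rightDerived p).map g :=
    (ExtDer.rightDerivedIsoOfIso (σ J U) p).hom.naturality g
  have h3 : ((ExtDer.hF (CohCx.freeSheaf J U.unop)).rightDerived p).map g ≫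
        ((ExtDer.natIso (CohCx.freeSheaf J U.unop) p).app F').hom =
      ((ExtDer.natIso (CohCx.freeSheaf J U.unop) p).app F).hom ≫
        ((Sheaf.cohomologyPresheafFunctor J p).map g).app U :=
    (ExtDer.natIso (CohCx.freeSheaf J U.unop) p).hom.naturality g
  exact RDCompExact.three_sq _ _ _ _ _ _ _ _ _ _ h1 h2 h3

/-- **`R^p(forget) ≅ ℋ^p` as functors `Sh ⥤ PSh`.** -/
noncomputable def forgetNatIso : (T J).rightDerived p ≅ Sheaf.cohomologyPresheafFunctor J p :=
  NatIso.ofComponents (fun F => rightDerivedForgetIso J F p) (fun {F F'} g => by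
    apply NatTrans.ext
    funext U
    exact compIso_naturality_sheaf J p g U)

end Groth.Agent.H18.PshDer
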