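import Groth.Agent.Lib.helper18.CechSite
import Groth.Agent.Lib.helper18.Cech10
import Groth.Agent.Lib.helper18.DeltaUniv

set_option autoImplicit false
set_option linter.unusedSectionVars false
open CategoryTheory CategoryTheory.Limits CategoryTheory.Abelian Opposite

namespace Groth.Agent.H18.SieveExt

universe u

variable {C : Type u} [SmallCategory C]

/-- abelian sheaves for the trivial topology -/
abbrev Bot (C : Type u) [SmallCategory C] : Type (u + 1) :=
  Sheaf (⊥ : GrothendieckTopology C) AddCommGrpCat.{u}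

/-- a presheaf as a sheaf for the trivial topology -/
def bot (P : Cᵒᵖ ⥤ AddCommGrpCat.{u}) : Bot C := ⟨P, Presheaf.isSheaf_bot _⟩

/-- a morphism of presheaves as a morphism of sheaves for the trivial topology -/
def botMap {P Q : Cᵒᵖ ⥤ AddCommGrpCat.{u}} (φ : P ⟶ Q) : bot P ⟶ bot Q := ⟨φ⟩

lemma botMap_comp {P Q T : Cᵒᵖ ⥤ AddCommGrpCat.{u}} (φ : P ⟶ Q) (ψ : Q ⟶ T) :
    botMap (φ ≫ ψ) = botMap φ ≫ botMap ψ := rfl

lemma botMap_zero {P Q : Cᵒᵖ ⥤ AddCommGrpCat.{u}} : botMap (0 : P ⟶ Q) = 0 := rfl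

/-- the free abelian sheaf (trivial topology) on a presheaf of sets -/
noncomputable abbrev ZR (R : Cᵒᵖ ⥤ Type u) : Bot C :=
  (presheafToSheaf (⊥ : GrothendieckTopology C) AddCommGrpCat.{u}).obj (R ⋙ AddCommGrpCat.free.{u})

/-- the sheafification adjunction for the trivial topology -/
noncomputable abbrev adjB : presheafToSheaf (⊥ : GrothendieckTopology C) AddCommGrpCat.{u} ⊣
    sheafToPresheaf (⊥ : GrothendieckTopology C) AddCommGrpCat.{u} :=
  sheafificationAdjunction _ _

variable (R : Cᵒᵖ ⥤ Type u)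

/-- the generators of `ZR R` -/
noncomputable def gen {V : C} (r : R.obj (op V)) : (ZR R).obj.obj (op V) :=
  ((adjB.unit.app (R ⋙ AddCommGrpCat.free.{u})).app (op V)).hom (FreeAbelianGroup.of r)

lemma gen_map {V W : C} (h : W ⟶ V) (r : R.obj (op V)) :
    ((ZR R).obj.map h.op).hom (gen R r) = gen R (R.map h.op r) := by
  have h1 := ConcreteCategory.congr_hom
    ((adjB.unit.app (R ⋙ AddCommGrpCat.free.{u})).naturality h.op) (FreeAbelianGroup.of r)
  rw [ConcreteCategory.comp_apply, ConcreteCategory.comp_apply] at h1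
  refine h1.symm.trans ?_
  congr 1

variable {R}

/-- evaluation of a morphism at a generator -/
noncomputable def ev {A : Bot C} (φ : ZR R ⟶ A) {V : C} (r : R.obj (op V)) : A.obj.obj (op V) :=
  (φ.hom.app (op V)).hom (gen R r)

lemma ev_comp {A A' : Bot C} (φ : ZR R ⟶ A) (ψ : A ⟶ A') {V : C} (r : R.obj (op V)) :
    ev (φ ≫ ψ) r = (ψ.hom.app (op V)).hom (ev φ r) := rfl

lemma ev_map {A : Bot C} (φ : ZR R ⟶ A) {V W : C} (h : W ⟶ V) (r : R.obj (op V)) :
    (A.obj.map h.op).hom (ev φ r) = ev φ (R.map h.op r) := by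
  have h1 := ConcreteCategory.congr_hom (φ.hom.naturality h.op) (gen R r)
  rw [ConcreteCategory.comp_apply, ConcreteCategory.comp_apply] at h1
  refine h1.symm.trans ?_
  exact congrArg (φ.hom.app (op W)).hom (gen_map R h r)

/-- the morphism of presheaves attached to a compatible family -/
noncomputable def mkPre (A : Bot C) (s : ∀ V : C, R.obj (op V) → A.obj.obj (op V))
    (hs : ∀ (V W : C) (h : W ⟶ V) (r : R.obj (op V)),
      (A.obj.map h.op).hom (s V r) = s W (R.map h.op r)) :
    R ⋙ AddCommGrpCat.free.{u} ⟶ A.obj where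
  app V := AddCommGrpCat.ofHom (FreeAbelianGroup.lift (fun r : R.obj V => s V.unop r))
  naturality V W h := by
    apply AddCommGrpCat.hom_ext
    apply FreeAbelianGroup.lift_ext
    intro (r : R.obj V)
    change FreeAbelianGroup.lift (fun r : R.obj W => s W.unop r)
        (FreeAbelianGroup.map (R.map h) (FreeAbelianGroup.of r)) =
      (A.obj.map h).hom (FreeAbelianGroup.lift (fun r : R.obj V => s V.unop r)
        (FreeAbelianGroup.of r))
    rw [FreeAbelianGroup.map_of_apply, FreeAbelianGroup.lift_apply_of, FreeAbelianGroup.lift_apply_of]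
    exact (hs V.unop W.unop h.unop r).symm

/-- the morphism attached to a compatible family -/
noncomputable def mk (A : Bot C) (s : ∀ V : C, R.obj (op V) → A.obj.obj (op V))
    (hs : ∀ (V W : C) (h : W ⟶ V) (r : R.obj (op V)),
      (A.obj.map h.op).hom (s V r) = s W (R.map h.op r)) : ZR R ⟶ A :=
  (adjB.homEquiv (R ⋙ AddCommGrpCat.free.{u}) A).symm (mkPre A s hs)

lemma ev_mk (A : Bot C) (s : ∀ V : C, R.obj (op V) → A.obj.obj (op V))
    (hs : ∀ (V W : C) (h : W ⟶ V) (r : R.obj (op V)),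
      (A.obj.map h.op).hom (s V r) = s W (R.map h.op r)) {V : C} (r : R.obj (op V)) :
    ev (mk A s hs) r = s V r := by
  have h2 : adjB.unit.app (R ⋙ AddCommGrpCat.free.{u}) ≫
      (sheafToPresheaf _ _).map (mk A s hs) = mkPre A s hs := by
    have e : adjB.homEquiv (R ⋙ AddCommGrpCat.free.{u}) A (mk A s hs) =
        adjB.unit.app (R ⋙ AddCommGrpCat.free.{u}) ≫ (sheafToPresheaf _ _).map (mk A s hs) :=
      adjB.homEquiv_unit _ _ _
    rw [← e, mk, Equiv.apply_symm_apply]
  have h3 := ConcreteCategory.congr_hom (NatTrans.congr_app h2 (op V)) (FreeAbelianGroup.of r)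
  refine (Eq.trans rfl h3).trans ?_
  change FreeAbelianGroup.lift (fun r : R.obj (op V) => s V r) (FreeAbelianGroup.of r) = s V r
  rw [FreeAbelianGroup.lift_apply_of]

lemma hom_ext' {A : Bot C} (φ φ' : ZR R ⟶ A)
    (h : ∀ (V : C) (r : R.obj (op V)), ev φ r = ev φ' r) : φ = φ' := by
  apply (adjB.homEquiv (R ⋙ AddCommGrpCat.free.{u}) A).injective
  rw [Adjunction.homEquiv_unit, Adjunction.homEquiv_unit]
  apply NatTrans.ext
  funext V
  apply AddCommGrpCat.hom_ext
  apply FreeAbelianGroup.lift_ext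
  intro (r : R.obj V)
  exact h V.unop r


section Exact

/-- presheaves to sheaves for the trivial topology (an equivalence) -/
noncomputable abbrev botF : (Cᵒᵖ ⥤ AddCommGrpCat.{u}) ⥤ Bot C :=
  (sheafBotEquivalence AddCommGrpCat.{u}).inverse

lemma botF_obj (P : Cᵒᵖ ⥤ AddCommGrpCat.{u}) : botF.obj P = bot P := rfl

lemma botF_map {P Q : Cᵒᵖ ⥤ AddCommGrpCat.{u}} (φ : P ⟶ Q) : botF.map φ = botMap φ := rfl

/-- a sectionwise short exact sequence of presheaves is short exact -/
lemma shortExact_psh (Sp : ShortComplex (Cᵒᵖ ⥤ AddCommGrpCat.{u}))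
    (h : ∀ V : Cᵒᵖ, (Sp.map ((evaluation _ _).obj V)).ShortExact) : Sp.ShortExact := by
  have h1 : Mono Sp.f := by
    have : ∀ V, Mono (Sp.f.app V) := fun V => (h V).mono_f
    exact NatTrans.mono_of_mono_app _
  have h2 : Epi Sp.g := by
    have : ∀ V, Epi (Sp.g.app V) := fun V => (h V).epi_g
    exact NatTrans.epi_of_epi_app _
  exact ShortComplex.ShortExact.mk' (Cech.exact_of_evaluation Sp (fun V => (h V).exact)) h1 h2

/-- a sectionwise short exact sequence of presheaves gives a short exact sequence of sheaves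
for the trivial topology -/
lemma shortExact_bot (Sp : ShortComplex (Cᵒᵖ ⥤ AddCommGrpCat.{u}))
    (h : ∀ V : Cᵒᵖ, (Sp.map ((evaluation _ _).obj V)).ShortExact) : (Sp.map botF).ShortExact :=
  (shortExact_psh Sp h).map_of_exact botF

instance injective_bot (I : Cᵒᵖ ⥤ AddCommGrpCat.{u}) [Injective I] : Injective (bot I) :=
  Injective.injective_of_adjoint (sheafBotEquivalence AddCommGrpCat.{u}).toAdjunction I

end Exact

end Groth.Agent.H18.SieveExt
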