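import Groth.Agent.Lib.helper18.CechSS
import Groth.Agent.Lib.helper18.SieveExt
import Groth.Agent.Lib.helper18.PshDer2
import Groth.Agent.Lib.helper18.SSDegenerate2
import Groth.Agent.Lib.helper18.CohTopOpen

set_option autoImplicit false
set_option linter.unusedSectionVars false
open CategoryTheory CategoryTheory.Limits CategoryTheory.Abelian Opposite

namespace Groth.Agent.H18.PshSS

open Groth.Agent.H18.SieveExt

universe u

variable {C : Type u} [SmallCategory C] (J : GrothendieckTopology C) (R : Cᵒᵖ ⥤ Type u)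

instance botF_additive : (botF (C := C)).Additive := ⟨rfl⟩

/-- abelian sheaves to abelian sheaves for the trivial topology -/
noncomputable abbrev TB : Sheaf J AddCommGrpCat.{u} ⥤ SieveExt.Bot C := PshDer.T J ⋙ botF

/-- the free abelian `J`-sheaf on a presheaf of sets -/
noncomputable abbrev ZJ : Sheaf J AddCommGrpCat.{u} :=
  (presheafToSheaf J AddCommGrpCat.{u}).obj (R ⋙ AddCommGrpCat.free.{u})

/-- whiskering with the free abelian group functor preserves `J.W` (helper10's `FreeW`) -/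
lemma W_whiskerRight_free {P Q : Cᵒᵖ ⥤ Type u} (η : P ⟶ Q) (hη : J.W η) :
    J.W (Functor.whiskerRight η AddCommGrpCat.free.{u}) := by
  intro Z hZ
  have adjF := (AddCommGrpCat.adj.{u}).whiskerRight Cᵒᵖ
  have := (adjF.map_comp_bijective_iff η Z).2 (hη _ ?_)
  · exact this
  · exact Presheaf.isSheaf_comp_of_isSheaf J Z (forget AddCommGrpCat.{u}) hZ

/-- the free abelian sheaf on a presheaf of sets is the free abelian sheaf on its associated
sheaf of sets -/
noncomputable def zjIso : ZJ J R ≅ ZJ J ((presheafToSheaf J (Type u)).obj R).obj :=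
  haveI : IsIso ((presheafToSheaf J AddCommGrpCat.{u}).map
      (Functor.whiskerRight (toSheafify J R) AddCommGrpCat.free.{u})) :=
    (J.W_iff _).1 (W_whiskerRight_free J _ (J.W_toSheafify R))
  asIso ((presheafToSheaf J AddCommGrpCat.{u}).map
      (Functor.whiskerRight (toSheafify J R) AddCommGrpCat.free.{u}))

/-- `Hom(ℤ[R], M as a presheaf) ≃ Hom(ℤ[R]^#, M)` -/
noncomputable def homEq (M : Sheaf J AddCommGrpCat.{u}) :
    (ZR R ⟶ (TB J).obj M) ≃+ (ZJ J R ⟶ M) :=
  let e1 : (ZR R ⟶ (TB J).obj M) ≃+ (R ⋙ AddCommGrpCat.free.{u} ⟶ M.obj) :=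
    adjB.homAddEquiv (R ⋙ AddCommGrpCat.free.{u}) ((TB J).obj M)
  let e2 : (ZJ J R ⟶ M) ≃+ (R ⋙ AddCommGrpCat.free.{u} ⟶ M.obj) :=
    (sheafificationAdjunction J AddCommGrpCat.{u}).homAddEquiv (R ⋙ AddCommGrpCat.free.{u}) M
  e1.trans e2.symm

/-- the composite `Hom(ℤ[R], -) ∘ (sheaves ⥤ presheaves)` is `Hom(ℤ[R]^#, -)` -/
noncomputable def homIso : TB J ⋙ ExtDer.hF (ZR R) ≅ ExtDer.hF (ZJ J R) :=
  NatIso.ofComponents (fun M => (homEq J R M).toAddCommGrpIso) (fun {M M'} g => by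
    apply AddCommGrpCat.hom_ext
    apply AddMonoidHom.ext
    intro (f : ZR R ⟶ (TB J).obj M)
    change homEq J R M' (f ≫ (TB J).map g) = homEq J R M f ≫ g
    have h1 : adjB.homEquiv (R ⋙ AddCommGrpCat.free.{u}) ((TB J).obj M') (f ≫ (TB J).map g) =
        adjB.homEquiv (R ⋙ AddCommGrpCat.free.{u}) ((TB J).obj M) f ≫ g.hom :=
      Adjunction.homEquiv_naturality_right _ _ _
    have h2 := Adjunction.homEquiv_naturality_right_symm
      (sheafificationAdjunction J AddCommGrpCat.{u})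
      (adjB.homEquiv (R ⋙ AddCommGrpCat.free.{u}) ((TB J).obj M) f) g
    exact (congrArg ((sheafificationAdjunction J AddCommGrpCat.{u}).homEquiv
      (R ⋙ AddCommGrpCat.free.{u}) M').symm h1).trans h2)

/-- `R^q(sheaves ⥤ ⊥-sheaves)(M)` is the `q`-th cohomology presheaf -/
theorem rightDerived_TB (M : Sheaf J AddCommGrpCat.{u}) (q : ℕ) :
    Nonempty (((TB J).rightDerived q).obj M ≅ bot (M.cohomologyPresheaf q)) := by
  have := PshPush.isGrothendieckAbelian_presheaf C
  obtain ⟨e1⟩ := SSDegenerate.iso_of_cols_vanish (PshDer.T J) (botF (C := C)) M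
    (fun Q _ q hq => CohTopOpen.isZero_rightDerived_of_exact (botF (C := C)) _ q hq)
    (fun p' q hp => CohTopOpen.isZero_rightDerived_of_exact (botF (C := C)) _ p' hp) q
  have e2 := (botF (C := C)).rightDerivedZeroIsoSelf.app (((PshDer.T J).rightDerived q).obj M)
  have e3 := (botF (C := C)).mapIso (PshDer.rightDerivedForgetIso J M q)
  exact ⟨e1 ≪≫ e2 ≪≫ e3⟩

/-- **the spectral sequence `H^p(R, ℋ^q(M)) ⇒ H^{p+q}(aR, M)`** -/
theorem presheafSS (M : Sheaf J AddCommGrpCat.{u}) :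
    ∃ (E : E₂CohomologicalSpectralSequence AddCommGrpCat.{u})
      (a : SpSeq.Abutment E (fun n : ℤ =>
        if 0 ≤ n then AddCommGrpCat.of (CohCx.HK ((presheafToSheaf J (Type u)).obj R) M n.toNat)
        else AddCommGrpCat.of PUnit.{u + 1})),
      (∀ n, a.IsFinite n) ∧ SpSeq.IsBounded E ∧
      ∀ p q : ℤ, Nonempty ((E.page 2 le_rfl).X (p, q) ≅
        (if 0 ≤ p ∧ 0 ≤ q then
          AddCommGrpCat.of (CohCx.HK (J := (⊥ : GrothendieckTopology C)) ⟨R, Presheaf.isSheaf_bot _⟩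
            ⟨M.cohomologyPresheaf q.toNat, Presheaf.isSheaf_bot _⟩ p.toNat)
         else AddCommGrpCat.of PUnit.{u + 1})) := by
  have := PshPush.isGrothendieckAbelian_presheaf C
  have hT : ∀ Q : Sheaf J AddCommGrpCat.{u}, Injective Q → ∀ q : ℕ, 0 < q →
      IsZero (((ExtDer.hF (ZR R)).rightDerived q).obj ((TB J).obj Q)) := by
    intro Q hQ q hq
    obtain ⟨q', rfl⟩ : ∃ q', q = q' + 1 := ⟨q - 1, by omega⟩
    have : Injective Q.obj :=
      Injective.injective_of_adjoint (sheafificationAdjunction J AddCommGrpCat.{u}) Q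
    have : Injective ((TB J).obj Q) := injective_bot Q.obj
    exact (ExtDer.hF (ZR R)).isZero_rightDerived_obj_injective_succ q' _
  refine SSWrap.ss_wrap (TB J) (ExtDer.hF (ZR R)) M hT (AddCommGrpCat.of PUnit.{u + 1})
    (AddCommGrpCat.isZero_of_subsingleton _)
    (fun n => AddCommGrpCat.of (CohCx.HK ((presheafToSheaf J (Type u)).obj R) M n))
    (fun p q => AddCommGrpCat.of (CohCx.HK (J := (⊥ : GrothendieckTopology C))
      ⟨R, Presheaf.isSheaf_bot _⟩ ⟨M.cohomologyPresheaf q, Presheaf.isSheaf_bot _⟩ p)) ?_ ?_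
  · intro n
    have e1 : ((TB J ⋙ ExtDer.hF (ZR R)).rightDerived n).obj M ≅
        (extFunctorObj (ZJ J R) n).obj M :=
      (ExtDer.rightDerivedIsoOfIso (homIso J R) n).app M ≪≫ (ExtDer.natIso _ n).app M
    have e2 : (extFunctorObj (ZJ J ((presheafToSheaf J (Type u)).obj R).obj) n).obj M ≅
        (extFunctorObj (ZJ J R) n).obj M :=
      ((extFunctor n).mapIso (zjIso J R).op).app M
    have e0 : AddCommGrpCat.of (CohCx.HK ((presheafToSheaf J (Type u)).obj R) M n) ≅
        (extFunctorObj (ZJ J ((presheafToSheaf J (Type u)).obj R).obj) n).obj M := Iso.refl _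
    exact ⟨e0 ≪≫ e2 ≪≫ e1.symm⟩
  · intro p q
    obtain ⟨a1⟩ := rightDerived_TB J M q
    have a2 : ((ExtDer.hF (ZR R)).rightDerived p).obj (((TB J).rightDerived q).obj M) ≅
        (extFunctorObj (ZR R) p).obj (((TB J).rightDerived q).obj M) :=
      (ExtDer.natIso (ZR R) p).app _
    have a3 : (extFunctorObj (ZR R) p).obj (((TB J).rightDerived q).obj M) ≅
        (extFunctorObj (ZR R) p).obj (bot (M.cohomologyPresheaf q)) :=
      (extFunctorObj (ZR R) p).mapIso a1
    have a0 : AddCommGrpCat.of (CohCx.HK (J := (⊥ : GrothendieckTopology C))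
        ⟨R, Presheaf.isSheaf_bot _⟩ ⟨M.cohomologyPresheaf q, Presheaf.isSheaf_bot _⟩ p) ≅
        (extFunctorObj (ZR R) p).obj (bot (M.cohomologyPresheaf q)) := Iso.refl _
    exact ⟨a0 ≪≫ a3.symm ≪≫ a2.symm⟩

end Groth.Agent.H18.PshSS
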