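import Groth.Agent.Lib.helper18.QcqsVanish
import Groth.Agent.Lib.helper18.AffPush

set_option autoImplicit false
set_option linter.unusedSectionVars false
set_option linter.unusedVariables false
open CategoryTheory CategoryTheory.Limits Opposite TopologicalSpace AlgebraicGeometry

namespace Groth.Agent.H18.QcqsPush

universe u

section
variable {X : Scheme.{u}}

/-- uniform vanishing on quasi-compact opens of an affine open, uniformly for their
intersections with basic opens -/
theorem vanish_in_affine' (A : X.Opens) (hA : IsAffineOpen A) (W : X.Opens) (hWA : W ≤ A)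
    (hW : IsCompact (W : Set X)) :
    ∃ d : ℕ, 1 ≤ d ∧ ∀ (h : Γ(X, A)) (M : X.Modules), M.IsQuasicoherent → ∀ n, d ≤ n →
      Subsingleton (CohTop.HU (X := X.carrier) (Coh.toAb M) n (W ⊓ X.basicOpen h)) := by
  classical
  have hpt : ∀ x : W, ∃ f : Γ(X, A), X.basicOpen f ≤ W ∧ (x : X) ∈ X.basicOpen f :=
    fun x => hA.exists_basicOpen_le x (hWA x.2)
  choose f hfW hxf using hpt
  obtain ⟨t, ht⟩ := hW.elim_finite_subcover (fun x : W => (X.basicOpen (f x) : Set X))
    (fun x => (X.basicOpen (f x)).2) (fun y hy => Set.mem_iUnion.2 ⟨⟨y, hy⟩, hxf ⟨y, hy⟩⟩)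
  have hsW : t.sup (fun x => X.basicOpen (f x)) = W := by
    apply le_antisymm
    · apply Finset.sup_le
      intro x _
      exact hfW x
    · intro y hy
      obtain ⟨x, hxt, hyx⟩ := Set.mem_iUnion₂.1 (ht hy)
      have hle : X.basicOpen (f x) ≤ t.sup (fun x => X.basicOpen (f x)) :=
        Finset.le_sup (f := fun x => X.basicOpen (f x)) hxt
      exact SetLike.le_def.mp hle hyx
  refine ⟨t.card + 1, by omega, fun h M hM n hn => ?_⟩
  have := hM
  have e : W ⊓ X.basicOpen h = (t.image (fun x => X.basicOpen (f x * h))).sup id := by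
    have e0 : W ⊓ X.basicOpen h = (t.sup (fun x => X.basicOpen (f x))) ⊓ X.basicOpen h := by
      rw [hsW]
    rw [e0, Finset.sup_image, Finset.sup_inf_distrib_right]
    apply Finset.sup_congr rfl
    intro x _
    exact (Scheme.basicOpen_mul X (f x) h).symm
  rw [e]
  refine QcqsVanish.vanish' (fun V => ∃ g : Γ(X, A), V = X.basicOpen g) ?_ ?_ M t.card _
    Finset.card_image_le ?_ n (by omega) (by omega)
  · rintro V ⟨g, rfl⟩
    exact hA.basicOpen g
  · rintro V V' ⟨g, rfl⟩ ⟨g', rfl⟩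
    exact ⟨g * g', (Scheme.basicOpen_mul X g g').symm⟩
  · intro V hV
    obtain ⟨x, _, rfl⟩ := Finset.mem_image.mp hV
    exact ⟨f x * h, rfl⟩

/-- uniform vanishing on finite unions of affine opens inside a quasi-separated open,
uniformly for their intersections with basic opens -/
theorem vanish_qs' (U : X.Opens) (hqs : IsQuasiSeparated (U : Set X)) :
    ∀ (s : Finset X.Opens), (∀ V ∈ s, IsAffineOpen V ∧ V ≤ U) →
      IsCompact ((s.sup id : X.Opens) : Set X) ∧
      ∃ d : ℕ, 1 ≤ d ∧ ∀ (g : Γ(X, U)) (M : X.Modules), M.IsQuasicoherent → ∀ n, d ≤ n →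
        Subsingleton (CohTop.HU (X := X.carrier) (Coh.toAb M) n
          (s.sup id ⊓ X.basicOpen g)) := by
  classical
  intro s
  induction s using Finset.induction_on with
  | empty =>
    intro _
    refine ⟨?_, 1, le_rfl, fun g M hM n hn => ?_⟩
    · rw [Finset.sup_empty]
      exact (isAffineOpen_bot X).isCompact
    · have := hM
      obtain ⟨m, rfl⟩ : ∃ m, n = m + 1 := ⟨n - 1, by omega⟩
      rw [Finset.sup_empty, bot_inf_eq]
      exact AffCount.affine_case M ⊥ (isAffineOpen_bot X) m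
  | insert a s ha ih =>
    intro hs
    have haff : IsAffineOpen a := (hs a (Finset.mem_insert_self a s)).1
    have haU : a ≤ U := (hs a (Finset.mem_insert_self a s)).2
    obtain ⟨hcomp, dB, hdB1, hdB⟩ := ih (fun V hV => hs V (Finset.mem_insert_of_mem hV))
    have hsU : s.sup id ≤ U :=
      Finset.sup_le (fun V hV => (hs V (Finset.mem_insert_of_mem hV)).2)
    have hcap : IsCompact ((a ⊓ s.sup id : X.Opens) : Set X) :=
      hqs _ _ haU a.2 haff.isCompact hsU (s.sup id).2 hcomp
    obtain ⟨d', hd'1, hd'⟩ := vanish_in_affine' a haff (a ⊓ s.sup id) inf_le_left hcap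
    have e : (insert a s).sup id = a ⊔ s.sup id := by
      rw [Finset.sup_insert]; rfl
    rw [e]
    refine ⟨?_, max dB (d' + 1), le_max_of_le_left hdB1, fun g M hM n hn => ?_⟩
    · exact haff.isCompact.union hcomp
    · have := hM
      have hn1 : dB ≤ n := (le_max_left _ _).trans hn
      have hn2 : d' + 1 ≤ n := (le_max_right _ _).trans hn
      obtain ⟨m, rfl⟩ : ∃ m, n = m + 1 := ⟨n - 1, by omega⟩
      have hres : X.basicOpen (X.presheaf.map (homOfLE haU).op g) = a ⊓ X.basicOpen g :=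
        Scheme.basicOpen_res X g (homOfLE haU).op
      rw [inf_sup_right]
      apply AffCount.subsingleton_HU_sup
      · have e2 : (a ⊓ X.basicOpen g) ⊓ (s.sup id ⊓ X.basicOpen g) =
            (a ⊓ s.sup id) ⊓ X.basicOpen (X.presheaf.map (homOfLE haU).op g) := by
          rw [hres]
          apply le_antisymm
          · exact le_inf (le_inf (inf_le_left.trans inf_le_left)
              (inf_le_right.trans inf_le_left)) inf_le_left
          · exact le_inf inf_le_right (le_inf (inf_le_left.trans inf_le_right)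
              (inf_le_right.trans inf_le_right))
        rw [e2]
        exact hd' _ M hM m (by omega)
      · rw [← hres]
        exact AffCount.affine_case M _ (haff.basicOpen _) m
      · exact hdB g M hM (m + 1) hn1

end

/-- uniform vanishing of higher direct images of quasi-coherent modules along a qcqs morphism
to a quasi-compact scheme -/
theorem isZero_RpushAb_qcqs {X S : Scheme.{u}} (f : X ⟶ S) [QuasiCompact f] [QuasiSeparated f]
    [CompactSpace S] :
    ∃ n : ℕ, ∀ (M : X.Modules), M.IsQuasicoherent → ∀ p : ℕ, n ≤ p →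
      IsZero ((Coh.RpushAb f p).obj (Coh.toAb M)) := by
  classical
  have key : ∀ W : S.affineOpens, ∃ d : ℕ, 1 ≤ d ∧ ∀ (g : Γ(S, W.1)) (M : X.Modules),
      M.IsQuasicoherent → ∀ n, d ≤ n →
      Subsingleton (CohTop.HU (X := X.carrier) (Coh.toAb M) n (f ⁻¹ᵁ (S.basicOpen g))) := by
    intro W
    have hcompU : IsCompact ((f ⁻¹ᵁ W.1 : X.Opens) : Set X) :=
      f.isCompact_preimage W.2.isCompact
    have hqsU : IsQuasiSeparated ((f ⁻¹ᵁ W.1 : X.Opens) : Set X) :=
      f.isQuasiSeparated_preimage W.2.isQuasiSeparated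
    have hpt : ∀ x : (f ⁻¹ᵁ W.1 : X.Opens), ∃ V : X.Opens, IsAffineOpen V ∧ (x : X) ∈ V ∧
        V ≤ f ⁻¹ᵁ W.1 := fun x =>
      Opens.isBasis_iff_nbhd.mp (Scheme.isBasis_affineOpens X) x.2
    choose V hVaff hxV hVU using hpt
    obtain ⟨t, ht⟩ := hcompU.elim_finite_subcover (fun x => ((V x : X.Opens) : Set X))
      (fun x => (V x).2) (fun y hy => Set.mem_iUnion.2 ⟨⟨y, hy⟩, hxV ⟨y, hy⟩⟩)
    have hs : ∀ V' ∈ t.image V, IsAffineOpen V' ∧ V' ≤ f ⁻¹ᵁ W.1 := by
      intro V' hV'
      obtain ⟨x, _, rfl⟩ := Finset.mem_image.mp hV'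
      exact ⟨hVaff x, hVU x⟩
    have hsup : (t.image V).sup id = f ⁻¹ᵁ W.1 := by
      apply le_antisymm
      · exact Finset.sup_le (fun V' hV' => (hs V' hV').2)
      · intro y hy
        obtain ⟨x, hxt, hyx⟩ := Set.mem_iUnion₂.1 (ht hy)
        have hle : V x ≤ (t.image V).sup id :=
          Finset.le_sup (f := id) (Finset.mem_image_of_mem V hxt)
        exact SetLike.le_def.mp hle hyx
    obtain ⟨-, d, hd1, hd⟩ := vanish_qs' (f ⁻¹ᵁ W.1) hqsU _ hs
    refine ⟨d, hd1, fun g M hM n hn => ?_⟩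
    have h := hd (f.app W.1 g) M hM n hn
    rw [hsup] at h
    have e : f ⁻¹ᵁ W.1 ⊓ X.basicOpen (f.app W.1 g) = f ⁻¹ᵁ (S.basicOpen g) := by
      rw [Scheme.preimage_basicOpen]
      exact inf_eq_right.mpr (X.basicOpen_le _)
    rwa [e] at h
  choose d hd1 hd using key
  obtain ⟨t, ht⟩ := isCompact_univ.elim_finite_subcover
    (fun V : S.affineOpens => ((V : S.Opens) : Set S)) (fun V => V.1.2) (by
      intro x _
      obtain ⟨V, hV, hxV, -⟩ := TopologicalSpace.Opens.isBasis_iff_nbhd.mp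
        (Scheme.isBasis_affineOpens S) (TopologicalSpace.Opens.mem_top x)
      exact Set.mem_iUnion.2 ⟨⟨V, hV⟩, hxV⟩)
  refine ⟨t.sup d, fun M hM p hp => ?_⟩
  obtain ⟨e⟩ := PshPush.Rpush_iso (Opens.grothendieckTopology X) (Opens.grothendieckTopology S)
    (Opens.map f.base) (Coh.toAb M) p
  refine IsZero.of_iso ?_ e
  apply AffPush.isZero_sheafify
  intro V
  refine ⟨{Y : S.Opens // Y ≤ V ∧ ∃ W ∈ t, ∃ g : Γ(S, W.1), Y = S.basicOpen g},
    fun k => k.1, fun k => homOfLE k.2.1, ?_, ?_⟩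
  · intro x hx
    obtain ⟨W, hWt, hxW⟩ := Set.mem_iUnion₂.1 (ht (Set.mem_univ x))
    obtain ⟨g, hgV, hxg⟩ := W.2.exists_basicOpen_le (⟨x, hx⟩ : V) hxW
    exact ⟨S.basicOpen g, homOfLE hgV, ⟨_, 𝟙 _, homOfLE hgV,
      ⟨(⟨S.basicOpen g, hgV, W, hWt, g, rfl⟩ :
        {Y : S.Opens // Y ≤ V ∧ ∃ W ∈ t, ∃ g : Γ(S, W.1), Y = S.basicOpen g})⟩, by simp⟩, hxg⟩
  · rintro ⟨Y, hYV, W, hWt, g, rfl⟩
    exact hd W g M hM p ((Finset.le_sup hWt).trans hp)

end Groth.Agent.H18.QcqsPush
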