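import Groth.Agent.Lib.helper18.AffCount

set_option autoImplicit false
set_option linter.unusedSectionVars false
set_option linter.unusedVariables false
open CategoryTheory CategoryTheory.Limits Opposite TopologicalSpace AlgebraicGeometry

namespace Groth.Agent.H18.QcqsVanish

universe u

variable {X : Scheme.{u}}

/-- vanishing for finite unions of opens from an intersection-closed family of affine opens -/
theorem vanish' (𝒜 : X.Opens → Prop) (hA : ∀ V, 𝒜 V → IsAffineOpen V)
    (hinf : ∀ V W, 𝒜 V → 𝒜 W → 𝒜 (V ⊓ W)) (M : X.Modules) [M.IsQuasicoherent] :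
    ∀ (k : ℕ) (s : Finset X.Opens), s.card ≤ k → (∀ V ∈ s, 𝒜 V) → ∀ n, k ≤ n → 1 ≤ n →
      Subsingleton (CohTop.HU (X := X.carrier) (Coh.toAb M) n (s.sup id)) := by
  classical
  intro k
  induction k with
  | zero =>
    intro s hs _ n _ hn
    obtain ⟨m, rfl⟩ : ∃ m, n = m + 1 := ⟨n - 1, by omega⟩
    have : s = ∅ := Finset.card_eq_zero.mp (by omega)
    subst this
    rw [Finset.sup_empty]
    exact AffCount.affine_case M ⊥ (isAffineOpen_bot X) m
  | succ k ih =>
    intro s hs h𝒜 n hn h1
    obtain ⟨m, rfl⟩ : ∃ m, n = m + 1 := ⟨n - 1, by omega⟩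
    have hm : k ≤ m := by omega
    rcases s.eq_empty_or_nonempty with rfl | ⟨a, ha⟩
    · rw [Finset.sup_empty]
      exact AffCount.affine_case M ⊥ (isAffineOpen_bot X) m
    · have hs' : (s.erase a).card ≤ k := by
        rw [Finset.card_erase_of_mem ha]; omega
      have h𝒜' : ∀ V ∈ s.erase a, 𝒜 V := fun V hV => h𝒜 V (Finset.mem_of_mem_erase hV)
      have e : s.sup id = a ⊔ (s.erase a).sup id := by
        conv_lhs => rw [← Finset.insert_erase ha]
        rw [Finset.sup_insert]
        rfl
      rw [e]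
      by_cases hk0 : k = 0
      · subst hk0
        have h0 : s.erase a = ∅ := Finset.card_eq_zero.mp (by omega)
        rw [h0, Finset.sup_empty, sup_bot_eq]
        exact AffCount.affine_case M a (hA a (h𝒜 a ha)) m
      · apply AffCount.subsingleton_HU_sup
        · have e2 : a ⊓ (s.erase a).sup id = ((s.erase a).image (fun V => a ⊓ V)).sup id := by
            rw [Finset.sup_image, Finset.sup_inf_distrib_left]
            rfl
          rw [e2]
          apply ih _ (Finset.card_image_le.trans hs') _ m hm (by omega)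
          intro V hV
          obtain ⟨V', hV', rfl⟩ := Finset.mem_image.mp hV
          exact hinf _ _ (h𝒜 a ha) (h𝒜' V' hV')
        · exact AffCount.affine_case M a (hA a (h𝒜 a ha)) m
        · exact ih _ hs' h𝒜' (m + 1) (by omega) (by omega)

/-- uniform vanishing on quasi-compact opens of an affine open -/
theorem vanish_in_affine (A : X.Opens) (hA : IsAffineOpen A) (W : X.Opens) (hWA : W ≤ A)
    (hW : IsCompact (W : Set X)) :
    ∃ d : ℕ, 1 ≤ d ∧ ∀ (M : X.Modules), M.IsQuasicoherent → ∀ n, d ≤ n →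
      Subsingleton (CohTop.HU (X := X.carrier) (Coh.toAb M) n W) := by
  classical
  have hpt : ∀ x : W, ∃ f : Γ(X, A), X.basicOpen f ≤ W ∧ (x : X) ∈ X.basicOpen f :=
    fun x => hA.exists_basicOpen_le x (hWA x.2)
  choose f hfW hxf using hpt
  obtain ⟨t, ht⟩ := hW.elim_finite_subcover (fun x : W => (X.basicOpen (f x) : Set X))
    (fun x => (X.basicOpen (f x)).2) (fun y hy => Set.mem_iUnion.2 ⟨⟨y, hy⟩, hxf ⟨y, hy⟩⟩)
  let s : Finset X.Opens := t.image (fun x => X.basicOpen (f x))
  have hsW : s.sup id = W := by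
    apply le_antisymm
    · apply Finset.sup_le
      intro V hV
      obtain ⟨x, hx, rfl⟩ := Finset.mem_image.mp hV
      exact hfW x
    · intro y hy
      obtain ⟨x, hxt, hyx⟩ := Set.mem_iUnion₂.1 (ht hy)
      have hle : X.basicOpen (f x) ≤ s.sup id :=
        Finset.le_sup (f := id) (Finset.mem_image_of_mem _ hxt)
      exact SetLike.le_def.mp hle hyx
  refine ⟨s.card + 1, by omega, fun M hM n hn => ?_⟩
  have := hM
  rw [← hsW]
  refine vanish' (fun V => ∃ g : Γ(X, A), V = X.basicOpen g) ?_ ?_ M s.card s le_rfl ?_ n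
    (by omega) (by omega)
  · rintro V ⟨g, rfl⟩
    exact hA.basicOpen g
  · rintro V V' ⟨g, rfl⟩ ⟨g', rfl⟩
    exact ⟨g * g', (Scheme.basicOpen_mul X g g').symm⟩
  · intro V hV
    obtain ⟨x, _, rfl⟩ := Finset.mem_image.mp hV
    exact ⟨f x, rfl⟩

/-- uniform vanishing on finite unions of affine opens of a quasi-separated scheme -/
theorem vanish_qs [QuasiSeparatedSpace X] :
    ∀ (s : Finset X.Opens), (∀ V ∈ s, IsAffineOpen V) →
      IsCompact ((s.sup id : X.Opens) : Set X) ∧
      ∃ d : ℕ, 1 ≤ d ∧ ∀ (M : X.Modules), M.IsQuasicoherent → ∀ n, d ≤ n →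
        Subsingleton (CohTop.HU (X := X.carrier) (Coh.toAb M) n (s.sup id)) := by
  classical
  intro s
  induction s using Finset.induction_on with
  | empty =>
    intro _
    refine ⟨?_, 1, le_rfl, fun M hM n hn => ?_⟩
    · rw [Finset.sup_empty]
      exact (isAffineOpen_bot X).isCompact
    · have := hM
      obtain ⟨m, rfl⟩ : ∃ m, n = m + 1 := ⟨n - 1, by omega⟩
      rw [Finset.sup_empty]
      exact AffCount.affine_case M ⊥ (isAffineOpen_bot X) m
  | insert a s ha ih =>
    intro hs
    have haff : IsAffineOpen a := hs a (Finset.mem_insert_self a s)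
    obtain ⟨hcomp, dB, hdB1, hdB⟩ := ih (fun V hV => hs V (Finset.mem_insert_of_mem hV))
    have hcap : IsCompact ((a ⊓ s.sup id : X.Opens) : Set X) :=
      QuasiSeparatedSpace.inter_isCompact _ _ a.2 haff.isCompact (s.sup id).2 hcomp
    obtain ⟨d', hd'1, hd'⟩ := vanish_in_affine a haff (a ⊓ s.sup id) inf_le_left hcap
    have e : (insert a s).sup id = a ⊔ s.sup id := by
      rw [Finset.sup_insert]; rfl
    rw [e]
    refine ⟨?_, max dB (d' + 1), le_max_of_le_left hdB1, fun M hM n hn => ?_⟩
    · exact haff.isCompact.union hcomp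
    · have := hM
      have hn1 : dB ≤ n := (le_max_left _ _).trans hn
      have hn2 : d' + 1 ≤ n := (le_max_right _ _).trans hn
      obtain ⟨m, rfl⟩ : ∃ m, n = m + 1 := ⟨n - 1, by omega⟩
      apply AffCount.subsingleton_HU_sup
      · exact hd' M hM m (by omega)
      · exact AffCount.affine_case M a haff m
      · exact hdB M hM (m + 1) hn1

end Groth.Agent.H18.QcqsVanish
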