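import Groth.Agent.Lib.helper18.RightDerivedLES2
import Mathlib.Algebra.Homology.CommSq
import Mathlib.CategoryTheory.Abelian.CommSq

set_option autoImplicit false
set_option linter.unusedSectionVars false
set_option linter.unusedVariables false

namespace Groth.Agent.H18.RDBiprod

open CategoryTheory CategoryTheory.Limits

universe v u v' u'

variable {C : Type u} [Category.{v} C] [Abelian C] [HasInjectiveResolutions C]
  {D : Type u'} [Category.{v'} D] [Abelian D]

section Add

variable {F G : C ⥤ D} [F.Additive] [G.Additive]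

lemma rightDerived_add_app (α β : F ⟶ G) (n : ℕ) (X : C) :
    (NatTrans.rightDerived (α + β) n).app X =
      (NatTrans.rightDerived α n).app X + (NatTrans.rightDerived β n).app X := by
  let I := injectiveResolution X
  rw [InjectiveResolution.rightDerived_app_eq (α + β) I n,
    InjectiveResolution.rightDerived_app_eq α I n, InjectiveResolution.rightDerived_app_eq β I n]
  have h : (NatTrans.mapHomologicalComplex (α + β) (ComplexShape.up ℕ)).app I.cocomplex =
      (NatTrans.mapHomologicalComplex α (ComplexShape.up ℕ)).app I.cocomplex +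
        (NatTrans.mapHomologicalComplex β (ComplexShape.up ℕ)).app I.cocomplex := by
    ext i
    simp
    rfl
  rw [h, Functor.map_add, Preadditive.add_comp, Preadditive.comp_add]

lemma rightDerived_zero_app (n : ℕ) (X : C) :
    (NatTrans.rightDerived (0 : F ⟶ G) n).app X = 0 := by
  have h := rightDerived_add_app (0 : F ⟶ G) 0 n X
  rw [add_zero] at h
  exact left_eq_add.1 h

lemma rightDerived_neg_app (α : F ⟶ G) (n : ℕ) (X : C) :
    (NatTrans.rightDerived (-α) n).app X = -(NatTrans.rightDerived α n).app X := by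
  have h := rightDerived_add_app α (-α) n X
  rw [add_neg_cancel, rightDerived_zero_app] at h
  exact (neg_eq_of_add_eq_zero_right h.symm).symm

lemma rightDerived_sub_app (α β : F ⟶ G) (n : ℕ) (X : C) :
    (NatTrans.rightDerived (α - β) n).app X =
      (NatTrans.rightDerived α n).app X - (NatTrans.rightDerived β n).app X := by
  rw [sub_eq_add_neg, rightDerived_add_app, rightDerived_neg_app, ← sub_eq_add_neg]

lemma rightDerived_comp_app {H : C ⥤ D} [H.Additive] (α : F ⟶ G) (β : G ⟶ H) (n : ℕ) (X : C) :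
    (NatTrans.rightDerived (α ≫ β) n).app X =
      (NatTrans.rightDerived α n).app X ≫ (NatTrans.rightDerived β n).app X := by
  rw [NatTrans.rightDerived_comp, NatTrans.comp_app]

lemma rightDerived_id_app (n : ℕ) (X : C) :
    (NatTrans.rightDerived (𝟙 F) n).app X = 𝟙 _ := by
  rw [NatTrans.rightDerived_id, NatTrans.id_app]

end Add

section Bp

variable (G₁ G₂ : C ⥤ D)

/-- the pointwise biproduct of two functors -/
@[simps]
noncomputable def bp : C ⥤ D where
  obj X := G₁.obj X ⊞ G₂.obj X
  map f := biprod.map (G₁.map f) (G₂.map f)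
  map_id X := by ext <;> simp
  map_comp f g := by ext <;> simp

instance [G₁.Additive] [G₂.Additive] : (bp G₁ G₂).Additive where
  map_add {X Y f g} := by
    change biprod.map (G₁.map (f + g)) (G₂.map (f + g)) =
      biprod.map (G₁.map f) (G₂.map f) + biprod.map (G₁.map g) (G₂.map g)
    apply biprod.hom_ext <;> apply biprod.hom_ext' <;>
      simp [Functor.map_add, Preadditive.add_comp, Preadditive.comp_add]

/-- first projection -/
@[simps]
noncomputable def bpFst : bp G₁ G₂ ⟶ G₁ where
  app X := biprod.fst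
  naturality X Y f := biprod.map_fst _ _

/-- second projection -/
@[simps]
noncomputable def bpSnd : bp G₁ G₂ ⟶ G₂ where
  app X := biprod.snd
  naturality X Y f := biprod.map_snd _ _

/-- first inclusion -/
@[simps]
noncomputable def bpInl : G₁ ⟶ bp G₁ G₂ where
  app X := biprod.inl
  naturality X Y f := (biprod.inl_map _ _).symm

/-- second inclusion -/
@[simps]
noncomputable def bpInr : G₂ ⟶ bp G₁ G₂ where
  app X := biprod.inr
  naturality X Y f := (biprod.inr_map _ _).symm

variable {G₁ G₂}

/-- lift -/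
@[simps]
noncomputable def bpLift {H : C ⥤ D} (a : H ⟶ G₁) (b : H ⟶ G₂) : H ⟶ bp G₁ G₂ where
  app X := biprod.lift (a.app X) (b.app X)
  naturality X Y f := by
    change H.map f ≫ biprod.lift (a.app Y) (b.app Y) =
      biprod.lift (a.app X) (b.app X) ≫ biprod.map (G₁.map f) (G₂.map f)
    apply biprod.hom_ext <;> simp

/-- desc with a sign -/
@[simps]
noncomputable def bpDescNeg {H : C ⥤ D} (a : G₁ ⟶ H) (b : G₂ ⟶ H) : bp G₁ G₂ ⟶ H where
  app X := biprod.desc (a.app X) (-(b.app X))
  naturality X Y f := by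
    change biprod.map (G₁.map f) (G₂.map f) ≫ biprod.desc (a.app Y) (-(b.app Y)) =
      biprod.desc (a.app X) (-(b.app X)) ≫ H.map f
    apply biprod.hom_ext' <;> simp

lemma bpLift_fst {H : C ⥤ D} (a : H ⟶ G₁) (b : H ⟶ G₂) : bpLift a b ≫ bpFst G₁ G₂ = a := by
  ext X; exact biprod.lift_fst _ _

lemma bpLift_snd {H : C ⥤ D} (a : H ⟶ G₁) (b : H ⟶ G₂) : bpLift a b ≫ bpSnd G₁ G₂ = b := by
  ext X; exact biprod.lift_snd _ _

lemma bpDescNeg_eq {H : C ⥤ D} (a : G₁ ⟶ H) (b : G₂ ⟶ H) :
    bpDescNeg a b = bpFst G₁ G₂ ≫ a - bpSnd G₁ G₂ ≫ b := by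
  ext X
  have h : biprod.desc (a.app X) (-(b.app X)) =
      (biprod.fst : G₁.obj X ⊞ G₂.obj X ⟶ _) ≫ a.app X - biprod.snd ≫ b.app X := by
    rw [biprod.desc_eq, Preadditive.comp_neg, sub_eq_add_neg]
  exact h

variable (G₁ G₂)

lemma bp_total : bpFst G₁ G₂ ≫ bpInl G₁ G₂ + bpSnd G₁ G₂ ≫ bpInr G₁ G₂ = 𝟙 _ := by
  ext X
  exact biprod.total

lemma bpInl_fst : bpInl G₁ G₂ ≫ bpFst G₁ G₂ = 𝟙 _ := by ext X; exact biprod.inl_fst
lemma bpInl_snd : bpInl G₁ G₂ ≫ bpSnd G₁ G₂ = 0 := by ext X; exact biprod.inl_snd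
lemma bpInr_fst : bpInr G₁ G₂ ≫ bpFst G₁ G₂ = 0 := by ext X; exact biprod.inr_fst
lemma bpInr_snd : bpInr G₁ G₂ ≫ bpSnd G₁ G₂ = 𝟙 _ := by ext X; exact biprod.inr_snd

variable [G₁.Additive] [G₂.Additive]

/-- derived functors of the biproduct functor -/
noncomputable def θ (n : ℕ) (X : C) : ((bp G₁ G₂).rightDerived n).obj X ≅
    (G₁.rightDerived n).obj X ⊞ (G₂.rightDerived n).obj X where
  hom := biprod.lift ((NatTrans.rightDerived (bpFst G₁ G₂) n).app X)
    ((NatTrans.rightDerived (bpSnd G₁ G₂) n).app X)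
  inv := biprod.desc ((NatTrans.rightDerived (bpInl G₁ G₂) n).app X)
    ((NatTrans.rightDerived (bpInr G₁ G₂) n).app X)
  hom_inv_id := by
    rw [biprod.lift_desc, ← rightDerived_comp_app, ← rightDerived_comp_app, ← rightDerived_add_app,
      bp_total, rightDerived_id_app]
  inv_hom_id := by
    ext
    · simp only [Category.assoc, biprod.inl_desc_assoc, biprod.lift_fst, Category.comp_id,
        biprod.inl_fst]
      rw [← rightDerived_comp_app, bpInl_fst, rightDerived_id_app]
    · simp only [Category.assoc, biprod.inl_desc_assoc, biprod.lift_snd, Category.comp_id,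
        biprod.inl_snd]
      rw [← rightDerived_comp_app, bpInl_snd, rightDerived_zero_app]
    · simp only [Category.assoc, biprod.inr_desc_assoc, biprod.lift_fst, Category.comp_id,
        biprod.inr_fst]
      rw [← rightDerived_comp_app, bpInr_fst, rightDerived_zero_app]
    · simp only [Category.assoc, biprod.inr_desc_assoc, biprod.lift_snd, Category.comp_id,
        biprod.inr_snd]
      rw [← rightDerived_comp_app, bpInr_snd, rightDerived_id_app]

variable {G₁ G₂}

lemma lift_θ {H : C ⥤ D} [H.Additive] (a : H ⟶ G₁) (b : H ⟶ G₂) (n : ℕ) (X : C) :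
    (NatTrans.rightDerived (bpLift a b) n).app X ≫ (θ G₁ G₂ n X).hom =
      biprod.lift ((NatTrans.rightDerived a n).app X) ((NatTrans.rightDerived b n).app X) := by
  ext
  · simp only [θ, Category.assoc, biprod.lift_fst]
    rw [← rightDerived_comp_app, bpLift_fst]
  · simp only [θ, Category.assoc, biprod.lift_snd]
    rw [← rightDerived_comp_app, bpLift_snd]

lemma θ_desc {H : C ⥤ D} [H.Additive] (a : G₁ ⟶ H) (b : G₂ ⟶ H) (n : ℕ) (X : C) :
    (θ G₁ G₂ n X).hom ≫ biprod.desc ((NatTrans.rightDerived a n).app X)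
      (-(NatTrans.rightDerived b n).app X) = (NatTrans.rightDerived (bpDescNeg a b) n).app X := by
  rw [bpDescNeg_eq, rightDerived_sub_app, rightDerived_comp_app, rightDerived_comp_app]
  simp only [θ, biprod.lift_desc, Preadditive.comp_neg, sub_eq_add_neg]

end Bp

section Main

variable {F₁ G₁ G₂ F₃ : C ⥤ D} [F₁.Additive] [G₁.Additive] [G₂.Additive] [F₃.Additive]
  (a₁ : F₁ ⟶ G₁) (a₂ : F₁ ⟶ G₂) (b₁ : G₁ ⟶ F₃) (b₂ : G₂ ⟶ F₃)
  (hw : a₁ ≫ b₁ = a₂ ≫ b₂)
  (hpb : ∀ I : C, Injective I → IsPullback (a₁.app I) (a₂.app I) (b₁.app I) (b₂.app I))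
  (hepi : ∀ I : C, Injective I → Epi (biprod.desc (b₁.app I) (-(b₂.app I))))

include hw in
lemma w_zero : bpLift a₁ a₂ ≫ bpDescNeg b₁ b₂ = 0 := by
  ext X
  have h : biprod.lift (a₁.app X) (a₂.app X) ≫ biprod.desc (b₁.app X) (-(b₂.app X)) = 0 := by
    rw [biprod.lift_desc, Preadditive.comp_neg, ← sub_eq_add_neg, sub_eq_zero]
    exact congrArg (fun t => t.app X) hw
  exact h

include hpb hepi in
lemma hex (I : C) (hI : Injective I) :
    (ShortComplex.mk ((bpLift a₁ a₂).app I) ((bpDescNeg b₁ b₂).app I)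
      (by rw [← NatTrans.comp_app, w_zero a₁ a₂ b₁ b₂ hw]; rfl)).ShortExact where
  exact := (hpb I hI).exact_shortComplex'
  mono_f := (hpb I hI).mono_shortComplex'_f
  epi_g := hepi I hI

/-- the connecting maps -/
noncomputable def δ (X : C) (n : ℕ) : (F₃.rightDerived n).obj X ⟶ (F₁.rightDerived (n + 1)).obj X :=
  RLES.δ (bpLift a₁ a₂) (bpDescNeg b₁ b₂) (w_zero a₁ a₂ b₁ b₂ hw) (hex a₁ a₂ b₁ b₂ hw hpb hepi)
    (injectiveResolution X) n

include hw hpb in
lemma mono_zero (X : C) :
    Mono (biprod.lift ((NatTrans.rightDerived a₁ 0).app X) ((NatTrans.rightDerived a₂ 0).app X)) := by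
  let I := injectiveResolution X
  let α := bpLift a₁ a₂
  let β := bpDescNeg b₁ b₂
  have hw' := w_zero a₁ a₂ b₁ b₂ hw
  have hm : Mono ((RLES.SC α β hw' I).f.f 0) :=
    (hpb (I.cocomplex.X 0) inferInstance).mono_shortComplex'_f
  have hH : Mono (HomologicalComplex.homologyMap (RLES.SC α β hw' I).f 0) :=
    HomologicalComplex.mono_homologyMap_of_mono_of_not_rel _ 0 (by
      intro i h
      exact Nat.succ_ne_zero i h)
  have hnat := RLES.nat₁ α β hw' I 0 (X := X)
  have h1 : Mono ((NatTrans.rightDerived α 0).app X ≫ (RLES.j₂ α β hw' I 0).hom) := by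
    rw [hnat]
    infer_instance
  have h2 : Mono ((NatTrans.rightDerived α 0).app X) := mono_of_mono _ (RLES.j₂ α β hw' I 0).hom
  rw [← lift_θ a₁ a₂ 0 X]
  infer_instance

include hw hpb hepi in
theorem mv_les (X : C) :
    ∃ δ : ∀ n : ℕ, (F₃.rightDerived n).obj X ⟶ (F₁.rightDerived (n + 1)).obj X,
      Mono (biprod.lift ((NatTrans.rightDerived a₁ 0).app X)
        ((NatTrans.rightDerived a₂ 0).app X)) ∧
      ∀ n : ℕ,
        (ComposableArrows.mk₂
          (biprod.lift ((NatTrans.rightDerived a₁ n).app X) ((NatTrans.rightDerived a₂ n).app X))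
          (biprod.desc ((NatTrans.rightDerived b₁ n).app X)
            (-((NatTrans.rightDerived b₂ n).app X)))).Exact ∧
        (ComposableArrows.mk₂
          (biprod.desc ((NatTrans.rightDerived b₁ n).app X)
            (-((NatTrans.rightDerived b₂ n).app X)))
          (δ n)).Exact ∧
        (ComposableArrows.mk₂ (δ n)
          (biprod.lift ((NatTrans.rightDerived a₁ (n + 1)).app X)
            ((NatTrans.rightDerived a₂ (n + 1)).app X))).Exact := by
  let I := injectiveResolution X
  let α := bpLift a₁ a₂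
  let β := bpDescNeg b₁ b₂
  have hw' := w_zero a₁ a₂ b₁ b₂ hw
  have hex' := hex a₁ a₂ b₁ b₂ hw hpb hepi
  refine ⟨fun n => RLES.δ α β hw' hex' I n, mono_zero a₁ a₂ b₁ b₂ hw hpb X, fun n => ⟨?_, ?_, ?_⟩⟩
  · have h := RLES.exact₂ α β hw' hex' I n
    have hz : biprod.lift ((NatTrans.rightDerived a₁ n).app X) ((NatTrans.rightDerived a₂ n).app X) ≫
        biprod.desc ((NatTrans.rightDerived b₁ n).app X) (-((NatTrans.rightDerived b₂ n).app X)) = 0 := by
      rw [← lift_θ a₁ a₂ n X, Category.assoc, θ_desc b₁ b₂ n X]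
      exact RLES.comp_zero' α β hw' I n
    have e : ShortComplex.mk _ _ (RLES.comp_zero' α β hw' I n) ≅ ShortComplex.mk _ _ hz :=
      ShortComplex.isoMk (Iso.refl _) (θ G₁ G₂ n X) (Iso.refl _)
        (by
          dsimp only [Iso.refl_hom]
          rw [Category.id_comp]
          exact (lift_θ a₁ a₂ n X).symm)
        (by
          dsimp only [Iso.refl_hom]
          rw [Category.comp_id]
          exact θ_desc b₁ b₂ n X)
    exact (ShortComplex.exact_of_iso e h).exact_toComposableArrows
  · have h := RLES.exact₃ α β hw' hex' I n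
    have hz : biprod.desc ((NatTrans.rightDerived b₁ n).app X) (-((NatTrans.rightDerived b₂ n).app X)) ≫
        RLES.δ α β hw' hex' I n = 0 := by
      rw [← cancel_epi (θ G₁ G₂ n X).hom, ← Category.assoc, θ_desc b₁ b₂ n X, comp_zero]
      exact RLES.map_g_δ α β hw' hex' I n
    have e : ShortComplex.mk _ _ (RLES.map_g_δ α β hw' hex' I n) ≅ ShortComplex.mk _ _ hz :=
      ShortComplex.isoMk (θ G₁ G₂ n X) (Iso.refl _) (Iso.refl _)
        (by
          dsimp only [Iso.refl_hom]
          rw [Category.comp_id]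
          exact θ_desc b₁ b₂ n X)
        (by
          dsimp only [Iso.refl_hom]
          rw [Category.comp_id, Category.id_comp])
    exact (ShortComplex.exact_of_iso e h).exact_toComposableArrows
  · have h := RLES.exact₁ α β hw' hex' I n
    have hz : RLES.δ α β hw' hex' I n ≫
        biprod.lift ((NatTrans.rightDerived a₁ (n + 1)).app X)
          ((NatTrans.rightDerived a₂ (n + 1)).app X) = 0 := by
      rw [← lift_θ a₁ a₂ (n + 1) X, ← Category.assoc, RLES.δ_map_f α β hw' hex' I n, zero_comp]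
    have e : ShortComplex.mk _ _ (RLES.δ_map_f α β hw' hex' I n) ≅ ShortComplex.mk _ _ hz :=
      ShortComplex.isoMk (Iso.refl _) (Iso.refl _) (θ G₁ G₂ (n + 1) X)
        (by
          dsimp only [Iso.refl_hom]
          rw [Category.comp_id, Category.id_comp])
        (by
          dsimp only [Iso.refl_hom]
          rw [Category.id_comp]
          exact (lift_θ a₁ a₂ (n + 1) X).symm)
    exact (ShortComplex.exact_of_iso e h).exact_toComposableArrows

end Main

end Groth.Agent.H18.RDBiprod
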