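import Mathlib

set_option autoImplicit false
universe w w' v v' u u'
open CategoryTheory CategoryTheory.Limits Pretriangulated

namespace Groth.Agent.H18.RDPlus

variable {C : Type u} [Category.{v} C] [Abelian C]

/-- Inclusion of bounded below complexes of injectives. -/
noncomputable abbrev injι : HomotopyCategory.Plus (InjectiveObject C) ⥤ HomotopyCategory.Plus C :=
  (InjectiveObject.ι C).mapHomotopyCategoryPlus

lemma isKInjective_injι (J : HomotopyCategory.Plus (InjectiveObject C)) :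
    CochainComplex.IsKInjective ((injι (C := C)).obj J).1.as := by
  obtain ⟨K, rfl⟩ := HomotopyCategory.Plus.quotient_obj_surjective J
  exact inferInstanceAs (CochainComplex.IsKInjective
      (((InjectiveObject.ι C).mapHomologicalComplex (.up ℤ)).obj K.obj))

/-- transport of exactness along isomorphisms of composable pairs -/
lemma exact_of_isos {A : Type*} [Category A] [Abelian A] {X₁ X₂ X₃ Y₁ Y₂ Y₃ : A}
    (f : X₁ ⟶ X₂) (g : X₂ ⟶ X₃) (f' : Y₁ ⟶ Y₂) (g' : Y₂ ⟶ Y₃)
    (e₁ : Y₁ ≅ X₁) (e₂ : Y₂ ≅ X₂) (e₃ : Y₃ ≅ X₃)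
    (c₁ : f' ≫ e₂.hom = e₁.hom ≫ f) (c₂ : g' ≫ e₃.hom = e₂.hom ≫ g)
    (w' : f' ≫ g' = 0) (h : (ShortComplex.mk f' g' w').Exact) :
    ∃ w : f ≫ g = 0, (ShortComplex.mk f g w).Exact := by
  have w : f ≫ g = 0 := by
    rw [← cancel_epi e₁.hom, ← Category.assoc, ← c₁, Category.assoc, ← c₂, ← Category.assoc, w',
      zero_comp, comp_zero]
  refine ⟨w, (ShortComplex.exact_iff_of_iso ?_).1 h⟩
  exact ShortComplex.isoMk e₁ e₂ e₃ c₁.symm c₂.symm

variable [HasDerivedCategory.{w} C] [EnoughInjectives C]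

variable {D : Type u'} [Category.{v'} D] [Abelian D] [HasDerivedCategory.{w'} D]
  (F : C ⥤ D) [F.Additive]

/-- `K ↦ Q(F K)` as a functor `K⁺(C) ⥤ D(D)`. -/
noncomputable abbrev Θ : HomotopyCategory.Plus C ⥤ DerivedCategory D :=
  (F.mapHomotopyCategoryPlus ⋙ DerivedCategory.Plus.Qh) ⋙ DerivedCategory.Plus.ι

/-- `K ↦ RF(Q K)` as a functor `K⁺(C) ⥤ D(D)`. -/
noncomputable abbrev Ρ : HomotopyCategory.Plus C ⥤ DerivedCategory D :=
  (DerivedCategory.Plus.Qh ⋙ F.rightDerivedFunctorPlus) ⋙ DerivedCategory.Plus.ι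

/-- the unit `Q(F K) ⟶ RF(Q K)`. -/
noncomputable abbrev α : Θ F ⟶ Ρ F :=
  Functor.whiskerRight F.rightDerivedFunctorPlusUnit DerivedCategory.Plus.ι

instance (J : HomotopyCategory.Plus (InjectiveObject C)) : IsIso ((α F).app (injι.obj J)) := by
  dsimp [α]
  infer_instance



/-- Every distinguished triangle of `K⁺(C)` maps, by a morphism of triangles whose three components
become isomorphisms in `D⁺(C)`, to the image of a distinguished triangle of `K⁺(Inj C)`. -/
lemma exists_injective_triangle (T : Triangle (HomotopyCategory.Plus C))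
    (hT : T ∈ distTriang (HomotopyCategory.Plus C)) :
    ∃ (T' : Triangle (HomotopyCategory.Plus (InjectiveObject C)))
      (_ : T' ∈ distTriang (HomotopyCategory.Plus (InjectiveObject C)))
      (w : T ⟶ (injι (C := C)).mapTriangle.obj T'),
      IsIso (DerivedCategory.Plus.Qh.map w.hom₁) ∧ IsIso (DerivedCategory.Plus.Qh.map w.hom₂) ∧
        IsIso (DerivedCategory.Plus.Qh.map w.hom₃) := by
  let r₁ : (HomotopyCategory.Plus.localizerMorphism C).RightResolution T.obj₁ := Classical.arbitrary _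
  let r₂ : (HomotopyCategory.Plus.localizerMorphism C).RightResolution T.obj₂ := Classical.arbitrary _
  have h₁ : IsIso (DerivedCategory.Plus.Qh.map r₁.w) :=
    Localization.inverts DerivedCategory.Plus.Qh (HomotopyCategory.Plus.quasiIso C) _ r₁.hw
  have h₂ : IsIso (DerivedCategory.Plus.Qh.map r₂.w) :=
    Localization.inverts DerivedCategory.Plus.Qh (HomotopyCategory.Plus.quasiIso C) _ r₂.hw
  have hbij := fun (X : HomotopyCategory.Plus C) =>
    DerivedCategory.Plus.Qh_map_bijective_of_isKInjective X (injι.obj r₂.X₁) (isKInjective_injι r₂.X₁)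
  obtain ⟨φ, hφ⟩ := (hbij (injι.obj r₁.X₁)).2
    (inv (DerivedCategory.Plus.Qh.map r₁.w) ≫ DerivedCategory.Plus.Qh.map (T.mor₁ ≫ r₂.w))
  have hcomm : r₁.w ≫ φ = T.mor₁ ≫ r₂.w := by
    apply (hbij _).1
    rw [Functor.map_comp, hφ, IsIso.hom_inv_id_assoc]
  obtain ⟨φ', rfl⟩ := (injι (C := C)).map_surjective φ
  obtain ⟨Z, ψ, χ, hT'⟩ := distinguished_cocone_triangle φ'
  have hT'' := (injι (C := C)).map_distinguished _ hT'
  obtain ⟨c, hc₁, hc₂⟩ := complete_distinguished_triangle_morphism T _ hT hT'' r₁.w r₂.w hcomm.symm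
  refine ⟨Triangle.mk φ' ψ χ, hT', Triangle.homMk _ _ r₁.w r₂.w c hcomm.symm hc₁ hc₂, h₁, h₂, ?_⟩
  have := isIso₃_of_isIso₁₂ (DerivedCategory.Plus.Qh.mapTriangle.map
    (Triangle.homMk T ((injι (C := C)).mapTriangle.obj (Triangle.mk φ' ψ χ)) r₁.w r₂.w c hcomm.symm hc₁ hc₂))
    (DerivedCategory.Plus.Qh.map_distinguished _ hT)
    (DerivedCategory.Plus.Qh.map_distinguished _ hT'') h₁ h₂
  exact this

lemma isIso_Ρ_map {X Y : HomotopyCategory.Plus C} (u : X ⟶ Y)
    (hu : IsIso (DerivedCategory.Plus.Qh.map u)) (n : ℤ) :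
    IsIso ((Ρ F ⋙ DerivedCategory.homologyFunctor D n).map u) := by
  simp only [Functor.comp_map]
  infer_instance

/-- comparison isomorphism `H^n(Q(F X')) ≅ H^n(RF(Q X))` for a resolution `wX : X ⟶ X' = ι J`. -/
noncomputable def compIso {X : HomotopyCategory.Plus C} (J : HomotopyCategory.Plus (InjectiveObject C))
    (wX : X ⟶ injι.obj J) (hX : IsIso (DerivedCategory.Plus.Qh.map wX)) (n : ℤ) :
    (Θ F ⋙ DerivedCategory.homologyFunctor D n).obj (injι.obj J) ≅
      (Ρ F ⋙ DerivedCategory.homologyFunctor D n).obj X :=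
  have := isIso_Ρ_map F wX hX n
  asIso ((DerivedCategory.homologyFunctor D n).map ((α F).app (injι.obj J))) ≪≫
    (asIso ((Ρ F ⋙ DerivedCategory.homologyFunctor D n).map wX)).symm

lemma compIso_naturality {X Y : HomotopyCategory.Plus C} (J K : HomotopyCategory.Plus (InjectiveObject C))
    (wX : X ⟶ injι.obj J) (hX : IsIso (DerivedCategory.Plus.Qh.map wX))
    (wY : Y ⟶ injι.obj K) (hY : IsIso (DerivedCategory.Plus.Qh.map wY))
    (u : X ⟶ Y) (u' : injι.obj J ⟶ injι.obj K) (hu : wX ≫ u' = u ≫ wY) (n : ℤ) :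
    (Θ F ⋙ DerivedCategory.homologyFunctor D n).map u' ≫ (compIso F K wY hY n).hom =
      (compIso F J wX hX n).hom ≫ (Ρ F ⋙ DerivedCategory.homologyFunctor D n).map u := by
  have := isIso_Ρ_map F wX hX n
  have := isIso_Ρ_map F wY hY n
  have h1 : (Θ F ⋙ DerivedCategory.homologyFunctor D n).map u' ≫
      (DerivedCategory.homologyFunctor D n).map ((α F).app (injι.obj K)) =
      (DerivedCategory.homologyFunctor D n).map ((α F).app (injι.obj J)) ≫
        (Ρ F ⋙ DerivedCategory.homologyFunctor D n).map u' := by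
    simp only [Functor.comp_map, ← Functor.map_comp]
    congr 1
    exact (α F).naturality u'
  have h2 : (Ρ F ⋙ DerivedCategory.homologyFunctor D n).map u' ≫
      inv ((Ρ F ⋙ DerivedCategory.homologyFunctor D n).map wY) =
      inv ((Ρ F ⋙ DerivedCategory.homologyFunctor D n).map wX) ≫
        (Ρ F ⋙ DerivedCategory.homologyFunctor D n).map u := by
    rw [IsIso.comp_inv_eq, Category.assoc, IsIso.eq_inv_comp, ← Functor.map_comp, ← Functor.map_comp, hu]
  simp only [compIso, Iso.trans_hom, asIso_hom, Iso.symm_hom, asIso_inv]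
  rw [← Category.assoc, h1, Category.assoc, h2, Category.assoc]

/-- **Long exact sequence** for `RF` applied to a distinguished triangle of `K⁺(C)`. -/
theorem homologySequence_of_distTriang (T : Triangle (HomotopyCategory.Plus C))
    (hT : T ∈ distTriang (HomotopyCategory.Plus C)) (i : ℤ) :
    (∃ w : (Ρ F ⋙ DerivedCategory.homologyFunctor D i).map T.mor₁ ≫
        (Ρ F ⋙ DerivedCategory.homologyFunctor D i).map T.mor₂ = 0,
      (ShortComplex.mk _ _ w).Exact) ∧
    ∃ δ : (Ρ F ⋙ DerivedCategory.homologyFunctor D i).obj T.obj₃ ⟶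
        (Ρ F ⋙ DerivedCategory.homologyFunctor D (i + 1)).obj T.obj₁,
      (∃ w : (Ρ F ⋙ DerivedCategory.homologyFunctor D i).map T.mor₂ ≫ δ = 0,
        (ShortComplex.mk _ _ w).Exact) ∧
      (∃ w : δ ≫ (Ρ F ⋙ DerivedCategory.homologyFunctor D (i + 1)).map T.mor₁ = 0,
        (ShortComplex.mk _ _ w).Exact) := by
  obtain ⟨T', hT', w, h₁, h₂, h₃⟩ := exists_injective_triangle T hT
  have hΘ : (Θ F).mapTriangle.obj (injι.mapTriangle.obj T') ∈ distTriang (DerivedCategory D) :=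
    (Θ F).map_distinguished _ (injι.map_distinguished _ hT')
  have c₁ := compIso_naturality F T'.obj₁ T'.obj₂ w.hom₁ h₁ w.hom₂ h₂ T.mor₁ (injι.map T'.mor₁) w.comm₁.symm
  have c₂ := compIso_naturality F T'.obj₂ T'.obj₃ w.hom₂ h₂ w.hom₃ h₃ T.mor₂ (injι.map T'.mor₂) w.comm₂.symm
  refine ⟨?_, ?_⟩
  · exact exact_of_isos _ _ _ _ (compIso F T'.obj₁ w.hom₁ h₁ i) (compIso F T'.obj₂ w.hom₂ h₂ i)
      (compIso F T'.obj₃ w.hom₃ h₃ i) (c₁ i) (c₂ i) _ (DerivedCategory.HomologySequence.exact₂ _ hΘ i)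
  · refine ⟨(compIso F T'.obj₃ w.hom₃ h₃ i).inv ≫
      DerivedCategory.HomologySequence.δ ((Θ F).mapTriangle.obj (injι.mapTriangle.obj T')) i (i + 1) rfl ≫
      (compIso F T'.obj₁ w.hom₁ h₁ (i + 1)).hom, ?_, ?_⟩
    · exact exact_of_isos _ _ _ _ (compIso F T'.obj₂ w.hom₂ h₂ i) (compIso F T'.obj₃ w.hom₃ h₃ i)
        (compIso F T'.obj₁ w.hom₁ h₁ (i + 1)) (c₂ i) (Iso.hom_inv_id_assoc _ _).symm _
        (DerivedCategory.HomologySequence.exact₃ _ hΘ i (i + 1) rfl)
    · exact exact_of_isos _ _ _ _ (compIso F T'.obj₃ w.hom₃ h₃ i) (compIso F T'.obj₁ w.hom₁ h₁ (i + 1))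
        (compIso F T'.obj₂ w.hom₂ h₂ (i + 1)) (Iso.hom_inv_id_assoc _ _).symm (c₁ (i + 1)) _
        (DerivedCategory.HomologySequence.exact₁ _ hΘ i (i + 1) rfl)


lemma exists_iso_cone {𝒯 : Type*} [Category 𝒯] [Preadditive 𝒯] [HasZeroObject 𝒯] [HasShift 𝒯 ℤ]
    [∀ n : ℤ, (shiftFunctor 𝒯 n).Additive] [Pretriangulated 𝒯] (T₁ T₂ : Triangle 𝒯)
    (h₁ : T₁ ∈ distTriang 𝒯) (h₂ : T₂ ∈ distTriang 𝒯) (e₁ : T₁.obj₁ ≅ T₂.obj₁)
    (e₂ : T₁.obj₂ ≅ T₂.obj₂) (comm : T₁.mor₁ ≫ e₂.hom = e₁.hom ≫ T₂.mor₁) :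
    ∃ c : T₁.obj₃ ⟶ T₂.obj₃, IsIso c ∧ T₁.mor₂ ≫ c = e₂.hom ≫ T₂.mor₂ := by
  refine ⟨(isoTriangleOfIso₁₂ T₁ T₂ h₁ h₂ e₁ e₂ comm).hom.hom₃, inferInstance, ?_⟩
  have := (isoTriangleOfIso₁₂ T₁ T₂ h₁ h₂ e₁ e₂ comm).hom.comm₂
  rw [isoTriangleOfIso₁₂_hom_hom₂] at this
  exact this

omit [EnoughInjectives C] in
/-- A short exact sequence of bounded below complexes gives a distinguished triangle of `K⁺(C)`
whose third vertex maps quasi-isomorphically to the third term. -/
lemma exists_triangle_of_shortExact {X₁ X₂ X₃ : CochainComplex.Plus C} (f : X₁ ⟶ X₂) (g : X₂ ⟶ X₃)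
    (w : f.hom ≫ g.hom = 0) (hS : (ShortComplex.mk f.hom g.hom w).ShortExact) :
    ∃ (Z : HomotopyCategory.Plus C) (ψ : (HomotopyCategory.Plus.quotient C).obj X₂ ⟶ Z)
      (χ : Z ⟶ ((HomotopyCategory.Plus.quotient C).obj X₁)⟦(1 : ℤ)⟧)
      (p : Z ⟶ (HomotopyCategory.Plus.quotient C).obj X₃),
      Triangle.mk ((HomotopyCategory.Plus.quotient C).map f) ψ χ ∈
        distTriang (HomotopyCategory.Plus C) ∧
      ψ ≫ p = (HomotopyCategory.Plus.quotient C).map g ∧
      IsIso (DerivedCategory.Plus.Qh.map p) := by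
  obtain ⟨Z, ψ, χ, hT⟩ := distinguished_cocone_triangle ((HomotopyCategory.Plus.quotient C).map f)
  have hT' : (HomotopyCategory.Plus.ι C).mapTriangle.obj (Triangle.mk _ ψ χ) ∈
      distTriang (HomotopyCategory C (ComplexShape.up ℤ)) := hT
  obtain ⟨c, hc, hc'⟩ := exists_iso_cone _ _ hT'
    (HomotopyCategory.mappingCone_triangleh_distinguished f.hom)
    (Iso.refl ((HomotopyCategory.quotient C (ComplexShape.up ℤ)).obj X₁.obj))
    (Iso.refl ((HomotopyCategory.quotient C (ComplexShape.up ℤ)).obj X₂.obj))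
    ((Category.comp_id _).trans (Category.id_comp _).symm)
  replace hc' : (HomotopyCategory.Plus.ι C).map ψ ≫ c =
      (HomotopyCategory.quotient C (ComplexShape.up ℤ)).map (CochainComplex.mappingCone.inr f.hom) :=
    hc'.trans (Category.id_comp _)
  have hqi : QuasiIso (CochainComplex.mappingCone.descShortComplex (ShortComplex.mk f.hom g.hom w)) :=
    CochainComplex.mappingCone.quasiIso_descShortComplex hS
  obtain ⟨q, hq⟩ : ∃ q : (HomotopyCategory.Plus.ι C).obj Z ⟶
      (HomotopyCategory.Plus.ι C).obj ((HomotopyCategory.Plus.quotient C).obj X₃), q =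
    c ≫ (HomotopyCategory.quotient C (ComplexShape.up ℤ)).map
      (CochainComplex.mappingCone.descShortComplex (ShortComplex.mk f.hom g.hom w)) := ⟨_, rfl⟩
  refine ⟨Z, ψ, χ, (HomotopyCategory.Plus.fullyFaithfulι C).preimage q, hT, ?_, ?_⟩
  · apply (HomotopyCategory.Plus.ι C).map_injective
    rw [Functor.map_comp, Functor.FullyFaithful.map_preimage, hq]
    have h1 := CochainComplex.mappingCone.inr_descShortComplex (ShortComplex.mk f.hom g.hom w)
    have h2 := congrArg (HomotopyCategory.quotient C (ComplexShape.up ℤ)).map h1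
    rw [Functor.map_comp] at h2
    calc (HomotopyCategory.Plus.ι C).map ψ ≫ c ≫ _ = ((HomotopyCategory.Plus.ι C).map ψ ≫ c) ≫ _ :=
          (Category.assoc _ _ _).symm
      _ = _ := by rw [hc']; exact h2
  · apply Localization.inverts DerivedCategory.Plus.Qh (HomotopyCategory.Plus.quasiIso C)
    rw [HomotopyCategory.Plus.quasiIso_iff]
    have : ((HomotopyCategory.Plus.fullyFaithfulι C).preimage q).hom = q :=
      (HomotopyCategory.Plus.fullyFaithfulι C).map_preimage q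
    rw [this, hq]
    apply MorphismProperty.comp_mem
    · exact MorphismProperty.of_isIso _ _
    · exact (HomotopyCategory.quotient_map_mem_quasiIso_iff
        (CochainComplex.mappingCone.descShortComplex (ShortComplex.mk f.hom g.hom w))).2
        ((HomologicalComplex.mem_quasiIso_iff _).2 hqi)


/-- **Long exact sequence** for `RF` applied to a short exact sequence of bounded below complexes. -/
theorem homologySequence_of_shortExact {X₁ X₂ X₃ : CochainComplex.Plus C} (f : X₁ ⟶ X₂) (g : X₂ ⟶ X₃)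
    (w : f.hom ≫ g.hom = 0) (hS : (ShortComplex.mk f.hom g.hom w).ShortExact) (i : ℤ) :
    (∃ w : (Ρ F ⋙ DerivedCategory.homologyFunctor D i).map ((HomotopyCategory.Plus.quotient C).map f) ≫
        (Ρ F ⋙ DerivedCategory.homologyFunctor D i).map ((HomotopyCategory.Plus.quotient C).map g) = 0,
      (ShortComplex.mk _ _ w).Exact) ∧
    ∃ δ : (Ρ F ⋙ DerivedCategory.homologyFunctor D i).obj ((HomotopyCategory.Plus.quotient C).obj X₃) ⟶
        (Ρ F ⋙ DerivedCategory.homologyFunctor D (i + 1)).obj ((HomotopyCategory.Plus.quotient C).obj X₁),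
      (∃ w : (Ρ F ⋙ DerivedCategory.homologyFunctor D i).map ((HomotopyCategory.Plus.quotient C).map g) ≫ δ = 0,
        (ShortComplex.mk _ _ w).Exact) ∧
      (∃ w : δ ≫ (Ρ F ⋙ DerivedCategory.homologyFunctor D (i + 1)).map
          ((HomotopyCategory.Plus.quotient C).map f) = 0,
        (ShortComplex.mk _ _ w).Exact) := by
  obtain ⟨Z, ψ, χ, p, hT, hp, hpi⟩ := exists_triangle_of_shortExact f g w hS
  obtain ⟨⟨w₂, ex₂⟩, δ₀, ⟨w₃, ex₃⟩, ⟨w₁, ex₁⟩⟩ := homologySequence_of_distTriang F _ hT i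
  have := isIso_Ρ_map F p hpi i
  have hg : (Ρ F ⋙ DerivedCategory.homologyFunctor D i).map ψ ≫
      (asIso ((Ρ F ⋙ DerivedCategory.homologyFunctor D i).map p)).hom =
      (Iso.refl _).hom ≫ (Ρ F ⋙ DerivedCategory.homologyFunctor D i).map
        ((HomotopyCategory.Plus.quotient C).map g) := by
    rw [asIso_hom, ← Functor.map_comp, hp, Iso.refl_hom, Category.id_comp]
  refine ⟨?_, inv ((Ρ F ⋙ DerivedCategory.homologyFunctor D i).map p) ≫ δ₀, ?_, ?_⟩
  · exact exact_of_isos _ _ _ _ (Iso.refl _) (Iso.refl _)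
      (asIso ((Ρ F ⋙ DerivedCategory.homologyFunctor D i).map p))
      ((Category.comp_id _).trans (Category.id_comp _).symm) hg _ ex₂
  · exact exact_of_isos _ _ _ _ (Iso.refl _)
      (asIso ((Ρ F ⋙ DerivedCategory.homologyFunctor D i).map p)) (Iso.refl _) hg
      (by simp) _ ex₃
  · exact exact_of_isos _ _ _ _
      (asIso ((Ρ F ⋙ DerivedCategory.homologyFunctor D i).map p)) (Iso.refl _) (Iso.refl _)
      (by simp) ((Category.comp_id _).trans (Category.id_comp _).symm) _ ex₁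

end Groth.Agent.H18.RDPlus
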