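import Groth.Agent.Lib.helper18.RDPlus
import Mathlib

set_option autoImplicit false
set_option linter.unusedSectionVars false
open CategoryTheory CategoryTheory.Limits Pretriangulated

namespace Groth.Agent.H18.RDPlus

namespace ExtendMap

variable {ι ι' : Type*} {c : ComplexShape ι} {c' : ComplexShape ι'}
variable {C D : Type*} [Category C] [Category D] [HasZeroObject C] [HasZeroObject D]
  [HasZeroMorphisms C] [HasZeroMorphisms D]
variable (F : C ⥤ D) [F.PreservesZeroMorphisms]

/-- `F` commutes with the auxiliary `extend.X`. -/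
noncomputable def mapXIso (K : HomologicalComplex C c) :
    ∀ (o : Option ι), F.obj (HomologicalComplex.extend.X K o) ≅
      HomologicalComplex.extend.X ((F.mapHomologicalComplex c).obj K) o
  | some _ => Iso.refl _
  | none => F.mapZeroObject

lemma mapXIso_hom_d (K : HomologicalComplex C c) : ∀ (o o' : Option ι),
    F.map (HomologicalComplex.extend.d K o o') ≫ (mapXIso F K o').hom =
      (mapXIso F K o).hom ≫ HomologicalComplex.extend.d ((F.mapHomologicalComplex c).obj K) o o'
  | none, _ => by
      simp only [HomologicalComplex.extend.d_none_eq_zero _ _ _ rfl, F.map_zero, zero_comp, comp_zero]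
  | some i, some j => by
      dsimp [mapXIso, HomologicalComplex.extend.d]
      erw [Category.comp_id, Category.id_comp]
      rfl
  | some _, none => by
      simp only [HomologicalComplex.extend.d_none_eq_zero' _ _ _ rfl, F.map_zero, zero_comp, comp_zero]

lemma mapXIso_hom_mapX {K L : HomologicalComplex C c} (φ : K ⟶ L) : ∀ (o : Option ι),
    F.map (HomologicalComplex.extend.mapX φ o) ≫ (mapXIso F L o).hom =
      (mapXIso F K o).hom ≫ HomologicalComplex.extend.mapX ((F.mapHomologicalComplex c).map φ) o
  | none => by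
      simp only [HomologicalComplex.extend.mapX_none _ rfl, F.map_zero, zero_comp, comp_zero]
  | some i => by
      dsimp [mapXIso, HomologicalComplex.extend.mapX]
      erw [Category.comp_id, Category.id_comp]
      rfl

/-- `F` commutes with `extend`. -/
noncomputable def mapExtendIso (K : HomologicalComplex C c) (e : c.Embedding c') :
    (F.mapHomologicalComplex c').obj (K.extend e) ≅ ((F.mapHomologicalComplex c).obj K).extend e :=
  HomologicalComplex.Hom.isoOfComponents (fun i' => mapXIso F K (e.r i'))
    (fun i' j' _ => (mapXIso_hom_d F K (e.r i') (e.r j')).symm)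

lemma mapExtendIso_hom_naturality {K L : HomologicalComplex C c} (φ : K ⟶ L) (e : c.Embedding c') :
    (F.mapHomologicalComplex c').map (HomologicalComplex.extendMap φ e) ≫ (mapExtendIso F L e).hom =
      (mapExtendIso F K e).hom ≫ HomologicalComplex.extendMap ((F.mapHomologicalComplex c).map φ) e := by
  ext i'
  exact mapXIso_hom_mapX F φ (e.r i')

end ExtendMap


lemma three_squares {A : Type*} [Category A] {X0 X1 X2 X3 Y0 Y1 Y2 Y3 : A}
    (f0 : X0 ⟶ Y0) (f1 : X1 ⟶ Y1) (f2 : X2 ⟶ Y2) (f3 : X3 ⟶ Y3)
    (aK : X0 ⟶ X1) (bK : X1 ⟶ X2) (cK : X2 ⟶ X3) (aL : Y0 ⟶ Y1) (bL : Y1 ⟶ Y2) (cL : Y2 ⟶ Y3)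
    (h1 : f0 ≫ aL = aK ≫ f1) (h2 : f1 ≫ bL = bK ≫ f2) (h3 : f2 ≫ cL = cK ≫ f3) :
    f0 ≫ (aL ≫ bL ≫ cL) = (aK ≫ bK ≫ cK) ≫ f3 := by
  rw [← Category.assoc, h1, Category.assoc, ← Category.assoc f1, h2, Category.assoc, Category.assoc,
    Category.assoc, h3]

section aIso

universe w' v v' u u'

variable {C : Type u} [Category.{v} C] [Abelian C]
  {D : Type u'} [Category.{v'} D] [Abelian D] [HasDerivedCategory.{w'} D]
  (F : C ⥤ D) [F.Additive]

/-- `H^n` of `F` applied to an `ℕ`-indexed complex, computed in the derived category on the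
`ℤ`-indexed extension. -/
noncomputable def aIso (K : CochainComplex C ℕ) (n : ℕ) :
    ((F.mapHomologicalComplex (ComplexShape.up ℕ)).obj K).homology n ≅
      (DerivedCategory.homologyFunctor D (n : ℤ)).obj (DerivedCategory.Q.obj
        ((F.mapHomologicalComplex (ComplexShape.up ℤ)).obj (K.extend ComplexShape.embeddingUpNat))) :=
  (HomologicalComplex.extendHomologyIso ((F.mapHomologicalComplex (ComplexShape.up ℕ)).obj K)
      ComplexShape.embeddingUpNat (j := n) (j' := (n : ℤ)) rfl).symm ≪≫
    (HomologicalComplex.homologyFunctor D _ (n : ℤ)).mapIso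
      (ExtendMap.mapExtendIso F K ComplexShape.embeddingUpNat).symm ≪≫
    ((DerivedCategory.homologyFunctorFactors D (n : ℤ)).app _).symm

lemma aIso_hom_naturality {K L : CochainComplex C ℕ} (φ : K ⟶ L) (n : ℕ) :
    HomologicalComplex.homologyMap ((F.mapHomologicalComplex (ComplexShape.up ℕ)).map φ) n ≫
        (aIso F L n).hom =
      (aIso F K n).hom ≫ (DerivedCategory.homologyFunctor D (n : ℤ)).map (DerivedCategory.Q.map
        ((F.mapHomologicalComplex (ComplexShape.up ℤ)).map
          (HomologicalComplex.extendMap φ ComplexShape.embeddingUpNat))) := by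
  have h1 := HomologicalComplex.extendHomologyIso_hom_naturality
    ((F.mapHomologicalComplex (ComplexShape.up ℕ)).map φ) ComplexShape.embeddingUpNat
    (j := n) (j' := (n : ℤ)) rfl
  have h3 := (DerivedCategory.homologyFunctorFactors D (n : ℤ)).inv.naturality
    ((F.mapHomologicalComplex (ComplexShape.up ℤ)).map
      (HomologicalComplex.extendMap φ ComplexShape.embeddingUpNat))
  have h1' : HomologicalComplex.homologyMap ((F.mapHomologicalComplex (ComplexShape.up ℕ)).map φ) n ≫
      (HomologicalComplex.extendHomologyIso ((F.mapHomologicalComplex (ComplexShape.up ℕ)).obj L)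
        ComplexShape.embeddingUpNat (j := n) (j' := (n : ℤ)) rfl).inv =
      (HomologicalComplex.extendHomologyIso ((F.mapHomologicalComplex (ComplexShape.up ℕ)).obj K)
        ComplexShape.embeddingUpNat (j := n) (j' := (n : ℤ)) rfl).inv ≫
      HomologicalComplex.homologyMap (HomologicalComplex.extendMap
        ((F.mapHomologicalComplex (ComplexShape.up ℕ)).map φ) ComplexShape.embeddingUpNat) (n : ℤ) := by
    rw [Iso.comp_inv_eq, Category.assoc, Iso.eq_inv_comp]
    exact h1.symm
  have h2' : HomologicalComplex.homologyMap (HomologicalComplex.extendMap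
        ((F.mapHomologicalComplex (ComplexShape.up ℕ)).map φ) ComplexShape.embeddingUpNat) (n : ℤ) ≫
      HomologicalComplex.homologyMap (ExtendMap.mapExtendIso F L ComplexShape.embeddingUpNat).inv (n : ℤ) =
      HomologicalComplex.homologyMap (ExtendMap.mapExtendIso F K ComplexShape.embeddingUpNat).inv (n : ℤ) ≫
      HomologicalComplex.homologyMap ((F.mapHomologicalComplex (ComplexShape.up ℤ)).map
        (HomologicalComplex.extendMap φ ComplexShape.embeddingUpNat)) (n : ℤ) := by
    rw [← HomologicalComplex.homologyMap_comp, ← HomologicalComplex.homologyMap_comp]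
    congr 1
    rw [Iso.comp_inv_eq, Category.assoc, Iso.eq_inv_comp]
    exact (ExtendMap.mapExtendIso_hom_naturality F φ ComplexShape.embeddingUpNat).symm
  have h2'' : HomologicalComplex.homologyMap (HomologicalComplex.extendMap
        ((F.mapHomologicalComplex (ComplexShape.up ℕ)).map φ) ComplexShape.embeddingUpNat) (n : ℤ) ≫
      (HomologicalComplex.homologyFunctor D (ComplexShape.up ℤ) (n : ℤ)).map
        (ExtendMap.mapExtendIso F L ComplexShape.embeddingUpNat).inv =
      (HomologicalComplex.homologyFunctor D (ComplexShape.up ℤ) (n : ℤ)).map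
        (ExtendMap.mapExtendIso F K ComplexShape.embeddingUpNat).inv ≫
      (HomologicalComplex.homologyFunctor D (ComplexShape.up ℤ) (n : ℤ)).map
        ((F.mapHomologicalComplex (ComplexShape.up ℤ)).map
        (HomologicalComplex.extendMap φ ComplexShape.embeddingUpNat)) := h2'
  exact three_squares _ _ _ _ _ _ _ _ _ _ h1' h2'' h3

end aIso

section bridge

universe w w' v v' u u'

variable {C : Type u} [Category.{v} C] [Abelian C] [HasDerivedCategory.{w} C] [EnoughInjectives C]
  {D : Type u'} [Category.{v'} D] [Abelian D] [HasDerivedCategory.{w'} D]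
  (F : C ⥤ D) [F.Additive]

/-- comparison isomorphism `H^n(Q(F K')) ≅ H^n(RF(Q X))` for a quasi-isomorphism `wX : X ⟶ K'`
with `K'` right `F`-acyclic (unit iso). -/
noncomputable def compIso' {X K' : HomotopyCategory.Plus C} (wX : X ⟶ K')
    (hX : IsIso (DerivedCategory.Plus.Qh.map wX)) (hK' : IsIso ((α F).app K')) (n : ℤ) :
    (Θ F ⋙ DerivedCategory.homologyFunctor D n).obj K' ≅
      (Ρ F ⋙ DerivedCategory.homologyFunctor D n).obj X :=
  have := isIso_Ρ_map F wX hX n
  asIso ((DerivedCategory.homologyFunctor D n).map ((α F).app K')) ≪≫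
    (asIso ((Ρ F ⋙ DerivedCategory.homologyFunctor D n).map wX)).symm

lemma compIso'_naturality {X Y K' L' : HomotopyCategory.Plus C}
    (wX : X ⟶ K') (hX : IsIso (DerivedCategory.Plus.Qh.map wX)) (hK' : IsIso ((α F).app K'))
    (wY : Y ⟶ L') (hY : IsIso (DerivedCategory.Plus.Qh.map wY)) (hL' : IsIso ((α F).app L'))
    (u : X ⟶ Y) (u' : K' ⟶ L') (hu : wX ≫ u' = u ≫ wY) (n : ℤ) :
    (Θ F ⋙ DerivedCategory.homologyFunctor D n).map u' ≫ (compIso' F wY hY hL' n).hom =
      (compIso' F wX hX hK' n).hom ≫ (Ρ F ⋙ DerivedCategory.homologyFunctor D n).map u := by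
  have := isIso_Ρ_map F wX hX n
  have := isIso_Ρ_map F wY hY n
  have h1 : (Θ F ⋙ DerivedCategory.homologyFunctor D n).map u' ≫
      (DerivedCategory.homologyFunctor D n).map ((α F).app L') =
      (DerivedCategory.homologyFunctor D n).map ((α F).app K') ≫
        (Ρ F ⋙ DerivedCategory.homologyFunctor D n).map u' := by
    simp only [Functor.comp_map, ← Functor.map_comp]
    congr 1
    exact (α F).naturality u'
  have h2 : (Ρ F ⋙ DerivedCategory.homologyFunctor D n).map u' ≫
      inv ((Ρ F ⋙ DerivedCategory.homologyFunctor D n).map wY) =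
      inv ((Ρ F ⋙ DerivedCategory.homologyFunctor D n).map wX) ≫
        (Ρ F ⋙ DerivedCategory.homologyFunctor D n).map u := by
    rw [IsIso.comp_inv_eq, Category.assoc, IsIso.eq_inv_comp, ← Functor.map_comp, ← Functor.map_comp, hu]
  simp only [compIso', Iso.trans_hom, asIso_hom, Iso.symm_hom, asIso_inv]
  rw [← Category.assoc, h1, Category.assoc, h2, Category.assoc]

/-- single complex as object of `CochainComplex.Plus`. -/
noncomputable def singlePlus (X : C) : CochainComplex.Plus C :=
  ⟨(CochainComplex.singleFunctor C 0).obj X, ⟨0, inferInstance⟩⟩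

/-- the `ℤ`-indexed injective resolution as an object of `CochainComplex.Plus`. -/
noncomputable def resPlus {X : C} (R : InjectiveResolution X) : CochainComplex.Plus C :=
  ⟨R.cochainComplex, ⟨0, inferInstance⟩⟩

/-- the augmentation `X[0] ⟶ I` in `CochainComplex.Plus`. -/
noncomputable def resι {X : C} (R : InjectiveResolution X) : singlePlus X ⟶ resPlus R :=
  ObjectProperty.homMk R.ι'

lemma isIso_Qh_resι {X : C} (R : InjectiveResolution X) :
    IsIso (DerivedCategory.Plus.Qh.map ((HomotopyCategory.Plus.quotient C).map (resι R))) := by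
  apply Localization.inverts DerivedCategory.Plus.Qh (HomotopyCategory.Plus.quasiIso C)
  rw [HomotopyCategory.Plus.quasiIso_iff]
  exact (HomotopyCategory.quotient_map_mem_quasiIso_iff R.ι').2
    ((HomologicalComplex.mem_quasiIso_iff _).2 inferInstance)

lemma isIso_α_resPlus {X : C} (R : InjectiveResolution X) :
    IsIso ((α F).app ((HomotopyCategory.Plus.quotient C).obj (resPlus R))) := by
  have : ∀ n : ℤ, Injective ((resPlus R).obj.X n) := fun n =>
    inferInstanceAs (Injective (R.cochainComplex.X n))
  dsimp [α]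
  infer_instance

/-- **Bridge**: `RⁿF X ≅ Hⁿ(RF(X[0]))`, computed through an injective resolution `R`. -/
noncomputable def bridge {X : C} (R : InjectiveResolution X) (n : ℕ) :
    (F.rightDerived n).obj X ≅ (Ρ F ⋙ DerivedCategory.homologyFunctor D (n : ℤ)).obj
      ((HomotopyCategory.Plus.singleFunctor C 0).obj X) :=
  R.isoRightDerivedObj F n ≪≫ aIso F R.cocomplex n ≪≫
    compIso' F ((HomotopyCategory.Plus.quotient C).map (resι R)) (isIso_Qh_resι R)
      (isIso_α_resPlus F R) (n : ℤ)

lemma bridge_hom_naturality {X Y : C} (f : X ⟶ Y) (RX : InjectiveResolution X)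
    (RY : InjectiveResolution Y) (φ : InjectiveResolution.Hom RX RY f) (n : ℕ) :
    (F.rightDerived n).map f ≫ (bridge F RY n).hom =
      (bridge F RX n).hom ≫ (Ρ F ⋙ DerivedCategory.homologyFunctor D (n : ℤ)).map
        ((HomotopyCategory.Plus.singleFunctor C 0).map f) := by
  have s1 := InjectiveResolution.isoRightDerivedObj_hom_naturality f RX RY φ.hom
    (by simpa using φ.ι_f_zero_comp_hom_f_zero) F n
  have s2 := aIso_hom_naturality F φ.hom n
  have hu : (HomotopyCategory.Plus.quotient C).map (resι RX) ≫
      (HomotopyCategory.Plus.quotient C).map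
        (ObjectProperty.homMk φ.hom' : resPlus RX ⟶ resPlus RY) =
      (HomotopyCategory.Plus.singleFunctor C 0).map f ≫
        (HomotopyCategory.Plus.quotient C).map (resι RY) := by
    show _ = (HomotopyCategory.Plus.quotient C).map
      (ObjectProperty.homMk ((CochainComplex.singleFunctor C 0).map f) : singlePlus X ⟶ singlePlus Y) ≫ _
    rw [← Functor.map_comp, ← Functor.map_comp]
    congr 1
    ext : 1
    exact InjectiveResolution.Hom.ι'_comp_hom' φ
  have s3 := compIso'_naturality F _ (isIso_Qh_resι RX) (isIso_α_resPlus F RX)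
    _ (isIso_Qh_resι RY) (isIso_α_resPlus F RY) _ _ hu (n : ℤ)
  exact three_squares _ _ _ _ _ _ _ _ _ _ s1 s2 s3

end bridge

section LES

universe w w' v v' u u'

variable {C : Type u} [Category.{v} C] [Abelian C] [HasDerivedCategory.{w} C] [EnoughInjectives C]
  {D : Type u'} [Category.{v'} D] [Abelian D] [HasDerivedCategory.{w'} D]
  (F : C ⥤ D) [F.Additive]

/-- **Bridge (natural)**: `RⁿF ≅ (X ↦ Hⁿ(RF(X[0])))`. -/
noncomputable def rightDerivedIso (n : ℕ) :
    F.rightDerived n ≅ HomotopyCategory.Plus.singleFunctor C 0 ⋙ Ρ F ⋙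
      DerivedCategory.homologyFunctor D (n : ℤ) :=
  NatIso.ofComponents (fun X => bridge F (injectiveResolution X) n) (fun {X Y} f =>
    bridge_hom_naturality F f _ _
      ⟨InjectiveResolution.desc f (injectiveResolution Y) (injectiveResolution X),
        by simpa using InjectiveResolution.desc_commutes_zero f _ _⟩ n)

lemma shortExact_single (S : ShortComplex C) (hS : S.ShortExact) :
    (ShortComplex.mk ((CochainComplex.singleFunctor C 0).map S.f)
      ((CochainComplex.singleFunctor C 0).map S.g)
      (by rw [← Functor.map_comp, S.zero, Functor.map_zero])).ShortExact :=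
  hS.map_of_exact (HomologicalComplex.single C (ComplexShape.up ℤ) 0)

end LES

section LES2

universe w w' v v' u u'

variable {C : Type u} [Category.{v} C] [Abelian C] [HasDerivedCategory.{w} C] [EnoughInjectives C]
  {D : Type u'} [Category.{v'} D] [Abelian D] [HasDerivedCategory.{w'} D]
  (F : C ⥤ D) [F.Additive]

/-- variant of `rightDerivedIso` with `(n : ℤ) + 1` in place of `((n + 1 : ℕ) : ℤ)`. -/
noncomputable def rightDerivedIsoSucc (n : ℕ) :
    F.rightDerived (n + 1) ≅ HomotopyCategory.Plus.singleFunctor C 0 ⋙ Ρ F ⋙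
      DerivedCategory.homologyFunctor D ((n : ℤ) + 1) :=
  rightDerivedIso F (n + 1) ≪≫ eqToIso (by rw [Nat.cast_succ])

/-- Long exact sequence of the right derived functors of an additive functor (version with
derived categories in the hypotheses). -/
theorem rightDerived_homologySequence_aux (S : ShortComplex C) (hS : S.ShortExact) (n : ℕ) :
    (∃ w : (F.rightDerived n).map S.f ≫ (F.rightDerived n).map S.g = 0,
      (ShortComplex.mk _ _ w).Exact) ∧
    ∃ δ : (F.rightDerived n).obj S.X₃ ⟶ (F.rightDerived (n + 1)).obj S.X₁,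
      (∃ w : (F.rightDerived n).map S.g ≫ δ = 0, (ShortComplex.mk _ _ w).Exact) ∧
      (∃ w : δ ≫ (F.rightDerived (n + 1)).map S.f = 0, (ShortComplex.mk _ _ w).Exact) := by
  obtain ⟨⟨w₂, ex₂⟩, δ₀, ⟨w₃, ex₃⟩, ⟨w₁, ex₁⟩⟩ := homologySequence_of_shortExact F
    (X₁ := singlePlus S.X₁) (X₂ := singlePlus S.X₂) (X₃ := singlePlus S.X₃)
    (ObjectProperty.homMk ((CochainComplex.singleFunctor C 0).map S.f))
    (ObjectProperty.homMk ((CochainComplex.singleFunctor C 0).map S.g))
    (by
      show (CochainComplex.singleFunctor C 0).map S.f ≫ (CochainComplex.singleFunctor C 0).map S.g = 0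
      rw [← Functor.map_comp, S.zero, Functor.map_zero])
    (shortExact_single S hS) (n : ℤ)
  have nat₀ := fun {X Y : C} (f : X ⟶ Y) => (rightDerivedIso F n).inv.naturality f
  have nat₁ := fun {X Y : C} (f : X ⟶ Y) => (rightDerivedIsoSucc F n).inv.naturality f
  refine ⟨?_, (rightDerivedIso F n).hom.app S.X₃ ≫ δ₀ ≫ (rightDerivedIsoSucc F n).inv.app S.X₁, ?_, ?_⟩
  · exact exact_of_isos _ _ _ _ ((rightDerivedIso F n).symm.app S.X₁)
      ((rightDerivedIso F n).symm.app S.X₂) ((rightDerivedIso F n).symm.app S.X₃)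
      (nat₀ S.f) (nat₀ S.g) _ ex₂
  · exact exact_of_isos _ _ _ _ ((rightDerivedIso F n).symm.app S.X₂)
      ((rightDerivedIso F n).symm.app S.X₃) ((rightDerivedIsoSucc F n).symm.app S.X₁)
      (nat₀ S.g) (by simp; rfl) _ ex₃
  · exact exact_of_isos _ _ _ _ ((rightDerivedIso F n).symm.app S.X₃)
      ((rightDerivedIsoSucc F n).symm.app S.X₁) ((rightDerivedIsoSucc F n).symm.app S.X₂)
      (by simp; rfl) (nat₁ S.f) _ ex₁

end LES2

section LES3

universe w w' v v' u u'

variable {C : Type u} [Category.{v} C] [Abelian C] [HasDerivedCategory.{w} C] [EnoughInjectives C]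
  {D : Type u'} [Category.{v'} D] [Abelian D] [HasDerivedCategory.{w'} D]
  (F : C ⥤ D) [F.Additive]

/-- `RF` preserves the property of being cohomologically `≥ a`. -/
lemma isGE_rightDerivedFunctorPlus_obj (K : DerivedCategory.Plus C) (a : ℤ) [K.IsGE a] :
    (F.rightDerivedFunctorPlus.obj K).IsGE a := by
  obtain ⟨L, hL, ⟨e⟩⟩ := DerivedCategory.Plus.exists_injective_nonempty_iso K a
  let X : HomotopyCategory.Plus C := (HomotopyCategory.Plus.quotient C).obj
    ((InjectiveObject.ι C).mapCochainComplexPlus.obj L)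
  have hiso : IsIso (F.rightDerivedFunctorPlusUnit.app X) := by
    dsimp only [X]
    infer_instance
  let e' : (F.mapHomotopyCategoryPlus ⋙ DerivedCategory.Plus.Qh).obj X ≅
      F.rightDerivedFunctorPlus.obj K :=
    asIso (F.rightDerivedFunctorPlusUnit.app X) ≪≫ F.rightDerivedFunctorPlus.mapIso e
  rw [← DerivedCategory.Plus.isGE_ι_obj_iff]
  have hGE : (DerivedCategory.Plus.ι.obj
      ((F.mapHomotopyCategoryPlus ⋙ DerivedCategory.Plus.Qh).obj X)).IsGE a := by
    have h1 : CochainComplex.IsStrictlyGE
        (((InjectiveObject.ι C ⋙ F).mapHomologicalComplex (ComplexShape.up ℤ)).obj L.obj) a := by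
      infer_instance
    have h2 : (DerivedCategory.Q.obj
        (((InjectiveObject.ι C ⋙ F).mapHomologicalComplex (ComplexShape.up ℤ)).obj L.obj)).IsGE a := by
      infer_instance
    exact h2
  exact DerivedCategory.TStructure.t.isGE_of_iso (DerivedCategory.Plus.ι.mapIso e') a

/-- `Hⁱ(RF(Q K)) = 0` for `i < a` when `K` is strictly `≥ a`. -/
lemma isZero_homology_Ρ_of_isStrictlyGE (K : CochainComplex.Plus C) (a : ℤ)
    [K.obj.IsStrictlyGE a] (i : ℤ) (hi : i < a) :
    IsZero ((Ρ F ⋙ DerivedCategory.homologyFunctor D i).obj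
      ((HomotopyCategory.Plus.quotient C).obj K)) := by
  have h2 : (DerivedCategory.Q.obj K.obj).IsGE a := inferInstance
  have h3 : (DerivedCategory.Plus.Qh.obj ((HomotopyCategory.Plus.quotient C).obj K)).IsGE a := by
    rw [← DerivedCategory.Plus.isGE_ι_obj_iff]
    exact h2
  have h4 := isGE_rightDerivedFunctorPlus_obj F
    (DerivedCategory.Plus.Qh.obj ((HomotopyCategory.Plus.quotient C).obj K)) a
  exact DerivedCategory.Plus.isZero_homology_of_isGE (F.rightDerivedFunctorPlus.obj
    (DerivedCategory.Plus.Qh.obj ((HomotopyCategory.Plus.quotient C).obj K))) a i hi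

/-- `R⁰F` preserves monomorphisms coming from short exact sequences. -/
lemma mono_rightDerived_zero_map_aux (S : ShortComplex C) (hS : S.ShortExact) :
    Mono ((F.rightDerived 0).map S.f) := by
  obtain ⟨-, δ₀, -, ⟨w₁, ex₁⟩⟩ := homologySequence_of_shortExact F
    (X₁ := singlePlus S.X₁) (X₂ := singlePlus S.X₂) (X₃ := singlePlus S.X₃)
    (ObjectProperty.homMk ((CochainComplex.singleFunctor C 0).map S.f))
    (ObjectProperty.homMk ((CochainComplex.singleFunctor C 0).map S.g))
    (by
      show (CochainComplex.singleFunctor C 0).map S.f ≫ (CochainComplex.singleFunctor C 0).map S.g = 0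
      rw [← Functor.map_comp, S.zero, Functor.map_zero])
    (shortExact_single S hS) (-1)
  have hz : IsZero ((Ρ F ⋙ DerivedCategory.homologyFunctor D (-1)).obj
      ((HomotopyCategory.Plus.quotient C).obj (singlePlus S.X₃))) := by
    have : (singlePlus S.X₃).obj.IsStrictlyGE 0 :=
      inferInstanceAs (((CochainComplex.singleFunctor C 0).obj S.X₃).IsStrictlyGE 0)
    exact isZero_homology_Ρ_of_isStrictlyGE F (singlePlus S.X₃) 0 (-1) (by lia)
  have hm := ex₁.mono_g (hz.eq_of_src _ _)
  dsimp only at hm
  -- transport along the bridge, `-1 + 1 = 0`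
  have e : F.rightDerived 0 ≅ HomotopyCategory.Plus.singleFunctor C 0 ⋙ Ρ F ⋙
      DerivedCategory.homologyFunctor D (-1 + 1) := rightDerivedIso F 0
  have hn := e.hom.naturality S.f
  have : Mono ((F.rightDerived 0).map S.f ≫ e.hom.app S.X₂) := by
    rw [hn]
    have : Mono ((HomotopyCategory.Plus.singleFunctor C 0 ⋙ Ρ F ⋙
      DerivedCategory.homologyFunctor D (-1 + 1)).map S.f) := hm
    infer_instance
  exact mono_of_mono _ (e.hom.app S.X₂)

end LES3

section free

universe v v' u u'

variable {C : Type u} [Category.{v} C] [Abelian C] [EnoughInjectives C]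
  {D : Type u'} [Category.{v'} D] [Abelian D] (F : C ⥤ D) [F.Additive]

/-- **Long exact sequence of right derived functors** of an additive functor along a short exact
sequence (existence of the connecting morphisms). -/
theorem rightDerived_homologySequence (S : ShortComplex C) (hS : S.ShortExact) (n : ℕ) :
    (∃ w : (F.rightDerived n).map S.f ≫ (F.rightDerived n).map S.g = 0,
      (ShortComplex.mk _ _ w).Exact) ∧
    ∃ δ : (F.rightDerived n).obj S.X₃ ⟶ (F.rightDerived (n + 1)).obj S.X₁,
      (∃ w : (F.rightDerived n).map S.g ≫ δ = 0, (ShortComplex.mk _ _ w).Exact) ∧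
      (∃ w : δ ≫ (F.rightDerived (n + 1)).map S.f = 0, (ShortComplex.mk _ _ w).Exact) := by
  let _ : HasDerivedCategory C := HasDerivedCategory.standard C
  let _ : HasDerivedCategory D := HasDerivedCategory.standard D
  exact rightDerived_homologySequence_aux F S hS n

/-- `R⁰F` sends the monomorphism of a short exact sequence to a monomorphism. -/
theorem mono_rightDerived_zero_map (S : ShortComplex C) (hS : S.ShortExact) :
    Mono ((F.rightDerived 0).map S.f) := by
  let _ : HasDerivedCategory C := HasDerivedCategory.standard C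
  let _ : HasDerivedCategory D := HasDerivedCategory.standard D
  exact mono_rightDerived_zero_map_aux F S hS

end free
end Groth.Agent.H18.RDPlus
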