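import Groth.Agent.Lib.helper18.RDPlus2
import Mathlib

set_option autoImplicit false
set_option linter.unusedSectionVars false
open CategoryTheory CategoryTheory.Limits Pretriangulated

namespace Groth.Agent.H18.RDPlus

universe w w' v v' u u'

variable {C : Type u} [Category.{v} C] [Abelian C] [HasDerivedCategory.{w} C] [EnoughInjectives C]
  {D : Type u'} [Category.{v'} D] [Abelian D] [HasDerivedCategory.{w'} D]
  (F : C ⥤ D) [F.Additive]

/-- The unit `Q(F K) ⟶ RF(Q K)` is an isomorphism iff `F` preserves one (any) quasi-isomorphism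
from `K` to a right `F`-acyclic complex (e.g. a bounded below complex of injectives). -/
lemma unit_isIso_iff {K K' : HomotopyCategory.Plus C} (u : K ⟶ K')
    (hu : IsIso (DerivedCategory.Plus.Qh.map u))
    (hK' : IsIso (F.rightDerivedFunctorPlusUnit.app K')) :
    IsIso (F.rightDerivedFunctorPlusUnit.app K) ↔
      IsIso (DerivedCategory.Plus.Qh.map (F.mapHomotopyCategoryPlus.map u)) := by
  have hn := F.rightDerivedFunctorPlusUnit.naturality u
  have h1 : IsIso ((DerivedCategory.Plus.Qh ⋙ F.rightDerivedFunctorPlus).map u) := by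
    rw [Functor.comp_map]
    infer_instance
  constructor
  · intro h
    have h2 : IsIso ((F.mapHomotopyCategoryPlus ⋙ DerivedCategory.Plus.Qh).map u ≫
        F.rightDerivedFunctorPlusUnit.app K') := by
      rw [hn]
      infer_instance
    exact (isIso_comp_right_iff ((F.mapHomotopyCategoryPlus ⋙ DerivedCategory.Plus.Qh).map u)
      (F.rightDerivedFunctorPlusUnit.app K')).1 h2
  · intro h
    have h' : IsIso ((F.mapHomotopyCategoryPlus ⋙ DerivedCategory.Plus.Qh).map u) := h
    have h2 : IsIso (F.rightDerivedFunctorPlusUnit.app K ≫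
        (DerivedCategory.Plus.Qh ⋙ F.rightDerivedFunctorPlus).map u) := by
      rw [← hn]
      infer_instance
    exact (isIso_comp_right_iff (F.rightDerivedFunctorPlusUnit.app K)
      ((DerivedCategory.Plus.Qh ⋙ F.rightDerivedFunctorPlus).map u)).1 h2

/-- `IsIso` in `D⁺` can be tested after `Θ`-style embedding into `D`. -/
lemma isIso_Qh_map_iff_Θ {K K' : HomotopyCategory.Plus C} (u : K ⟶ K') :
    IsIso (DerivedCategory.Plus.Qh.map (F.mapHomotopyCategoryPlus.map u)) ↔
      IsIso ((Θ F).map u) := by
  constructor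
  · intro h
    show IsIso (DerivedCategory.Plus.ι.map
      (DerivedCategory.Plus.Qh.map (F.mapHomotopyCategoryPlus.map u)))
    infer_instance
  · intro h
    have h' : IsIso (DerivedCategory.Plus.ι.map
      (DerivedCategory.Plus.Qh.map (F.mapHomotopyCategoryPlus.map u))) := h
    exact isIso_of_fully_faithful DerivedCategory.Plus.ι _

set_option backward.defeqAttrib.useBackward true in
set_option backward.isDefEq.respectTransparency false in
lemma isIso_toRightDerivedZero_app_iff {X : C} (R : InjectiveResolution X) :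
    IsIso (F.toRightDerivedZero.app X) ↔
      IsIso (HomologicalComplex.homologyMap
        ((F.mapHomologicalComplex (ComplexShape.up ℕ)).map R.ι) 0) := by
  have h1 : IsIso (F.toRightDerivedZero.app X) ↔ IsIso (R.toRightDerivedZero' F) := by
    rw [R.toRightDerivedZero_eq F]
    exact isIso_comp_right_iff _ _
  rw [h1]
  have hφ : F.map (R.ι.f 0) ≫ ((F.mapHomologicalComplex (ComplexShape.up ℕ)).obj R.cocomplex).d 0 1 = 0 := by
    dsimp
    rw [← F.map_comp, HomologicalComplex.Hom.comm, HomologicalComplex.single_obj_d,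
      zero_comp, F.map_zero]
  have h2 : IsIso (R.toRightDerivedZero' F) ↔
      (ShortComplex.mk _ _ hφ).Exact ∧ Mono (F.map (R.ι.f 0)) := by
    dsimp [InjectiveResolution.toRightDerivedZero']
    rw [CochainComplex.isIso_liftCycles_iff]
    rfl
  rw [h2, ← quasiIsoAt_iff_isIso_homologyMap, CochainComplex.quasiIsoAt₀_iff,
    ShortComplex.quasiIso_iff_of_zeros]
  · rfl
  · simp
  · simp
  · simp


/-- unit iso on the `ℤ`-indexed injective resolution (unwhiskered version). -/
lemma isIso_unit_resPlus {X : C} (R : InjectiveResolution X) :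
    IsIso (F.rightDerivedFunctorPlusUnit.app ((HomotopyCategory.Plus.quotient C).obj (resPlus R))) := by
  have : ∀ n : ℤ, Injective ((resPlus R).obj.X n) := fun n =>
    inferInstanceAs (Injective (R.cochainComplex.X n))
  infer_instance

/-- `H⁰` of `Q(F(X[0])) ⟶ Q(F(I))` is an isomorphism iff `F X ⟶ R⁰F X` is. -/
lemma isIso_homology_zero_Θ_resι_iff {X : C} (R : InjectiveResolution X) :
    IsIso ((DerivedCategory.homologyFunctor D 0).map
      ((Θ F).map ((HomotopyCategory.Plus.quotient C).map (resι R)))) ↔
      IsIso (F.toRightDerivedZero.app X) := by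
  rw [isIso_toRightDerivedZero_app_iff F R]
  have hnat := aIso_hom_naturality F R.ι 0
  have h1 : IsIso (HomologicalComplex.homologyMap
      ((F.mapHomologicalComplex (ComplexShape.up ℕ)).map R.ι) 0) ↔
      IsIso ((DerivedCategory.homologyFunctor D ((0 : ℕ) : ℤ)).map (DerivedCategory.Q.map
        ((F.mapHomologicalComplex (ComplexShape.up ℤ)).map
          (HomologicalComplex.extendMap R.ι ComplexShape.embeddingUpNat)))) := by
    constructor
    · intro h
      have h2 : IsIso ((aIso F _ 0).hom ≫ (DerivedCategory.homologyFunctor D ((0 : ℕ) : ℤ)).map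
          (DerivedCategory.Q.map ((F.mapHomologicalComplex (ComplexShape.up ℤ)).map
          (HomologicalComplex.extendMap R.ι ComplexShape.embeddingUpNat)))) := by
        rw [← hnat]
        infer_instance
      exact (isIso_comp_left_iff _ _).1 h2
    · intro h
      have h2 : IsIso (HomologicalComplex.homologyMap
          ((F.mapHomologicalComplex (ComplexShape.up ℕ)).map R.ι) 0 ≫ (aIso F R.cocomplex 0).hom) := by
        rw [hnat]
        infer_instance
      exact (isIso_comp_right_iff _ _).1 h2
  rw [h1]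
  -- `ι' = extendSingleIso.inv ≫ extendMap ι`
  have h3 : (Θ F).map ((HomotopyCategory.Plus.quotient C).map (resι R)) =
      DerivedCategory.Q.map ((F.mapHomologicalComplex (ComplexShape.up ℤ)).map
        (HomologicalComplex.extendSingleIso ComplexShape.embeddingUpNat X 0 0 (by simp)).inv) ≫
      DerivedCategory.Q.map ((F.mapHomologicalComplex (ComplexShape.up ℤ)).map
          (HomologicalComplex.extendMap R.ι ComplexShape.embeddingUpNat)) := by
    rw [← Functor.map_comp, ← Functor.map_comp]
    rfl
  rw [h3]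
  obtain ⟨A, hA, hAiso⟩ : ∃ A, A = DerivedCategory.Q.map
      ((F.mapHomologicalComplex (ComplexShape.up ℤ)).map
        (HomologicalComplex.extendSingleIso ComplexShape.embeddingUpNat X 0 0 (by simp)).inv) ∧
      IsIso A := ⟨_, rfl, inferInstance⟩
  rw [← hA]
  erw [Functor.map_comp]
  have : IsIso ((DerivedCategory.homologyFunctor D 0).map A) := inferInstance
  exact isIso_comp_left_iff ((DerivedCategory.homologyFunctor D 0).map A) _


/-- `Hⁿ(Q(F K)) = 0` for `n < a` if `K` is strictly `≥ a`. -/
lemma isZero_homology_Θ_of_isStrictlyGE (K : CochainComplex.Plus C) (a : ℤ)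
    [K.obj.IsStrictlyGE a] (n : ℤ) (hn : n < a) :
    IsZero ((DerivedCategory.homologyFunctor D n).obj
      ((Θ F).obj ((HomotopyCategory.Plus.quotient C).obj K))) := by
  have h1 : CochainComplex.IsStrictlyGE
      ((F.mapHomologicalComplex (ComplexShape.up ℤ)).obj K.obj) a := inferInstance
  have h2 : (DerivedCategory.Q.obj
      ((F.mapHomologicalComplex (ComplexShape.up ℤ)).obj K.obj)).IsGE a := inferInstance
  exact DerivedCategory.isZero_of_isGE (DerivedCategory.Q.obj
      ((F.mapHomologicalComplex (ComplexShape.up ℤ)).obj K.obj)) a n hn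

/-- `Hⁿ(Q(F K)) = 0` for `n > b` if `K` is strictly `≤ b`. -/
lemma isZero_homology_Θ_of_isStrictlyLE (K : CochainComplex.Plus C) (b : ℤ)
    [K.obj.IsStrictlyLE b] (n : ℤ) (hn : b < n) :
    IsZero ((DerivedCategory.homologyFunctor D n).obj
      ((Θ F).obj ((HomotopyCategory.Plus.quotient C).obj K))) := by
  have h1 : CochainComplex.IsStrictlyLE
      ((F.mapHomologicalComplex (ComplexShape.up ℤ)).obj K.obj) b := inferInstance
  have h2 : (DerivedCategory.Q.obj
      ((F.mapHomologicalComplex (ComplexShape.up ℤ)).obj K.obj)).IsLE b := inferInstance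
  exact DerivedCategory.isZero_of_isLE (DerivedCategory.Q.obj
      ((F.mapHomologicalComplex (ComplexShape.up ℤ)).obj K.obj)) b n hn

/-- `RⁿF X ≅ Hⁿ(Q(F I))` for an injective resolution `I` of `X`. -/
noncomputable def rightDerivedObjIsoΘ {X : C} (R : InjectiveResolution X) (n : ℕ) :
    (F.rightDerived n).obj X ≅ (DerivedCategory.homologyFunctor D (n : ℤ)).obj
      ((Θ F).obj ((HomotopyCategory.Plus.quotient C).obj (resPlus R))) :=
  R.isoRightDerivedObj F n ≪≫ aIso F R.cocomplex n

lemma isIso_iff_isZero_of_isZero_src {A : Type*} [Category A] [HasZeroMorphisms A] {X Y : A}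
    (f : X ⟶ Y) (hX : IsZero X) : IsIso f ↔ IsZero Y := by
  constructor
  · intro h
    exact IsZero.of_iso hX (asIso f).symm
  · intro hY
    exact ⟨0, hX.eq_of_src _ _, hY.eq_of_src _ _⟩

/-- **Right acyclicity criterion**: the unit `Q(F(X)[0]) ⟶ RF(X[0])` is an isomorphism iff
`F X ⟶ R⁰F X` is an isomorphism and `RⁱF X = 0` for `i > 0`. -/
theorem unit_isIso_single_iff (X : C) :
    IsIso (F.rightDerivedFunctorPlusUnit.app ((HomotopyCategory.Plus.singleFunctor C 0).obj X)) ↔
      (IsIso (F.toRightDerivedZero.app X) ∧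
        ∀ i : ℕ, 0 < i → IsZero ((F.rightDerived i).obj X)) := by
  let R := injectiveResolution X
  have hGE : (singlePlus X).obj.IsStrictlyGE 0 :=
    inferInstanceAs (((CochainComplex.singleFunctor C 0).obj X).IsStrictlyGE 0)
  have hLE : (singlePlus X).obj.IsStrictlyLE 0 :=
    inferInstanceAs (((CochainComplex.singleFunctor C 0).obj X).IsStrictlyLE 0)
  have hGE' : (resPlus R).obj.IsStrictlyGE 0 :=
    inferInstanceAs (R.cochainComplex.IsStrictlyGE 0)
  have key : IsIso (F.rightDerivedFunctorPlusUnit.app
      ((HomotopyCategory.Plus.singleFunctor C 0).obj X)) ↔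
      ∀ n : ℤ, IsIso ((DerivedCategory.homologyFunctor D n).map
        ((Θ F).map ((HomotopyCategory.Plus.quotient C).map (resι R)))) := by
    rw [← DerivedCategory.isIso_iff, ← isIso_Qh_map_iff_Θ]
    exact unit_isIso_iff F ((HomotopyCategory.Plus.quotient C).map (resι R)) (isIso_Qh_resι R)
      (isIso_unit_resPlus F R)
  rw [key]
  constructor
  · intro h
    refine ⟨(isIso_homology_zero_Θ_resι_iff F R).1 (h 0), fun i hi => ?_⟩
    have hz := (isIso_iff_isZero_of_isZero_src _
      (isZero_homology_Θ_of_isStrictlyLE F (singlePlus X) 0 (i : ℤ) (by exact_mod_cast hi))).1 (h i)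
    exact IsZero.of_iso hz (rightDerivedObjIsoΘ F R i)
  · rintro ⟨h0, hpos⟩ n
    rcases lt_trichotomy n 0 with hn | rfl | hn
    · exact ⟨0, (isZero_homology_Θ_of_isStrictlyGE F (singlePlus X) 0 n hn).eq_of_src _ _,
        (isZero_homology_Θ_of_isStrictlyGE F (resPlus R) 0 n hn).eq_of_src _ _⟩
    · exact (isIso_homology_zero_Θ_resι_iff F R).2 h0
    · obtain ⟨i, rfl⟩ := Int.eq_ofNat_of_zero_le hn.le
      rw [isIso_iff_isZero_of_isZero_src _
        (isZero_homology_Θ_of_isStrictlyLE F (singlePlus X) 0 (i : ℤ) hn)]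
      exact IsZero.of_iso (hpos i (by exact_mod_cast hn)) (rightDerivedObjIsoΘ F R i).symm

end Groth.Agent.H18.RDPlus
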