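import Groth.Agent.Lib.helper18.RDPlus3
import Groth.Agent.S6619
import Mathlib

set_option autoImplicit false
set_option linter.unusedSectionVars false
open CategoryTheory CategoryTheory.Limits Pretriangulated

namespace Groth.Agent.H18.RDPlus

section acyc

universe v v' u u'

variable {C : Type u} [Category.{v} C] [Abelian C] [EnoughInjectives C]
  {D : Type u'} [Category.{v'} D] [Abelian D] (F : C ⥤ D) [F.Additive]

/-- right `F`-acyclic objects: `RⁱF X = 0` for `i > 0`. -/
def FAcyc (X : C) : Prop := ∀ i : ℕ, 0 < i → IsZero ((F.rightDerived i).obj X)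

lemma FAcyc.of_isZero {X : C} (hX : IsZero X) : FAcyc F X := by
  intro i hi
  obtain ⟨j, rfl⟩ : ∃ j, i = j + 1 := ⟨i - 1, by omega⟩
  have : Injective X := hX.injective
  exact F.isZero_rightDerived_obj_injective_succ j X

lemma FAcyc.of_injective (X : C) [Injective X] : FAcyc F X := by
  intro i hi
  obtain ⟨j, rfl⟩ : ∃ j, i = j + 1 := ⟨i - 1, by omega⟩
  exact F.isZero_rightDerived_obj_injective_succ j X

lemma FAcyc.of_iso {X Y : C} (e : X ≅ Y) (hX : FAcyc F X) : FAcyc F Y :=
  fun i hi => IsZero.of_iso (hX i hi) ((F.rightDerived i).mapIso e.symm)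

variable [PreservesFiniteLimits F]

/-- third term of a short exact sequence with the first two `F`-acyclic. -/
lemma FAcyc.of_shortExact₃ (S : ShortComplex C) (hS : S.ShortExact) (h₁ : FAcyc F S.X₁)
    (h₂ : FAcyc F S.X₂) : FAcyc F S.X₃ ∧ (S.map F).ShortExact :=
  (Groth.Agent.S6619.result F S hS).2.1 h₁ h₂

lemma FAcyc.of_shortExact₂ (S : ShortComplex C) (hS : S.ShortExact) (h₁ : FAcyc F S.X₁)
    (h₃ : FAcyc F S.X₃) : FAcyc F S.X₂ ∧ (S.map F).ShortExact :=
  (Groth.Agent.S6619.result F S hS).1 h₁ h₃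

lemma FAcyc.biprod {X Y : C} (hX : FAcyc F X) (hY : FAcyc F Y) : FAcyc F (X ⊞ Y) := by
  have hS : (ShortComplex.mk (biprod.inl : X ⟶ X ⊞ Y) biprod.snd (by simp)).ShortExact := by
    refine ShortComplex.Splitting.shortExact ?_
    exact { r := biprod.fst, s := biprod.inr, id := by simp [biprod.total] }
  exact (FAcyc.of_shortExact₂ F _ hS hX hY).1

end acyc


section acyc2

universe v v' u u'

variable {C : Type u} [Category.{v} C] [Abelian C] [EnoughInjectives C]
  {D : Type u'} [Category.{v'} D] [Abelian D] (F : C ⥤ D) [F.Additive] [PreservesFiniteLimits F]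

/-- `F` of an acyclic bounded below complex of right `F`-acyclic objects is acyclic. -/
theorem acyclic_map_of_FAcyc (E : CochainComplex C ℤ) (a : ℤ) [E.IsStrictlyGE a] (hE : E.Acyclic)
    (hacyc : ∀ n, FAcyc F (E.X n)) :
    ((F.mapHomologicalComplex (ComplexShape.up ℤ)).obj E).Acyclic := by
  -- cycles and the canonical maps
  let i : ∀ n : ℤ, kernel (E.d n (n + 1)) ⟶ E.X n := fun n => kernel.ι (E.d n (n + 1))
  let p : ∀ n : ℤ, E.X n ⟶ kernel (E.d (n + 1) (n + 1 + 1)) := fun n =>
    kernel.lift (E.d (n + 1) (n + 1 + 1)) (E.d n (n + 1)) (E.d_comp_d _ _ _)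
  have hp : ∀ n, p n ≫ i (n + 1) = E.d n (n + 1) := fun n => kernel.lift_ι _ _ _
  have hex : ∀ n, (ShortComplex.mk (E.d n (n + 1)) (E.d (n + 1) (n + 1 + 1))
      (E.d_comp_d _ _ _)).Exact := fun n =>
    (E.exactAt_iff' n (n + 1) (n + 1 + 1) (by simp) (by simp)).1 (hE (n + 1))
  have hpepi : ∀ n, Epi (p n) := fun n => (ShortComplex.exact_iff_epi_kernel_lift _).1 (hex n)
  have hzero : ∀ n, i n ≫ p n = 0 := fun n => by
    rw [← cancel_mono (i (n + 1)), Category.assoc, hp, zero_comp]
    exact kernel.condition _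
  have hS : ∀ n, (ShortComplex.mk (i n) (p n) (hzero n)).ShortExact := fun n => by
    have hexact : (ShortComplex.mk (i n) (p n) (hzero n)).Exact := by
      let φ : ShortComplex.mk (i n) (p n) (hzero n) ⟶
          ShortComplex.mk (kernel.ι (E.d n (n + 1))) (E.d n (n + 1)) (kernel.condition _) :=
        { τ₁ := 𝟙 _
          τ₂ := 𝟙 _
          τ₃ := i (n + 1)
          comm₁₂ := by simp [i]
          comm₂₃ := by simp [hp] }
      have : Epi φ.τ₁ := by dsimp [φ]; infer_instance
      have : IsIso φ.τ₂ := by dsimp [φ]; infer_instance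
      have : Mono φ.τ₃ := by dsimp [φ, i]; infer_instance
      exact (ShortComplex.exact_iff_of_epi_of_isIso_of_mono φ).2 (ShortComplex.exact_kernel _)
    exact { exact := hexact, mono_f := by dsimp [i]; infer_instance, epi_g := hpepi n }
  -- all the cycles are `F`-acyclic
  have hZzero : ∀ n, n < a → IsZero (kernel (E.d n (n + 1))) := fun n hn =>
    IsZero.of_mono (i n) (E.isZero_of_isStrictlyGE a n hn)
  have A : ∀ k : ℕ, ∀ m : ℤ, m = a - 1 + k → FAcyc F (kernel (E.d m (m + 1))) := by
    intro k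
    induction k with
    | zero =>
      intro m hm
      exact FAcyc.of_isZero F (hZzero m (by rw [hm]; simp))
    | succ k ih =>
      intro m hm
      obtain ⟨m', rfl⟩ : ∃ m', m = m' + 1 := ⟨m - 1, by ring⟩
      exact (FAcyc.of_shortExact₃ F _ (hS m') (ih m' (by push_cast at hm; lia)) (hacyc _)).1
  have A' : ∀ n : ℤ, FAcyc F (kernel (E.d n (n + 1))) := by
    intro n
    by_cases hn : n < a - 1
    · exact FAcyc.of_isZero F (hZzero n (by lia))
    · obtain ⟨k, hk⟩ := Int.eq_ofNat_of_zero_le (show 0 ≤ n - (a - 1) by lia)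
      exact A k n (by lia)
  have B : ∀ n, Epi (F.map (p n)) := fun n =>
    (FAcyc.of_shortExact₃ F _ (hS n) (A' n) (hacyc n)).2.epi_g
  intro m
  obtain ⟨n, rfl⟩ : ∃ n, m = n + 1 := ⟨m - 1, by ring⟩
  rw [HomologicalComplex.exactAt_iff' _ n (n + 1) (n + 1 + 1) (by simp) (by simp)]
  have hk : ((ShortComplex.mk (kernel.ι (E.d (n + 1) (n + 1 + 1))) (E.d (n + 1) (n + 1 + 1))
      (kernel.condition _)).map F).Exact :=
    (ShortComplex.exact_kernel _).map_of_mono_of_preservesKernel F inferInstance inferInstance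
  let φ : ((F.mapHomologicalComplex (ComplexShape.up ℤ)).obj E).sc' n (n + 1) (n + 1 + 1) ⟶
      (ShortComplex.mk (kernel.ι (E.d (n + 1) (n + 1 + 1))) (E.d (n + 1) (n + 1 + 1))
        (kernel.condition _)).map F :=
    { τ₁ := F.map (p n)
      τ₂ := 𝟙 _
      τ₃ := 𝟙 _
      comm₁₂ := ((F.map_comp _ _).symm.trans (congrArg F.map (hp n))).trans (Category.comp_id _).symm
      comm₂₃ := (Category.id_comp _).trans (Category.comp_id _).symm }
  have : Epi φ.τ₁ := B n
  have : IsIso φ.τ₂ := by
    show IsIso (𝟙 (F.obj (E.X (n + 1))))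
    infer_instance
  have : Mono φ.τ₃ := by
    show Mono (𝟙 (F.obj (E.X (n + 1 + 1))))
    infer_instance
  exact (ShortComplex.exact_iff_of_epi_of_isIso_of_mono φ).2 hk

end acyc2

section leray

universe w w' v v' u u'

variable {C : Type u} [Category.{v} C] [Abelian C] [HasDerivedCategory.{w} C] [EnoughInjectives C]
  {D : Type u'} [Category.{v'} D] [Abelian D] [HasDerivedCategory.{w'} D]
  (F : C ⥤ D) [F.Additive]

/-- 2-out-of-3 for the class of complexes on which the unit of `RF` is an isomorphism. -/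
lemma unit_isIso_of_distTriang (T : Triangle (HomotopyCategory.Plus C))
    (hT : T ∈ distTriang (HomotopyCategory.Plus C)) :
    (IsIso (F.rightDerivedFunctorPlusUnit.app T.obj₂) →
      IsIso (F.rightDerivedFunctorPlusUnit.app T.obj₃) →
      IsIso (F.rightDerivedFunctorPlusUnit.app T.obj₁)) ∧
    (IsIso (F.rightDerivedFunctorPlusUnit.app T.obj₁) →
      IsIso (F.rightDerivedFunctorPlusUnit.app T.obj₃) →
      IsIso (F.rightDerivedFunctorPlusUnit.app T.obj₂)) ∧
    (IsIso (F.rightDerivedFunctorPlusUnit.app T.obj₁) →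
      IsIso (F.rightDerivedFunctorPlusUnit.app T.obj₂) →
      IsIso (F.rightDerivedFunctorPlusUnit.app T.obj₃)) := by
  obtain ⟨T', hT', w, h₁, h₂, h₃⟩ := exists_injective_triangle T hT
  have e₁ := unit_isIso_iff F w.hom₁ h₁ (inferInstance :
    IsIso (F.rightDerivedFunctorPlusUnit.app (injι.obj T'.obj₁)))
  have e₂ := unit_isIso_iff F w.hom₂ h₂ (inferInstance :
    IsIso (F.rightDerivedFunctorPlusUnit.app (injι.obj T'.obj₂)))
  have e₃ := unit_isIso_iff F w.hom₃ h₃ (inferInstance :
    IsIso (F.rightDerivedFunctorPlusUnit.app (injι.obj T'.obj₃)))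
  have d₁ := (F.mapHomotopyCategoryPlus ⋙ DerivedCategory.Plus.Qh).map_distinguished _ hT
  have d₂ := (F.mapHomotopyCategoryPlus ⋙ DerivedCategory.Plus.Qh).map_distinguished _
    (injι.map_distinguished _ hT')
  refine ⟨fun a b => e₁.2 ?_, fun a b => e₂.2 ?_, fun a b => e₃.2 ?_⟩
  · exact isIso₁_of_isIso₂₃ ((F.mapHomotopyCategoryPlus ⋙ DerivedCategory.Plus.Qh).mapTriangle.map w)
      d₁ d₂ (e₂.1 a) (e₃.1 b)
  · exact isIso₂_of_isIso₁₃ ((F.mapHomotopyCategoryPlus ⋙ DerivedCategory.Plus.Qh).mapTriangle.map w)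
      d₁ d₂ (e₁.1 a) (e₃.1 b)
  · exact isIso₃_of_isIso₁₂ ((F.mapHomotopyCategoryPlus ⋙ DerivedCategory.Plus.Qh).mapTriangle.map w)
      d₁ d₂ (e₁.1 a) (e₂.1 b)

end leray

section leray2

open ZeroObject

universe w w' v v' u u'

variable {C : Type u} [Category.{v} C] [Abelian C] [HasDerivedCategory.{w} C] [EnoughInjectives C]
  {D : Type u'} [Category.{v'} D] [Abelian D] [HasDerivedCategory.{w'} D]
  (F : C ⥤ D) [F.Additive]

lemma acyclic_mappingCone_of_quasiIso {K L : CochainComplex C ℤ} (f : K ⟶ L) [QuasiIso f] :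
    (CochainComplex.mappingCone f).Acyclic := by
  rw [← HomotopyCategory.quotient_obj_mem_subcategoryAcyclic_iff_acyclic]
  have h := (HomotopyCategory.subcategoryAcyclic C).trW_iff_of_distinguished _
    (HomotopyCategory.mappingCone_triangleh_distinguished f)
  refine h.1 ?_
  rw [← HomotopyCategory.quasiIso_eq_trW_subcategoryAcyclic]
  exact (HomotopyCategory.quotient_map_mem_quasiIso_iff f).2
    ((HomologicalComplex.mem_quasiIso_iff _).2 inferInstance)

lemma quasiIso_of_acyclic {A : Type*} [Category A] [Abelian A] {K L : CochainComplex A ℤ} (f : K ⟶ L)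
    (hK : K.Acyclic) (hL : L.Acyclic) : QuasiIso f := by
  rw [quasiIso_iff]
  intro n
  rw [quasiIsoAt_iff_exactAt f n (hK n)]
  exact hL n

/-- the zero complex as an object of `CochainComplex.Plus`. -/
noncomputable def zeroPlus (C : Type u) [Category.{v} C] [Abelian C] : CochainComplex.Plus C :=
  ⟨(HomologicalComplex.single C (ComplexShape.up ℤ) 0).obj (0 : C), ⟨0, inferInstance⟩⟩

lemma isZero_zeroPlus_X (C : Type u) [Category.{v} C] [Abelian C] (n : ℤ) :
    IsZero ((zeroPlus C).obj.X n) := by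
  have h0 : IsZero ((HomologicalComplex.single C (ComplexShape.up ℤ) 0).obj
      (0 : C)) :=
    (HomologicalComplex.single C (ComplexShape.up ℤ) 0).map_isZero (isZero_zero C)
  exact (HomologicalComplex.eval C (ComplexShape.up ℤ) n).map_isZero h0

/-- the unit of `RF` is an isomorphism on acyclic complexes whose image under `F` is acyclic. -/
lemma unit_isIso_of_acyclic (E : CochainComplex.Plus C) (hE : E.obj.Acyclic)
    (hFE : ((F.mapHomologicalComplex (ComplexShape.up ℤ)).obj E.obj).Acyclic) :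
    IsIso (F.rightDerivedFunctorPlusUnit.app ((HomotopyCategory.Plus.quotient C).obj E)) := by
  have hz : ∀ n : ℤ, IsZero ((zeroPlus C).obj.X n) := isZero_zeroPlus_X C
  have hz0 : (zeroPlus C).obj.Acyclic := fun n =>
    ShortComplex.exact_of_isZero_X₂ _ (hz n)
  have hFz0 : ((F.mapHomologicalComplex (ComplexShape.up ℤ)).obj (zeroPlus C).obj).Acyclic := fun n =>
    ShortComplex.exact_of_isZero_X₂ _ (F.map_isZero (hz n))
  let u : E ⟶ zeroPlus C := ObjectProperty.homMk 0
  have hu : IsIso (DerivedCategory.Plus.Qh.map ((HomotopyCategory.Plus.quotient C).map u)) := by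
    apply Localization.inverts DerivedCategory.Plus.Qh (HomotopyCategory.Plus.quasiIso C)
    rw [HomotopyCategory.Plus.quasiIso_iff]
    exact (HomotopyCategory.quotient_map_mem_quasiIso_iff u.hom).2
      ((HomologicalComplex.mem_quasiIso_iff _).2 (quasiIso_of_acyclic _ hE hz0))
  have hK' : IsIso (F.rightDerivedFunctorPlusUnit.app
      ((HomotopyCategory.Plus.quotient C).obj (zeroPlus C))) := by
    have : ∀ n : ℤ, Injective ((zeroPlus C).obj.X n) := fun n => (hz n).injective
    infer_instance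
  rw [unit_isIso_iff F _ hu hK', isIso_Qh_map_iff_Θ]
  have hq : QuasiIso ((F.mapHomologicalComplex (ComplexShape.up ℤ)).map u.hom) :=
    quasiIso_of_acyclic _ hFE hFz0
  exact (DerivedCategory.isIso_Q_map_iff_quasiIso (C := D) _).2 hq

end leray2


section leray3

universe w w' v v' u u'

variable {C : Type u} [Category.{v} C] [Abelian C] [HasDerivedCategory.{w} C] [EnoughInjectives C]
  {D : Type u'} [Category.{v'} D] [Abelian D] [HasDerivedCategory.{w'} D]
  (F : C ⥤ D) [F.Additive] [PreservesFiniteLimits F]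

/-- **Leray's acyclicity lemma**: the unit `Q(F K) ⟶ RF(Q K)` is an isomorphism for a bounded below
complex `K` of right `F`-acyclic objects (`F` left exact). -/
theorem unit_isIso_of_FAcyc (K : CochainComplex.Plus C) (hK : ∀ n, FAcyc F (K.obj.X n)) :
    IsIso (F.rightDerivedFunctorPlusUnit.app ((HomotopyCategory.Plus.quotient C).obj K)) := by
  obtain ⟨a, ha⟩ := K.property
  obtain ⟨L, hL, i, hi⟩ := CochainComplex.Plus.exists_quasiIso_injective K a
  have hqi : QuasiIso i.hom := hi
  have hI : ((InjectiveObject.ι C).mapCochainComplexPlus.obj L).obj.IsStrictlyGE a := by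
    show CochainComplex.IsStrictlyGE
      (((InjectiveObject.ι C).mapHomologicalComplex (ComplexShape.up ℤ)).obj L.obj) a
    infer_instance
  have hcone : (CochainComplex.mappingCone i.hom).IsStrictlyGE (a - 1) :=
    CochainComplex.isStrictlyGE_mappingCone i.hom a a (a - 1)
  let E : CochainComplex.Plus C := ⟨CochainComplex.mappingCone i.hom, ⟨a - 1, hcone⟩⟩
  have hEac : E.obj.Acyclic := acyclic_mappingCone_of_quasiIso i.hom
  have hinj : ∀ n, Injective (((InjectiveObject.ι C).mapCochainComplexPlus.obj L).obj.X n) := fun n =>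
    inferInstanceAs (Injective ((InjectiveObject.ι C).obj (L.obj.X n)))
  have hEterms : ∀ n, FAcyc F (E.obj.X n) := fun n =>
    FAcyc.of_iso F (HomologicalComplex.homotopyCofiber.XIsoBiprod i.hom n (n + 1) rfl).symm
      (FAcyc.biprod F (hK (n + 1)) (FAcyc.of_injective F _))
  have hFE := acyclic_map_of_FAcyc F E.obj (a - 1) hEac hEterms
  have hunitE := unit_isIso_of_acyclic F E hEac hFE
  obtain ⟨Z, ψ, χ, hT⟩ := distinguished_cocone_triangle ((HomotopyCategory.Plus.quotient C).map i)
  have hT' : (HomotopyCategory.Plus.ι C).mapTriangle.obj (Triangle.mk _ ψ χ) ∈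
      distTriang (HomotopyCategory C (ComplexShape.up ℤ)) := hT
  obtain ⟨c, hc, -⟩ := exists_iso_cone _ _ hT'
    (HomotopyCategory.mappingCone_triangleh_distinguished i.hom)
    (Iso.refl ((HomotopyCategory.quotient C (ComplexShape.up ℤ)).obj K.obj))
    (Iso.refl ((HomotopyCategory.quotient C (ComplexShape.up ℤ)).obj
      ((InjectiveObject.ι C).mapCochainComplexPlus.obj L).obj))
    ((Category.comp_id _).trans (Category.id_comp _).symm)
  let c' : (HomotopyCategory.Plus.ι C).obj Z ≅
      (HomotopyCategory.Plus.ι C).obj ((HomotopyCategory.Plus.quotient C).obj E) := @asIso _ _ _ _ c hc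
  let e : Z ≅ (HomotopyCategory.Plus.quotient C).obj E :=
    (HomotopyCategory.Plus.fullyFaithfulι C).preimageIso c'
  have hZ : IsIso (F.rightDerivedFunctorPlusUnit.app Z) :=
    (NatTrans.isIso_app_iff_of_iso F.rightDerivedFunctorPlusUnit e).2 hunitE
  have hIu : IsIso (F.rightDerivedFunctorPlusUnit.app ((HomotopyCategory.Plus.quotient C).obj
      ((InjectiveObject.ι C).mapCochainComplexPlus.obj L))) := by
    infer_instance
  exact (unit_isIso_of_distTriang F _ hT).1 hIu hZ

end leray3

end Groth.Agent.H18.RDPlus
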