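import Groth.Agent.Lib.helper18.RDPlus3
import Mathlib

set_option autoImplicit false
set_option linter.unusedSectionVars false
open CategoryTheory CategoryTheory.Limits Pretriangulated

namespace Groth.Agent.H18.RDPlus

section plusAdj

universe v v' u u'

variable {A : Type u} [Category.{v} A] [Preadditive A]
  {B : Type u'} [Category.{v'} B] [Preadditive B]
  {L : A ⥤ B} {R : B ⥤ A} (adj : L ⊣ R) [L.Additive] [R.Additive]

/-- the adjunction on bounded below cochain complexes induced by an adjunction of additive
functors. -/
noncomputable def plusAdj : L.mapCochainComplexPlus ⊣ R.mapCochainComplexPlus :=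
  Adjunction.mkOfUnitCounit
    { unit :=
        { app := fun K => ObjectProperty.homMk
            { f := fun i => adj.unit.app (K.obj.X i)
              comm' := fun i j _ => by
                have := adj.unit.naturality (K.obj.d i j)
                dsimp at this ⊢
                exact this.symm }
          naturality := fun K K' f => by
            ext i
            have := adj.unit.naturality (f.hom.f i)
            dsimp at this ⊢
            exact this }
      counit :=
        { app := fun K => ObjectProperty.homMk
            { f := fun i => adj.counit.app (K.obj.X i)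
              comm' := fun i j _ => by
                have := adj.counit.naturality (K.obj.d i j)
                dsimp at this ⊢
                exact this.symm }
          naturality := fun K K' f => by
            ext i
            have := adj.counit.naturality (f.hom.f i)
            dsimp at this ⊢
            exact this }
      left_triangle := by
        ext K i
        have := adj.left_triangle_components (K.obj.X i)
        dsimp at this ⊢
        simp only [Category.id_comp]
        exact this
      right_triangle := by
        ext K i
        have := adj.right_triangle_components (K.obj.X i)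
        dsimp at this ⊢
        simp only [Category.id_comp]
        exact this }

end plusAdj


section hoAdj

universe v v' u u'

variable {A : Type u} [Category.{v} A] [Preadditive A] [HasZeroObject A] [HasBinaryBiproducts A]
  {B : Type u'} [Category.{v'} B] [Preadditive B] [HasZeroObject B] [HasBinaryBiproducts B]
  {L : A ⥤ B} {R : B ⥤ A} (adj : L ⊣ R) [L.Additive] [R.Additive]

/-- `F.mapCochainComplexPlus ⋙ quotient ≅ quotient ⋙ F.mapHomotopyCategoryPlus`. -/
noncomputable def mapPlusFactors {A : Type u} [Category.{v} A] [Preadditive A]
    {B : Type u'} [Category.{v'} B] [Preadditive B] (F : A ⥤ B) [F.Additive] :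
    F.mapCochainComplexPlus ⋙ HomotopyCategory.Plus.quotient B ≅
      HomotopyCategory.Plus.quotient A ⋙ F.mapHomotopyCategoryPlus :=
  Iso.refl _

/-- the adjunction on bounded below homotopy categories induced by an adjunction of additive
functors. -/
noncomputable def hoPlusAdj : L.mapHomotopyCategoryPlus ⊣ R.mapHomotopyCategoryPlus :=
  letI : CatCommSq L.mapCochainComplexPlus (HomotopyCategory.Plus.quotient A)
      (HomotopyCategory.Plus.quotient B) L.mapHomotopyCategoryPlus := ⟨mapPlusFactors L⟩
  letI : CatCommSq R.mapCochainComplexPlus (HomotopyCategory.Plus.quotient B)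
      (HomotopyCategory.Plus.quotient A) R.mapHomotopyCategoryPlus := ⟨mapPlusFactors R⟩
  (plusAdj adj).localization (HomotopyCategory.Plus.quotient A)
    ((HomologicalComplex.homotopyEquivalences A (.up ℤ)).inverseImage (CochainComplex.Plus.ι A))
    (HomotopyCategory.Plus.quotient B)
    ((HomologicalComplex.homotopyEquivalences B (.up ℤ)).inverseImage (CochainComplex.Plus.ι B))
    L.mapHomotopyCategoryPlus R.mapHomotopyCategoryPlus

end hoAdj


section derivedAdj

universe w w' v v' u u'

variable {A : Type u} [Category.{v} A] [Abelian A] [HasDerivedCategory.{w} A]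
  {B : Type u'} [Category.{v'} B] [Abelian B] [HasDerivedCategory.{w'} B]

/-- an exact functor induces a functor `K⁺(A) ⥤ D⁺(B)` inverting quasi-isomorphisms. -/
lemma inverts_of_exact (L : A ⥤ B) [L.Additive] [PreservesFiniteLimits L] [PreservesFiniteColimits L] :
    (HomotopyCategory.Plus.quasiIso A).IsInvertedBy
      (L.mapHomotopyCategoryPlus ⋙ DerivedCategory.Plus.Qh) := by
  intro K K' f hf
  obtain ⟨K, rfl⟩ := HomotopyCategory.Plus.quotient_obj_surjective K
  obtain ⟨K', rfl⟩ := HomotopyCategory.Plus.quotient_obj_surjective K'
  obtain ⟨f, rfl⟩ := (HomotopyCategory.Plus.quotient A).map_surjective f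
  rw [HomotopyCategory.Plus.quasiIso_iff] at hf
  have hf' : QuasiIso f.hom :=
    (HomologicalComplex.mem_quasiIso_iff _).1
      ((HomotopyCategory.quotient_map_mem_quasiIso_iff f.hom).1 hf)
  have hq : QuasiIso ((L.mapHomologicalComplex (ComplexShape.up ℤ)).map f.hom) := inferInstance
  show IsIso (DerivedCategory.Plus.Qh.map ((HomotopyCategory.Plus.quotient B).map
    (L.mapCochainComplexPlus.map f)))
  apply Localization.inverts DerivedCategory.Plus.Qh (HomotopyCategory.Plus.quasiIso B)
  rw [HomotopyCategory.Plus.quasiIso_iff]
  exact (HomotopyCategory.quotient_map_mem_quasiIso_iff _).2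
    ((HomologicalComplex.mem_quasiIso_iff _).2 hq)

variable [EnoughInjectives A]

instance isIso_unit_of_exact (L : A ⥤ B) [L.Additive] [PreservesFiniteLimits L]
    [PreservesFiniteColimits L] : IsIso L.rightDerivedFunctorPlusUnit :=
  Functor.isIso_of_isRightDerivedFunctor_of_inverts L.rightDerivedFunctorPlus
    L.rightDerivedFunctorPlusUnit (inverts_of_exact L)

end derivedAdj

section derivedAdj2

universe w v u

variable {A B : Type u} [Category.{v} A] [Category.{v} B] [Abelian A] [Abelian B]
  [HasDerivedCategory.{w} A] [HasDerivedCategory.{w} B] [EnoughInjectives A] [EnoughInjectives B]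
  {L : A ⥤ B} {R : B ⥤ A} (adj : L ⊣ R) [L.Additive] [R.Additive]
  [PreservesFiniteLimits L] [PreservesFiniteColimits L]

/-- the derived adjunction `RL ⊣ RR` on bounded below derived categories for `L ⊣ R`,
`L` exact. -/
noncomputable def derivedAdj : L.rightDerivedFunctorPlus ⊣ R.rightDerivedFunctorPlus := by
  let e₁ : DerivedCategory.Plus.Qh ⋙ L.rightDerivedFunctorPlus ≅
      L.mapHomotopyCategoryPlus ⋙ DerivedCategory.Plus.Qh :=
    (asIso L.rightDerivedFunctorPlusUnit).symm
  haveI h₁ : L.rightDerivedFunctorPlus.IsLeftDerivedFunctor e₁.hom
      (HomotopyCategory.Plus.quasiIso A) :=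
    Functor.isLeftDerivedFunctor_of_inverts _ _ e₁
  haveI h₂ : (L.rightDerivedFunctorPlus ⋙ R.rightDerivedFunctorPlus).IsLeftDerivedFunctor
      ((Functor.associator _ _ _).inv ≫ Functor.whiskerRight e₁.hom R.rightDerivedFunctorPlus)
      (HomotopyCategory.Plus.quasiIso A) :=
    Functor.isLeftDerivedFunctor_of_inverts (HomotopyCategory.Plus.quasiIso A)
      (L.rightDerivedFunctorPlus ⋙ R.rightDerivedFunctorPlus)
      ((Functor.associator _ _ _).symm ≪≫ Functor.isoWhiskerRight e₁ R.rightDerivedFunctorPlus)
  haveI h₃ : (R.rightDerivedFunctorPlus ⋙ L.rightDerivedFunctorPlus).IsRightDerivedFunctor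
      (Functor.whiskerRight R.rightDerivedFunctorPlusUnit L.rightDerivedFunctorPlus ≫
        (Functor.associator _ _ _).hom) (HomotopyCategory.Plus.quasiIso B) := by
    refine (HomotopyCategory.Plus.localizerMorphism_derives (C := B) _).isRightDerivedFunctor_of_isIso
      _ ?_
    intro J
    obtain ⟨J, rfl⟩ := HomotopyCategory.Plus.quotient_obj_surjective J
    have h5 : IsIso (R.rightDerivedFunctorPlusUnit.app
        ((HomotopyCategory.Plus.localizerMorphism B).functor.obj
          ((HomotopyCategory.Plus.quotient (InjectiveObject B)).obj J))) := by
      show IsIso (R.rightDerivedFunctorPlusUnit.app ((HomotopyCategory.Plus.quotient B).obj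
        ((InjectiveObject.ι B).mapCochainComplexPlus.obj J)))
      infer_instance
    simp only [NatTrans.comp_app, Functor.whiskerRight_app, Functor.associator_hom_app,
      Category.comp_id]
    infer_instance
  exact (hoPlusAdj adj).derived (HomotopyCategory.Plus.quasiIso A) (HomotopyCategory.Plus.quasiIso B)
    e₁.hom R.rightDerivedFunctorPlusUnit

end derivedAdj2

end Groth.Agent.H18.RDPlus
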