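import Groth.Agent.Lib.helper18.RDBiprod
import Groth.Agent.Lib.helper18.Flasque
import Groth.Prelude.Def_CohCx
import Mathlib.Topology.Sheaves.SheafCondition.PairwiseIntersections

set_option autoImplicit false
set_option linter.unusedSectionVars false
set_option linter.unusedVariables false
open CategoryTheory CategoryTheory.Limits Opposite TopologicalSpace

namespace Groth.Agent.H18.RelMV

universe u

variable {X Y : TopCat.{u}}

/-- sheaf condition for two opens as a pullback square, with flexible opens -/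
lemma isPullback_sections (F : CohTop.Ab X) {A B₁ B₂ E : Opens X} (h₁ : B₁ ≤ A) (h₂ : B₂ ≤ A)
    (k₁ : E ≤ B₁) (k₂ : E ≤ B₂) (hcov : A ≤ B₁ ⊔ B₂) (hint : B₁ ⊓ B₂ ≤ E) :
    IsPullback (F.obj.map (homOfLE h₁).op) (F.obj.map (homOfLE h₂).op)
      (F.obj.map (homOfLE k₁).op) (F.obj.map (homOfLE k₂).op) := by
  obtain rfl : A = B₁ ⊔ B₂ := le_antisymm hcov (sup_le h₁ h₂)
  obtain rfl : E = B₁ ⊓ B₂ := le_antisymm (le_inf k₁ k₂) hint
  exact IsPullback.of_isLimit (TopCat.Sheaf.isLimitPullbackCone F B₁ B₂)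

variable (f : X ⟶ Y) (U V : Opens X)

lemma hw : CohCx.pushToRestrPush f U ≫ CohCx.restrPushToRestrPush f (inf_le_left : U ⊓ V ≤ U) =
    CohCx.pushToRestrPush f V ≫ CohCx.restrPushToRestrPush f (inf_le_right : U ⊓ V ≤ V) := by
  ext F : 2
  apply Sheaf.hom_ext
  apply NatTrans.ext
  funext W
  change F.obj.map _ ≫ F.obj.map _ = F.obj.map _ ≫ F.obj.map _
  rw [← F.obj.map_comp, ← F.obj.map_comp]
  rfl

lemma isPullback_app (hUV : U ⊔ V = ⊤) (F : CohTop.Ab X) :
    IsPullback ((CohCx.pushToRestrPush f U).app F) ((CohCx.pushToRestrPush f V).app F)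
      ((CohCx.restrPushToRestrPush f (inf_le_left : U ⊓ V ≤ U)).app F)
      ((CohCx.restrPushToRestrPush f (inf_le_right : U ⊓ V ≤ V)).app F) := by
  apply IsPullback.of_map_of_faithful (sheafToPresheaf (Opens.grothendieckTopology Y) AddCommGrpCat.{u})
  apply IsPullback.of_forall_isPullback_app
  intro W
  refine isPullback_sections F _ _ _ _ ?_ ?_
  · intro x hx
    have hx' : f x ∈ W.unop := hx
    have : x ∈ U ⊔ V := by rw [hUV]; trivial
    rcases this with h | h
    · exact Or.inl ⟨⟨x, h⟩, hx', rfl⟩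
    · exact Or.inr ⟨⟨x, h⟩, hx', rfl⟩
  · rintro x ⟨⟨y, hy, rfl⟩, ⟨z, hz, hzy⟩⟩
    have hzy' : (z : X) = (y : X) := hzy
    have hyV : (y : X) ∈ V := by rw [← hzy']; exact z.2
    exact ⟨⟨y.1, ⟨y.2, hyV⟩⟩, hy, rfl⟩

lemma epi_desc (I : CohTop.Ab X) [TopCat.Sheaf.IsFlasque I] :
    Epi (biprod.desc ((CohCx.restrPushToRestrPush f (inf_le_left : U ⊓ V ≤ U)).app I)
      (-((CohCx.restrPushToRestrPush f (inf_le_right : U ⊓ V ≤ V)).app I))) := by
  have h1 : Epi ((CohCx.restrPushToRestrPush f (inf_le_left : U ⊓ V ≤ U)).app I) := by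
    have : ∀ W, Epi (((CohCx.restrPushToRestrPush f (inf_le_left : U ⊓ V ≤ U)).app I).hom.app W) := by
      intro W
      exact TopCat.Presheaf.IsFlasque.epi _
    have : Epi ((CohCx.restrPushToRestrPush f (inf_le_left : U ⊓ V ≤ U)).app I).hom :=
      NatTrans.epi_of_epi_app _
    infer_instance
  exact epi_of_epi_fac (biprod.inl_desc _ _)

theorem main (hUV : U ⊔ V = ⊤) (F : CohTop.Ab X) :
    ∃ δ : ∀ n : ℕ, (CohCx.RpushOn f (U ⊓ V) n).obj F ⟶ (CohTop.Rpush f (n + 1)).obj F,
      Mono (biprod.lift ((NatTrans.rightDerived (CohCx.pushToRestrPush f U) 0).app F)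
        ((NatTrans.rightDerived (CohCx.pushToRestrPush f V) 0).app F)) ∧
      ∀ n : ℕ,
        (ComposableArrows.mk₂
          (biprod.lift ((NatTrans.rightDerived (CohCx.pushToRestrPush f U) n).app F)
            ((NatTrans.rightDerived (CohCx.pushToRestrPush f V) n).app F))
          (biprod.desc
            ((NatTrans.rightDerived (CohCx.restrPushToRestrPush f (inf_le_left : U ⊓ V ≤ U)) n).app F)
            (-((NatTrans.rightDerived (CohCx.restrPushToRestrPush f (inf_le_right : U ⊓ V ≤ V)) n).app F)))).Exact ∧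
        (ComposableArrows.mk₂
          (biprod.desc
            ((NatTrans.rightDerived (CohCx.restrPushToRestrPush f (inf_le_left : U ⊓ V ≤ U)) n).app F)
            (-((NatTrans.rightDerived (CohCx.restrPushToRestrPush f (inf_le_right : U ⊓ V ≤ V)) n).app F)))
          (δ n)).Exact ∧
        (ComposableArrows.mk₂ (δ n)
          (biprod.lift ((NatTrans.rightDerived (CohCx.pushToRestrPush f U) (n + 1)).app F)
            ((NatTrans.rightDerived (CohCx.pushToRestrPush f V) (n + 1)).app F))).Exact :=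
  RDBiprod.mv_les (CohCx.pushToRestrPush f U) (CohCx.pushToRestrPush f V)
    (CohCx.restrPushToRestrPush f (inf_le_left : U ⊓ V ≤ U))
    (CohCx.restrPushToRestrPush f (inf_le_right : U ⊓ V ≤ V)) (hw f U V)
    (fun I _ => isPullback_app f U V hUV I)
    (fun I hI => by
      have := Flasque.isFlasque_of_injective I
      exact epi_desc f U V I) F

end Groth.Agent.H18.RelMV
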