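import Groth.Agent.Lib.helper18.ClassLift
import Groth.Agent.Lib.helper2.KPc

/-!
# Lifting a representative along `R → R ⧸ I` (Stacks 0BCB style)

`Groth.Agent.Lib.helper18.RepLift.exists_rep`: if `K ∈ D(R)` is represented by a bounded above
complex with terms in `Pc` and `E` is a bounded above complex over `R ⧸ I` with terms `P / I P`
(`P ∈ Pc`) which represents `K ⊗^L R ⧸ I`, then `K` has a representative with terms in `Pc`
whose termwise reduction is isomorphic to `E`.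
-/

set_option autoImplicit false
set_option linter.style.haveILetI false
set_option linter.unusedSectionVars false

universe u

open CategoryTheory CategoryTheory.Limits DerivedCategory CochainComplex TensorProduct
open Groth.Agent.Lib.helper18.ConeEl Groth.Agent.Lib.helper18.ConeLift
open Groth.Agent.Lib.helper17.DRingBC

attribute [local instance] HasDerivedCategory.standard

namespace Groth.Agent.Lib.helper18.RepLift

variable {R : Type u} [CommRing R] (I : Ideal R)

/-- extension of scalars along `R → R ⧸ I` -/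
noncomputable abbrev F₀ : ModuleCat.{u} R ⥤ ModuleCat.{u} (R ⧸ I) :=
  ModuleCat.extendScalars (Ideal.Quotient.mk I)

/-- termwise extension of scalars of complexes -/
noncomputable abbrev F : CochainComplex (ModuleCat.{u} R) ℤ ⥤
    CochainComplex (ModuleCat.{u} (R ⧸ I)) ℤ :=
  (F₀ I).mapHomologicalComplex (ComplexShape.up ℤ)

lemma exists_map_eq (M N : ModuleCat.{u} R) [Module.Projective R M]
    (φ : (F₀ I).obj M ⟶ (F₀ I).obj N) : ∃ ψ : M ⟶ N, (F₀ I).map ψ = φ := by
  let eM := extendScalarsObjEquiv (A := R) (B := R ⧸ I) M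
  let eN := extendScalarsObjEquiv (A := R) (B := R ⧸ I) N
  let φ'' : ((R ⧸ I) ⊗[R] M) →ₗ[R ⧸ I] ((R ⧸ I) ⊗[R] N) :=
    (eN.toLinearMap ∘ₗ φ.hom) ∘ₗ eM.symm.toLinearMap
  obtain ⟨g, hg⟩ := Module.projective_lifting_property (rP I N)
    ((φ''.restrictScalars R) ∘ₗ rP I M) (rP_surjective I N)
  refine ⟨ModuleCat.ofHom g, ?_⟩
  apply ModuleCat.ExtendScalars.hom_ext
  intro m
  apply eN.injective
  exact LinearMap.congr_fun hg m

lemma range_sup_of_epi {M N : ModuleCat.{u} R} (g : M ⟶ N) (hg : Epi ((F₀ I).map g)) :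
    LinearMap.range g.hom ⊔ I • (⊤ : Submodule R N) = ⊤ := by
  rw [eq_top_iff]
  intro y _
  have hs : Function.Surjective ((F₀ I).map g).hom := (ModuleCat.epi_iff_surjective _).1 hg
  let eM := extendScalarsObjEquiv (A := R) (B := R ⧸ I) M
  let eN := extendScalarsObjEquiv (A := R) (B := R ⧸ I) N
  obtain ⟨t, ht⟩ := hs (eN.symm (rP I N y))
  obtain ⟨c, hc⟩ := rP_surjective I M (eM t)
  have h1 : rP I N (g.hom c) = eN (((F₀ I).map g).hom (eM.symm (rP I M c))) := rfl
  have h2 : rP I N (g.hom c) = rP I N y := by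
    rw [h1, hc, LinearEquiv.symm_apply_apply, ht, LinearEquiv.apply_symm_apply]
  have h3 : y - g.hom c ∈ I • (⊤ : Submodule R N) :=
    rP_ker I N (by rw [LinearMap.mem_ker, map_sub, h2, sub_self])
  have h4 : y = g.hom c + (y - g.hom c) := by abel
  rw [h4]
  exact Submodule.add_mem _ (Submodule.mem_sup_left ⟨c, rfl⟩) (Submodule.mem_sup_right h3)

lemma exists_hom_eq (C' T : CochainComplex (ModuleCat.{u} R) ℤ)
    (hproj : ∀ i, Module.Projective R (C'.X i)) (H : Homotopy (𝟙 C') 0)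
    (γ : (F I).obj C' ⟶ (F I).obj T) : ∃ f : C' ⟶ T, (F I).map f = γ := by
  let H' := (F₀ I).mapHomotopy H
  have key : γ = Homotopy.nullHomotopicMap (fun i j => H'.hom i j ≫ γ.f j) := by
    refine HomologicalComplex.hom_ext _ _ fun i => ?_
    change γ.f i = dNext i (fun i j => H'.hom i j ≫ γ.f j) +
      prevD i (fun i j => H'.hom i j ≫ γ.f j)
    rw [dNext_comp_right, prevD_comp_right, ← Preadditive.add_comp]
    have h1 := H'.comm i
    simp only [Functor.map_zero, HomologicalComplex.zero_f, add_zero] at h1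
    have h0 : ((F I).map (𝟙 C')).f i = 𝟙 _ := by
      change (F₀ I).map (𝟙 (C'.X i)) = 𝟙 _
      exact (F₀ I).map_id _
    rw [← h1, h0, Category.id_comp]
  haveI := hproj
  choose ℓ hℓ using fun i j => exists_map_eq I (C'.X i) (T.X j) (H'.hom i j ≫ γ.f j)
  refine ⟨Homotopy.nullHomotopicMap ℓ, ?_⟩
  rw [Homotopy.map_nullHomotopicMap, key]
  exact congrArg Homotopy.nullHomotopicMap (funext fun i => funext fun j => hℓ i j)

lemma exists_quasiIso (B₀ E : CochainComplex (ModuleCat.{u} (R ⧸ I)) ℤ) [B₀.IsKProjective]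
    (ι : DerivedCategory.Q.obj B₀ ≅ DerivedCategory.Q.obj E) :
    ∃ α : B₀ ⟶ E, QuasiIso α := by
  obtain ⟨g, hg⟩ := (CochainComplex.IsKProjective.Qh_map_bijective B₀
    ((HomotopyCategory.quotient _ _).obj E)).surjective ι.hom
  obtain ⟨α, rfl⟩ := (HomotopyCategory.quotient _ _).map_surjective g
  have hα : DerivedCategory.Q.map α = ι.hom := hg
  refine ⟨α, ?_⟩
  rw [← DerivedCategory.isIso_Q_map_iff_quasiIso, hα]
  infer_instance

theorem exists_rep [DRing.HasLBaseChange (Ideal.Quotient.mk I)]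
    (Pc : ObjectProperty (ModuleCat.{u} R)) [Pc.IsClosedUnderIsomorphisms]
    (h1 : ∀ X : ModuleCat.{u} R, Pc X → Module.Projective R X)
    (h2 : ∀ X Y : ModuleCat.{u} R, Pc X → (Pc (ModuleCat.of R (X × Y)) ↔ Pc Y))
    (h3 : ∀ (X Y : ModuleCat.{u} R) (f : X ⟶ Y), Pc X → Pc Y →
      LinearMap.range f.hom ⊔ I • (⊤ : Submodule R Y) = ⊤ → Function.Surjective f.hom)
    (K : Dual.D R)
    (Q₀ : CochainComplex (ModuleCat.{u} R) ℤ) (c : ℤ) (hQc : ∀ i, c < i → IsZero (Q₀.X i))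
    (hQP : ∀ i, Pc (Q₀.X i)) (eQ : DerivedCategory.Q.obj Q₀ ≅ K)
    (E : CochainComplex (ModuleCat.{u} (R ⧸ I)) ℤ) (b : ℤ) (hEb : ∀ i, b < i → IsZero (E.X i))
    (hEt : ∀ i : ℤ, ∃ X : ModuleCat.{u} R, Pc X ∧
      Nonempty (TensorProduct R (R ⧸ I) X ≃ₗ[R ⧸ I] E.X i))
    (eE : DerivedCategory.Q.obj E ≅ (DRing.LBaseChange (Ideal.Quotient.mk I)).obj K) :
    ∃ (P : CochainComplex (ModuleCat.{u} R) ℤ) (b' : ℤ), (∀ i, b' < i → IsZero (P.X i)) ∧
      (∀ i : ℤ, Pc (P.X i)) ∧ Nonempty (DerivedCategory.Q.obj P ≅ K) ∧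
      Nonempty ((F I).obj P ≅ E) := by
  classical
  haveI hprojQ : ∀ n, Projective (Q₀.X n) := fun n => by
    rw [← IsProjective.iff_projective]
    exact h1 _ (hQP n)
  haveI : Q₀.IsStrictlyLE c := by
    rw [CochainComplex.isStrictlyLE_iff]
    exact hQc
  haveI hKP : Q₀.IsKProjective := CochainComplex.isKProjective_of_projective Q₀ c
  haveI : ((F I).obj Q₀).IsStrictlyLE c := by
    rw [CochainComplex.isStrictlyLE_iff]
    intro i hi
    exact (F₀ I).map_isZero (hQc i hi)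
  haveI hprojbQ : ∀ n, Projective (((F I).obj Q₀).X n) := fun n => by
    haveI := h1 _ (hQP n)
    have hp : Module.Projective (R ⧸ I) ((R ⧸ I) ⊗[R] (Q₀.X n)) := inferInstance
    exact Projective.of_iso (extendScalarsObjIso (A := R) (B := R ⧸ I) (Q₀.X n)).symm
      ((IsProjective.iff_projective _).1 hp)
  haveI hKPb : ((F I).obj Q₀).IsKProjective :=
    CochainComplex.isKProjective_of_projective _ c
  let ι : DerivedCategory.Q.obj ((F I).obj Q₀) ≅ DerivedCategory.Q.obj E :=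
    (Groth.Agent.Lib.helper2.KPc.LBaseChangeIso (Ideal.Quotient.mk I) Q₀).symm ≪≫
      (DRing.LBaseChange (Ideal.Quotient.mk I)).mapIso eQ ≪≫ eE.symm
  obtain ⟨α, hα⟩ := exists_quasiIso I ((F I).obj Q₀) E ι
  have hCa : (mappingCone α).Acyclic := (quasiIso_iff_acyclic_cone α).1 hα
  have hCb : ∀ i, max b c < i → IsZero ((mappingCone α).X i) := by
    intro i hi
    have hb : b < i := lt_of_le_of_lt (le_max_left _ _) hi
    have hc : c < i + 1 := lt_trans (lt_of_le_of_lt (le_max_right _ _) hi) (lt_add_one i)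
    have h1' : IsZero (((F I).obj Q₀).X (i + 1)) := (F₀ I).map_isZero (hQc (i + 1) hc)
    have h2' : IsZero (E.X i) := hEb i hb
    haveI := ModuleCat.subsingleton_of_isZero h1'
    haveI := ModuleCat.subsingleton_of_isZero h2'
    haveI : Subsingleton ((mappingCone α).X i) := (cTo_injective α i).subsingleton
    exact ModuleCat.isZero_of_subsingleton _
  have hCt : ∀ i : ℤ, ∃ X : ModuleCat.{u} R, Pc X ∧
      Nonempty (TensorProduct R (R ⧸ I) X ≃ₗ[R ⧸ I] (mappingCone α).X i) := by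
    intro i
    obtain ⟨Xi, hXi, ⟨ξ⟩⟩ := hEt i
    refine ⟨ModuleCat.of R (Q₀.X (i + 1) × Xi), (h2 _ _ (hQP (i + 1))).2 hXi, ⟨?_⟩⟩
    exact (TensorProduct.prodRight R (R ⧸ I) (R ⧸ I) (Q₀.X (i + 1)) Xi) ≪≫ₗ
      (((extendScalarsObjEquiv (A := R) (B := R ⧸ I) (Q₀.X (i + 1))).symm.prodCongr ξ) ≪≫ₗ
        (LinearEquiv.ofBijective (cTo α i) ⟨cTo_injective α i, cTo_surjective α i⟩).symm)
  obtain ⟨C', b', hC'b, hC'a, hC'P, ⟨θ⟩⟩ :=
    Groth.Agent.Lib.helper18.ClassLift.exists_lift I Pc (mappingCone α) h1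
      (fun X Y hX hXY => (h2 X Y hX).1 hXY) h3 hCa hCt (max b c) hCb
  haveI hprojC : ∀ n, Projective (C'.X n) := fun n => by
    rw [← IsProjective.iff_projective]
    exact h1 _ (hC'P n)
  haveI : C'.IsStrictlyLE b' := by
    rw [CochainComplex.isStrictlyLE_iff]
    exact hC'b
  haveI : C'.IsKProjective := CochainComplex.isKProjective_of_projective C' b'
  have H : Homotopy (𝟙 C') 0 := CochainComplex.IsKProjective.homotopyZero (𝟙 C') hC'a
  let S₂ := mappingCone.triangleRotateShortComplex α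
  have hS₂ : S₂.ShortExact := HomologicalComplex.shortExact_of_degreewise_shortExact _
    (fun n => (mappingCone.triangleRotateShortComplexSplitting α n).shortExact)
  let σ : (F I).obj (Q₀⟦(1 : ℤ)⟧) ≅ ((F I).obj Q₀)⟦(1 : ℤ)⟧ :=
    ((F I).commShiftIso (1 : ℤ)).app Q₀
  let γ : (F I).obj C' ⟶ (F I).obj (Q₀⟦(1 : ℤ)⟧) := θ.hom ≫ S₂.g ≫ σ.inv
  obtain ⟨f, hf⟩ := exists_hom_eq I C' (Q₀⟦(1 : ℤ)⟧) (fun i => h1 _ (hC'P i)) H γ
  have hγepi : Epi γ := by
    exact @epi_comp _ _ _ _ _ θ.hom inferInstance (S₂.g ≫ σ.inv)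
      (@epi_comp _ _ _ _ _ S₂.g hS₂.epi_g σ.inv inferInstance)
  have hfs : ∀ i, Function.Surjective (f.f i).hom := fun i => by
    have e1 : Epi (γ.f i) :=
      inferInstanceAs (Epi ((HomologicalComplex.eval _ _ i).map γ))
    have e2 : Epi ((F₀ I).map (f.f i)) := by
      have e3 : ((F I).map f).f i = (F₀ I).map (f.f i) := rfl
      rw [← e3, hf]
      exact e1
    exact h3 _ _ (f.f i) (hC'P i) (hQP (i + 1)) (range_sup_of_epi I (f.f i) e2)
  haveI hfepi : Epi f := HomologicalComplex.epi_of_epi_f f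
    (fun i => (ModuleCat.epi_iff_surjective _).2 (hfs i))
  let S : ShortComplex (CochainComplex (ModuleCat.{u} R) ℤ) :=
    ShortComplex.mk (kernel.ι f) f (kernel.condition f)
  have hS : S.ShortExact :=
    { exact := ShortComplex.exact_of_f_is_kernel S (kernelIsKernel f)
      mono_f := inferInstanceAs (Mono (kernel.ι f))
      epi_g := hfepi }
  have hSi : ∀ i, (S.map (HomologicalComplex.eval _ _ i)).ShortExact := fun i =>
    (HomologicalComplex.shortExact_iff_degreewise_shortExact S).1 hS i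
  let sp : ∀ i, (S.map (HomologicalComplex.eval _ _ i)).Splitting := fun i => by
    haveI : Projective (S.map (HomologicalComplex.eval _ _ i)).X₃ := hprojQ (i + 1)
    exact (hSi i).splittingOfProjective
  have hPP : ∀ i, Pc ((kernel f).X i) := by
    intro i
    let iso₁ : C'.X i ≅ (kernel f).X i ⊞ Q₀.X (i + 1) := (sp i).isoBinaryBiproduct
    let iso₂ := iso₁ ≪≫ ModuleCat.biprodIsoProd _ _ ≪≫
      (LinearEquiv.prodComm R ((kernel f).X i) (Q₀.X (i + 1))).toModuleIso
    exact (h2 _ _ (hQP (i + 1))).1 (Pc.prop_of_iso iso₂ (hC'P i))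
  have hPb : ∀ i, b' < i → IsZero ((kernel f).X i) := by
    intro i hi
    haveI : Mono ((kernel.ι f).f i) := (hSi i).mono_f
    exact IsZero.of_mono ((kernel.ι f).f i) (hC'b i hi)
  have hz : IsZero (DerivedCategory.Q.obj C') := by
    rw [IsZero.iff_id_eq_zero]
    have hh := HomotopyCategory.eq_of_homotopy _ _ H
    have h5 : DerivedCategory.Q.map (𝟙 C') = DerivedCategory.Q.map (0 : C' ⟶ C') :=
      congrArg DerivedCategory.Qh.map hh
    rw [← DerivedCategory.Q.map_id, h5, Functor.map_zero]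
  have hTr := DerivedCategory.triangleOfSES_distinguished hS
  have hiso : IsIso (DerivedCategory.triangleOfSES hS).mor₃ :=
    ((DerivedCategory.triangleOfSES hS).isZero₂_iff_isIso₃ hTr).1 hz
  let e₁ : DerivedCategory.Q.obj (Q₀⟦(1 : ℤ)⟧) ≅
      (DerivedCategory.Q.obj (kernel f))⟦(1 : ℤ)⟧ :=
    @asIso _ _ _ _ (DerivedCategory.triangleOfSES hS).mor₃ hiso
  let e₂ : (DerivedCategory.Q.obj Q₀)⟦(1 : ℤ)⟧ ≅ (DerivedCategory.Q.obj (kernel f))⟦(1 : ℤ)⟧ :=
    ((DerivedCategory.Q.commShiftIso (1 : ℤ)).app Q₀).symm ≪≫ e₁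
  let e₃ : DerivedCategory.Q.obj Q₀ ≅ DerivedCategory.Q.obj (kernel f) :=
    (CategoryTheory.shiftFunctor (DerivedCategory (ModuleCat.{u} R)) (1 : ℤ)).preimageIso e₂
  let S₁ := S.map (F I)
  have hS₁ : S₁.ShortExact := HomologicalComplex.shortExact_of_degreewise_shortExact _
    (fun i => ((sp i).map (F₀ I)).shortExact)
  haveI := hS₁.mono_f
  haveI := hS₂.mono_f
  have w : (F I).map f ≫ σ.hom = θ.hom ≫ S₂.g := by
    have hf' : (θ.hom ≫ S₂.g) ≫ σ.inv = (F I).map f := by rw [hf, Category.assoc]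
    exact ((Iso.comp_inv_eq σ).1 hf').symm
  let i₁ : (F I).obj (kernel f) ≅ kernel ((F I).map f) :=
    IsLimit.conePointUniqueUpToIso hS₁.exact.fIsKernel (limit.isLimit _)
  let i₂ : E ≅ kernel S₂.g :=
    IsLimit.conePointUniqueUpToIso hS₂.exact.fIsKernel (limit.isLimit _)
  let k : kernel ((F I).map f) ≅ kernel S₂.g := kernel.mapIso ((F I).map f) S₂.g θ σ w
  exact ⟨kernel f, b', hPb, hPP, ⟨e₃.symm ≪≫ eQ⟩, ⟨i₁ ≪≫ k ≪≫ i₂.symm⟩⟩

end Groth.Agent.Lib.helper18.RepLift
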