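import Mathlib

/-!
# Long exact sequence of right derived functors for a short exact sequence of functors
(exact on injective objects), with a *natural* connecting morphism.
-/

set_option autoImplicit false
set_option linter.unusedSectionVars false

namespace Groth.Agent.H18.RLES

open CategoryTheory CategoryTheory.Limits

universe v u v' u'

/-- pasting three commutative squares -/
lemma three_sq {A : Type*} [Category A] {X0 X1 X2 X3 Y0 Y1 Y2 Y3 : A}
    (r3 : X0 ⟶ Y0) (aJ : Y0 ⟶ Y1) (aI : X0 ⟶ X1) (m3 : X1 ⟶ Y1)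
    (dJ : Y1 ⟶ Y2) (dI : X1 ⟶ X2) (m1 : X2 ⟶ Y2) (bJ : Y2 ⟶ Y3) (bI : X2 ⟶ X3) (r1 : X3 ⟶ Y3)
    (h3 : r3 ≫ aJ = aI ≫ m3) (hd : m3 ≫ dJ = dI ≫ m1) (h1 : bI ≫ r1 = m1 ≫ bJ) :
    r3 ≫ (aJ ≫ dJ ≫ bJ) = (aI ≫ dI ≫ bI) ≫ r1 := by
  rw [← Category.assoc, h3, Category.assoc, ← Category.assoc m3, hd, Category.assoc,
    Category.assoc, Category.assoc, h1]

variable {C : Type u} [Category.{v} C] [Abelian C] [HasInjectiveResolutions C]
  {D : Type u'} [Category.{v'} D] [Abelian D]
variable {F₁ F₂ F₃ : C ⥤ D} [F₁.Additive] [F₂.Additive] [F₃.Additive]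
  (α : F₁ ⟶ F₂) (β : F₂ ⟶ F₃) (w : α ≫ β = 0)
  (hex : ∀ (I : C), Injective I →
    (ShortComplex.mk (α.app I) (β.app I) (by rw [← NatTrans.comp_app, w]; rfl)).ShortExact)
  {X Y : C}

/-- The short complex of complexes. -/
noncomputable def SC (I : InjectiveResolution X) : ShortComplex (CochainComplex D ℕ) :=
  ShortComplex.mk ((NatTrans.mapHomologicalComplex α _).app I.cocomplex)
    ((NatTrans.mapHomologicalComplex β _).app I.cocomplex)
    (by
      apply HomologicalComplex.hom_ext
      intro n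
      have h := congrArg (fun γ => γ.app (I.cocomplex.X n)) w
      exact h)

include hex in
lemma SC_shortExact (I : InjectiveResolution X) : (SC α β w I).ShortExact :=
  HomologicalComplex.shortExact_of_degreewise_shortExact _
    (fun n => hex (I.cocomplex.X n) inferInstance)

/-- the morphism of short complexes induced by a chain map -/
noncomputable def SCmap (I : InjectiveResolution X) (J : InjectiveResolution Y)
    (φ : I.cocomplex ⟶ J.cocomplex) : SC α β w I ⟶ SC α β w J where
  τ₁ := (F₁.mapHomologicalComplex _).map φ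
  τ₂ := (F₂.mapHomologicalComplex _).map φ
  τ₃ := (F₃.mapHomologicalComplex _).map φ
  comm₁₂ := ((NatTrans.mapHomologicalComplex α (ComplexShape.up ℕ)).naturality φ)
  comm₂₃ := ((NatTrans.mapHomologicalComplex β (ComplexShape.up ℕ)).naturality φ)

variable (I : InjectiveResolution X)

/-- iso to homology -/
noncomputable def j₁ (n : ℕ) : (F₁.rightDerived n).obj X ≅ (SC α β w I).X₁.homology n :=
  I.isoRightDerivedObj F₁ n
/-- iso to homology -/
noncomputable def j₂ (n : ℕ) : (F₂.rightDerived n).obj X ≅ (SC α β w I).X₂.homology n :=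
  I.isoRightDerivedObj F₂ n
/-- iso to homology -/
noncomputable def j₃ (n : ℕ) : (F₃.rightDerived n).obj X ≅ (SC α β w I).X₃.homology n :=
  I.isoRightDerivedObj F₃ n

lemma nat₁ (n : ℕ) : (NatTrans.rightDerived α n).app X ≫ (j₂ α β w I n).hom =
    (j₁ α β w I n).hom ≫ HomologicalComplex.homologyMap (SC α β w I).f n := by
  rw [InjectiveResolution.rightDerived_app_eq α I n, Category.assoc, Category.assoc]
  erw [Iso.inv_hom_id, Category.comp_id]
  rfl

lemma nat₂ (n : ℕ) : (NatTrans.rightDerived β n).app X ≫ (j₃ α β w I n).hom =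
    (j₂ α β w I n).hom ≫ HomologicalComplex.homologyMap (SC α β w I).g n := by
  rw [InjectiveResolution.rightDerived_app_eq β I n, Category.assoc, Category.assoc]
  erw [Iso.inv_hom_id, Category.comp_id]
  rfl

/-- The connecting morphism. -/
noncomputable def δ (n : ℕ) : (F₃.rightDerived n).obj X ⟶ (F₁.rightDerived (n + 1)).obj X :=
  (j₃ α β w I n).hom ≫ (SC_shortExact α β w hex I).δ n (n + 1) rfl ≫
    (j₁ α β w I (n + 1)).inv

lemma δ_naturality (f : X ⟶ Y) (J : InjectiveResolution Y) (φ : I.cocomplex ⟶ J.cocomplex)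
    (comm : I.ι.f 0 ≫ φ.f 0 = f ≫ J.ι.f 0) (n : ℕ) :
    (F₃.rightDerived n).map f ≫ δ α β w hex J n =
      δ α β w hex I n ≫ (F₁.rightDerived (n + 1)).map f := by
  have h3 : (F₃.rightDerived n).map f ≫ (j₃ α β w J n).hom =
      (j₃ α β w I n).hom ≫ HomologicalComplex.homologyMap (SCmap α β w I J φ).τ₃ n :=
    InjectiveResolution.isoRightDerivedObj_hom_naturality f I J φ comm F₃ n
  have h1 : (j₁ α β w I (n + 1)).inv ≫ (F₁.rightDerived (n + 1)).map f =
      HomologicalComplex.homologyMap (SCmap α β w I J φ).τ₁ (n + 1) ≫ (j₁ α β w J (n + 1)).inv :=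
    InjectiveResolution.isoRightDerivedObj_inv_naturality f I J φ comm F₁ (n + 1)
  have hδ := HomologicalComplex.HomologySequence.δ_naturality (SCmap α β w I J φ)
    (SC_shortExact α β w hex I) (SC_shortExact α β w hex J) n (n + 1) rfl
  exact three_sq _ _ _ _ _ _ _ _ _ _ h3 hδ.symm h1

/-- the natural connecting morphism `RⁿF₃ ⟶ Rⁿ⁺¹F₁`. -/
noncomputable def δNat (n : ℕ) : F₃.rightDerived n ⟶ F₁.rightDerived (n + 1) where
  app X := δ α β w hex (injectiveResolution X) n
  naturality {X Y} f := δ_naturality α β w hex (injectiveResolution X) f (injectiveResolution Y)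
    (InjectiveResolution.desc f _ _)
    (by simpa using InjectiveResolution.desc_commutes_zero f _ _) n

include w I in
lemma comp_zero' (n : ℕ) :
    (NatTrans.rightDerived α n).app X ≫ (NatTrans.rightDerived β n).app X = 0 := by
  rw [← cancel_mono (j₃ α β w I n).hom, Category.assoc, nat₂ α β w I,
    ← Category.assoc, nat₁ α β w I, Category.assoc,
    ← HomologicalComplex.homologyMap_comp, (SC α β w I).zero,
    HomologicalComplex.homologyMap_zero, comp_zero, zero_comp]

include hex in
lemma exact₂ (n : ℕ) :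
    (ShortComplex.mk ((NatTrans.rightDerived α n).app X) ((NatTrans.rightDerived β n).app X)
      (comp_zero' α β w I n)).Exact := by
  refine ShortComplex.exact_of_iso ?_ ((SC_shortExact α β w hex I).homology_exact₂ n)
  exact (ShortComplex.isoMk (j₁ α β w I n) (j₂ α β w I n)
    (j₃ α β w I n) (nat₁ α β w I n).symm (nat₂ α β w I n).symm).symm

lemma map_g_δ (n : ℕ) : (NatTrans.rightDerived β n).app X ≫ δ α β w hex I n = 0 := by
  have := (SC_shortExact α β w hex I).comp_δ n (n + 1) rfl
  rw [δ, ← Category.assoc, nat₂ α β w I, Category.assoc, reassoc_of% this]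
  simp

lemma δ_map_f (n : ℕ) : δ α β w hex I n ≫ (NatTrans.rightDerived α (n + 1)).app X = 0 := by
  have := (SC_shortExact α β w hex I).δ_comp n (n + 1) rfl
  have h2 : (j₁ α β w I (n + 1)).inv ≫ (NatTrans.rightDerived α (n + 1)).app X =
      HomologicalComplex.homologyMap (SC α β w I).f (n + 1) ≫
        (j₂ α β w I (n + 1)).inv := by
    rw [Iso.inv_comp_eq, ← Category.assoc, ← nat₁ α β w I, Category.assoc, Iso.hom_inv_id,
      Category.comp_id]
  rw [δ, Category.assoc, Category.assoc, h2, reassoc_of% this]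
  simp

lemma exact₃ (n : ℕ) :
    (ShortComplex.mk ((NatTrans.rightDerived β n).app X) (δ α β w hex I n)
      (map_g_δ α β w hex I n)).Exact := by
  refine ShortComplex.exact_of_iso ?_
    ((SC_shortExact α β w hex I).homology_exact₃ n (n + 1) rfl)
  refine (ShortComplex.isoMk (j₂ α β w I n) (j₃ α β w I n)
    (j₁ α β w I (n + 1)) (nat₂ α β w I n).symm ?_).symm
  simp [δ]

lemma exact₁ (n : ℕ) :
    (ShortComplex.mk (δ α β w hex I n) ((NatTrans.rightDerived α (n + 1)).app X)
      (δ_map_f α β w hex I n)).Exact := by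
  refine ShortComplex.exact_of_iso ?_
    ((SC_shortExact α β w hex I).homology_exact₁ n (n + 1) rfl)
  refine (ShortComplex.isoMk (j₃ α β w I n) (j₁ α β w I (n + 1))
    (j₂ α β w I (n + 1)) ?_ (nat₁ α β w I (n + 1)).symm).symm
  simp [δ]

end Groth.Agent.H18.RLES
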