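import Groth.Agent.Lib.helper18.PshDerNat
import Groth.Agent.Lib.helper18.PshPush

/-!
# Higher direct images commute with colimits when cohomology does so locally (S0882, S0855)
-/

set_option autoImplicit false
set_option linter.unusedSectionVars false
open CategoryTheory CategoryTheory.Limits Opposite

namespace Groth.Agent.H18.RpushColim

universe u

variable {C D : Type u} [SmallCategory C] [SmallCategory D]
  (J : GrothendieckTopology C) (K : GrothendieckTopology D) (u : D ⥤ C) [u.IsContinuous K J]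
  {ι : Type u} [SmallCategory ι] (F : ι ⥤ Sheaf J AddCommGrpCat.{u}) (p : ℕ)

/-- the cohomology presheaf functor -/
noncomputable abbrev Hf : Sheaf J AddCommGrpCat.{u} ⥤ Cᵒᵖ ⥤ AddCommGrpCat.{u} :=
  Sheaf.cohomologyPresheafFunctor J p

/-- the comparison map `colim_i ℋ^p(F_i) ⟶ ℋ^p(colim F_i)` of presheaves -/
noncomputable abbrev kk : colimit (F ⋙ Hf J p) ⟶ (Hf J p).obj (colimit F) :=
  colimit.post F (Hf J p)

lemma isIso_kk_app (W : C) (hW : PreservesColimit F ((Hf J p).flip.obj (op W))) :
    IsIso ((kk J F p).app (op W)) := by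
  let ev : (Cᵒᵖ ⥤ AddCommGrpCat.{u}) ⥤ AddCommGrpCat.{u} :=
    (evaluation Cᵒᵖ AddCommGrpCat.{u}).obj (op W)
  have e : (Hf J p).flip.obj (op W) ≅ Hf J p ⋙ ev :=
    NatIso.ofComponents (fun _ => Iso.refl _) (fun f => by simp [ev])
  have : PreservesColimit F (Hf J p ⋙ ev) := preservesColimit_of_natIso F e
  have h := colimit.post_post F (Hf J p) ev
  have : IsIso (colimit.post (F ⋙ Hf J p) ev ≫ ev.map (colimit.post F (Hf J p))) := by
    rw [h]
    infer_instance
  exact IsIso.of_isIso_comp_left (colimit.post (F ⋙ Hf J p) ev) (ev.map (colimit.post F (Hf J p)))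

variable
  (h : ∀ V : D, ∃ (κ : Type u) (Y : κ → D) (g : ∀ k, Y k ⟶ V), Sieve.ofArrows Y g ∈ K V ∧
      ∀ k, PreservesColimit F ((Hf J p).flip.obj (op (u.obj (Y k)))))

/-- the comparison map pushed forward along `u` -/
noncomputable abbrev ψ : u.op ⋙ colimit (F ⋙ Hf J p) ⟶ u.op ⋙ (Hf J p).obj (colimit F) :=
  Functor.whiskerLeft u.op (kk J F p)

include h in
lemma isLocallyInjective_ψ : Presheaf.IsLocallyInjective K (ψ J u F p) where
  equalizerSieve_mem {X} x y hxy := by
    obtain ⟨κ, Yk, g, hg, hY⟩ := h X.unop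
    refine K.superset_covering ?_ hg
    rw [Sieve.ofArrows, Sieve.generate_le_iff]
    rintro Z f ⟨k⟩
    have := isIso_kk_app J F p (u.obj (Yk k)) (hY k)
    have hinj : Function.Injective ((kk J F p).app (op (u.obj (Yk k)))).hom :=
      ((ConcreteCategory.isIso_iff_bijective _).mp inferInstance).1
    apply hinj
    have n1 := NatTrans.naturality_apply (ψ J u F p) (g k).op x
    have n2 := NatTrans.naturality_apply (ψ J u F p) (g k).op y
    exact n1.trans ((congrArg _ hxy).trans n2.symm)

include h in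
lemma isLocallySurjective_ψ : Presheaf.IsLocallySurjective K (ψ J u F p) where
  imageSieve_mem {U} s := by
    obtain ⟨κ, Yk, g, hg, hY⟩ := h U
    refine K.superset_covering ?_ hg
    rw [Sieve.ofArrows, Sieve.generate_le_iff]
    rintro Z f ⟨k⟩
    have := isIso_kk_app J F p (u.obj (Yk k)) (hY k)
    have hsurj : Function.Surjective ((kk J F p).app (op (u.obj (Yk k)))).hom :=
      ((ConcreteCategory.isIso_iff_bijective _).mp inferInstance).2
    exact hsurj _

include h in
lemma isIso_G_map_kk : IsIso ((PshPush.G K u).map (kk J F p)) := by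
  have := isLocallyInjective_ψ J K u F p h
  have := isLocallySurjective_ψ J K u F p h
  exact (K.W_iff (ψ J u F p)).mp (K.W_of_isLocallyBijective (ψ J u F p))

include h in
/-- `ℋ^p ⋙ u_*^{psh} ⋙ sheafify` preserves the colimit of `F`. -/
lemma preservesColimit_Φ : PreservesColimit F (Hf J p ⋙ PshPush.G K u) := by
  have := isIso_G_map_kk J K u F p h
  have hpp := colimit.post_post F (Hf J p) (PshPush.G K u)
  have : IsIso (colimit.post F (Hf J p ⋙ PshPush.G K u)) := by
    rw [← hpp]
    infer_instance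
  exact preservesColimit_of_isIso_post _ _

/-- `R^p u_* ≅ ℋ^p ⋙ u_*^{psh} ⋙ sheafify`, naturally. -/
noncomputable def RpushNatIso : CohSite.Rpush J K u p ≅ Hf J p ⋙ PshPush.G K u :=
  ExtDer.rightDerivedIsoOfIso (PshPush.pushIso J K u) p ≪≫
    (RDCompExact.natIso (PshDer.T J) (PshPush.G K u) p).symm ≪≫
    Functor.isoWhiskerRight (PshDer.forgetNatIso J p) (PshPush.G K u)

include h in
theorem main : PreservesColimit F (CohSite.Rpush J K u p) := by
  have := preservesColimit_Φ J K u F p h
  exact preservesColimit_of_natIso F (RpushNatIso J K u p).symm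

open TopologicalSpace in
/-- topological version (S0855) -/
theorem main_top {X Y : TopCat.{u}} (f : X ⟶ Y)
    {ι : Type u} [SmallCategory ι] (F : ι ⥤ CohTop.Ab X) (p : ℕ)
    (h : Opens.IsBasis {V : Opens Y | PreservesColimit F
        ((Sheaf.cohomologyPresheafFunctor (Opens.grothendieckTopology X) p).flip.obj
          (op ((Opens.map f).obj V)))}) :
    PreservesColimit F (CohTop.Rpush f p) := by
  refine main (Opens.grothendieckTopology X) (Opens.grothendieckTopology Y) (Opens.map f) F p ?_
  intro V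
  refine ⟨{V' : Opens Y // V' ∈ {V : Opens Y | PreservesColimit F
        ((Sheaf.cohomologyPresheafFunctor (Opens.grothendieckTopology X) p).flip.obj
          (op ((Opens.map f).obj V)))} ∧ V' ≤ V}, fun k => k.1, fun k => homOfLE k.2.2, ?_,
    fun k => k.2.1⟩
  intro x hx
  obtain ⟨V', hV'B, hxV', hV'V⟩ := Opens.isBasis_iff_nbhd.mp h hx
  exact ⟨V', homOfLE hV'V, ⟨_, 𝟙 _, homOfLE hV'V, ⟨(⟨V', hV'B, hV'V⟩ : {V' : Opens Y // _})⟩,
    by simp⟩, hxV'⟩

end Groth.Agent.H18.RpushColim
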