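import Groth.Agent.S8347

set_option autoImplicit false
set_option linter.unusedSectionVars false
open CategoryTheory CategoryTheory.Limits SpSeq

namespace Groth.Agent.H18.SSLine

universe v u

variable {C : Type u} [Category.{v} C] [Abelian C] {r₀ : ℤ}
  (E : CohomologicalSpectralSequence C r₀) {H : ℤ → C} (a : SpSeq.Abutment E H)

/-- if on the line `p + q = n` of page `r` only the position `(p₀, n - p₀)` is nonzero, and that
position is stationary from page `r` on, then `H n` is isomorphic to that term. -/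
theorem iso_of_single_term_on_line (r : ℤ) (hr : r₀ ≤ r) (n p₀ : ℤ)
    (hline : ∀ p, p ≠ p₀ → IsZero ((E.page r hr).X (p, n - p)))
    (hdisc : (a.filObj n).IsDiscrete) (hexh : a.IsExhaustive n)
    (hst : SpSeq.StationaryAt E (p₀, n - p₀) r) :
    Nonempty (H n ≅ (E.page r hr).X (p₀, n - p₀)) := by
  have hgr : ∀ p, p ≠ p₀ → a.fil n (p + 1) = a.fil n p := by
    intro p hp
    refine Groth.Agent.S8347.eq_of_isZero_grPiece (a.fil n) (a.anti n) p ?_
    have h1 := (Groth.Agent.S8355.result E r hr (p, n - p) (hline p hp)).2 H a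
    obtain ⟨e⟩ := Groth.Agent.S8347.grPiece_congr a.fil a.anti (p + (n - p)) n p (by omega)
    exact h1.of_iso e.symm
  have hbot : a.fil n (p₀ + 1) = ⊥ := Groth.Agent.S8347.fil_bot (a.fil n) (a.anti n) p₀ hgr hdisc
  have htop : a.fil n p₀ = ⊤ := Groth.Agent.S8347.fil_top (a.fil n) (a.anti n) p₀ hgr hexh
  obtain ⟨e1⟩ := Groth.Agent.S8347.grPiece_iso_of_top_bot (a.fil n) (a.anti n) p₀ htop hbot
  obtain ⟨e2⟩ := Groth.Agent.S8347.grPiece_congr a.fil a.anti (p₀ + (n - p₀)) n p₀ (by omega)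
  have e3 := a.β (p₀, n - p₀)
  obtain ⟨e4⟩ := Groth.Agent.S8347.nonempty_iso_of_stationary E (p₀, n - p₀) r (a.rk (p₀, n - p₀)) hst
    (a.stat (p₀, n - p₀))
  exact ⟨e1.symm ≪≫ e2.symm ≪≫ e3.symm ≪≫ e4.symm⟩

/-- if the whole line `p + q = n` of page `r` vanishes then `H n = 0`. -/
theorem isZero_of_line_zero (r : ℤ) (hr : r₀ ≤ r) (n : ℤ)
    (hline : ∀ p, IsZero ((E.page r hr).X (p, n - p)))
    (hdisc : (a.filObj n).IsDiscrete) (hexh : a.IsExhaustive n) : IsZero (H n) := by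
  have hgr : ∀ p, a.fil n (p + 1) = a.fil n p := by
    intro p
    refine Groth.Agent.S8347.eq_of_isZero_grPiece (a.fil n) (a.anti n) p ?_
    have h1 := (Groth.Agent.S8355.result E r hr (p, n - p) (hline p)).2 H a
    obtain ⟨e⟩ := Groth.Agent.S8347.grPiece_congr a.fil a.anti (p + (n - p)) n p (by omega)
    exact h1.of_iso e.symm
  obtain ⟨b, hb⟩ := hdisc
  have hconst : ∀ p, a.fil n p = ⊥ := by
    intro p
    have h1 := Groth.Agent.S8347.fil_bot (a.fil n) (a.anti n) (p - 1) (fun p' _ => hgr p') ⟨b, hb⟩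
    have : p - 1 + 1 = p := by omega
    rw [this] at h1
    exact h1
  have htop : (⊤ : Subobject (H n)) = ⊥ := by
    refine le_bot_iff.mp (hexh.2 ?_)
    rintro _ ⟨p, rfl⟩
    exact le_of_eq (hconst p)
  have h2 : IsZero ((⊤ : Subobject (H n)) : C) :=
    (isZero_zero C).of_iso (Subobject.isoOfEq _ _ htop ≪≫ Subobject.botCoeIsoZero)
  exact h2.of_iso (asIso (⊤ : Subobject (H n)).arrow).symm

variable {E a}

lemma isDiscrete_of_isFinite {n : ℤ} (h : a.IsFinite n) : (a.filObj n).IsDiscrete := h.2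

lemma isExhaustive_of_isFinite {n : ℤ} (h : a.IsFinite n) : a.IsExhaustive n := by
  obtain ⟨⟨t, ht⟩, -⟩ := h
  refine ⟨?_, ?_⟩
  · rintro _ ⟨p, rfl⟩
    exact le_top
  · intro S hS
    exact ht ▸ hS ⟨t, rfl⟩

/-- pages after a zero term are zero -/
lemma isZero_page_of_le (r : ℤ) (hr : r₀ ≤ r) (pq : ℤ × ℤ) (h : IsZero ((E.page r hr).X pq))
    (k : ℤ) (hk : r ≤ k) : IsZero ((E.page k (hr.trans hk)).X pq) :=
  (Groth.Agent.S8355.result E r hr pq h).1 k hk

end Groth.Agent.H18.SSLine
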