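import Groth.Agent.Lib.helper18.SSLine

/-! Degeneration criterion via a monomorphism of spectral sequences (for S19323). -/

set_option autoImplicit false
open CategoryTheory CategoryTheory.Limits SpSeq

namespace Groth.Agent.H18.SSMonoDeg

universe v u

variable {C : Type u} [Category.{v} C] [Abelian C]

/-- homology map is mono when the map is mono at `j` and the incoming differentials vanish. -/
lemma mono_homologyMap {ι : Type*} {c : ComplexShape ι} {K L : HomologicalComplex C c}
    (f : K ⟶ L) (i j : ι) (hi : c.prev j = i) (hK : K.d i j = 0) (hL : L.d i j = 0)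
    [Mono (f.f j)] : Mono (HomologicalComplex.homologyMap f j) := by
  have := K.isIso_pOpcycles i j hi hK
  have := L.isIso_pOpcycles i j hi hL
  have h1 : HomologicalComplex.opcyclesMap f j =
      inv (K.pOpcycles j) ≫ f.f j ≫ L.pOpcycles j := by
    rw [IsIso.eq_inv_comp]
    exact HomologicalComplex.p_opcyclesMap f j
  have : Mono (HomologicalComplex.opcyclesMap f j) := by
    rw [h1]
    infer_instance
  have : Mono (HomologicalComplex.homologyMap f j ≫ L.homologyι j) := by
    rw [HomologicalComplex.homologyι_naturality]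
    infer_instance
  exact mono_of_mono _ (L.homologyι j)

theorem main
    (E E' : E₂CohomologicalSpectralSequence C) (φ : E ⟶ E')
    (hE : ∀ pq : ℤ × ℤ, pq.1 < 0 ∨ pq.2 < 0 → IsZero ((E.page 2 le_rfl).X pq))
    (hd' : ∀ (r : ℤ) (hr : 2 ≤ r) (pq : ℤ × ℤ), pq.1 ≠ 0 →
      (E'.page r hr).d pq (pq + (r, 1 - r)) = 0)
    (hφd : ∀ (r : ℤ) (hr : 2 ≤ r) (pq : ℤ × ℤ),
      (φ.hom r hr).f pq ≫ (E'.page r hr).d pq (pq + (r, 1 - r)) = 0)
    (hmono : ∀ pq : ℤ × ℤ, Mono ((φ.hom 2 le_rfl).f pq)) :
    SpSeq.Degenerates E 2 := by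
  -- vanishing outside the first quadrant on all pages
  have hquad : ∀ (r : ℤ) (hr : 2 ≤ r) (pq : ℤ × ℤ), pq.1 < 0 ∨ pq.2 < 0 →
      IsZero ((E.page r hr).X pq) := fun r hr pq h =>
    Groth.Agent.H18.SSLine.isZero_page_of_le 2 le_rfl pq (hE pq h) r hr
  -- the differential vanishes as soon as `φ` is mono at positions with `r ≤ p`
  have hD : ∀ (r : ℤ) (hr : 2 ≤ r),
      (∀ pq : ℤ × ℤ, r ≤ pq.1 → Mono ((φ.hom r hr).f pq)) →
      ∀ pq pq' : ℤ × ℤ, (E.page r hr).d pq pq' = 0 := by
    intro r hr hm pq pq'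
    by_cases hrel : (ComplexShape.up' ((r, 1 - r) : ℤ × ℤ)).Rel pq pq'
    · have hpq' : pq + (r, 1 - r) = pq' := hrel
      subst hpq'
      by_cases hneg : pq.1 < 0
      · exact (hquad r hr pq (Or.inl hneg)).eq_of_src _ _
      · have := hm (pq + (r, 1 - r)) (by simp; omega)
        have h1 := (φ.hom r hr).comm pq (pq + (r, 1 - r))
        rw [hφd r hr pq] at h1
        exact zero_of_comp_mono _ h1.symm
    · exact (E.page r hr).shape _ _ hrel
  have hQ : ∀ n : ℕ, ∀ pq : ℤ × ℤ, (2 + n : ℤ) ≤ pq.1 →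
      Mono ((φ.hom (2 + n) (by omega)).f pq) := by
    intro n
    induction n with
    | zero =>
      intro pq _
      have := hmono pq
      convert this using 3 <;> simp
    | succ n ih =>
      intro pq hpq
      have hr : (2 : ℤ) ≤ 2 + n := by omega
      have hdE := hD (2 + n) hr ih
      have hcomm := φ.comm (2 + n) (2 + (n + 1 : ℕ)) pq (by omega) hr
      have hprev : (ComplexShape.up' (((2 + n : ℤ), 1 - (2 + n : ℤ)) : ℤ × ℤ)).prev pq =
          pq - ((2 + n : ℤ), 1 - (2 + n : ℤ)) := by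
        apply ComplexShape.prev_eq'
        show _ + _ = _
        simp
      have : Mono ((φ.hom (2 + n) hr).f pq) := ih pq (by push_cast at hpq; omega)
      have hdE' : (E'.page (2 + n) hr).d (pq - ((2 + n : ℤ), 1 - (2 + n : ℤ))) pq = 0 := by
        have := hd' (2 + n) hr (pq - ((2 + n : ℤ), 1 - (2 + n : ℤ))) (by
          simp only [Prod.fst_sub]
          push_cast at hpq
          omega)
        have e : pq - ((2 + n : ℤ), 1 - (2 + n : ℤ)) + ((2 + n : ℤ), 1 - (2 + n : ℤ)) = pq :=
          sub_add_cancel _ _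
        rw [e] at this
        exact this
      have := mono_homologyMap (φ.hom (2 + n) hr) _ pq hprev (hdE _ _) hdE'
      have h2 : (φ.hom (2 + (n + 1 : ℕ)) (by omega)).f pq =
          (E.iso (2 + n) (2 + (n + 1 : ℕ)) pq (by omega) hr).inv ≫
            HomologicalComplex.homologyMap (φ.hom (2 + n) hr) pq ≫
              (E'.iso (2 + n) (2 + (n + 1 : ℕ)) pq (by omega) hr).hom := by
        rw [Iso.eq_inv_comp]
        exact hcomm.symm
      rw [h2]
      infer_instance
  refine ⟨le_rfl, ?_⟩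
  intro r' h₀ _ pq pq'
  obtain ⟨n, rfl⟩ := Int.le.dest h₀
  exact hD (2 + n) h₀ (hQ n) pq pq'

end Groth.Agent.H18.SSMonoDeg
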