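import Groth.Agent.Lib.helper18.OpenRestr
import Groth.Agent.Lib.helper18.Flasque
import Groth.Agent.Lib.helper18.ExtDer

set_option autoImplicit false
set_option linter.unusedSectionVars false
open CategoryTheory CategoryTheory.Limits CategoryTheory.Abelian Opposite TopologicalSpace

namespace Groth.Agent.H18.SectSupp

open Groth.Agent.H18.OpenRestr Groth.Agent.H18.Flasque

universe u

variable {X : TopCat.{u}} (U : Opens X)

/-- Mathlib's unit `F ⟶ j_* j⁻¹ F` -/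
noncomputable abbrev η : 𝟭 (CohTop.Ab X) ⟶ CohTop.pull (CohCx.incl U) ⋙ CohTop.push (CohCx.incl U) :=
  (TopCat.Sheaf.pullbackPushforwardAdjunction AddCommGrpCat.{u} (CohCx.incl U)).unit

/-- `j⁻¹ ≅ (-)|_U` -/
noncomputable def pullIso : CohTop.pull (CohCx.incl U) ≅ CohTop.restrFunctor U :=
  Adjunction.leftAdjointUniq
    (TopCat.Sheaf.pullbackPushforwardAdjunction AddCommGrpCat.{u} (CohCx.incl U)) (adjN U)

lemma η_comp (F : CohTop.Ab X) :
    (η U).app F ≫ (CohTop.push (CohCx.incl U)).map ((pullIso U).hom.app F) = (unitN U).app F :=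
  Adjunction.unit_leftAdjointUniq_hom_app _ _ F

lemma comp_η_eq_zero_iff {M F : CohTop.Ab X} (σ : M ⟶ F) :
    σ ≫ (η U).app F = 0 ↔ σ ≫ (unitN U).app F = 0 := by
  rw [← η_comp, ← Category.assoc]
  constructor
  · intro h
    rw [h, zero_comp]
  · intro h
    have : IsIso ((CohTop.push (CohCx.incl U)).map ((pullIso U).hom.app F)) := inferInstance
    rw [← cancel_mono ((CohTop.push (CohCx.incl U)).map ((pullIso U).hom.app F)), h, zero_comp]

lemma evalGen_comp_unitN {F : CohTop.Ab X} (V : Opens X)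
    (σ : CohCx.freeSheaf (Opens.grothendieckTopology X) V ⟶ F) :
    (CohFree.evalGen (Opens.grothendieckTopology X) V _ (σ ≫ (unitN U).app F) :
        F.obj.obj (op ((L U).obj ((R U).obj V)))) =
      CohFree.evalGen (Opens.grothendieckTopology X) ((L U).obj ((R U).obj V)) F
        (ιZ (LR_le U V) ≫ σ) := by
  rw [CohFree.evalGen_freeSheafMap_comp]
  rfl

lemma comp_unitN_eq_zero_iff {F : CohTop.Ab X} {W V : Opens X} (hWV : W ≤ V)
    (hW : (L U).obj ((R U).obj V) = W)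
    (σ : CohCx.freeSheaf (Opens.grothendieckTopology X) V ⟶ F) :
    σ ≫ (unitN U).app F = 0 ↔ ιZ hWV ≫ σ = 0 := by
  subst hW
  constructor
  · intro h
    apply (CohFree.homEquivSect (Opens.grothendieckTopology X) _ F).injective
    rw [CohFree.homEquivSect_apply, ← evalGen_comp_unitN, h, map_zero, map_zero]
    rfl
  · intro h
    apply (CohFree.homEquivSect (Opens.grothendieckTopology X) V _).injective
    rw [CohFree.homEquivSect_apply, map_zero]
    refine (evalGen_comp_unitN U V σ).trans ?_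
    rw [h, map_zero]
    rfl

/-- the inclusion `Γ_Z F ⟶ F` -/
noncomputable def κ (F : CohTop.Ab X) : (LocCohZ.sectSuppF U).obj F ⟶ F := kernel.ι ((η U).app F)

lemma κ_η (F : CohTop.Ab X) : κ U F ≫ (η U).app F = 0 := kernel.condition _

instance (F : CohTop.Ab X) : Mono (κ U F) :=
  inferInstanceAs (Mono (equalizer.ι ((η U).app F) 0))

/-- lifting to `Γ_Z F` -/
noncomputable def liftκ {M F : CohTop.Ab X} (σ : M ⟶ F) (h : σ ≫ (η U).app F = 0) :
    M ⟶ (LocCohZ.sectSuppF U).obj F := kernel.lift ((η U).app F) σ h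

@[reassoc (attr := simp)]
lemma liftκ_κ {M F : CohTop.Ab X} (σ : M ⟶ F) (h : σ ≫ (η U).app F = 0) :
    liftκ U σ h ≫ κ U F = σ := kernel.lift_ι _ _ _

lemma ιZ_comp_κ {F : CohTop.Ab X} {W V : Opens X} (hWV : W ≤ V)
    (hW : (L U).obj ((R U).obj V) = W)
    (τ : CohCx.freeSheaf (Opens.grothendieckTopology X) V ⟶ (LocCohZ.sectSuppF U).obj F) :
    ιZ hWV ≫ τ ≫ κ U F = 0 := by
  rw [← comp_unitN_eq_zero_iff U hWV hW, ← comp_η_eq_zero_iff, Category.assoc, κ_η,
    comp_zero]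

lemma comp_η_of_ιZ {F : CohTop.Ab X} {W V : Opens X} (hWV : W ≤ V)
    (hW : (L U).obj ((R U).obj V) = W)
    (σ : CohCx.freeSheaf (Opens.grothendieckTopology X) V ⟶ F) (h : ιZ hWV ≫ σ = 0) :
    σ ≫ (η U).app F = 0 := by
  rw [comp_η_eq_zero_iff, comp_unitN_eq_zero_iff U hWV hW]
  exact h

lemma sectSuppF_map_κ {F G : CohTop.Ab X} (φ : F ⟶ G) :
    (LocCohZ.sectSuppF U).map φ ≫ κ U G = κ U F ≫ φ := by
  simp [LocCohZ.sectSuppF, κ]

/-- `Hom(ℤ_V, Γ_Z F) ≃ Hom(ℤ_V/ℤ_{V∩U}, F)` -/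
noncomputable def homEquiv {W V : Opens X} (hWV : W ≤ V) (hW : (L U).obj ((R U).obj V) = W)
    (F : CohTop.Ab X) :
    (CohCx.freeSheaf (Opens.grothendieckTopology X) V ⟶ (LocCohZ.sectSuppF U).obj F) ≃+ (LocCohZ.zq hWV ⟶ F) where
  toFun τ := cokernel.desc (ιZ hWV) (τ ≫ κ U F) (ιZ_comp_κ U hWV hW τ)
  invFun ψ := liftκ U (cokernel.π (ιZ hWV) ≫ ψ)
    (comp_η_of_ιZ U hWV hW _ (by rw [← Category.assoc, cokernel.condition, zero_comp]))
  left_inv τ := by
    rw [← cancel_mono (κ U F), liftκ_κ, cokernel.π_desc]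
  right_inv ψ := by
    rw [← cancel_epi (cokernel.π (ιZ hWV)), cokernel.π_desc, liftκ_κ]
  map_add' τ τ' := by
    rw [← cancel_epi (cokernel.π (ιZ hWV)), cokernel.π_desc, Preadditive.comp_add, cokernel.π_desc,
      cokernel.π_desc, Preadditive.add_comp]

/-- `Γ_Z ⋙ Hom(ℤ_V, -) ≅ Hom(ℤ_V/ℤ_{V∩U}, -)` -/
noncomputable def homNatIso {W V : Opens X} (hWV : W ≤ V) (hW : (L U).obj ((R U).obj V) = W) :
    LocCohZ.sectSuppF U ⋙ ExtDer.hF (CohCx.freeSheaf (Opens.grothendieckTopology X) V) ≅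
      ExtDer.hF (LocCohZ.zq hWV) :=
  NatIso.ofComponents (fun F => (homEquiv U hWV hW F).toAddCommGrpIso) (fun {F G} φ => by
    ext (τ : CohCx.freeSheaf (Opens.grothendieckTopology X) V ⟶ (LocCohZ.sectSuppF U).obj F)
    change cokernel.desc (ιZ hWV) ((τ ≫ (LocCohZ.sectSuppF U).map φ) ≫ κ U G) _ =
      cokernel.desc (ιZ hWV) (τ ≫ κ U F) _ ≫ φ
    rw [← cancel_epi (cokernel.π (ιZ hWV)), cokernel.π_desc, cokernel.π_desc_assoc, Category.assoc,
      sectSuppF_map_κ, Category.assoc])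

end Groth.Agent.H18.SectSupp
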