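import Groth.Agent.Lib.helper18.SectSuppFlasque
import Groth.Agent.Lib.helper18.FlasquePush

set_option autoImplicit false
set_option linter.unusedSectionVars false
open CategoryTheory CategoryTheory.Limits CategoryTheory.Abelian Opposite TopologicalSpace

namespace Groth.Agent.H18.SectSupp

open Groth.Agent.H18.OpenRestr Groth.Agent.H18.Flasque

universe u

variable {X : TopCat.{u}} (U : Opens X)

lemma unitN_naturality {F G : CohTop.Ab X} (φ : F ⟶ G) :
    φ ≫ (unitN U).app G = (unitN U).app F ≫ (CohTop.restrFunctor U ⋙ CohTop.push (CohCx.incl U)).map φ :=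
  (unitN U).naturality φ

instance : (CohTop.restrFunctor U ⋙ CohTop.push (CohCx.incl U)).PreservesMonomorphisms := by
  have h1 : (CohTop.restrFunctor U).IsRightAdjoint := inferInstance
  have h2 : (CohTop.push (CohCx.incl U)).IsRightAdjoint :=
    (TopCat.Sheaf.pullbackPushforwardAdjunction AddCommGrpCat.{u} (CohCx.incl U)).isRightAdjoint
  infer_instance

lemma sectSuppF_lift {S : ShortComplex (CohTop.Ab X)} (hS : S.ShortExact) {M : CohTop.Ab X}
    (k : M ⟶ (LocCohZ.sectSuppF U).obj S.X₂) (hk : k ≫ (LocCohZ.sectSuppF U).map S.g = 0) :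
    ∃ l : M ⟶ (LocCohZ.sectSuppF U).obj S.X₁, l ≫ (LocCohZ.sectSuppF U).map S.f = k := by
  have := hS.mono_f
  have h0 : (k ≫ κ U S.X₂) ≫ S.g = 0 := by
    rw [Category.assoc, ← sectSuppF_map_κ, reassoc_of% hk, zero_comp]
  let l₀ := hS.exact.lift (k ≫ κ U S.X₂) h0
  have hl₀ : l₀ ≫ S.f = k ≫ κ U S.X₂ := hS.exact.lift_f _ _
  have h1 : l₀ ≫ (η U).app S.X₁ = 0 := by
    rw [comp_η_eq_zero_iff]
    rw [← cancel_mono ((CohTop.restrFunctor U ⋙ CohTop.push (CohCx.incl U)).map S.f), zero_comp,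
      Category.assoc, ← unitN_naturality, reassoc_of% hl₀, ← Category.assoc, ← comp_η_eq_zero_iff,
      Category.assoc, κ_η, comp_zero]
  refine ⟨liftκ U l₀ h1, ?_⟩
  rw [← cancel_mono (κ U S.X₂), Category.assoc, sectSuppF_map_κ, liftκ_κ_assoc, hl₀]

/-- `Γ_Z` is exact on short exact sequences with flasque kernel -/
theorem sectSuppF_shortExact {S : ShortComplex (CohTop.Ab X)} (hS : S.ShortExact)
    [TopCat.Sheaf.IsFlasque S.X₁] : (S.map (LocCohZ.sectSuppF U)).ShortExact := by
  have := hS.mono_f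
  have hmono : Mono ((LocCohZ.sectSuppF U).map S.f) := by
    have : Mono ((LocCohZ.sectSuppF U).map S.f ≫ κ U S.X₂) := by
      rw [sectSuppF_map_κ]
      infer_instance
    exact mono_of_mono _ (κ U S.X₂)
  have hepi : Epi ((LocCohZ.sectSuppF U).map S.g) := by
    apply epi_of_sections_surjective
    intro V t''
    let τ'' := CohFree.ofSect (Opens.grothendieckTopology X) V.unop ((LocCohZ.sectSuppF U).obj S.X₃) t''
    obtain ⟨ψ, hψ⟩ := exists_lift_zq hS (LR_le U V.unop) (homEquiv U (LR_le U V.unop) rfl S.X₃ τ'')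
    let τ := (homEquiv U (LR_le U V.unop) rfl S.X₂).symm ψ
    have hτ : τ ≫ (LocCohZ.sectSuppF U).map S.g = τ'' := by
      rw [← cancel_mono (κ U S.X₃), Category.assoc, sectSuppF_map_κ]
      change liftκ U _ _ ≫ κ U S.X₂ ≫ S.g = _
      rw [liftκ_κ_assoc, Category.assoc, hψ]
      exact cokernel.π_desc _ _ _
    refine ⟨CohFree.evalGen (Opens.grothendieckTopology X) V.unop _ τ, ?_⟩
    have := evalGen_comp τ ((LocCohZ.sectSuppF U).map S.g)
    rw [hτ, CohFree.evalGen_ofSect] at this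
    exact this.symm
  refine { exact := ?_, mono_f := hmono, epi_g := hepi }
  have : Mono (S.map (LocCohZ.sectSuppF U)).f := hmono
  refine ShortComplex.exact_of_f_is_kernel _ (KernelFork.IsLimit.ofι' _ _ ?_)
  intro M k hk
  exact ⟨(sectSuppF_lift U hS k hk).choose, (sectSuppF_lift U hS k hk).choose_spec⟩

/-- flasque sheaves are acyclic for `Γ_Z` -/
theorem isZero_HZsh_of_isFlasque (F : CohTop.Ab X) [TopCat.Sheaf.IsFlasque F] (i : ℕ) (hi : 0 < i) :
    IsZero ((LocCohZ.HZsh U i).obj F) := by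
  refine RDPlus.facyc_of_adapted (LocCohZ.sectSuppF U) (fun G : CohTop.Ab X => TopCat.Sheaf.IsFlasque G)
    ?_ ?_ F inferInstance i hi
  · intro G
    exact ⟨Injective.under G, Injective.ι G, isFlasque_of_injective _, inferInstance⟩
  · intro S hS h1 h2
    have : TopCat.Sheaf.IsFlasque S.X₁ := h1
    have : TopCat.Sheaf.IsFlasque S.X₂ := h2
    exact ⟨TopCat.Sheaf.IsFlasque.of_shortExact_of_isFlasque₁₂ hS, sectSuppF_shortExact U hS⟩

end Groth.Agent.H18.SectSupp
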