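import Groth.Agent.Lib.helper18.SectSupp

set_option autoImplicit false
set_option linter.unusedSectionVars false
open CategoryTheory CategoryTheory.Limits CategoryTheory.Abelian Opposite TopologicalSpace

namespace Groth.Agent.H18.SectSupp

open Groth.Agent.H18.OpenRestr Groth.Agent.H18.Flasque

universe u

variable {X : TopCat.{u}} (U : Opens X)

/-- gluing a section on `V'` which vanishes on `V' ⊓ W₀` with the zero section on `W₀` -/
lemma exists_glue_zero (A : CohTop.Ab X) (V' W₀ : Opens X) (s' : A.obj.obj (op V'))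
    (h : (A.obj.map (homOfLE (inf_le_left : V' ⊓ W₀ ≤ V')).op).hom s' = 0) :
    ∃ w : A.obj.obj (op (V' ⊔ W₀)), (A.obj.map (homOfLE (le_sup_left : V' ≤ V' ⊔ W₀)).op).hom w = s' ∧
      (A.obj.map (homOfLE (le_sup_right : W₀ ≤ V' ⊔ W₀)).op).hom w = 0 := by
  let T := AddCommGrpCat.of (AddMonoidHom.ker (A.obj.map (homOfLE (inf_le_left : V' ⊓ W₀ ≤ V')).op).hom)
  let f : T ⟶ A.obj.obj (op V') := AddCommGrpCat.ofHom (AddSubgroup.subtype _)
  let g : T ⟶ A.obj.obj (op W₀) := 0
  have comm : f ≫ A.obj.map (homOfLE (inf_le_left : V' ⊓ W₀ ≤ V')).op =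
      g ≫ A.obj.map (homOfLE (inf_le_right : V' ⊓ W₀ ≤ W₀)).op := by
    rw [zero_comp]
    ext ⟨a, ha⟩
    exact ha
  let s := PullbackCone.mk f g comm
  let l := TopCat.Sheaf.interUnionPullbackConeLift A V' W₀ s
  refine ⟨l.hom ⟨s', h⟩, ?_, ?_⟩
  · exact ConcreteCategory.congr_hom (TopCat.Sheaf.interUnionPullbackConeLift_left A V' W₀ s) ⟨s', h⟩
  · exact ConcreteCategory.congr_hom (TopCat.Sheaf.interUnionPullbackConeLift_right A V' W₀ s) ⟨s', h⟩

lemma map_evalGen {F : CohTop.Ab X} {W V : Opens X} (h : W ≤ V)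
    (σ : CohCx.freeSheaf (Opens.grothendieckTopology X) V ⟶ F) :
    (F.obj.map (homOfLE h).op).hom (CohFree.evalGen (Opens.grothendieckTopology X) V F σ) =
      CohFree.evalGen (Opens.grothendieckTopology X) W F (ιZ h ≫ σ) :=
  (CohFree.evalGen_freeSheafMap_comp _ (homOfLE h) F σ).symm

lemma ιZ_ofSect {F : CohTop.Ab X} {W V : Opens X} (h : W ≤ V) (s : F.obj.obj (op V)) :
    ιZ h ≫ CohFree.ofSect (Opens.grothendieckTopology X) V F s =
      CohFree.ofSect (Opens.grothendieckTopology X) W F ((F.obj.map (homOfLE h).op).hom s) := by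
  apply (CohFree.homEquivSect (Opens.grothendieckTopology X) W F).injective
  rw [CohFree.homEquivSect_apply, CohFree.homEquivSect_apply, ← map_evalGen, CohFree.evalGen_ofSect,
    CohFree.evalGen_ofSect]

lemma map_map_apply {F : CohTop.Ab X} {W₁ W₂ W₃ : Opens X} (h₁ : W₁ ≤ W₂) (h₂ : W₂ ≤ W₃)
    (s : F.obj.obj (op W₃)) :
    (F.obj.map (homOfLE h₁).op).hom ((F.obj.map (homOfLE h₂).op).hom s) =
      (F.obj.map (homOfLE (h₁.trans h₂)).op).hom s := by
  rw [← ConcreteCategory.comp_apply, ← F.obj.map_comp]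
  rfl

/-- **`Γ_Z` of a flasque sheaf is flasque.** -/
theorem isFlasque_sectSuppF (A : CohTop.Ab X) [TopCat.Sheaf.IsFlasque A] :
    TopCat.Sheaf.IsFlasque ((LocCohZ.sectSuppF U).obj A) where
  epi {V V'} i := by
    rw [AddCommGrpCat.epi_iff_surjective]
    intro t'
    have hle : V'.unop ≤ V.unop := leOfHom i.unop
    let τ' := CohFree.ofSect (Opens.grothendieckTopology X) V'.unop ((LocCohZ.sectSuppF U).obj A) t'
    have h1 : ιZ (LR_le U V'.unop) ≫ τ' ≫ κ U A = 0 := ιZ_comp_κ U (LR_le U V'.unop) rfl τ'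
    let s' := CohFree.evalGen (Opens.grothendieckTopology X) V'.unop A (τ' ≫ κ U A)
    have hle2 : V'.unop ⊓ (L U).obj ((R U).obj V.unop) ≤ (L U).obj ((R U).obj V'.unop) := by
      rw [LR_eq, LR_eq]
      exact le_inf inf_le_left (inf_le_right.trans inf_le_right)
    have hs' : (A.obj.map (homOfLE (inf_le_left :
        V'.unop ⊓ (L U).obj ((R U).obj V.unop) ≤ V'.unop)).op).hom s' = 0 := by
      have e1 : (A.obj.map (homOfLE (LR_le U V'.unop)).op).hom s' = 0 := by
        rw [map_evalGen, h1, map_zero]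
      have e2 := map_map_apply (F := A) hle2 (LR_le U V'.unop) s'
      rw [e1, map_zero] at e2
      exact e2.symm
    obtain ⟨w, hw1, hw2⟩ := exists_glue_zero A V'.unop ((L U).obj ((R U).obj V.unop)) s' hs'
    have hWle : V'.unop ⊔ (L U).obj ((R U).obj V.unop) ≤ V.unop := sup_le hle (LR_le U V.unop)
    have hepi : Epi (A.obj.map (homOfLE hWle).op) := TopCat.Presheaf.IsFlasque.epi _
    rw [AddCommGrpCat.epi_iff_surjective] at hepi
    obtain ⟨s, hs⟩ := hepi w
    let σ := CohFree.ofSect (Opens.grothendieckTopology X) V.unop A s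
    have h2 : ιZ (LR_le U V.unop) ≫ σ = 0 := by
      rw [ιZ_ofSect]
      have e3 := map_map_apply (F := A) (le_sup_right : (L U).obj ((R U).obj V.unop) ≤ _) hWle s
      rw [hs, hw2] at e3
      rw [← e3]
      apply (CohFree.homEquivSect (Opens.grothendieckTopology X) _ A).injective
      rw [CohFree.homEquivSect_apply, CohFree.evalGen_ofSect, map_zero]
    let τ := liftκ U σ (comp_η_of_ιZ U (LR_le U V.unop) rfl σ h2)
    have h3 : ιZ hle ≫ τ = τ' := by
      rw [← cancel_mono (κ U A), Category.assoc, liftκ_κ, ιZ_ofSect]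
      have e4 := map_map_apply (F := A) (le_sup_left : V'.unop ≤ _) hWle s
      rw [hs, hw1] at e4
      rw [← e4]
      exact CohFree.ofSect_evalGen _ _ _ _
    refine ⟨CohFree.evalGen (Opens.grothendieckTopology X) V.unop _ τ, ?_⟩
    have e5 := map_evalGen hle τ
    rw [h3, CohFree.evalGen_ofSect] at e5
    rw [← e5]
    rfl

end Groth.Agent.H18.SectSupp
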