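import Groth.Agent.Lib.helper18.CechAug
import Groth.Agent.Lib.helper18.SieveExt
import Groth.Agent.Lib.helper18.Edge1

set_option autoImplicit false
set_option linter.unusedSectionVars false
open CategoryTheory CategoryTheory.Limits CategoryTheory.Abelian Opposite

namespace Groth.Agent.H18.SieveCech

open Groth.Agent.H18.Cech Groth.Agent.H18.CechExt Groth.Agent.H18.SieveExt
  Groth.Agent.H18.CechSite CechEdge

universe u

variable {C : Type u} [SmallCategory C] [HasPullbacks C] {X : C} {ι : Type u} (Y : ι → Over X)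

/-- the sieve generated by the family -/
abbrev SY : Sieve X := Sieve.ofArrows (fun i => (Y i).left) (fun i => (Y i).hom)

/-- the structure map of a member of the family, as a section of the sieve functor -/
def rr (i : ι) : (SY Y).functor.obj (op (Y i).left) :=
  ⟨(Y i).hom, Sieve.ofArrows_mk _ _ i⟩

variable (Q : SieveExt.Bot C)

lemma ev_add (f g : ZR (SY Y).functor ⟶ Q) {V : C} (r : (SY Y).functor.obj (op V)) :
    ev (f + g) r = ev f r + ev g r := rfl

lemma ev_zero {V : C} (r : (SY Y).functor.obj (op V)) :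
    ev (0 : ZR (SY Y).functor ⟶ Q) r = 0 := rfl

/-- evaluation at the `i`-th member -/
noncomputable def cI (i : ι) : AddCommGrpCat.of (ZR (SY Y).functor ⟶ Q) ⟶
    ((Over.forget X).op ⋙ Q.obj).obj (op (Y i)) :=
  AddCommGrpCat.ofHom
    { toFun := fun f => ev f (rr Y i)
      map_zero' := ev_zero Y Q _
      map_add' := fun f g => ev_add Y Q f g _ }

lemma cI_apply (i : ι) (f : ZR (SY Y).functor ⟶ Q) : (cI Y Q i).hom f = ev f (rr Y i) := rfl

/-- a section of the sieve functor is a restriction of some `rr i` -/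
lemma exists_rr {V : C} (r : (SY Y).functor.obj (op V)) :
    ∃ (i : ι) (a : V ⟶ (Y i).left), r = (SY Y).functor.map a.op (rr Y i) := by
  obtain ⟨h, hh⟩ := r
  obtain ⟨i, a, rfl⟩ := (Sieve.mem_ofArrows_iff _ _ h).1 hh
  exact ⟨i, a, rfl⟩

/-- independence of the chosen factorisation, from the cocycle condition -/
lemma glue_indep (t : ∀ i, Q.obj.obj (op (Y i).left))
    (ht : ∀ b : Fin 2 → ι,
      (((Over.forget X).op ⋙ Q.obj).map (Pi.π (Y ∘ b) 0).op).hom (t (b 0)) =
      (((Over.forget X).op ⋙ Q.obj).map (Pi.π (Y ∘ b) 1).op).hom (t (b 1)))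
    {V : C} (i j : ι) (gi : V ⟶ (Y i).left) (gj : V ⟶ (Y j).left)
    (comm : gi ≫ (Y i).hom = gj ≫ (Y j).hom) :
    (Q.obj.map gi.op).hom (t i) = (Q.obj.map gj.op).hom (t j) := by
  let W : Over X := Over.mk (gi ≫ (Y i).hom)
  let b : Fin 2 → ι := ![i, j]
  let g : W ⟶ ∏ᶜ (Y ∘ b) := Pi.lift (fun k =>
    Fin.cases (motive := fun k => W ⟶ (Y ∘ b) k) (Over.homMk gi rfl)
      (fun k' => Fin.cases (motive := fun k' => W ⟶ (Y ∘ b) k'.succ)
        (Over.homMk gj comm.symm) (fun k'' => k''.elim0) k') k)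
  have h0 : g ≫ Pi.π (Y ∘ b) 0 = Over.homMk gi rfl := Pi.lift_π _ _
  have h1 : g ≫ Pi.π (Y ∘ b) 1 = Over.homMk gj comm.symm := Pi.lift_π _ _
  have h0' : g.left ≫ (Pi.π (Y ∘ b) 0).left = gi := congrArg CommaMorphism.left h0
  have h1' : g.left ≫ (Pi.π (Y ∘ b) 1).left = gj := congrArg CommaMorphism.left h1
  have key := congrArg (Q.obj.map g.left.op).hom (ht b)
  have e0 := map_map_apply Q.obj g.left (Pi.π (Y ∘ b) 0).left gi h0' (t i)
  have e1 := map_map_apply Q.obj g.left (Pi.π (Y ∘ b) 1).left gj h1' (t j)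
  exact e0.symm.trans (key.trans e1)

/-- the augmented Čech complex of a presheaf, augmented by `Hom(ℤ[R], -)` for the generated
sieve `R`, is exact in degree zero -/
theorem augEx_sieve : AugEx (CC ((Over.forget X).op ⋙ Q.obj) (FormalCoproduct.mk ι Y).cech)
    (augOf ((Over.forget X).op ⋙ Q.obj) Y (cI Y Q)) := by
  apply augEx_of
  · intro b f
    change (Q.obj.map (Pi.π (Y ∘ b) 0).left.op).hom (ev f (rr Y (b 0))) =
      (Q.obj.map (Pi.π (Y ∘ b) 1).left.op).hom (ev f (rr Y (b 1)))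
    rw [ev_map, ev_map]
    congr 1
    apply Subtype.ext
    exact (Over.w (Pi.π (Y ∘ b) 0)).trans (Over.w (Pi.π (Y ∘ b) 1)).symm
  · intro f hf
    apply hom_ext'
    intro V r
    obtain ⟨i, a, rfl⟩ := exists_rr Y r
    rw [← ev_map, ← ev_map]
    have h1 : ev f (rr Y i) = 0 := hf i
    rw [h1, ev_zero Y Q (rr Y i)]
  · intro t ht
    choose ic ac hac using (fun (V : C) (r : (SY Y).functor.obj (op V)) => exists_rr Y r)
    have hkey : ∀ (V : C) (r : (SY Y).functor.obj (op V)) (i : ι) (a : V ⟶ (Y i).left),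
        r = (SY Y).functor.map a.op (rr Y i) →
        (Q.obj.map (ac V r).op).hom (t (ic V r)) = (Q.obj.map a.op).hom (t i) := by
      intro V r i a hr
      apply glue_indep Y Q t ht
      have h1 := congrArg Subtype.val ((hac V r).symm.trans hr)
      exact h1
    refine ⟨mk Q (fun V r => (Q.obj.map (ac V r).op).hom (t (ic V r))) ?_, ?_⟩
    · intro V W k r
      have h1 : (SY Y).functor.map k.op r =
          (SY Y).functor.map (k ≫ ac V r).op (rr Y (ic V r)) := by
        conv_lhs => rw [hac V r]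
        apply Subtype.ext
        change k ≫ (ac V r ≫ (Y (ic V r)).hom) = (k ≫ ac V r) ≫ (Y (ic V r)).hom
        rw [Category.assoc]
      rw [hkey W _ (ic V r) (k ≫ ac V r) h1]
      exact map_map_apply Q.obj k (ac V r) _ rfl _
    · intro i
      change ev (mk Q _ _) (rr Y i) = t i
      rw [ev_mk]
      have h1 : rr Y i = (SY Y).functor.map (𝟙 (Y i).left).op (rr Y i) := by
        apply Subtype.ext
        exact (Category.id_comp _).symm
      rw [hkey _ (rr Y i) i (𝟙 _) h1]
      exact map_id_apply Q.obj _ rfl _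

/-- the functor of Čech complexes on sheaves for the trivial topology -/
noncomputable abbrev KB : SieveExt.Bot C ⥤ CochainComplex AddCommGrpCat.{u} ℕ :=
  sheafToPresheaf (⊥ : GrothendieckTopology C) AddCommGrpCat.{u} ⋙ cxFunctor Y

/-- `Hom(ℤ[R], Q) ≃+ Ȟ⁰(Y, Q)` -/
noncomputable def h0S : (ZR (SY Y).functor ⟶ Q) ≃+ ((KB Y).obj Q).homology 0 :=
  (augEx_sieve Y Q).iso.addCommGroupIsoToAddEquiv

variable {Q}

lemma aug_naturality {Q' : SieveExt.Bot C} (g : Q ⟶ Q') :
    augOf ((Over.forget X).op ⋙ Q.obj) Y (cI Y Q) ≫ ((KB Y).map g).f 0 =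
      (ExtDer.hF (ZR (SY Y).functor)).map g ≫
        augOf ((Over.forget X).op ⋙ Q'.obj) Y (cI Y Q') := by
  apply AddCommGrpCat.hom_ext
  apply AddMonoidHom.ext
  intro (f : ZR (SY Y).functor ⟶ Q)
  change (EVnat ((Edge.Res (U := X)).map g.hom) ((FormalCoproduct.mk ι Y).power (Fin 1))).hom
      ((augOf ((Over.forget X).op ⋙ Q.obj) Y (cI Y Q)).hom f) =
    (augOf ((Over.forget X).op ⋙ Q'.obj) Y (cI Y Q')).hom (f ≫ g)
  apply EV_ext ((Over.forget X).op ⋙ Q'.obj)
  intro (a : Fin 1 → ι)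
  have e1 := pr_EVnat ((Edge.Res (U := X)).map g.hom) ((FormalCoproduct.mk ι Y).power (Fin 1))
    ((augOf ((Over.forget X).op ⋙ Q.obj) Y (cI Y Q)).hom f) a
  have e2 := pr_augOf ((Over.forget X).op ⋙ Q.obj) Y (cI Y Q) f a
  have e3 := pr_augOf ((Over.forget X).op ⋙ Q'.obj) Y (cI Y Q') (f ≫ g) a
  have e4 : (g.hom.app (op (∏ᶜ (Y ∘ a)).left)).hom
      ((Q.obj.map (Pi.π (Y ∘ a) 0).left.op).hom (ev f (rr Y (a 0)))) =
      (Q'.obj.map (Pi.π (Y ∘ a) 0).left.op).hom ((g.hom.app (op (Y (a 0)).left)).hom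
        (ev f (rr Y (a 0)))) := by
    have := ConcreteCategory.congr_hom (g.hom.naturality (Pi.π (Y ∘ a) 0).left.op)
      (ev f (rr Y (a 0)))
    rw [ConcreteCategory.comp_apply, ConcreteCategory.comp_apply] at this
    exact this
  exact e1.trans ((congrArg _ e2).trans (e4.trans e3.symm))

lemma h0S_nat {Q' : SieveExt.Bot C} (g : Q ⟶ Q') (f : ZR (SY Y).functor ⟶ Q) :
    h0S Y Q' (f ≫ g) = (HomologicalComplex.homologyMap ((KB Y).map g) 0).hom (h0S Y Q f) := by
  have h := ConcreteCategory.congr_hom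
    (AugEx.iso_naturality (augEx_sieve Y Q) (augEx_sieve Y Q') ((KB Y).map g) _
      (aug_naturality Y g)) f
  rw [ConcreteCategory.comp_apply, ConcreteCategory.comp_apply] at h
  exact h.symm

/-- **Čech cohomology of a family is the cohomology of the generated sieve** -/
theorem cech_sieve (M : Cᵒᵖ ⥤ AddCommGrpCat.{u}) (q : ℕ) :
    Nonempty (CohCx.cechH M Y q ≃+ Ext.{u} (ZR (SY Y).functor) (bot M) q) := by
  refine shift_iso (KB Y) (ZR (SY Y).functor) ?_ ?_ (fun Q => h0S Y Q)
    (fun g f => h0S_nat Y g f) q (bot M)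
  · intro S hS
    have hS' : (S.map (sheafToPresheaf (⊥ : GrothendieckTopology C) AddCommGrpCat.{u})).ShortExact := by
      have : PreservesFiniteColimits
          (sheafToPresheaf (⊥ : GrothendieckTopology C) AddCommGrpCat.{u}) :=
        inferInstanceAs (PreservesFiniteColimits (sheafBotEquivalence AddCommGrpCat.{u}).functor)
      exact hS.map_of_exact _
    exact Edge.cx_shortExact Y _ hS'
  · intro I hI n
    have : Injective ((Over.forget X).op ⋙ I.obj) := hinj_site I hI
    exact isZero_cechH_of_injective Y ((Over.forget X).op ⋙ I.obj) n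

end Groth.Agent.H18.SieveCech
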