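import Groth.Agent.Lib.helper18.SieveExt
import Mathlib.CategoryTheory.Sites.EpiMono

set_option autoImplicit false
set_option linter.unusedSectionVars false
open CategoryTheory CategoryTheory.Limits CategoryTheory.Abelian Opposite

namespace Groth.Agent.H18.SieveExt

open Groth.Agent.H18.Cech Groth.Agent.H18.CechSite

universe u

variable {C : Type u} [SmallCategory C] {J : GrothendieckTopology C}

section SheafSieve

variable (F : Sheaf J AddCommGrpCat.{u}) {X : C} (R : Sieve X) (hR : R ∈ J X)

include hR in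
lemma sieve_sep (t t' : F.obj.obj (op X))
    (h : ∀ (V : C) (f : V ⟶ X), R f → (F.obj.map f.op).hom t = (F.obj.map f.op).hom t') : t = t' := by
  have hsh : Presieve.IsSheafFor (F.obj ⋙ forget AddCommGrpCat.{u}) R.arrows :=
    (isSheaf_type F) R hR
  exact hsh.isSeparatedFor.ext (fun V f hf => h V f hf)

include hR in
lemma sieve_glue (x : ∀ V : C, R.functor.obj (op V) → F.obj.obj (op V))
    (hx : ∀ (V W : C) (h : W ⟶ V) (r : R.functor.obj (op V)),
      (F.obj.map h.op).hom (x V r) = x W (R.functor.map h.op r)) :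
    ∃ t : F.obj.obj (op X), ∀ (V : C) (r : R.functor.obj (op V)),
      (F.obj.map r.1.op).hom t = x V r := by
  have hsh : Presieve.IsSheafFor (F.obj ⋙ forget AddCommGrpCat.{u}) R.arrows :=
    (isSheaf_type F) R hR
  let fam : Presieve.FamilyOfElements (F.obj ⋙ forget AddCommGrpCat.{u}) R.arrows :=
    fun V f hf => x V ⟨f, hf⟩
  have hc : fam.Compatible := by
    rw [Presieve.compatible_iff_sieveCompatible]
    intro V W f g hf
    exact (hx V W g ⟨f, hf⟩).symm
  obtain ⟨t, ht, _⟩ := hsh fam hc
  exact ⟨t, fun V r => ht r.1 r.2⟩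

end SheafSieve

variable [HasExt.{u} (Sheaf J AddCommGrpCat.{u})]

/-- the short complex of sheaves for the trivial topology underlying a short complex of sheaves -/
noncomputable abbrev toBotSC (S : ShortComplex (Sheaf J AddCommGrpCat.{u})) : ShortComplex (Bot C) :=
  (S.map (sheafToPresheaf J AddCommGrpCat.{u})).map botF

lemma toBotSC_shortExact {S : ShortComplex (Sheaf J AddCommGrpCat.{u})} (hS : S.ShortExact)
    (hsurj : ∀ V : C, Function.Surjective (S.g.hom.app (op V)).hom) : (toBotSC S).ShortExact := by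
  apply shortExact_bot
  intro V
  refine ShortComplex.ShortExact.mk' ?_ ?_ ?_
  · rw [ShortComplex.ab_exact_iff]
    exact sections_exact hS V.unop
  · rw [AddCommGrpCat.mono_iff_injective]
    exact sections_injective hS V.unop
  · rw [AddCommGrpCat.epi_iff_surjective]
    exact hsurj V.unop


lemma mono_botMap_f {S : ShortComplex (Sheaf J AddCommGrpCat.{u})} (hS : S.ShortExact) :
    Mono (botMap S.f.hom : bot S.X₁.obj ⟶ bot S.X₂.obj) := by
  have := hS.mono_f
  have h1 : Mono ((sheafToPresheaf J AddCommGrpCat.{u}).map S.f) := inferInstance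
  exact inferInstanceAs (Mono (botF.map ((sheafToPresheaf J AddCommGrpCat.{u}).map S.f)))

/-- **surjectivity on sections from the vanishing of `Ext¹` out of the covering sieves** -/
theorem surj_of_sieve_ext (S : ShortComplex (Sheaf J AddCommGrpCat.{u})) (hS : S.ShortExact) (X : C)
    (h : ∀ R : Sieve X, R ∈ J X → ∀ x : Ext.{u} (ZR R.functor) (bot S.X₁.obj) 1, x = 0) :
    Function.Surjective (S.g.hom.app (op X)).hom := by
  intro t
  have : Epi S.g := hS.epi_g
  have hloc : Sheaf.IsLocallySurjective S.g :=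
    (Sheaf.isLocallySurjective_iff_epi' AddCommGrpCat.{u} S.g).2 this
  have hT := Presheaf.imageSieve_mem J S.g.hom (U := op X) t
  let R : Sieve X := Presheaf.imageSieve S.g.hom t
  have hl : ∀ (V : C) (r : R.functor.obj (op V)), ∃ s : S.X₂.obj.obj (op V),
      (S.g.hom.app (op V)).hom s = (S.X₃.obj.map r.1.op).hom t := fun V r => r.2
  choose s hs using hl
  let m : bot S.X₁.obj ⟶ bot S.X₂.obj := botMap S.f.hom
  have hm : Mono m := mono_botMap_f hS
  let π : bot S.X₂.obj ⟶ cokernel m := cokernel.π m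
  have hgz : m ≫ botMap S.g.hom = 0 := by
    have h1 : S.f.hom ≫ S.g.hom = 0 := congrArg (fun t => t.hom) S.zero
    change botMap (S.f.hom ≫ S.g.hom) = 0
    rw [h1]
    rfl
  let desc : cokernel m ⟶ bot S.X₃.obj := cokernel.desc m (botMap S.g.hom) hgz
  have hπdesc : ∀ (V : C) (z : S.X₂.obj.obj (op V)),
      (desc.hom.app (op V)).hom ((π.hom.app (op V)).hom z) = (S.g.hom.app (op V)).hom z := by
    intro V z
    have h1 : π ≫ desc = botMap S.g.hom := cokernel.π_desc _ _ _
    exact ConcreteCategory.congr_hom (congrArg (fun t => t.hom.app (op V)) h1) z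
  have hπf : ∀ (V : C) (y : S.X₁.obj.obj (op V)),
      (π.hom.app (op V)).hom ((S.f.hom.app (op V)).hom y) = 0 := by
    intro V y
    have h1 : m ≫ π = 0 := cokernel.condition m
    exact ConcreteCategory.congr_hom (congrArg (fun t => t.hom.app (op V)) h1) y
  -- the morphism defined by the local lifts
  have hcompat : ∀ (V W : C) (k : W ⟶ V) (r : R.functor.obj (op V)),
      ((cokernel m).obj.map k.op).hom ((π.hom.app (op V)).hom (s V r)) =
        (π.hom.app (op W)).hom (s W (R.functor.map k.op r)) := by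
    intro V W k r
    let πW : S.X₂.obj.obj (op W) →+ (cokernel m).obj.obj (op W) := (π.hom.app (op W)).hom
    have h1 : ((cokernel m).obj.map k.op).hom ((π.hom.app (op V)).hom (s V r)) =
        πW ((S.X₂.obj.map k.op).hom (s V r)) := by
      have := ConcreteCategory.congr_hom (π.hom.naturality k.op) (s V r)
      rw [ConcreteCategory.comp_apply, ConcreteCategory.comp_apply] at this
      exact this.symm
    have h3 : (S.g.hom.app (op W)).hom ((S.X₂.obj.map k.op).hom (s V r)) =
        (S.X₃.obj.map k.op).hom ((S.g.hom.app (op V)).hom (s V r)) := by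
      have := ConcreteCategory.congr_hom (S.g.hom.naturality k.op) (s V r)
      rw [ConcreteCategory.comp_apply, ConcreteCategory.comp_apply] at this
      exact this
    have h3' : (S.X₃.obj.map k.op).hom ((S.g.hom.app (op V)).hom (s V r)) =
        (S.X₃.obj.map (k ≫ r.1).op).hom t :=
      (congrArg (S.X₃.obj.map k.op).hom (hs V r)).trans (map_map_apply S.X₃.obj k r.1 _ rfl t)
    have h2 : (S.g.hom.app (op W)).hom
        ((S.X₂.obj.map k.op).hom (s V r) - s W (R.functor.map k.op r)) = 0 := by
      rw [map_sub, sub_eq_zero]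
      exact (h3.trans h3').trans (hs W (R.functor.map k.op r)).symm
    obtain ⟨y, hy⟩ := sections_exact hS W _ h2
    have h5 : πW ((S.X₂.obj.map k.op).hom (s V r) - s W (R.functor.map k.op r)) = 0 :=
      (congrArg πW hy).symm.trans (hπf W y)
    have h6 : πW ((S.X₂.obj.map k.op).hom (s V r)) - πW (s W (R.functor.map k.op r)) = 0 :=
      (map_sub πW _ _).symm.trans h5
    exact h1.trans (sub_eq_zero.mp h6)
  let κ : ZR R.functor ⟶ cokernel m :=
    mk (cokernel m) (fun V r => (π.hom.app (op V)).hom (s V r)) hcompat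
  obtain ⟨σ, hσ⟩ := exists_lift_of_ext_one (Delta.ses_shortExact m) (ZR R.functor) (h R hT) κ
  have hσ' : σ ≫ π = κ := hσ
  -- glue
  obtain ⟨s₀, hs₀⟩ := sieve_glue S.X₂ R hT (fun V r => ev σ r) (fun V W k r => ev_map σ k r)
  refine ⟨s₀, ?_⟩
  apply sieve_sep S.X₃ R hT
  intro V f hf
  have h1 := ConcreteCategory.congr_hom (S.g.hom.naturality f.op) s₀
  rw [ConcreteCategory.comp_apply, ConcreteCategory.comp_apply] at h1
  refine h1.symm.trans ?_
  have h2 : (S.X₂.obj.map f.op).hom s₀ = ev σ (⟨f, hf⟩ : R.functor.obj (op V)) := hs₀ V ⟨f, hf⟩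
  rw [h2, ← hπdesc V (ev σ (⟨f, hf⟩ : R.functor.obj (op V)))]
  have h3 : (π.hom.app (op V)).hom (ev σ (⟨f, hf⟩ : R.functor.obj (op V))) =
      (π.hom.app (op V)).hom (s V ⟨f, hf⟩) := by
    rw [← ev_comp, hσ']
    exact ev_mk _ _ hcompat _
  rw [h3, hπdesc]
  exact hs V ⟨f, hf⟩

end Groth.Agent.H18.SieveExt
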