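import Groth.Agent.Lib.helper18.SieveExt2
import Groth.Agent.Lib.helper18.Cech11

set_option autoImplicit false
set_option linter.unusedSectionVars false
open CategoryTheory CategoryTheory.Limits CategoryTheory.Abelian Opposite

namespace Groth.Agent.H18.SieveExt

open Groth.Agent.H18.Cech Groth.Agent.H18.CechSite

universe u

variable {C : Type u} [SmallCategory C] {J : GrothendieckTopology C}
  [HasExt.{u} (Sheaf J AddCommGrpCat.{u})] [EnoughInjectives (Sheaf J AddCommGrpCat.{u})]

/-- vanishing of the higher `Ext` groups (in presheaves) out of the covering sieves -/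
def SieveAcyc (F : Sheaf J AddCommGrpCat.{u}) : Prop :=
  ∀ (X : C) (R : Sieve X), R ∈ J X → ∀ (q : ℕ)
    (x : Ext.{u} (ZR R.functor) (bot F.obj) (q + 1)), x = 0

/-- vanishing of the higher cohomology on all objects -/
def ObjAcyc (F : Sheaf J AddCommGrpCat.{u}) : Prop :=
  ∀ (X : C) (q : ℕ) (x : Ext.{u} (CohCx.freeSheaf J X) F (q + 1)), x = 0

lemma injective_bot_of_injective (I : Sheaf J AddCommGrpCat.{u}) [Injective I] :
    Injective (bot I.obj) := by
  haveI : Injective I.obj :=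
    Injective.injective_of_adjoint (sheafificationAdjunction J AddCommGrpCat.{u}) I
  exact injective_bot I.obj

instance (F : Sheaf J AddCommGrpCat.{u}) : Injective (toBotSC (injSES F)).X₂ :=
  injective_bot_of_injective (injSES F).X₂

lemma sieveAcyc_surj (F : Sheaf J AddCommGrpCat.{u}) (hF : SieveAcyc F) (V : C) :
    Function.Surjective ((injSES F).g.hom.app (op V)).hom :=
  surj_of_sieve_ext (injSES F) (injSES_shortExact F) V (fun R hR x => hF V R hR 0 x)

lemma sieveAcyc_X₃ (F : Sheaf J AddCommGrpCat.{u}) (hF : SieveAcyc F) :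
    SieveAcyc (injSES F).X₃ := by
  intro X R hR q x
  have hS := toBotSC_shortExact (injSES_shortExact F) (sieveAcyc_surj F hF)
  exact ext_X₃_eq_zero hS (ZR R.functor) q (hF X R hR (q + 1))
    (fun x => Ext.eq_zero_of_injective x) x

/-- sieve-acyclic sheaves are acyclic on all objects -/
theorem objAcyc_of_sieveAcyc : ∀ (p : ℕ) (F : Sheaf J AddCommGrpCat.{u}), SieveAcyc F → ∀ X : C,
    ∀ x : Ext.{u} (CohCx.freeSheaf J X) F (p + 1), x = 0
  | 0, F, hF, X, x => by
    have hS := injSES_shortExact F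
    obtain ⟨x₃, rfl⟩ := Ext.covariant_sequence_exact₁ (CohCx.freeSheaf J X) hS x
      (Ext.eq_zero_of_injective _) (rfl : 0 + 1 = 1)
    obtain ⟨ψ, rfl⟩ := (Ext.mk₀_bijective _ _).2 x₃
    obtain ⟨s, hs⟩ := sieveAcyc_surj F hF X (CohFree.evalGen J X _ ψ)
    have h1 : ψ = CohFree.ofSect J X _ s ≫ (injSES F).g := by
      rw [ofSect_comp', hs, CohFree.ofSect_evalGen]
    rw [h1, ← Ext.mk₀_comp_mk₀, Ext.comp_assoc_of_second_deg_zero, hS.comp_extClass,
      Ext.comp_zero]
    rfl
  | (p + 1), F, hF, X, x => by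
    have hS := injSES_shortExact F
    obtain ⟨x₃, rfl⟩ := Ext.covariant_sequence_exact₁ (CohCx.freeSheaf J X) hS x
      (Ext.eq_zero_of_injective _) (rfl : p + 1 + 1 = p + 2)
    rw [objAcyc_of_sieveAcyc p (injSES F).X₃ (sieveAcyc_X₃ F hF) X x₃, Ext.zero_comp]
    rfl


lemma objAcyc_surj (F : Sheaf J AddCommGrpCat.{u}) (hF : ObjAcyc F) (V : C) :
    Function.Surjective ((injSES F).g.hom.app (op V)).hom := by
  have h := sections_shortExact (injSES_shortExact F) V (fun x => hF V 0 x)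
  exact (AddCommGrpCat.epi_iff_surjective _).1 h.epi_g

lemma objAcyc_X₃ (F : Sheaf J AddCommGrpCat.{u}) (hF : ObjAcyc F) : ObjAcyc (injSES F).X₃ :=
  fun X q x => ext_X₃_eq_zero (injSES_shortExact F) _ q (hF X (q + 1))
    (fun x => Ext.eq_zero_of_injective x) x

/-- lifting morphisms out of `ZR R` along a sectionwise surjective morphism of sheaves,
for a covering sieve `R` -/
lemma exists_lift_ZR {G H : Sheaf J AddCommGrpCat.{u}} (g : G ⟶ H) {X : C}
    (hg : Function.Surjective (g.hom.app (op X)).hom) (R : Sieve X) (hR : R ∈ J X)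
    (κ : ZR R.functor ⟶ bot H.obj) :
    ∃ σ : ZR R.functor ⟶ bot G.obj, σ ≫ botMap g.hom = κ := by
  obtain ⟨t, ht⟩ := sieve_glue H R hR (fun V r => ev κ r) (fun V W k r => ev_map κ k r)
  obtain ⟨s, hs⟩ := hg t
  have hcompat : ∀ (V W : C) (k : W ⟶ V) (r : R.functor.obj (op V)),
      ((bot G.obj).obj.map k.op).hom ((G.obj.map r.1.op).hom s) =
        (G.obj.map (R.functor.map k.op r).1.op).hom s :=
    fun V W k r => map_map_apply G.obj k r.1 _ rfl s
  refine ⟨mk (bot G.obj) (fun V r => (G.obj.map r.1.op).hom s) hcompat, ?_⟩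
  apply hom_ext'
  intro V r
  rw [ev_comp, ev_mk]
  have h1 : (g.hom.app (op V)).hom ((G.obj.map r.1.op).hom s) =
      (H.obj.map r.1.op).hom ((g.hom.app (op X)).hom s) := by
    have := ConcreteCategory.congr_hom (g.hom.naturality r.1.op) s
    rw [ConcreteCategory.comp_apply, ConcreteCategory.comp_apply] at this
    exact this
  exact (h1.trans (congrArg (H.obj.map r.1.op).hom hs)).trans (ht V r)

/-- sheaves acyclic on all objects are sieve-acyclic -/
theorem sieveAcyc_of_objAcyc : ∀ (q : ℕ) (F : Sheaf J AddCommGrpCat.{u}), ObjAcyc F →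
    ∀ (X : C) (R : Sieve X), R ∈ J X →
    ∀ x : Ext.{u} (ZR R.functor) (bot F.obj) (q + 1), x = 0
  | 0, F, hF, X, R, hR, x => by
    have hS := toBotSC_shortExact (injSES_shortExact F) (objAcyc_surj F hF)
    obtain ⟨x₃, rfl⟩ := Ext.covariant_sequence_exact₁ (ZR R.functor) hS x
      (Ext.eq_zero_of_injective _) (rfl : 0 + 1 = 1)
    obtain ⟨κ, rfl⟩ := (Ext.mk₀_bijective _ _).2 x₃
    obtain ⟨σ', hσ⟩ := exists_lift_ZR (injSES F).g (objAcyc_surj F hF X) R hR κ
    let σ : ZR R.functor ⟶ (toBotSC (injSES F)).X₂ := σ'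
    have h1 : κ = σ ≫ (toBotSC (injSES F)).g := hσ.symm
    rw [h1, ← Ext.mk₀_comp_mk₀, Ext.comp_assoc_of_second_deg_zero, hS.comp_extClass,
      Ext.comp_zero]
    rfl
  | (q + 1), F, hF, X, R, hR, x => by
    have hS := toBotSC_shortExact (injSES_shortExact F) (objAcyc_surj F hF)
    obtain ⟨x₃, rfl⟩ := Ext.covariant_sequence_exact₁ (ZR R.functor) hS x
      (Ext.eq_zero_of_injective _) (rfl : q + 1 + 1 = q + 2)
    have h0 : x₃ = 0 := sieveAcyc_of_objAcyc q (injSES F).X₃ (objAcyc_X₃ F hF) X R hR x₃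
    rw [h0, Ext.zero_comp]
    rfl

end Groth.Agent.H18.SieveExt
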