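import Groth.Agent.Lib.helper18.SpecColim1

/-!
# Sections of filtered colimits of abelian sheaves over quasi-compact opens (part 2)
-/

set_option autoImplicit false
set_option linter.unusedSectionVars false
set_option linter.unusedVariables false
open CategoryTheory CategoryTheory.Limits CategoryTheory.Abelian Opposite TopologicalSpace

namespace Groth.Agent.H18.SpecColim

universe u

variable {X : TopCat.{u}}

/-- `U₀` has a basis of quasi-compact opens stable under intersections -/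
structure QC (U₀ : Opens X) : Prop where
  basis : ∀ (V : Opens X) (x : X), x ∈ V → V ≤ U₀ →
    ∃ V' : Opens X, IsCompact (V' : Set X) ∧ x ∈ V' ∧ V' ≤ V
  qs : ∀ V V' : Opens X, V ≤ U₀ → V' ≤ U₀ → IsCompact (V : Set X) → IsCompact (V' : Set X) →
    IsCompact ((V ⊓ V' : Opens X) : Set X)

section filt
variable {I : Type u} [SmallCategory I] [IsFiltered I]

lemma exists_cocone_under' {α : Type*} [Finite α] (i : I) (j : α → I) (f : ∀ a, i ⟶ j a) :
    ∃ (s : I) (g : i ⟶ s) (h : ∀ a, j a ⟶ s), ∀ a, f a ≫ h a = g := by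
  classical
  haveI := Fintype.ofFinite α
  let O : Finset I := insert i (Finset.univ.image j)
  have hi : i ∈ O := Finset.mem_insert_self _ _
  have hj : ∀ a, j a ∈ O := fun a =>
    Finset.mem_insert_of_mem (Finset.mem_image_of_mem _ (Finset.mem_univ a))
  let H : Finset (Σ' (X Y : I) (_ : X ∈ O) (_ : Y ∈ O), X ⟶ Y) :=
    Finset.univ.image (fun a => ⟨i, j a, hi, hj a, f a⟩)
  obtain ⟨S, T, hT⟩ := IsFiltered.sup_exists O H
  refine ⟨S, T hi, fun a => T (hj a), fun a => ?_⟩
  exact hT hi (hj a) (Finset.mem_image_of_mem _ (Finset.mem_univ a))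

lemma exists_upper' {α : Type*} [Finite α] (j : α → I) :
    ∃ (s : I), ∀ a, Nonempty (j a ⟶ s) := by
  classical
  haveI := Fintype.ofFinite α
  obtain ⟨S, hS⟩ := IsFiltered.sup_objs_exists (Finset.univ.image j)
  exact ⟨S, fun a => hS (Finset.mem_image_of_mem _ (Finset.mem_univ a))⟩

end filt

variable {ι : Type u} [SmallCategory ι] [IsFiltered ι] (D : ι ⥤ CohTop.Ab X)

lemma injSec₀ (V : Opens X) (hV : IsCompact (V : Set X)) (i : ι) (a : (D.obj i).obj.obj (op V))
    (h : (((c₀ D).ι.app i).hom.app (op V)).hom a = 0) :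
    ∃ (j : ι) (f : i ⟶ j), ((D.map f).hom.app (op V)).hom a = 0 := by
  classical
  have key := fun x : V => LI₀ D i V a h x.1 x.2
  choose V' hV' hxV' j f hf using key
  obtain ⟨s, hs⟩ := hV.elim_finite_subcover (fun x : V => ((V' x : Opens X) : Set X))
    (fun x => (V' x).2) (fun y hy => Set.mem_iUnion.2 ⟨⟨y, hy⟩, hxV' ⟨y, hy⟩⟩)
  obtain ⟨k, g, hh, hfac⟩ := exists_cocone_under' i (fun x : s => j x.1) (fun x => f x.1)
  refine ⟨k, g, ?_⟩
  refine eq_of_cover (D.obj k) (fun x : s => V' x.1) V (fun x => hV' x.1) ?_ _ 0 ?_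
  · intro y hy
    obtain ⟨x, hxs, hyx⟩ := Set.mem_iUnion₂.1 (hs hy)
    exact Opens.mem_iSup.2 ⟨⟨x, hxs⟩, hyx⟩
  · intro x
    rw [res_zero, ← map_res, ← hfac x, Functor.map_comp]
    change ((D.map (hh x)).hom.app (op (V' x.1))).hom
      (((D.map (f x.1)).hom.app (op (V' x.1))).hom (res (D.obj i) (hV' x.1) a)) = 0
    rw [hf x.1, map_zero]

lemma leg_res (c : Cocone D) (i : ι) {V' V : Opens X} (h : V' ≤ V)
    (a : (D.obj i).obj.obj (op V)) :
    ((c.ι.app i).hom.app (op V')).hom (res (D.obj i) h a) =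
      res c.pt h (((c.ι.app i).hom.app (op V)).hom a) := map_res (c.ι.app i) h a

lemma leg_w (c : Cocone D) {i j : ι} (f : i ⟶ j) (V : Opens X) (a : (D.obj i).obj.obj (op V)) :
    ((c.ι.app j).hom.app (op V)).hom (((D.map f).hom.app (op V)).hom a) =
      ((c.ι.app i).hom.app (op V)).hom a :=
  congrArg (fun φ => (φ.hom.app (op V)).hom a) (c.w f)

lemma surjSec₀ (U₀ : Opens X) (hQ : QC U₀) (V : Opens X) (hVU : V ≤ U₀)
    (hV : IsCompact (V : Set X)) (t : (c₀ D).pt.obj.obj (op V)) :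
    ∃ (i : ι) (a : (D.obj i).obj.obj (op V)), (((c₀ D).ι.app i).hom.app (op V)).hom a = t := by
  classical
  have key : ∀ x : V, ∃ (W : Opens X) (hW : W ≤ V), IsCompact (W : Set X) ∧ x.1 ∈ W ∧
      ∃ (i : ι) (a : (D.obj i).obj.obj (op W)),
        (((c₀ D).ι.app i).hom.app (op W)).hom a = res (c₀ D).pt hW t := by
    intro x
    obtain ⟨V', hV', hxV', i, a, ha⟩ := LS₀ D V t x.1 x.2
    obtain ⟨W, hWc, hxW, hWV'⟩ := hQ.basis V' x.1 hxV' (hV'.trans hVU)
    refine ⟨W, hWV'.trans hV', hWc, hxW, i, res (D.obj i) hWV' a, ?_⟩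
    rw [leg_res, ha, res_res]
  choose W hW hWc hxW ix ax hax using key
  obtain ⟨s, hs⟩ := hV.elim_finite_subcover (fun x : V => ((W x : Opens X) : Set X))
    (fun x => (W x).2) (fun y hy => Set.mem_iUnion.2 ⟨⟨y, hy⟩, hxW ⟨y, hy⟩⟩)
  have hcov : V ≤ iSup (fun x : s => W x.1) := by
    intro y hy
    obtain ⟨x, hxs, hyx⟩ := Set.mem_iUnion₂.1 (hs hy)
    exact Opens.mem_iSup.2 ⟨⟨x, hxs⟩, hyx⟩
  obtain ⟨k, hk⟩ := exists_upper' (fun x : s => ix x.1)
  obtain ⟨a', ha'⟩ : ∃ a' : ∀ x : s, (D.obj k).obj.obj (op (W x.1)),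
      ∀ x : s, (((c₀ D).ι.app k).hom.app (op (W x.1))).hom (a' x) =
        res (c₀ D).pt (hW x.1) t :=
    ⟨fun x => ((D.map (hk x).some).hom.app (op (W x.1))).hom (ax x.1), fun x => by
      rw [leg_w, hax x.1]⟩
  have hdiff : ∀ p : s × s, ∃ (j : ι) (f : k ⟶ j),
      ((D.map f).hom.app (op (W p.1.1 ⊓ W p.2.1))).hom
        (res (D.obj k) inf_le_left (a' p.1) - res (D.obj k) inf_le_right (a' p.2)) = 0 := by
    intro p
    apply injSec₀ D _ (hQ.qs _ _ ((hW p.1.1).trans hVU) ((hW p.2.1).trans hVU)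
      (hWc p.1.1) (hWc p.2.1)) k
    rw [map_sub, leg_res, leg_res, ha' p.1, ha' p.2, res_res, res_res, sub_self]
  choose jj ff hff using hdiff
  obtain ⟨m, gm, hh, hfac⟩ := exists_cocone_under' k jj ff
  have hcompat : TopCat.Presheaf.IsCompatible (D.obj m).obj (fun x : s => W x.1)
      (fun x => ((D.map gm).hom.app (op (W x.1))).hom (a' x)) := by
    intro x y
    change res (D.obj m) inf_le_left (((D.map gm).hom.app (op (W x.1))).hom (a' x)) =
      res (D.obj m) inf_le_right (((D.map gm).hom.app (op (W y.1))).hom (a' y))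
    have e1 : res (D.obj m) inf_le_left (((D.map gm).hom.app (op (W x.1))).hom (a' x)) =
        ((D.map gm).hom.app (op (W x.1 ⊓ W y.1))).hom (res (D.obj k) inf_le_left (a' x)) :=
      (map_res (D.map gm) inf_le_left (a' x)).symm
    have e2 : res (D.obj m) inf_le_right (((D.map gm).hom.app (op (W y.1))).hom (a' y)) =
        ((D.map gm).hom.app (op (W x.1 ⊓ W y.1))).hom (res (D.obj k) inf_le_right (a' y)) :=
      (map_res (D.map gm) inf_le_right (a' y)).symm
    rw [e1, e2, ← sub_eq_zero, ← map_sub, ← hfac (x, y), Functor.map_comp]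
    change ((D.map (hh (x, y))).hom.app (op (W x.1 ⊓ W y.1))).hom
      (((D.map (ff (x, y))).hom.app (op (W x.1 ⊓ W y.1))).hom
        (res (D.obj k) inf_le_left (a' x) - res (D.obj k) inf_le_right (a' y))) = 0
    have h3 := hff (x, y)
    change ((D.map (ff (x, y))).hom.app (op (W x.1 ⊓ W y.1))).hom
      (res (D.obj k) inf_le_left (a' x) - res (D.obj k) inf_le_right (a' y)) = 0 at h3
    rw [h3, map_zero]
  obtain ⟨a, ha, -⟩ := TopCat.Sheaf.existsUnique_gluing' (D.obj m) (fun x : s => W x.1) V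
    (fun x => homOfLE (hW x.1)) hcov _ hcompat
  refine ⟨m, a, ?_⟩
  refine eq_of_cover (c₀ D).pt (fun x : s => W x.1) V (fun x => hW x.1) hcov _ _ ?_
  intro x
  rw [← leg_res]
  have hax' : res (D.obj m) (hW x.1) a = ((D.map gm).hom.app (op (W x.1))).hom (a' x) := ha x
  rw [hax', leg_w, ha' x]

section transfer

variable {D} (c : Cocone D)

/-- comparison with the standard colimit cocone -/
noncomputable def e₀ (hc : IsColimit c) : (c₀ D).pt ≅ c.pt := (hc₀ D).coconePointUniqueUpToIso hc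

lemma e₀_ι (hc : IsColimit c) (i : ι) : (c₀ D).ι.app i ≫ (e₀ c hc).hom = c.ι.app i :=
  IsColimit.comp_coconePointUniqueUpToIso_hom _ _ _

lemma injSec (hc : IsColimit c) (V : Opens X) (hV : IsCompact (V : Set X)) (i : ι) (a : (D.obj i).obj.obj (op V))
    (h : ((c.ι.app i).hom.app (op V)).hom a = 0) :
    ∃ (j : ι) (f : i ⟶ j), ((D.map f).hom.app (op V)).hom a = 0 := by
  apply injSec₀ D V hV i a
  have h1 : (c₀ D).ι.app i = c.ι.app i ≫ (e₀ c hc).inv := by
    rw [← e₀_ι c hc i, Category.assoc, Iso.hom_inv_id, Category.comp_id]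
  rw [h1]
  change (((e₀ c hc).inv).hom.app (op V)).hom (((c.ι.app i).hom.app (op V)).hom a) = 0
  rw [h, map_zero]

lemma surjSec (hc : IsColimit c) (U₀ : Opens X) (hQ : QC U₀) (V : Opens X) (hVU : V ≤ U₀)
    (hV : IsCompact (V : Set X)) (t : c.pt.obj.obj (op V)) :
    ∃ (i : ι) (a : (D.obj i).obj.obj (op V)), ((c.ι.app i).hom.app (op V)).hom a = t := by
  obtain ⟨i, a, ha⟩ := surjSec₀ D U₀ hQ V hVU hV (((e₀ c hc).inv.hom.app (op V)).hom t)
  refine ⟨i, a, ?_⟩
  rw [← e₀_ι c hc i]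
  change ((e₀ c hc).hom.hom.app (op V)).hom ((((c₀ D).ι.app i).hom.app (op V)).hom a) = t
  rw [ha]
  exact congrArg (fun φ => (φ.hom.app (op V)).hom t) (e₀ c hc).inv_hom_id

end transfer

open Groth.Agent.H18.Flasque in
lemma surjH (U₀ : Opens X) (hQ : QC U₀) (V : Opens X) (hVU : V ≤ U₀)
    (hV : IsCompact (V : Set X)) :
    ExtColim.SurjH (CohCx.freeSheaf (Opens.grothendieckTopology X) V) D := by
  intro x
  obtain ⟨i, a, ha⟩ := surjSec (colimit.cocone D) (colimit.isColimit D) U₀ hQ V hVU hV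
    (CohFree.evalGen (Opens.grothendieckTopology X) V _ x)
  refine ⟨i, CohFree.ofSect (Opens.grothendieckTopology X) V _ a, ?_⟩
  rw [ofSect_comp]
  refine Eq.trans (congrArg (CohFree.ofSect (Opens.grothendieckTopology X) V _) ha) ?_
  exact CohFree.ofSect_evalGen _ _ _ _

open Groth.Agent.H18.Flasque in
lemma injH (V : Opens X) (hV : IsCompact (V : Set X)) :
    ExtColim.InjH (CohCx.freeSheaf (Opens.grothendieckTopology X) V) D := by
  intro i y hy
  obtain ⟨j, f, hf⟩ := injSec (colimit.cocone D) (colimit.isColimit D) V hV i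
    (CohFree.evalGen (Opens.grothendieckTopology X) V _ y) (by
      refine Eq.trans (evalGen_comp y (colimit.ι D i)).symm ?_
      rw [hy]
      exact map_zero _)
  refine ⟨j, f, ?_⟩
  apply (CohFree.homEquivSect (Opens.grothendieckTopology X) V _).injective
  rw [CohFree.homEquivSect_apply, evalGen_comp, hf, map_zero]

end Groth.Agent.H18.SpecColim
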