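import Groth.Agent.Lib.helper18.CechSite3
import Groth.Agent.Lib.helper18.SpecColim2

/-!
# Cohomology on a site and filtered colimits (part 1)

* an abstract lemma: the Čech complex of a filtered colimit of presheaves with exact Čech complexes
  is exact, provided sections over the (finitely many) iterated products commute with the colimit;
* sections of filtered colimits of abelian sheaves over objects of a class `B` of "quasi-compact"
  objects.
-/

set_option autoImplicit false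
set_option linter.unusedSectionVars false
set_option linter.unusedVariables false
open CategoryTheory CategoryTheory.Limits CategoryTheory.Abelian Opposite

namespace Groth.Agent.H18.SiteColim

open Groth.Agent.H18.Cech Groth.Agent.H18.CechSite
open Groth.Agent.H18.SpecColim (exists_upper' exists_cocone_under')

universe u

section AbstractCech

variable {Dc : Type u} [SmallCategory Dc] [HasFiniteProducts Dc] {κ : Type u} (Y : κ → Dc)

/-- the formal coproduct of `(n+1)`-fold products -/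
noncomputable abbrev ZZ (n : ℕ) : FormalCoproduct.{u} Dc :=
  (FormalCoproduct.mk κ Y).power (Fin (n + 1))

lemma d_EVnat {P P' : Dcᵒᵖ ⥤ AddCommGrpCat.{u}} (φ : P ⟶ P') (n : ℕ) (x : EV P (ZZ Y n)) :
    (((cechComplexFunctor Y).obj P').d n (n + 1)).hom ((EVnat φ (ZZ Y n)).hom x) =
      (EVnat φ (ZZ Y (n + 1))).hom ((((cechComplexFunctor Y).obj P).d n (n + 1)).hom x) := by
  have h := ConcreteCategory.congr_hom (((cechComplexFunctor Y).map φ).comm n (n + 1)) x
  rw [ConcreteCategory.comp_apply, ConcreteCategory.comp_apply] at h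
  exact h

omit [HasFiniteProducts Dc] in
lemma EVnat_comp_apply {P P' P'' : Dcᵒᵖ ⥤ AddCommGrpCat.{u}} (φ : P ⟶ P') (ψ : P' ⟶ P'')
    (χ : P ⟶ P'') (h : φ ≫ ψ = χ) (Z : FormalCoproduct.{u} Dc) (x : EV P Z) :
    (EVnat ψ Z).hom ((EVnat φ Z).hom x) = (EVnat χ Z).hom x := by
  subst h
  apply EV_ext
  intro i
  rw [pr_EVnat, pr_EVnat, pr_EVnat]
  rfl

variable [Finite κ] {I : Type u} [SmallCategory I] [IsFiltered I]
  (Q : I ⥤ Dcᵒᵖ ⥤ AddCommGrpCat.{u}) (t : Cocone Q)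

theorem cech_exactAt_colim (p : ℕ)
    (hsurj : ∀ (n : ℕ) (a : (ZZ Y n).I) (x : t.pt.obj (op ((ZZ Y n).obj a))),
      ∃ (j : I) (y : (Q.obj j).obj (op ((ZZ Y n).obj a))),
        ((t.ι.app j).app (op ((ZZ Y n).obj a))).hom y = x)
    (hinj : ∀ (n : ℕ) (a : (ZZ Y n).I) (j : I) (y : (Q.obj j).obj (op ((ZZ Y n).obj a))),
      ((t.ι.app j).app (op ((ZZ Y n).obj a))).hom y = 0 →
        ∃ (j' : I) (f : j ⟶ j'), ((Q.map f).app (op ((ZZ Y n).obj a))).hom y = 0)
    (hex : ∀ j, ((cechComplexFunctor Y).obj (Q.obj j)).ExactAt (p + 1)) :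
    ((cechComplexFunctor Y).obj t.pt).ExactAt (p + 1) := by
  classical
  haveI : Finite (ZZ Y (p + 1)).I := inferInstanceAs (Finite (Fin (p + 1 + 1) → κ))
  haveI : Finite (ZZ Y (p + 1 + 1)).I := inferInstanceAs (Finite (Fin (p + 1 + 1 + 1) → κ))
  rw [HomologicalComplex.exactAt_iff' _ p (p + 1) (p + 1 + 1) (by simp) (by simp),
    ShortComplex.ab_exact_iff]
  intro (x : EV t.pt (ZZ Y (p + 1))) hx
  have hx' : (((cechComplexFunctor Y).obj t.pt).d (p + 1) (p + 1 + 1)).hom x = 0 := hx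
  -- step 1: lift the cocycle to a stage
  choose ja ya hya using fun a : (ZZ Y (p + 1)).I =>
    hsurj (p + 1) a (pr t.pt (ZZ Y (p + 1)) a x)
  obtain ⟨m, hm⟩ := exists_upper' ja
  obtain ⟨y, hy⟩ : ∃ y : EV (Q.obj m) (ZZ Y (p + 1)),
      (EVnat (t.ι.app m) (ZZ Y (p + 1))).hom y = x := by
    refine ⟨toEV (Q.obj m) (ZZ Y (p + 1))
      (fun a => ((Q.map (hm a).some).app (op ((ZZ Y (p + 1)).obj a))).hom (ya a)), ?_⟩
    apply EV_ext
    intro a
    rw [pr_EVnat, pr_toEV]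
    refine Eq.trans ?_ (hya a)
    exact congrArg (fun φ => (φ.app (op ((ZZ Y (p + 1)).obj a))).hom (ya a)) (t.w (hm a).some)
  -- step 2: its differential dies at a later stage
  obtain ⟨dy, hdy_def⟩ : ∃ dy : EV (Q.obj m) (ZZ Y (p + 1 + 1)),
      dy = (((cechComplexFunctor Y).obj (Q.obj m)).d (p + 1) (p + 1 + 1)).hom y := ⟨_, rfl⟩
  have hdy : (EVnat (t.ι.app m) (ZZ Y (p + 1 + 1))).hom dy = 0 := by
    rw [hdy_def, ← d_EVnat, hy]
    exact hx'
  have key2 : ∀ b : (ZZ Y (p + 1 + 1)).I, ∃ (j' : I) (f : m ⟶ j'),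
      ((Q.map f).app (op ((ZZ Y (p + 1 + 1)).obj b))).hom
        (pr (Q.obj m) (ZZ Y (p + 1 + 1)) b dy) = 0 := by
    intro b
    apply hinj (p + 1 + 1) b m
    rw [← pr_EVnat, hdy, pr_zero]
  choose jb fb hfb using key2
  obtain ⟨m', g, hh, hfac⟩ := exists_cocone_under' m jb fb
  have h3 : (EVnat (Q.map g) (ZZ Y (p + 1 + 1))).hom dy = 0 := by
    apply EV_ext
    intro b
    rw [pr_EVnat, pr_zero, ← hfac b, Functor.map_comp]
    change ((Q.map (hh b)).app (op ((ZZ Y (p + 1 + 1)).obj b))).hom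
      (((Q.map (fb b)).app (op ((ZZ Y (p + 1 + 1)).obj b))).hom
        (pr (Q.obj m) (ZZ Y (p + 1 + 1)) b dy)) = 0
    exact (congrArg _ (hfb b)).trans (map_zero _)
  -- step 3: use exactness at the stage `m'`
  obtain ⟨y', hy'_def⟩ : ∃ y' : EV (Q.obj m') (ZZ Y (p + 1)),
      y' = (EVnat (Q.map g) (ZZ Y (p + 1))).hom y := ⟨_, rfl⟩
  have hy' : (((cechComplexFunctor Y).obj (Q.obj m')).d (p + 1) (p + 1 + 1)).hom y' = 0 := by
    rw [hy'_def, d_EVnat, ← hdy_def]
    exact h3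
  have hex' := hex m'
  rw [HomologicalComplex.exactAt_iff' _ p (p + 1) (p + 1 + 1) (by simp) (by simp),
    ShortComplex.ab_exact_iff] at hex'
  obtain ⟨z, hz⟩ : ∃ z : EV (Q.obj m') (ZZ Y p),
      (((cechComplexFunctor Y).obj (Q.obj m')).d p (p + 1)).hom z = y' := hex' y' hy'
  -- step 4: push forward
  refine ⟨(EVnat (t.ι.app m') (ZZ Y p)).hom z, ?_⟩
  change (((cechComplexFunctor Y).obj t.pt).d p (p + 1)).hom
    ((EVnat (t.ι.app m') (ZZ Y p)).hom z) = x
  rw [d_EVnat, hz, hy'_def]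
  refine Eq.trans ?_ hy
  exact EVnat_comp_apply (Q.map g) (t.ι.app m') (t.ι.app m) (t.w g) _ y

end AbstractCech

section Site

variable {C : Type u} [SmallCategory C] {J : GrothendieckTopology C}

/-- restriction of sections along a morphism of the site -/
noncomputable abbrev rs (G : Sheaf J AddCommGrpCat.{u}) {V' V : C} (g : V' ⟶ V)
    (s : G.obj.obj (op V)) : G.obj.obj (op V') := (G.obj.map g.op).hom s

lemma rs_rs (G : Sheaf J AddCommGrpCat.{u}) {V'' V' V : C} (g' : V'' ⟶ V') (g : V' ⟶ V)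
    (s : G.obj.obj (op V)) : rs G g' (rs G g s) = rs G (g' ≫ g) s := by
  change (G.obj.map _).hom ((G.obj.map _).hom s) = _
  rw [← ConcreteCategory.comp_apply, ← G.obj.map_comp]
  rfl

lemma rs_congr (G : Sheaf J AddCommGrpCat.{u}) {V' V : C} {g g' : V' ⟶ V} (h : g = g')
    (s : G.obj.obj (op V)) : rs G g s = rs G g' s := by rw [h]

lemma map_rs {G G' : Sheaf J AddCommGrpCat.{u}} (φ : G ⟶ G') {V' V : C} (g : V' ⟶ V)
    (s : G.obj.obj (op V)) :
    (φ.hom.app (op V')).hom (rs G g s) = rs G' g ((φ.hom.app (op V)).hom s) := by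
  have h1 := ConcreteCategory.congr_hom (φ.hom.naturality g.op) s
  rw [ConcreteCategory.comp_apply, ConcreteCategory.comp_apply] at h1
  exact h1

/-- gluing along a family of objects over `V`, compatibility being tested on binary products -/
lemma glue_site [HasPullbacks C] {V : C} {κ : Type u} (Y : κ → Over V)
    (hcov : Sieve.ofArrows (fun i => (Y i).left) (fun i => (Y i).hom) ∈ J V)
    (F : Sheaf J AddCommGrpCat.{u}) (t : ∀ k, F.obj.obj (op ((Over.forget V).obj (Y k))))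
    (ht : ∀ b : Fin 2 → κ,
      (F.obj.map ((Over.forget V).map (Pi.π (Y ∘ b) 0)).op).hom (t (b 0)) =
        (F.obj.map ((Over.forget V).map (Pi.π (Y ∘ b) 1)).op).hom (t (b 1))) :
    ∃ s : F.obj.obj (op V), ∀ k, (F.obj.map (Y k).hom.op).hom s = t k := by
  apply sheaf_glue F _ hcov t
  intro i j Z gi gj comm
  let W : Over V := Over.mk (gi ≫ (Y i).hom)
  let b : Fin 2 → κ := ![i, j]
  let g : W ⟶ ∏ᶜ (Y ∘ b) := Pi.lift (fun k =>
    Fin.cases (motive := fun k => W ⟶ (Y ∘ b) k) (Over.homMk gi rfl)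
      (fun k' => Fin.cases (motive := fun k' => W ⟶ (Y ∘ b) k'.succ)
        (Over.homMk gj comm.symm) (fun k'' => k''.elim0) k') k)
  have h0 : g ≫ Pi.π (Y ∘ b) 0 = Over.homMk gi rfl := Pi.lift_π _ _
  have h1 : g ≫ Pi.π (Y ∘ b) 1 = Over.homMk gj comm.symm := Pi.lift_π _ _
  have h0' : g.left ≫ (Pi.π (Y ∘ b) 0).left = gi := congrArg CommaMorphism.left h0
  have h1' : g.left ≫ (Pi.π (Y ∘ b) 1).left = gj := congrArg CommaMorphism.left h1
  have key := congrArg (F.obj.map g.left.op).hom (ht b)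
  have e0 := map_map_apply F.obj g.left (Pi.π (Y ∘ b) 0).left gi h0' (t i)
  have e1 := map_map_apply F.obj g.left (Pi.π (Y ∘ b) 1).left gj h1' (t j)
  exact e0.symm.trans (key.trans e1)

variable {ι : Type u} [SmallCategory ι] [IsFiltered ι] (D : ι ⥤ Sheaf J AddCommGrpCat.{u})

/-- the diagram of presheaves -/
noncomputable abbrev DP : ι ⥤ (Cᵒᵖ ⥤ AddCommGrpCat.{u}) :=
  D ⋙ sheafToPresheaf J AddCommGrpCat.{u}

/-- the presheaf colimit -/
noncomputable abbrev P₀ : Cᵒᵖ ⥤ AddCommGrpCat.{u} := colimit (DP D)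

/-- the standard colimit cocone -/
noncomputable abbrev c₀ : Cocone D := Sheaf.sheafifyCocone (colimit.cocone (DP D))

noncomputable def hc₀ : IsColimit (c₀ D) :=
  Sheaf.isColimitSheafifyCocone _ (colimit.isColimit _)

lemma P₀_rep (V : C) (p : (P₀ D).obj (op V)) :
    ∃ (i : ι) (a : (D.obj i).obj.obj (op V)), ((colimit.ι (DP D) i).app (op V)).hom a = p := by
  let ev := (evaluation Cᵒᵖ AddCommGrpCat.{u}).obj (op V)
  have hev : IsColimit (ev.mapCocone (colimit.cocone (DP D))) :=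
    isColimitOfPreserves ev (colimit.isColimit _)
  obtain ⟨i, a, ha⟩ := Concrete.isColimit_exists_rep (DP D ⋙ ev) hev p
  exact ⟨i, a, ha⟩

lemma P₀_eq_zero (V : C) (i : ι) (a : (D.obj i).obj.obj (op V))
    (h : ((colimit.ι (DP D) i).app (op V)).hom a = 0) :
    ∃ (j : ι) (f : i ⟶ j), ((D.map f).hom.app (op V)).hom a = 0 := by
  let ev := (evaluation Cᵒᵖ AddCommGrpCat.{u}).obj (op V)
  have hev : IsColimit (ev.mapCocone (colimit.cocone (DP D))) :=
    isColimitOfPreserves ev (colimit.isColimit _)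
  obtain ⟨k, f, g, hk⟩ := Concrete.isColimit_exists_of_rep_eq (DP D ⋙ ev) hev
    (i := i) (j := i) a (0 : (D.obj i).obj.obj (op V)) (by
      refine Eq.trans h ?_
      exact (map_zero ((colimit.ι (DP D) i).app (op V)).hom).symm)
  refine ⟨k, f, ?_⟩
  refine Eq.trans hk ?_
  exact map_zero ((D.map g).hom.app (op V)).hom

lemma c₀_ι_apply (i : ι) (V : C) (a : (D.obj i).obj.obj (op V)) :
    (((c₀ D).ι.app i).hom.app (op V)).hom a =
      ((toSheafify J (P₀ D)).app (op V)).hom (((colimit.ι (DP D) i).app (op V)).hom a) := by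
  have h := Sheaf.sheafifyCocone_ι_app_val (colimit.cocone (DP D)) i
  exact congrArg (fun φ => (φ.app (op V)).hom a) h

/-- local injectivity of the colimit cocone -/
lemma LI₀ (i : ι) (V : C) (a : (D.obj i).obj.obj (op V))
    (h : (((c₀ D).ι.app i).hom.app (op V)).hom a = 0) :
    ∃ T ∈ J V, ∀ (V' : C) (g : V' ⟶ V), T.arrows g → ∃ (j : ι) (f : i ⟶ j),
      ((D.map f).hom.app (op V')).hom (rs (D.obj i) g a) = 0 := by
  rw [c₀_ι_apply] at h
  have hmem := Presheaf.equalizerSieve_mem J (toSheafify J (P₀ D)) (X := op V)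
    (((colimit.ι (DP D) i).app (op V)).hom a) 0 (by
      refine Eq.trans h ?_
      exact (map_zero ((toSheafify J (P₀ D)).app (op V)).hom).symm)
  refine ⟨_, hmem, ?_⟩
  intro V' g hg
  have hg' : ((P₀ D).map g.op).hom (((colimit.ι (DP D) i).app (op V)).hom a) = 0 := by
    refine Eq.trans hg ?_
    exact map_zero ((P₀ D).map g.op).hom
  have hnat := ConcreteCategory.congr_hom ((colimit.ι (DP D) i).naturality g.op) a
  rw [ConcreteCategory.comp_apply, ConcreteCategory.comp_apply] at hnat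
  exact P₀_eq_zero D V' i _ (hnat.trans hg')

/-- local surjectivity of the colimit cocone -/
lemma LS₀ (V : C) (t : (c₀ D).pt.obj.obj (op V)) :
    ∃ T ∈ J V, ∀ (V' : C) (g : V' ⟶ V), T.arrows g →
      ∃ (i : ι) (a : (D.obj i).obj.obj (op V')),
        (((c₀ D).ι.app i).hom.app (op V')).hom a = rs (c₀ D).pt g t := by
  have hmem := Presheaf.imageSieve_mem J (toSheafify J (P₀ D)) (U := op V) t
  refine ⟨_, hmem, ?_⟩
  rintro V' g ⟨p, hp⟩
  obtain ⟨i, a, ha⟩ := P₀_rep D V' p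
  refine ⟨i, a, ?_⟩
  rw [c₀_ι_apply, ha]
  exact hp

lemma leg_rs (c : Cocone D) (i : ι) {V' V : C} (g : V' ⟶ V) (a : (D.obj i).obj.obj (op V)) :
    ((c.ι.app i).hom.app (op V')).hom (rs (D.obj i) g a) =
      rs c.pt g (((c.ι.app i).hom.app (op V)).hom a) := map_rs (c.ι.app i) g a

lemma leg_w (c : Cocone D) {i j : ι} (f : i ⟶ j) (V : C) (a : (D.obj i).obj.obj (op V)) :
    ((c.ι.app j).hom.app (op V)).hom (((D.map f).hom.app (op V)).hom a) =
      ((c.ι.app i).hom.app (op V)).hom a :=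
  congrArg (fun φ => (φ.hom.app (op V)).hom a) (c.w f)

variable [HasPullbacks C] (B : Set C) (Cov : ∀ (U : C) (κ : Type u), (κ → Over U) → Prop)
  (h1 : ∀ (U : C) (κ : Type u) (Y : κ → Over U), Cov U κ Y → Finite κ ∧ U ∈ B ∧
    Sieve.ofArrows (fun i => (Y i).left) (fun i => (Y i).hom) ∈ J U ∧
    ∀ (p : ℕ) (a : Fin (p + 1) → κ), (∏ᶜ fun k => Y (a k)).left ∈ B)
  (h2 : ∀ U ∈ B, ∀ T ∈ J U, ∃ (κ : Type u) (Y : κ → Over U), Cov U κ Y ∧
    ∀ i, T.arrows (Y i).hom)

include h1 h2 in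
lemma injSec₀ (V : C) (hV : V ∈ B) (i : ι) (a : (D.obj i).obj.obj (op V))
    (h : (((c₀ D).ι.app i).hom.app (op V)).hom a = 0) :
    ∃ (j : ι) (f : i ⟶ j), ((D.map f).hom.app (op V)).hom a = 0 := by
  classical
  obtain ⟨T, hT, hTa⟩ := LI₀ D i V a h
  obtain ⟨κ, Y, hY, hYT⟩ := h2 V hV T hT
  haveI : Finite κ := (h1 V κ Y hY).1
  have hcov := (h1 V κ Y hY).2.2.1
  have key : ∀ k : κ, ∃ (j : ι) (f : i ⟶ j),
      ((D.map f).hom.app (op (Y k).left)).hom (rs (D.obj i) (Y k).hom a) = 0 :=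
    fun k => hTa _ (Y k).hom (hYT k)
  choose j f hf using key
  obtain ⟨s, g, hh, hfac⟩ := exists_cocone_under' i j f
  refine ⟨s, g, ?_⟩
  apply sheaf_sep (D.obj s) (fun k => (Y k).hom) hcov
  intro k
  have e1 : rs (D.obj s) (Y k).hom (((D.map g).hom.app (op V)).hom a) =
      ((D.map g).hom.app (op (Y k).left)).hom (rs (D.obj i) (Y k).hom a) :=
    (map_rs (D.map g) (Y k).hom a).symm
  refine e1.trans ?_
  rw [← hfac k, Functor.map_comp]
  change ((D.map (hh k)).hom.app (op (Y k).left)).hom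
    (((D.map (f k)).hom.app (op (Y k).left)).hom (rs (D.obj i) (Y k).hom a)) = 0
  exact (congrArg _ (hf k)).trans (map_zero _)

include h1 h2 in
lemma surjSec₀ (V : C) (hV : V ∈ B) (t : (c₀ D).pt.obj.obj (op V)) :
    ∃ (i : ι) (a : (D.obj i).obj.obj (op V)),
      (((c₀ D).ι.app i).hom.app (op V)).hom a = t := by
  classical
  obtain ⟨T, hT, hTa⟩ := LS₀ D V t
  obtain ⟨κ, Y, hY, hYT⟩ := h2 V hV T hT
  haveI : Finite κ := (h1 V κ Y hY).1
  have hcov := (h1 V κ Y hY).2.2.1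
  have hB2 : ∀ b : Fin 2 → κ, (∏ᶜ (Y ∘ b)).left ∈ B := fun b => (h1 V κ Y hY).2.2.2 1 b
  have key : ∀ k : κ, ∃ (i : ι) (a : (D.obj i).obj.obj (op (Y k).left)),
      (((c₀ D).ι.app i).hom.app (op (Y k).left)).hom a = rs (c₀ D).pt (Y k).hom t :=
    fun k => hTa _ (Y k).hom (hYT k)
  choose ix ax hax using key
  obtain ⟨m, hm⟩ := exists_upper' ix
  obtain ⟨a', ha'⟩ : ∃ a' : ∀ k : κ, (D.obj m).obj.obj (op (Y k).left),
      ∀ k, (((c₀ D).ι.app m).hom.app (op (Y k).left)).hom (a' k) =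
        rs (c₀ D).pt (Y k).hom t :=
    ⟨fun k => ((D.map (hm k).some).hom.app (op (Y k).left)).hom (ax k),
      fun k => (leg_w D (c₀ D) (hm k).some (Y k).left (ax k)).trans (hax k)⟩
  have hleg : ∀ (b : Fin 2 → κ) (x : Fin 2),
      (((c₀ D).ι.app m).hom.app (op (∏ᶜ (Y ∘ b)).left)).hom
        (rs (D.obj m) (Pi.π (Y ∘ b) x).left (a' (b x))) =
      rs (c₀ D).pt (∏ᶜ (Y ∘ b)).hom t := by
    intro b x
    refine (leg_rs D (c₀ D) m (Pi.π (Y ∘ b) x).left (a' (b x))).trans ?_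
    refine (congrArg (rs (c₀ D).pt (Pi.π (Y ∘ b) x).left) (ha' (b x))).trans ?_
    refine (rs_rs (c₀ D).pt (Pi.π (Y ∘ b) x).left (Y (b x)).hom t).trans ?_
    exact rs_congr (c₀ D).pt (Over.w (Pi.π (Y ∘ b) x)) t
  have hdiff : ∀ b : Fin 2 → κ, ∃ (j : ι) (f : m ⟶ j),
      ((D.map f).hom.app (op (∏ᶜ (Y ∘ b)).left)).hom
        (rs (D.obj m) (Pi.π (Y ∘ b) 0).left (a' (b 0)) -
          rs (D.obj m) (Pi.π (Y ∘ b) 1).left (a' (b 1))) = 0 := by
    intro b
    apply injSec₀ D B Cov h1 h2 _ (hB2 b) m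
    rw [map_sub, sub_eq_zero]
    exact (hleg b 0).trans (hleg b 1).symm
  choose jj ff hff using hdiff
  obtain ⟨m', gm, hh, hfac⟩ := exists_cocone_under' m jj ff
  obtain ⟨b', hb'⟩ : ∃ b' : ∀ k : κ, (D.obj m').obj.obj (op (Y k).left),
      ∀ k, b' k = ((D.map gm).hom.app (op (Y k).left)).hom (a' k) := ⟨_, fun k => rfl⟩
  have hcompat : ∀ b : Fin 2 → κ,
      ((D.obj m').obj.map ((Over.forget V).map (Pi.π (Y ∘ b) 0)).op).hom (b' (b 0)) =
        ((D.obj m').obj.map ((Over.forget V).map (Pi.π (Y ∘ b) 1)).op).hom (b' (b 1)) := by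
    intro b
    have e : ∀ x : Fin 2, rs (D.obj m') (Pi.π (Y ∘ b) x).left (b' (b x)) =
        ((D.map gm).hom.app (op (∏ᶜ (Y ∘ b)).left)).hom
          (rs (D.obj m) (Pi.π (Y ∘ b) x).left (a' (b x))) := by
      intro x
      rw [hb' (b x)]
      exact (map_rs (D.map gm) (Pi.π (Y ∘ b) x).left (a' (b x))).symm
    change rs (D.obj m') (Pi.π (Y ∘ b) 0).left (b' (b 0)) =
      rs (D.obj m') (Pi.π (Y ∘ b) 1).left (b' (b 1))
    rw [e 0, e 1, ← sub_eq_zero, ← map_sub, ← hfac b, Functor.map_comp]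
    change ((D.map (hh b)).hom.app (op (∏ᶜ (Y ∘ b)).left)).hom
      (((D.map (ff b)).hom.app (op (∏ᶜ (Y ∘ b)).left)).hom
        (rs (D.obj m) (Pi.π (Y ∘ b) 0).left (a' (b 0)) -
          rs (D.obj m) (Pi.π (Y ∘ b) 1).left (a' (b 1)))) = 0
    exact (congrArg _ (hff b)).trans (map_zero _)
  obtain ⟨s, hs⟩ := glue_site Y hcov (D.obj m') b' hcompat
  refine ⟨m', s, ?_⟩
  apply sheaf_ext (c₀ D).pt (fun k => (Y k).hom) hcov
  intro k
  refine (leg_rs D (c₀ D) m' (Y k).hom s).symm.trans ?_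
  refine (congrArg (fun z => (((c₀ D).ι.app m').hom.app (op (Y k).left)).hom z)
    ((hs k).trans (hb' k))).trans ?_
  exact (leg_w D (c₀ D) gm (Y k).left (a' k)).trans (ha' k)

section transfer

variable {D} (c : Cocone D)

/-- comparison with the standard colimit cocone -/
noncomputable def e₀ (hc : IsColimit c) : (c₀ D).pt ≅ c.pt :=
  (hc₀ D).coconePointUniqueUpToIso hc

lemma e₀_ι (hc : IsColimit c) (i : ι) : (c₀ D).ι.app i ≫ (e₀ c hc).hom = c.ι.app i :=
  IsColimit.comp_coconePointUniqueUpToIso_hom _ _ _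

include h1 h2 in
lemma injSec (hc : IsColimit c) (V : C) (hV : V ∈ B) (i : ι) (a : (D.obj i).obj.obj (op V))
    (h : ((c.ι.app i).hom.app (op V)).hom a = 0) :
    ∃ (j : ι) (f : i ⟶ j), ((D.map f).hom.app (op V)).hom a = 0 := by
  apply injSec₀ D B Cov h1 h2 V hV i a
  have h1' : (c₀ D).ι.app i = c.ι.app i ≫ (e₀ c hc).inv := by
    rw [← e₀_ι c hc i, Category.assoc, Iso.hom_inv_id, Category.comp_id]
  rw [h1']
  change (((e₀ c hc).inv).hom.app (op V)).hom (((c.ι.app i).hom.app (op V)).hom a) = 0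
  rw [h, map_zero]

include h1 h2 in
lemma surjSec (hc : IsColimit c) (V : C) (hV : V ∈ B) (t : c.pt.obj.obj (op V)) :
    ∃ (i : ι) (a : (D.obj i).obj.obj (op V)), ((c.ι.app i).hom.app (op V)).hom a = t := by
  obtain ⟨i, a, ha⟩ := surjSec₀ D B Cov h1 h2 V hV (((e₀ c hc).inv.hom.app (op V)).hom t)
  refine ⟨i, a, ?_⟩
  rw [← e₀_ι c hc i]
  change ((e₀ c hc).hom.hom.app (op V)).hom ((((c₀ D).ι.app i).hom.app (op V)).hom a) = t
  rw [ha]
  exact congrArg (fun φ => (φ.hom.app (op V)).hom t) (e₀ c hc).inv_hom_id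

end transfer

end Site

end Groth.Agent.H18.SiteColim
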