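import Groth.Agent.Lib.helper18.SiteColim1

/-!
# Cohomology on a site and filtered colimits (part 2: assembly)
-/

set_option autoImplicit false
set_option linter.unusedSectionVars false
set_option linter.unusedVariables false
set_option linter.style.haveILetI false
open CategoryTheory CategoryTheory.Limits CategoryTheory.Abelian Opposite ZeroObject

namespace Groth.Agent.H18.SiteColim

open Groth.Agent.H18.Cech Groth.Agent.H18.CechSite

universe u

variable {C : Type u} [SmallCategory C] (J : GrothendieckTopology C)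

/-- the functor `F ↦ (F ⟶ 0)` -/
noncomputable def toZeroArrow :
    Sheaf J AddCommGrpCat.{u} ⥤ Arrow (Sheaf J AddCommGrpCat.{u}) where
  obj F := Arrow.mk (0 : F ⟶ 0)
  map f := Arrow.homMk f (𝟙 0) (by simp)
  map_id F := by ext <;> simp
  map_comp f g := by ext <;> simp

/-- the functorial factorization data of Mathlib -/
noncomputable abbrev fdata := MorphismProperty.functorialFactorizationData
  (MorphismProperty.monomorphisms (Sheaf J AddCommGrpCat.{u}))
  (MorphismProperty.monomorphisms (Sheaf J AddCommGrpCat.{u})).rlp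

/-- a functorial embedding into injectives -/
noncomputable def Efun : Sheaf J AddCommGrpCat.{u} ⥤ Sheaf J AddCommGrpCat.{u} :=
  toZeroArrow J ⋙ (fdata J).Z

noncomputable def εfun : 𝟭 (Sheaf J AddCommGrpCat.{u}) ⟶ Efun J where
  app F := (fdata J).i.app (Arrow.mk (0 : F ⟶ 0))
  naturality F G f := (fdata J).i.naturality ((toZeroArrow J).map f)

instance (F : Sheaf J AddCommGrpCat.{u}) : Mono ((εfun J).app F) := (fdata J).hi _

instance (F : Sheaf J AddCommGrpCat.{u}) : Injective ((Efun J).obj F) :=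
  inferInstanceAs (Injective (IsGrothendieckAbelian.monoMapFactorizationDataRlp (0 : F ⟶ 0)).Z)

variable {J}

variable {ι : Type u} [SmallCategory ι] [IsFiltered ι]

variable [HasPullbacks C] (B : Set C) (Cov : ∀ (U : C) (κ : Type u), (κ → Over U) → Prop)
  (h1 : ∀ (U : C) (κ : Type u) (Y : κ → Over U), Cov U κ Y → Finite κ ∧ U ∈ B ∧
    Sieve.ofArrows (fun i => (Y i).left) (fun i => (Y i).hom) ∈ J U ∧
    ∀ (p : ℕ) (a : Fin (p + 1) → κ), (∏ᶜ fun k => Y (a k)).left ∈ B)
  (h2 : ∀ U ∈ B, ∀ T ∈ J U, ∃ (κ : Type u) (Y : κ → Over U), Cov U κ Y ∧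
    ∀ i, T.arrows (Y i).hom)

include h1 h2 in
lemma surjH (D : ι ⥤ Sheaf J AddCommGrpCat.{u}) (V : C) (hV : V ∈ B) :
    ExtColim.SurjH (CohCx.freeSheaf J V) D := by
  intro x
  obtain ⟨i, a, ha⟩ := surjSec B Cov h1 h2 (colimit.cocone D) (colimit.isColimit D) V hV
    (CohFree.evalGen J V _ x)
  refine ⟨i, CohFree.ofSect J V _ a, ?_⟩
  rw [ofSect_comp' J]
  refine Eq.trans (congrArg (CohFree.ofSect J V _) ha) ?_
  exact CohFree.ofSect_evalGen _ _ _ _

include h1 h2 in
lemma injH (D : ι ⥤ Sheaf J AddCommGrpCat.{u}) (V : C) (hV : V ∈ B) :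
    ExtColim.InjH (CohCx.freeSheaf J V) D := by
  intro i y hy
  obtain ⟨j, f, hf⟩ := injSec B Cov h1 h2 (colimit.cocone D) (colimit.isColimit D) V hV i
    (CohFree.evalGen J V _ y) (by
      refine Eq.trans (evalGen_comp' J y (colimit.ι D i)).symm ?_
      rw [hy]
      exact map_zero _)
  refine ⟨j, f, ?_⟩
  apply (CohFree.homEquivSect J V _).injective
  rw [CohFree.homEquivSect_apply, evalGen_comp' J, hf, map_zero]

include h1 h2 in
/-- a filtered colimit of injective sheaves is Čech-acyclic for the families in `Cov` -/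
theorem cech_colim_inj (D' : ι ⥤ Sheaf J AddCommGrpCat.{u}) (hD' : ∀ i, Injective (D'.obj i))
    (V : C) (κ : Type u) (Y : κ → Over V) (hY : Cov V κ Y) (p : ℕ) :
    IsZero (CohCx.cechH (colimit D').obj Y (p + 1)) := by
  haveI : Finite κ := (h1 V κ Y hY).1
  let H : Sheaf J AddCommGrpCat.{u} ⥤ ((Over V)ᵒᵖ ⥤ AddCommGrpCat.{u}) :=
    sheafToPresheaf J AddCommGrpCat.{u} ⋙ (Functor.whiskeringLeft _ _ _).obj (Over.forget V).op
  have hex := cech_exactAt_colim Y (D' ⋙ H) (H.mapCocone (colimit.cocone D')) p ?_ ?_ ?_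
  · exact (HomologicalComplex.exactAt_iff_isZero_homology _ _).1 hex
  · intro n a x
    obtain ⟨i, y, hy⟩ := surjSec B Cov h1 h2 (colimit.cocone D') (colimit.isColimit D') _
      ((h1 V κ Y hY).2.2.2 n a) x
    exact ⟨i, y, hy⟩
  · intro n a j y hy
    obtain ⟨j', f, hf⟩ := injSec B Cov h1 h2 (colimit.cocone D') (colimit.isColimit D') _
      ((h1 V κ Y hY).2.2.2 n a) j y hy
    exact ⟨j', f, hf⟩
  · intro j
    haveI : Injective ((Over.forget V).op ⋙ (D'.obj j).obj) :=
      CechSite.hinj_site (D'.obj j) (hD' j)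
    exact cech_exactAt_of_injective Y ((Over.forget V).op ⋙ (D'.obj j).obj) p

include h1 h2 in
theorem main (U : C) (hU : U ∈ B) (p : ℕ) (F : ι ⥤ Sheaf J AddCommGrpCat.{u}) :
    PreservesColimit F ((Sheaf.cohomologyPresheafFunctor J p).flip.obj (op U)) := by
  have hmain := ExtColim.main (CohCx.freeSheaf J U) (Efun J) (εfun J)
    (fun D' => ⟨surjH B Cov h1 h2 D' U hU, injH B Cov h1 h2 D' U hU⟩)
    (fun Y n x => Ext.eq_zero_of_injective x)
    (fun D' n x => by
      have hss := CechSite.cartan_site B Cov (fun U' κ Y h => (h1 U' κ Y h).2) h2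
        (colimit (D' ⋙ Efun J))
        (fun V κ Y hY q => cech_colim_inj B Cov h1 h2 (D' ⋙ Efun J)
          (fun i => inferInstanceAs (Injective ((Efun J).obj (D'.obj i)))) V κ Y hY q) U hU n
      exact @Subsingleton.elim _ hss x 0)
    p F
  have e : extFunctorObj.{u} (CohCx.freeSheaf J U) p ≅
      (Sheaf.cohomologyPresheafFunctor J p).flip.obj (op U) :=
    NatIso.ofComponents (fun _ => Iso.refl _)
      (fun f => (Category.comp_id _).trans (Category.id_comp _).symm)
  have := ExtColim.preservesColimit _ F p hmain.1 hmain.2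
  exact preservesColimit_of_natIso F e

end Groth.Agent.H18.SiteColim
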