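import Groth.Agent.Lib.helper18.Flasque
import Groth.Agent.Lib.helper18.ExtColim

/-!
# Sections of filtered colimits of abelian sheaves over quasi-compact opens (part 1: local facts)
-/

set_option autoImplicit false
set_option linter.unusedSectionVars false
set_option linter.unusedVariables false
open CategoryTheory CategoryTheory.Limits CategoryTheory.Abelian Opposite TopologicalSpace

namespace Groth.Agent.H18.SpecColim

universe u

variable {X : TopCat.{u}}

/-- restriction of sections -/
noncomputable abbrev res (G : CohTop.Ab X) {V' V : Opens X} (h : V' ≤ V) (s : G.obj.obj (op V)) :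
    G.obj.obj (op V') := (G.obj.map (homOfLE h).op).hom s

lemma res_res (G : CohTop.Ab X) {V'' V' V : Opens X} (h' : V'' ≤ V') (h : V' ≤ V)
    (s : G.obj.obj (op V)) : res G h' (res G h s) = res G (h'.trans h) s := by
  change (G.obj.map _).hom ((G.obj.map _).hom s) = _
  rw [← ConcreteCategory.comp_apply, ← G.obj.map_comp]
  rfl

lemma res_self (G : CohTop.Ab X) {V : Opens X} (s : G.obj.obj (op V)) : res G le_rfl s = s :=
  ConcreteCategory.congr_hom (G.obj.map_id (op V)) s

lemma map_res {G G' : CohTop.Ab X} (φ : G ⟶ G') {V' V : Opens X} (h : V' ≤ V)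
    (s : G.obj.obj (op V)) :
    (φ.hom.app (op V')).hom (res G h s) = res G' h ((φ.hom.app (op V)).hom s) := by
  have h1 := ConcreteCategory.congr_hom (φ.hom.naturality (homOfLE h).op) s
  rw [ConcreteCategory.comp_apply, ConcreteCategory.comp_apply] at h1
  exact h1

lemma res_add (G : CohTop.Ab X) {V' V : Opens X} (h : V' ≤ V) (s t : G.obj.obj (op V)) :
    res G h (s + t) = res G h s + res G h t := map_add _ _ _

lemma res_sub (G : CohTop.Ab X) {V' V : Opens X} (h : V' ≤ V) (s t : G.obj.obj (op V)) :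
    res G h (s - t) = res G h s - res G h t := map_sub _ _ _

lemma res_zero (G : CohTop.Ab X) {V' V : Opens X} (h : V' ≤ V) :
    res G h (0 : G.obj.obj (op V)) = 0 := map_zero _

/-- sections are determined locally -/
lemma eq_of_cover (G : CohTop.Ab X) {κ : Type*} (W : κ → Opens X) (V : Opens X)
    (hW : ∀ k, W k ≤ V) (hcov : V ≤ iSup W) (s t : G.obj.obj (op V))
    (h : ∀ k, res G (hW k) s = res G (hW k) t) : s = t :=
  TopCat.Sheaf.eq_of_locally_eq' G W V (fun k => homOfLE (hW k)) hcov s t h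

lemma eq_of_bot (G : CohTop.Ab X) (s t : G.obj.obj (op (⊥ : Opens X))) : s = t :=
  eq_of_cover G (fun i : PEmpty.{1} => (i.elim : Opens X)) ⊥ (fun i => i.elim) bot_le s t
    (fun i => i.elim)

/-- gluing of two sections -/
lemma glue₂ (G : CohTop.Ab X) {A B : Opens X} (sA : G.obj.obj (op A)) (sB : G.obj.obj (op B))
    (h : res G (inf_le_left : A ⊓ B ≤ A) sA = res G (inf_le_right : A ⊓ B ≤ B) sB) :
    ∃ s : G.obj.obj (op (A ⊔ B)), res G le_sup_left s = sA ∧ res G le_sup_right s = sB := by
  let U : Bool → Opens X := fun b => cond b A B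
  let sf : ∀ b : Bool, G.obj.obj (op (U b)) := fun b =>
    Bool.rec (motive := fun b => G.obj.obj (op (U b))) sB sA b
  have hU : ∀ b, U b ≤ A ⊔ B := fun b => by
    cases b
    · exact le_sup_right
    · exact le_sup_left
  have hcomp : TopCat.Presheaf.IsCompatible G.obj U sf := by
    intro b b'
    cases b <;> cases b'
    · rfl
    · change res G (inf_le_left : B ⊓ A ≤ B) sB = res G (inf_le_right : B ⊓ A ≤ A) sA
      have h' := congrArg (res G (le_of_eq (inf_comm B A) : B ⊓ A ≤ A ⊓ B)) h
      rw [res_res, res_res] at h'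
      exact h'.symm
    · exact h
    · rfl
  obtain ⟨s, hs, -⟩ := TopCat.Sheaf.existsUnique_gluing' G U (A ⊔ B) (fun b => homOfLE (hU b))
    (by
      apply sup_le
      · exact le_iSup U true
      · exact le_iSup U false) sf hcomp
  exact ⟨s, hs true, hs false⟩

variable {ι : Type u} [SmallCategory ι] [IsFiltered ι] (D : ι ⥤ CohTop.Ab X)

/-- the diagram of presheaves -/
noncomputable abbrev DP : ι ⥤ ((Opens X)ᵒᵖ ⥤ AddCommGrpCat.{u}) :=
  D ⋙ sheafToPresheaf (Opens.grothendieckTopology X) AddCommGrpCat.{u}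

/-- the presheaf colimit -/
noncomputable abbrev P₀ : (Opens X)ᵒᵖ ⥤ AddCommGrpCat.{u} := colimit (DP D)

/-- the standard colimit cocone -/
noncomputable abbrev c₀ : Cocone D := Sheaf.sheafifyCocone (colimit.cocone (DP D))

noncomputable def hc₀ : IsColimit (c₀ D) :=
  Sheaf.isColimitSheafifyCocone _ (colimit.isColimit _)

lemma P₀_rep (V : Opens X) (p : (P₀ D).obj (op V)) :
    ∃ (i : ι) (a : (D.obj i).obj.obj (op V)), ((colimit.ι (DP D) i).app (op V)).hom a = p := by
  let ev := (evaluation (Opens X)ᵒᵖ AddCommGrpCat.{u}).obj (op V)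
  have hev : IsColimit (ev.mapCocone (colimit.cocone (DP D))) :=
    isColimitOfPreserves ev (colimit.isColimit _)
  obtain ⟨i, a, ha⟩ := Concrete.isColimit_exists_rep (DP D ⋙ ev) hev p
  exact ⟨i, a, ha⟩

lemma P₀_eq_zero (V : Opens X) (i : ι) (a : (D.obj i).obj.obj (op V))
    (h : ((colimit.ι (DP D) i).app (op V)).hom a = 0) :
    ∃ (j : ι) (f : i ⟶ j), ((D.map f).hom.app (op V)).hom a = 0 := by
  let ev := (evaluation (Opens X)ᵒᵖ AddCommGrpCat.{u}).obj (op V)
  have hev : IsColimit (ev.mapCocone (colimit.cocone (DP D))) :=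
    isColimitOfPreserves ev (colimit.isColimit _)
  obtain ⟨k, f, g, hk⟩ := Concrete.isColimit_exists_of_rep_eq (DP D ⋙ ev) hev
    (i := i) (j := i) a (0 : (D.obj i).obj.obj (op V)) (by
      refine Eq.trans h ?_
      exact (map_zero ((colimit.ι (DP D) i).app (op V)).hom).symm)
  refine ⟨k, f, ?_⟩
  refine Eq.trans hk ?_
  exact map_zero ((D.map g).hom.app (op V)).hom

lemma c₀_ι_apply (i : ι) (V : Opens X) (a : (D.obj i).obj.obj (op V)) :
    (((c₀ D).ι.app i).hom.app (op V)).hom a =
      ((toSheafify (Opens.grothendieckTopology X) (P₀ D)).app (op V)).hom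
        (((colimit.ι (DP D) i).app (op V)).hom a) := by
  have h := Sheaf.sheafifyCocone_ι_app_val (colimit.cocone (DP D)) i
  exact congrArg (fun φ => (φ.app (op V)).hom a) h

/-- local injectivity of the colimit cocone -/
lemma LI₀ (i : ι) (V : Opens X) (a : (D.obj i).obj.obj (op V))
    (h : (((c₀ D).ι.app i).hom.app (op V)).hom a = 0) (x : X) (hx : x ∈ V) :
    ∃ (V' : Opens X) (hV' : V' ≤ V), x ∈ V' ∧ ∃ (j : ι) (f : i ⟶ j),
      ((D.map f).hom.app (op V')).hom (res (D.obj i) hV' a) = 0 := by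
  rw [c₀_ι_apply] at h
  have hmem := Presheaf.equalizerSieve_mem (Opens.grothendieckTopology X)
    (toSheafify (Opens.grothendieckTopology X) (P₀ D)) (X := op V)
    (((colimit.ι (DP D) i).app (op V)).hom a) 0 (by
      refine Eq.trans h ?_
      exact (map_zero ((toSheafify (Opens.grothendieckTopology X) (P₀ D)).app (op V)).hom).symm)
  obtain ⟨V', g, hg, hxV'⟩ := hmem x hx
  refine ⟨V', leOfHom g, hxV', ?_⟩
  have hg' : ((P₀ D).map g.op).hom (((colimit.ι (DP D) i).app (op V)).hom a) = 0 := by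
    refine Eq.trans hg ?_
    exact map_zero ((P₀ D).map g.op).hom
  have hnat := ConcreteCategory.congr_hom ((colimit.ι (DP D) i).naturality g.op) a
  rw [ConcreteCategory.comp_apply, ConcreteCategory.comp_apply] at hnat
  exact P₀_eq_zero D V' i _ (hnat.trans hg')

/-- local surjectivity of the colimit cocone -/
lemma LS₀ (V : Opens X) (t : (c₀ D).pt.obj.obj (op V)) (x : X) (hx : x ∈ V) :
    ∃ (V' : Opens X) (hV' : V' ≤ V), x ∈ V' ∧ ∃ (i : ι) (a : (D.obj i).obj.obj (op V')),
      (((c₀ D).ι.app i).hom.app (op V')).hom a = res (c₀ D).pt hV' t := by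
  have hmem := Presheaf.imageSieve_mem (Opens.grothendieckTopology X)
    (toSheafify (Opens.grothendieckTopology X) (P₀ D)) (U := op V) t
  obtain ⟨V', g, ⟨p, hp⟩, hxV'⟩ := hmem x hx
  obtain ⟨i, a, ha⟩ := P₀_rep D V' p
  refine ⟨V', leOfHom g, hxV', i, a, ?_⟩
  rw [c₀_ι_apply, ha]
  exact hp

end Groth.Agent.H18.SpecColim
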