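import Groth.Agent.Lib.helper18.SpecColim2

/-!
# Sheaves with surjective restrictions between quasi-compact opens (part 3)
-/

set_option autoImplicit false
set_option linter.unusedSectionVars false
set_option linter.unusedVariables false
open CategoryTheory CategoryTheory.Limits CategoryTheory.Abelian Opposite TopologicalSpace

namespace Groth.Agent.H18.SpecColim

open Groth.Agent.H18.Flasque

universe u

variable {X : TopCat.{u}} (U₀ : Opens X)

/-- restriction maps between quasi-compact opens inside `U₀` are surjective -/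
def QcFl (G : CohTop.Ab X) : Prop :=
  ∀ (V' V : Opens X) (h : V' ≤ V), V ≤ U₀ → IsCompact (V' : Set X) → IsCompact (V : Set X) →
    ∀ s : G.obj.obj (op V'), ∃ t : G.obj.obj (op V), res G h t = s

lemma qcFl_of_injective (G : CohTop.Ab X) [Injective G] : QcFl U₀ G := by
  intro V' V h _ _ _ s
  have : TopCat.Sheaf.IsFlasque G := isFlasque_of_injective G
  have hepi : Epi (G.obj.map (homOfLE h).op) := TopCat.Presheaf.IsFlasque.epi _
  rw [AddCommGrpCat.epi_iff_surjective] at hepi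
  exact hepi s

lemma lift_step {S : ShortComplex (CohTop.Ab X)} (hS : S.ShortExact) {V A B : Opens X}
    (hA : A ≤ V) (hB : B ≤ V) (t : S.X₃.obj.obj (op V))
    (sA : S.X₂.obj.obj (op A)) (hsA : (S.g.hom.app (op A)).hom sA = res S.X₃ hA t)
    (sB : S.X₂.obj.obj (op B)) (hsB : (S.g.hom.app (op B)).hom sB = res S.X₃ hB t)
    (hext : ∀ r : S.X₁.obj.obj (op (B ⊓ A)), ∃ r' : S.X₁.obj.obj (op B),
      res S.X₁ inf_le_left r' = r) :
    ∃ s : S.X₂.obj.obj (op (B ⊔ A)),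
      (S.g.hom.app (op (B ⊔ A))).hom s = res S.X₃ (sup_le hB hA) t := by
  have hd : (S.g.hom.app (op (B ⊓ A))).hom
      (res S.X₂ (inf_le_right : B ⊓ A ≤ A) sA - res S.X₂ (inf_le_left : B ⊓ A ≤ B) sB) = 0 := by
    rw [map_sub, map_res, map_res, hsA, hsB, res_res, res_res, sub_self]
  obtain ⟨r, hr⟩ := TopCat.Sheaf.sections_exact_of_left_exact hS.exact hS.mono_f _ hd
  obtain ⟨r', hr'⟩ := hext r
  have hz : (S.g.hom.app (op B)).hom ((S.f.hom.app (op B)).hom r') = 0 :=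
    congrArg (fun φ => (φ.hom.app (op B)).hom r') S.zero
  have hsB' : (S.g.hom.app (op B)).hom (sB + (S.f.hom.app (op B)).hom r') = res S.X₃ hB t := by
    rw [map_add, hsB, hz, add_zero]
  have hr2 : (S.f.hom.app (op (B ⊓ A))).hom r =
      res S.X₂ (inf_le_right : B ⊓ A ≤ A) sA - res S.X₂ (inf_le_left : B ⊓ A ≤ B) sB := hr
  have hcomp : res S.X₂ (inf_le_left : B ⊓ A ≤ B) (sB + (S.f.hom.app (op B)).hom r') =
      res S.X₂ (inf_le_right : B ⊓ A ≤ A) sA := by
    rw [res_add, ← map_res, hr', hr2]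
    abel
  obtain ⟨s, hs1, hs2⟩ := glue₂ S.X₂ _ sA hcomp
  refine ⟨s, ?_⟩
  apply TopCat.Sheaf.eq_of_locally_eq₂ S.X₃ (homOfLE (le_sup_left : B ≤ B ⊔ A))
    (homOfLE (le_sup_right : A ≤ B ⊔ A)) le_rfl
  · change res S.X₃ le_sup_left ((S.g.hom.app (op (B ⊔ A))).hom s) =
      res S.X₃ le_sup_left (res S.X₃ (sup_le hB hA) t)
    rw [← map_res, hs1, hsB', res_res]
  · change res S.X₃ le_sup_right ((S.g.hom.app (op (B ⊔ A))).hom s) =
      res S.X₃ le_sup_right (res S.X₃ (sup_le hB hA) t)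
    rw [← map_res, hs2, hsA, res_res]

lemma exists_lift_sec {S : ShortComplex (CohTop.Ab X)} (hS : S.ShortExact) (hQ : QC U₀)
    (h1 : QcFl U₀ S.X₁) (V : Opens X) (hVU : V ≤ U₀) (hV : IsCompact (V : Set X))
    (t : S.X₃.obj.obj (op V)) :
    ∃ s : S.X₂.obj.obj (op V), (S.g.hom.app (op V)).hom s = t := by
  classical
  have hls := (TopCat.Sheaf.isLocallySurjective_iff_epi S.g).mpr hS.epi_g
  have key : ∀ x : V, ∃ (W : Opens X) (hW : W ≤ V), IsCompact (W : Set X) ∧ x.1 ∈ W ∧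
      ∃ sW : S.X₂.obj.obj (op W), (S.g.hom.app (op W)).hom sW = res S.X₃ hW t := by
    intro x
    obtain ⟨V', hV', ⟨s', hs'⟩, hxV'⟩ :=
      (TopCat.Presheaf.isLocallySurjective_iff S.g.hom).mp hls V t x.1 x.2
    obtain ⟨W, hWc, hxW, hWV'⟩ := hQ.basis V' x.1 hxV' (hV'.trans hVU)
    refine ⟨W, hWV'.trans hV', hWc, hxW, res S.X₂ hWV' s', ?_⟩
    rw [map_res, ← res_res S.X₃ hWV' hV']
    exact congrArg (res S.X₃ hWV') hs'
  choose W hW hWc hxW sW hsW using key
  obtain ⟨s, hs⟩ := hV.elim_finite_subcover (fun x : V => ((W x : Opens X) : Set X))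
    (fun x => (W x).2) (fun y hy => Set.mem_iUnion.2 ⟨⟨y, hy⟩, hxW ⟨y, hy⟩⟩)
  have ind : ∀ T : Finset V, ∀ A : Opens X, A = T.sup W →
      ∃ hA : A ≤ V, IsCompact (A : Set X) ∧
        ∃ sA : S.X₂.obj.obj (op A), (S.g.hom.app (op A)).hom sA = res S.X₃ hA t := by
    intro T
    induction T using Finset.induction_on with
    | empty =>
      intro A hA
      rw [Finset.sup_empty] at hA
      subst hA
      refine ⟨bot_le, ?_, 0, eq_of_bot _ _ _⟩
      rw [Opens.coe_bot]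
      exact isCompact_empty
    | insert a T ha ih =>
      intro A hA
      rw [Finset.sup_insert] at hA
      subst hA
      obtain ⟨hA', hcA, sA, hsA⟩ := ih (T.sup W) rfl
      have hcap : IsCompact ((W a ⊓ T.sup W : Opens X) : Set X) :=
        hQ.qs _ _ ((hW a).trans hVU) (hA'.trans hVU) (hWc a) hcA
      obtain ⟨s', hs'⟩ := lift_step hS hA' (hW a) t sA hsA (sW a) (hsW a)
        (fun r => h1 _ _ inf_le_left ((hW a).trans hVU) hcap (hWc a) r)
      refine ⟨sup_le (hW a) hA', ?_, s', hs'⟩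
      rw [Opens.coe_sup]
      exact (hWc a).union hcA
  obtain ⟨hA, -, sA, hsA⟩ := ind s (s.sup W) rfl
  have hVA : V ≤ s.sup W := by
    intro y hy
    obtain ⟨x, hxs, hyx⟩ := Set.mem_iUnion₂.1 (hs hy)
    exact SetLike.le_def.mp (Finset.le_sup (f := W) hxs) hyx
  refine ⟨res S.X₂ hVA sA, ?_⟩
  rw [map_res, hsA, res_res]
  exact res_self _ _

lemma qcFl_colimit (hQ : QC U₀) {ι : Type u} [SmallCategory ι] [IsFiltered ι]
    (D : ι ⥤ CohTop.Ab X) (hD : ∀ i, QcFl U₀ (D.obj i)) (c : Cocone D) (hc : IsColimit c) :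
    QcFl U₀ c.pt := by
  intro V' V h hVU hV'c hVc s
  obtain ⟨i, a, ha⟩ := surjSec c hc U₀ hQ V' (h.trans hVU) hV'c s
  obtain ⟨a', ha'⟩ := hD i V' V h hVU hV'c hVc a
  refine ⟨((c.ι.app i).hom.app (op V)).hom a', ?_⟩
  rw [← leg_res, ha', ha]

theorem ext_eq_zero_of_qcFl (hQ : QC U₀) (V : Opens X) (hVU : V ≤ U₀)
    (hV : IsCompact (V : Set X)) (G : CohTop.Ab X) (hG : QcFl U₀ G) (n : ℕ)
    (x : Ext.{u} (CohCx.freeSheaf (Opens.grothendieckTopology X) V) G (n + 1)) : x = 0 := by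
  refine ExtAdapted.ext_succ_eq_zero (CohCx.freeSheaf (Opens.grothendieckTopology X) V)
    (QcFl U₀) (fun I hI => by haveI := hI; exact qcFl_of_injective U₀ I) ?_ n G hG x
  intro S hS h1 h2
  constructor
  · intro V' V'' h hVU' hV'c hVc t
    obtain ⟨s, hs⟩ := exists_lift_sec U₀ hS hQ h1 V' (h.trans hVU') hV'c t
    obtain ⟨s', hs'⟩ := h2 V' V'' h hVU' hV'c hVc s
    refine ⟨(S.g.hom.app (op V'')).hom s', ?_⟩
    rw [← map_res, hs', hs]
  · intro φ
    obtain ⟨s, hs⟩ := exists_lift_sec U₀ hS hQ h1 V hVU hV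
      (CohFree.evalGen (Opens.grothendieckTopology X) V S.X₃ φ)
    refine ⟨CohFree.ofSect (Opens.grothendieckTopology X) V S.X₂ s, ?_⟩
    rw [ofSect_comp]
    refine Eq.trans (congrArg (CohFree.ofSect (Opens.grothendieckTopology X) V _) hs) ?_
    exact CohFree.ofSect_evalGen _ _ _ _

end Groth.Agent.H18.SpecColim
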