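import Groth.Agent.Lib.helper18.SpecColim3

/-!
# Cohomology of quasi-compact opens commutes with filtered colimits (part 4: assembly)
-/

set_option autoImplicit false
set_option linter.unusedSectionVars false
set_option linter.unusedVariables false
open CategoryTheory CategoryTheory.Limits CategoryTheory.Abelian Opposite TopologicalSpace ZeroObject

namespace Groth.Agent.H18.SpecColim

universe u

variable (X : TopCat.{u})

/-- the functor `F ↦ (F ⟶ 0)` -/
noncomputable def toZeroArrow : CohTop.Ab X ⥤ Arrow (CohTop.Ab X) where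
  obj F := Arrow.mk (0 : F ⟶ 0)
  map f := Arrow.homMk f (𝟙 0) (by simp)
  map_id F := by ext <;> simp
  map_comp f g := by ext <;> simp

/-- the functorial factorization data of Mathlib -/
noncomputable abbrev fdata := MorphismProperty.functorialFactorizationData
  (MorphismProperty.monomorphisms (CohTop.Ab X)) (MorphismProperty.monomorphisms (CohTop.Ab X)).rlp

/-- a functorial embedding into injectives -/
noncomputable def Efun : CohTop.Ab X ⥤ CohTop.Ab X := toZeroArrow X ⋙ (fdata X).Z

noncomputable def εfun : 𝟭 (CohTop.Ab X) ⟶ Efun X where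
  app F := (fdata X).i.app (Arrow.mk (0 : F ⟶ 0))
  naturality F G f := (fdata X).i.naturality ((toZeroArrow X).map f)

instance (F : CohTop.Ab X) : Mono ((εfun X).app F) := (fdata X).hi _

instance (F : CohTop.Ab X) : Injective ((Efun X).obj F) :=
  inferInstanceAs (Injective (IsGrothendieckAbelian.monoMapFactorizationDataRlp (0 : F ⟶ 0)).Z)

variable {X}

theorem preservesColimit_ext (U₀ : Opens X) (hU₀ : IsCompact (U₀ : Set X)) (hQ : QC U₀)
    {ι : Type u} [SmallCategory ι] [IsFiltered ι] (D : ι ⥤ CohTop.Ab X) (q : ℕ) :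
    PreservesColimit D
      (extFunctorObj.{u} (CohCx.freeSheaf (Opens.grothendieckTopology X) U₀) q) := by
  have hmain := ExtColim.main (CohCx.freeSheaf (Opens.grothendieckTopology X) U₀) (Efun X) (εfun X)
    (fun D' => ⟨surjH D' U₀ hQ U₀ le_rfl hU₀, injH D' U₀ hU₀⟩)
    (fun Y n x => Ext.eq_zero_of_injective x)
    (fun D' n x => ext_eq_zero_of_qcFl U₀ hQ U₀ le_rfl hU₀ _
      (qcFl_colimit U₀ hQ (D' ⋙ Efun X) (fun i => by
          haveI : Injective ((D' ⋙ Efun X).obj i) :=
            inferInstanceAs (Injective ((Efun X).obj (D'.obj i)))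
          exact qcFl_of_injective U₀ _)
        (colimit.cocone _) (colimit.isColimit _)) n x)
    q D
  exact ExtColim.preservesColimit _ D q hmain.1 hmain.2

theorem preservesColimitsOfShape_H (U₀ : Opens X) (hU₀ : IsCompact (U₀ : Set X)) (hQ : QC U₀)
    (ι : Type u) [SmallCategory ι] [IsFiltered ι] (q : ℕ) :
    PreservesColimitsOfShape ι
      ((Sheaf.cohomologyPresheafFunctor (Opens.grothendieckTopology X) q).flip.obj (op U₀) :
        CohTop.Ab X ⥤ AddCommGrpCat.{u}) := by
  constructor
  intro D
  have e : extFunctorObj.{u} (CohCx.freeSheaf (Opens.grothendieckTopology X) U₀) q ≅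
      (Sheaf.cohomologyPresheafFunctor (Opens.grothendieckTopology X) q).flip.obj (op U₀) :=
    NatIso.ofComponents (fun _ => Iso.refl _)
      (fun f => (Category.comp_id _).trans (Category.id_comp _).symm)
  have := preservesColimit_ext U₀ hU₀ hQ D q
  exact preservesColimit_of_natIso D e

end Groth.Agent.H18.SpecColim
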