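import Groth.Agent.Lib.helper18.ConstIrred
import Groth.Agent.Lib.helper18.OpenRestr
import Mathlib.GroupTheory.Archimedean

set_option autoImplicit false
set_option linter.unusedSectionVars false
open CategoryTheory CategoryTheory.Limits CategoryTheory.Abelian Opposite TopologicalSpace

namespace Groth.Agent.H18.SubConst

open Groth.Agent.H18.ConstIrred

universe u

section Abel

variable {𝒜 : Type*} [Category 𝒜] [Abelian 𝒜]

lemma imageSubobject_le_of_comp_cokernel {A B C : 𝒜} (f : A ⟶ B) (g : C ⟶ B)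
    (h : f ≫ cokernel.π g = 0) : imageSubobject f ≤ imageSubobject g := by
  have hz : g ≫ cokernel.π (imageSubobject g).arrow = 0 := by
    have := imageSubobject_arrow_comp g
    calc g ≫ cokernel.π (imageSubobject g).arrow
        = (factorThruImageSubobject g ≫ (imageSubobject g).arrow) ≫
            cokernel.π (imageSubobject g).arrow := by rw [this]
      _ = 0 := by rw [Category.assoc, cokernel.condition, comp_zero]
  have h' : f ≫ cokernel.π (imageSubobject g).arrow = 0 := by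
    have e : cokernel.π g ≫ cokernel.desc g (cokernel.π (imageSubobject g).arrow) hz =
        cokernel.π (imageSubobject g).arrow := cokernel.π_desc _ _ _
    rw [← e, ← Category.assoc, h, zero_comp]
  exact imageSubobject_le f (Abelian.monoLift (imageSubobject g).arrow f h')
    (Abelian.monoLift_comp _ _ _)

end Abel

section Sheaf

variable {C : Type*} [Category C] {J : GrothendieckTopology C}
  [HasSheafify J AddCommGrpCat.{u}]

lemma comp_cokernel_eq_zero_of_sections {A B E : Sheaf J AddCommGrpCat.{u}} (f : A ⟶ B) (g : E ⟶ B)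
    (h : ∀ (W : Cᵒᵖ) (x : A.obj.obj W), ∃ z : E.obj.obj W, f.hom.app W x = g.hom.app W z) :
    f ≫ cokernel.π g = 0 := by
  apply Sheaf.hom_ext
  apply NatTrans.ext
  funext W
  apply AddCommGrpCat.hom_ext
  apply AddMonoidHom.ext
  intro x
  obtain ⟨z, hz⟩ := h W x
  have h0 : g ≫ cokernel.π g = 0 := cokernel.condition g
  have h1 : (g ≫ cokernel.π g).hom.app W z = 0 := by
    rw [h0]; rfl
  change (cokernel.π g).hom.app W (f.hom.app W x) = 0
  rw [hz]
  exact h1

end Sheaf


section Main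

variable {X : TopCat.{u}} (H : CohTop.Ab X) (ι : H ⟶ CohTop.const X (ULift.{u} ℤ))

/-- the coefficient group -/
abbrev A0 : AddCommGrpCat.{u} := AddCommGrpCat.of (ULift.{u} ℤ)

/-- the constant section with value `a` -/
noncomputable def cst (U : Opens X) (a : ℤ) : (CohTop.const X (ULift.{u} ℤ)).obj.obj (op U) :=
  (η (X := X) A0).app (op U) (ULift.up a)

lemma cst_zero (U : Opens X) : cst U 0 = 0 := by
  have : (ULift.up (0 : ℤ) : ULift.{u} ℤ) = 0 := rfl
  rw [cst, this, map_zero]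

lemma cst_add (U : Opens X) (a b : ℤ) : cst U (a + b) = cst U a + cst U b := by
  have : (ULift.up (a + b) : ULift.{u} ℤ) = ULift.up a + ULift.up b := rfl
  rw [cst, this, map_add]
  rfl

lemma cst_neg (U : Opens X) (a : ℤ) : cst U (-a) = -cst U a := by
  have : (ULift.up (-a) : ULift.{u} ℤ) = -ULift.up a := rfl
  rw [cst, this, map_neg]
  rfl

lemma cst_smul (U : Opens X) (d a : ℤ) : cst U (d * a) = d • cst U a := by
  have : (ULift.up (d * a) : ULift.{u} ℤ) = d • ULift.up a := by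
    apply ULift.ext
    simp
  rw [cst, this, map_zsmul]
  rfl

lemma cst_res {U V : Opens X} (h : V ≤ U) (a : ℤ) :
    (CohTop.const X (ULift.{u} ℤ)).obj.map (homOfLE h).op (cst U a) = cst V a :=
  η_res A0 h (ULift.up a)

lemma exists_cst [IrreducibleSpace X] {U : Opens X} (hU : U ≠ ⊥)
    (s : (CohTop.const X (ULift.{u} ℤ)).obj.obj (op U)) : ∃ a : ℤ, cst U a = s := by
  obtain ⟨a, ha⟩ := η_surjective A0 hU s
  exact ⟨a.down, ha⟩

/-- the subgroup of integers realised by sections of `H` over `U` -/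
def Sg (U : Opens X) : AddSubgroup ℤ where
  carrier := {a | ∃ h : H.obj.obj (op U), ι.hom.app (op U) h = cst U a}
  zero_mem' := ⟨0, by rw [map_zero, cst_zero]⟩
  add_mem' := by
    rintro a b ⟨h, hh⟩ ⟨k, hk⟩
    exact ⟨h + k, by rw [map_add, hh, hk, cst_add]⟩
  neg_mem' := by
    rintro a ⟨h, hh⟩
    exact ⟨-h, by rw [map_neg, hh, cst_neg]⟩

lemma mem_Sg (U : Opens X) (a : ℤ) :
    a ∈ Sg H ι U ↔ ∃ h : H.obj.obj (op U), ι.hom.app (op U) h = cst U a := Iff.rfl

lemma Sg_mono {U V : Opens X} (hVU : V ≤ U) : Sg H ι U ≤ Sg H ι V := by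
  rintro a ⟨h, hh⟩
  refine ⟨H.obj.map (homOfLE hVU).op h, ?_⟩
  have nat := ConcreteCategory.congr_hom (ι.hom.naturality (homOfLE hVU).op) h
  rw [ConcreteCategory.comp_apply, ConcreteCategory.comp_apply] at nat
  rw [nat, hh, cst_res]

lemma stable [IrreducibleSpace X] : ∃ (U : Opens X) (d : ℤ), U ≠ ⊥ ∧
    ∀ V : Opens X, V ≤ U → V ≠ ⊥ → Sg H ι V = AddSubgroup.closure {d} := by
  classical
  have htop : (⊤ : Opens X) ≠ ⊥ := by
    intro h
    obtain ⟨x⟩ := (inferInstance : Nonempty X)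
    have : x ∈ (⊤ : Opens X) := trivial
    rw [h] at this
    exact this
  by_cases hall : ∀ U : Opens X, U ≠ ⊥ → Sg H ι U = ⊥
  · refine ⟨⊤, 0, htop, fun V _ hV => ?_⟩
    rw [hall V hV, AddSubgroup.closure_singleton_zero]
  · push Not at hall
    obtain ⟨U₁, hU₁, hS₁⟩ := hall
    have hex : ∃ n : ℕ, ∃ U : Opens X, U ≠ ⊥ ∧ ∃ a ∈ Sg H ι U, a ≠ 0 ∧ a.natAbs = n := by
      obtain ⟨a, ha, ha0⟩ := (AddSubgroup.bot_or_exists_ne_zero (Sg H ι U₁)).resolve_left hS₁
      exact ⟨a.natAbs, U₁, hU₁, a, ha, ha0, rfl⟩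
    obtain ⟨U₀, hU₀, a₀, ha₀, ha₀0, hn₀⟩ := Nat.find_spec hex
    refine ⟨U₀, a₀, hU₀, fun V hV hV0 => ?_⟩
    apply le_antisymm
    · intro b hb
      rw [AddSubgroup.mem_closure_singleton]
      have hmod : b % a₀ ∈ Sg H ι V := by
        rw [Int.emod_def]
        apply AddSubgroup.sub_mem _ hb
        have : a₀ * (b / a₀) = (b / a₀) • a₀ := by rw [smul_eq_mul, mul_comm]
        rw [this]
        exact AddSubgroup.zsmul_mem _ (Sg_mono H ι hV ha₀) _
      have hzero : b % a₀ = 0 := by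
        by_contra hne
        have hlt : (b % a₀).natAbs < a₀.natAbs := by
          have h1 : 0 ≤ b % a₀ := Int.emod_nonneg b ha₀0
          have h2 : b % a₀ < |a₀| := Int.emod_lt_abs b ha₀0
          have := Int.natAbs_lt_natAbs_of_nonneg_of_lt h1 h2
          rwa [Int.natAbs_abs] at this
        rw [hn₀] at hlt
        exact Nat.find_min hex hlt ⟨V, hV0, b % a₀, hmod, hne, rfl⟩
      refine ⟨b / a₀, ?_⟩
      rw [smul_eq_mul]
      exact Int.ediv_mul_cancel (Int.dvd_of_emod_eq_zero hzero)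
    · rw [AddSubgroup.closure_le]
      intro b hb
      rw [Set.mem_singleton_iff] at hb
      rw [hb]
      exact Sg_mono H ι hV ha₀

end Main

section Final

variable {X : TopCat.{u}} (H : CohTop.Ab X) (ι : H ⟶ CohTop.const X (ULift.{u} ℤ))

lemma L_le (U : Opens X) (W : Opens (TopCat.of U)) : (OpenRestr.L U).obj W ≤ U := by
  rintro x ⟨y, -, rfl⟩
  exact y.2

lemma smul_hom_app {F G : CohTop.Ab X} (d : ℤ) (φ : F ⟶ G) (V : (Opens X)ᵒᵖ) (z : F.obj.obj V) :
    (d • φ).hom.app V z = d • φ.hom.app V z := by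
  have h := (sheafToPresheaf (Opens.grothendieckTopology X) AddCommGrpCat.{u} ⋙
    (evaluation _ _).obj V).map_zsmul (f := φ) (r := d)
  have h2 := ConcreteCategory.congr_hom h z
  simp at h2
  exact h2

lemma smul_id_app (d : ℤ) (V : Opens X) (z : (CohTop.const X (ULift.{u} ℤ)).obj.obj (op V)) :
    (d • 𝟙 (CohTop.const X (ULift.{u} ℤ))).hom.app (op V) z = d • z :=
  smul_hom_app d (𝟙 _) (op V) z

variable [IrreducibleSpace X] {U : Opens X} {d : ℤ}
  (hst : ∀ V : Opens X, V ≤ U → V ≠ ⊥ → Sg H ι V = AddSubgroup.closure {d})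

include hst

lemma fact_a (V : Opens X) (hV : V ≤ U) (x : H.obj.obj (op V)) :
    ∃ z, ι.hom.app (op V) x = (d • 𝟙 (CohTop.const X (ULift.{u} ℤ))).hom.app (op V) z := by
  by_cases hV0 : V = ⊥
  · have := ClosedPush.subsingleton_sections_of_eq_bot (CohTop.const X (ULift.{u} ℤ)) hV0
    exact ⟨0, Subsingleton.elim _ _⟩
  · obtain ⟨a, ha⟩ := exists_cst hV0 (ι.hom.app (op V) x)
    have hmem : a ∈ Sg H ι V := ⟨x, ha.symm⟩
    rw [hst V hV hV0, AddSubgroup.mem_closure_singleton] at hmem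
    obtain ⟨n, hn⟩ := hmem
    refine ⟨cst V n, ?_⟩
    rw [smul_id_app, ← cst_smul, ← ha, ← hn, smul_eq_mul, mul_comm]

lemma fact_b (V : Opens X) (hV : V ≤ U) (z : (CohTop.const X (ULift.{u} ℤ)).obj.obj (op V)) :
    ∃ x, (d • 𝟙 (CohTop.const X (ULift.{u} ℤ))).hom.app (op V) z = ι.hom.app (op V) x := by
  by_cases hV0 : V = ⊥
  · have := ClosedPush.subsingleton_sections_of_eq_bot (CohTop.const X (ULift.{u} ℤ)) hV0
    exact ⟨0, Subsingleton.elim _ _⟩
  · obtain ⟨n, hn⟩ := exists_cst hV0 z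
    have hmem : d * n ∈ Sg H ι V := by
      rw [hst V hV hV0, AddSubgroup.mem_closure_singleton]
      exact ⟨n, by rw [smul_eq_mul, mul_comm]⟩
    obtain ⟨x, hx⟩ := hmem
    refine ⟨x, ?_⟩
    rw [smul_id_app, hx, cst_smul, hn]

omit hst

theorem main : ∃ (U : Opens X) (d : ℤ), U ≠ ⊥ ∧
    imageSubobject ((CohTop.restrFunctor U).map ι) =
      imageSubobject ((CohTop.restrFunctor U).map (d • 𝟙 (CohTop.const X (ULift.{u} ℤ)))) := by
  obtain ⟨U, d, hU, hst⟩ := stable H ι
  refine ⟨U, d, hU, le_antisymm ?_ ?_⟩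
  · apply imageSubobject_le_of_comp_cokernel
    apply comp_cokernel_eq_zero_of_sections
    intro W x
    exact fact_a H ι hst ((OpenRestr.L U).obj W.unop) (L_le U W.unop) x
  · apply imageSubobject_le_of_comp_cokernel
    apply comp_cokernel_eq_zero_of_sections
    intro W z
    exact fact_b H ι hst ((OpenRestr.L U).obj W.unop) (L_le U W.unop) z

end Final

end Groth.Agent.H18.SubConst
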