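import Mathlib

/-! Support of a section near a point in a locally Noetherian sober space (for S14005). -/

set_option autoImplicit false
universe u
open CategoryTheory TopologicalSpace Opposite

namespace Groth.Agent.H18.SuppGen

/-- In a Noetherian quasi-sober space, a closed set `S` all of whose points generizing `x` equal `x`
is contained in `closure {x}` near `x`. -/
theorem lemmaA {Y : Type*} [TopologicalSpace Y] [NoetherianSpace Y] [QuasiSober Y]
    (x : Y) (S : Set Y) (hS : IsClosed S) (h : ∀ y ∈ S, y ⤳ x → y = x) :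
    ∃ V : Set Y, IsOpen V ∧ x ∈ V ∧ S ∩ V ⊆ closure {x} := by
  obtain ⟨T, hTf, hTc, hTi, hSU⟩ := NoetherianSpace.exists_finite_set_isClosed_irreducible hS
  refine ⟨(⋃₀ {t ∈ T | x ∉ t})ᶜ, ?_, ?_, ?_⟩
  · rw [isOpen_compl_iff]
    rw [Set.sUnion_eq_biUnion]
    exact Set.Finite.isClosed_biUnion (hTf.subset (fun t ht => ht.1)) (fun t ht => hTc t ht.1)
  · rintro ⟨t, ⟨_, hxt⟩, hx⟩
    exact hxt hx
  · rintro u ⟨huS, huV⟩
    rw [hSU] at huS
    obtain ⟨t, ht, hut⟩ := huS
    have hxt : x ∈ t := by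
      by_contra hx
      exact huV ⟨t, ⟨ht, hx⟩, hut⟩
    obtain ⟨η, hη⟩ := QuasiSober.sober (hTi t ht) (hTc t ht)
    have hηS : η ∈ S := by
      rw [hSU]
      exact ⟨t, ht, hη.mem⟩
    have h1 : η ⤳ x := by
      rw [specializes_iff_mem_closure, hη.def]
      exact hxt
    have h2 := h η hηS h1
    subst h2
    rw [hη.def]
    exact hut

variable {X : TopCat.{u}} (F : TopCat.Presheaf AddCommGrpCat.{u} X)

/-- The vanishing locus of a section is open. -/
theorem isClosed_supp (U : Opens X) (t : F.obj (op U)) :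
    IsClosed {u : U | F.germ U u.1 u.2 t ≠ 0} := by
  rw [← isOpen_compl_iff, isOpen_iff_forall_mem_open]
  intro u hu
  have hu0 : F.germ U u.1 u.2 t = 0 := by
    by_contra h
    exact hu h
  have hu1 : F.germ U u.1 u.2 t = F.germ U u.1 u.2 0 := by
    rw [hu0, map_zero]
  obtain ⟨W, hW, iU, iV, e⟩ := F.germ_eq u.1 u.2 u.2 t 0 hu1
  rw [map_zero] at e
  refine ⟨Subtype.val ⁻¹' (W : Set X), ?_, W.isOpen.preimage continuous_subtype_val, hW⟩
  intro v hv
  simp only [Set.mem_compl_iff, Set.mem_ofPred_eq, not_not]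
  have hv' : v.1 ∈ W := hv
  rw [← F.germ_res_apply iU v.1 hv' t, e, map_zero]


open AlgebraicGeometry in
theorem main {X : Scheme.{u}}
    (hX : ∀ x : X, ∃ U : X.Opens, x ∈ U ∧ TopologicalSpace.NoetherianSpace U)
    (F : TopCat.Sheaf AddCommGrpCat.{u} X.carrier) (x : X) (s : F.presheaf.stalk x) :
    (∃ (U : X.Opens) (hx : x ∈ U) (t : F.presheaf.obj (Opposite.op U)),
        F.presheaf.germ U x hx t = s ∧
          ∀ (u : X) (hu : u ∈ U), F.presheaf.germ U u hu t ≠ 0 → u ∈ closure ({x} : Set X)) ↔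
      ∀ (y : X) (h : y ⤳ x), y ≠ x → F.presheaf.stalkSpecializes h s = 0 := by
  constructor
  · rintro ⟨U, hx, t, rfl, ht⟩ y h hne
    rw [TopCat.Presheaf.germ_stalkSpecializes_apply]
    by_contra h0
    have h1 : x ⤳ y := specializes_iff_mem_closure.mpr (ht y _ h0)
    exact hne (h.antisymm h1).eq
  · intro h
    obtain ⟨U₀, hx₀, hN⟩ := hX x
    obtain ⟨U₁, hle, hx, t₀, rfl⟩ := F.presheaf.exists_le_germ_eq s hx₀
    have hN1 : NoetherianSpace {u : X // u ∈ U₁} :=
      @Topology.IsInducing.noetherianSpace _ _ _ _ hN _ (Opens.isOpenEmbedding_of_le hle).isInducing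
    have hQ1 : QuasiSober {u : X // u ∈ U₁} := U₁.isOpenEmbedding'.quasiSober
    obtain ⟨V, hVo, hxV, hV⟩ := @lemmaA {u : X // u ∈ U₁} _ hN1 hQ1 ⟨x, hx⟩ _ (isClosed_supp F.presheaf U₁ t₀) (by
      intro y hy hyx
      have hyx' : y.1 ⤳ x := (subtype_specializes_iff y ⟨x, hx⟩).mp hyx
      by_contra hne
      have hne' : y.1 ≠ x := fun e => hne (Subtype.ext e)
      have := h y.1 hyx' hne'
      rw [TopCat.Presheaf.germ_stalkSpecializes_apply] at this
      exact hy this)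
    obtain ⟨V', hV'o, rfl⟩ := isOpen_induced_iff.mp hVo
    refine ⟨⟨V', hV'o⟩ ⊓ U₁, ⟨hxV, hx⟩, F.presheaf.map (homOfLE inf_le_right).op t₀, ?_, ?_⟩
    · rw [TopCat.Presheaf.germ_res_apply]
    · intro u hu hne
      rw [TopCat.Presheaf.germ_res_apply] at hne
      have h1 : (⟨u, hu.2⟩ : {u : X // u ∈ U₁}) ∈ closure {(⟨x, hx⟩ : {u : X // u ∈ U₁})} :=
        hV ⟨hne, hu.1⟩
      have h2 : (⟨x, hx⟩ : {u : X // u ∈ U₁}) ⤳ ⟨u, hu.2⟩ := specializes_iff_mem_closure.mpr h1
      exact specializes_iff_mem_closure.mp ((subtype_specializes_iff _ _).mp h2)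

end Groth.Agent.H18.SuppGen
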