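import Mathlib

set_option autoImplicit false
set_option linter.unusedSectionVars false
open CategoryTheory CategoryTheory.Limits

namespace Groth.Agent.H18.ThirdIso

universe v u

variable {C : Type u} [Category.{v} C] [Abelian C] {A B D : C} (a : A ⟶ B) (b : B ⟶ D) (c : A ⟶ D)
  [Mono b] (hc : a ≫ b = c)
  (f : cokernel a ⟶ cokernel c) (g : cokernel c ⟶ cokernel b)
  (hf : cokernel.π a ≫ f = b ≫ cokernel.π c) (hg : cokernel.π c ≫ g = cokernel.π b)

include hc hf hg

/-- third isomorphism theorem: `0 → B/A → D/A → D/B → 0` is short exact -/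
theorem shortExact : ∃ w : f ≫ g = 0, (ShortComplex.mk f g w).ShortExact := by
  have w : f ≫ g = 0 := by
    rw [← cancel_epi (cokernel.π a), reassoc_of% hf, hg, cokernel.condition, comp_zero]
  refine ⟨w, ?_⟩
  have hepi : Epi g := by
    have : Epi (cokernel.π c ≫ g) := by rw [hg]; infer_instance
    exact epi_of_epi (cokernel.π c) g
  have hmono : Mono f := by
    let s : PushoutCocone b (cokernel.π a) := PushoutCocone.mk (cokernel.π c) f hf.symm
    have hs : IsColimit s := by
      refine PushoutCocone.IsColimit.mk _ (fun t => cokernel.desc c t.inl ?_) ?_ ?_ ?_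
      · rw [← hc, Category.assoc, t.condition, cokernel.condition_assoc, zero_comp]
      · intro t
        exact cokernel.π_desc _ _ _
      · intro t
        rw [← cancel_epi (cokernel.π a), reassoc_of% hf, cokernel.π_desc, t.condition]
      · intro t m h1 h2
        rw [← cancel_epi (cokernel.π c), cokernel.π_desc]
        exact h1
    exact Abelian.mono_inr_of_isColimit b (cokernel.π a) hs
  refine { exact := ?_, mono_f := hmono, epi_g := hepi }
  refine ShortComplex.exact_of_g_is_cokernel _ (CokernelCofork.IsColimit.ofπ' _ _ ?_)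
  intro Z k hk
  change f ≫ k = 0 at hk
  have h0 : b ≫ cokernel.π c ≫ k = 0 := by
    rw [← reassoc_of% hf, hk, comp_zero]
  refine ⟨cokernel.desc b (cokernel.π c ≫ k) h0, ?_⟩
  change g ≫ _ = k
  rw [← cancel_epi (cokernel.π c), reassoc_of% hg, cokernel.π_desc]

end Groth.Agent.H18.ThirdIso
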