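import Groth.Agent.Lib.helper18.AbsCech

set_option autoImplicit false
set_option linter.unusedSectionVars false
set_option linter.unusedVariables false
open CategoryTheory CategoryTheory.Limits Opposite TopologicalSpace AlgebraicGeometry

namespace Groth.Agent.H18.TildeCech

universe u

variable {R : CommRingCat.{u}} (T : TopCat.Sheaf (ModuleCat.{u} R) (Spec R))

/-- the underlying abelian presheaf -/
noncomputable abbrev Pab := T.obj ⋙ forget₂ (ModuleCat.{u} R) AddCommGrpCat.{u}

/-- restriction as a linear map -/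
noncomputable abbrev res {V V' : (Spec R).Opens} (h : V' ≤ V) :
    T.obj.obj (op V) →ₗ[R] T.obj.obj (op V') := (T.obj.map (homOfLE h).op).hom

/-- restriction from the whole space to a basic open -/
noncomputable abbrev ρ (g : R) :
    T.obj.obj (op ⊤) →ₗ[R] T.obj.obj (op (PrimeSpectrum.basicOpen g)) :=
  (T.obj.map (PrimeSpectrum.basicOpen g).leTop.op).hom

lemma res_ρ (g g' : R) (h : PrimeSpectrum.basicOpen g' ≤ PrimeSpectrum.basicOpen g)
    (m : T.obj.obj (op ⊤)) : res T h (ρ T g m) = ρ T g' m := by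
  have h1 : T.obj.map (PrimeSpectrum.basicOpen g).leTop.op ≫ T.obj.map (homOfLE h).op =
      T.obj.map (PrimeSpectrum.basicOpen g').leTop.op := by
    rw [← T.obj.map_comp]
    rfl
  exact ConcreteCategory.congr_hom h1 m

/-- multiplication by a ring element -/
noncomputable def act (a : R) : Pab T ⟶ Pab T where
  app V := AddCommGrpCat.ofHom (DistribSMul.toAddMonoidHom (T.obj.obj V) a)
  naturality V V' i := by
    apply AddCommGrpCat.hom_ext
    apply AddMonoidHom.ext
    intro s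
    exact ((T.obj.map i).hom.map_smul a s).symm

lemma act_apply (a : R) (V : (Spec R).Opens) (s : T.obj.obj (op V)) :
    ((act T a).app (op V)).hom s = a • s := rfl

lemma exists_pow_eq_sum {ι : Type*} [Fintype ι] (f : ι → R) (g0 : R)
    (hcov : (⨆ i, PrimeSpectrum.basicOpen (f i)) = PrimeSpectrum.basicOpen g0) (N : ℕ) :
    ∃ (L : ℕ) (c : ι → R), ∑ i, c i * f i ^ N = g0 ^ L := by
  have hmem : g0 ∈ (Ideal.span (Set.range fun i => f i ^ N)).radical := by
    rw [Ideal.radical_eq_sInf, Ideal.mem_sInf]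
    rintro J ⟨hIJ, hJ⟩
    by_contra hg
    have hx : (⟨J, hJ⟩ : PrimeSpectrum R) ∈ PrimeSpectrum.basicOpen g0 :=
      (PrimeSpectrum.mem_basicOpen _ _).mpr hg
    rw [← hcov, Opens.mem_iSup] at hx
    obtain ⟨i, hi⟩ := hx
    exact (PrimeSpectrum.mem_basicOpen _ _).mp hi
      (hJ.mem_of_pow_mem N (hIJ (Ideal.subset_span ⟨i, rfl⟩)))
  obtain ⟨L, hL⟩ := Ideal.mem_radical_iff.mp hmem
  obtain ⟨c, hc⟩ := Ideal.mem_span_range_iff_exists_fun.mp hL
  exact ⟨L, c, hc⟩

lemma basicOpen_prod {κ : Type*} (s : Finset κ) (h : κ → R) :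
    PrimeSpectrum.basicOpen (∏ l ∈ s, h l) = ⨅ l ∈ s, PrimeSpectrum.basicOpen (h l) := by
  classical
  induction s using Finset.induction_on with
  | empty => simp
  | insert a s ha ih =>
    rw [Finset.prod_insert ha, PrimeSpectrum.basicOpen_mul, ih, Finset.iInf_insert]

variable (hT : IsLocalizing T)

include hT

lemma bij_smul (g : R) (n : ℕ) :
    Function.Bijective (fun y : T.obj.obj (op (PrimeSpectrum.basicOpen g)) => g ^ n • y) := by
  have := hT g
  have h := IsLocalizedModule.map_units (S := Submonoid.powers g)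
    (T.obj.map (PrimeSpectrum.basicOpen g).leTop.op).hom ⟨g ^ n, n, rfl⟩
  rw [Module.End.isUnit_iff] at h
  exact h

lemma bij_smul_of_le (g g' : R)
    (h : PrimeSpectrum.basicOpen g' ≤ PrimeSpectrum.basicOpen g) (n : ℕ) :
    Function.Bijective (fun y : T.obj.obj (op (PrimeSpectrum.basicOpen g')) => g ^ n • y) := by
  rw [PrimeSpectrum.basicOpen_le_basicOpen_iff, Ideal.mem_radical_iff] at h
  obtain ⟨e, he⟩ := h
  rw [Ideal.mem_span_singleton'] at he
  obtain ⟨c, hc⟩ := he
  have hB := bij_smul T hT g' (e * n)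
  have hcomp : ∀ y : T.obj.obj (op (PrimeSpectrum.basicOpen g')),
      g ^ n • (c ^ n • y) = g' ^ (e * n) • y := by
    intro y
    rw [← mul_smul]
    congr 1
    rw [pow_mul, ← hc, mul_pow, mul_comm]
  have hcomp' : ∀ y : T.obj.obj (op (PrimeSpectrum.basicOpen g')),
      c ^ n • (g ^ n • y) = g' ^ (e * n) • y := by
    intro y
    rw [smul_comm]
    exact hcomp y
  constructor
  · intro y y' hyy'
    apply hB.1
    show g' ^ (e * n) • y = g' ^ (e * n) • y'
    rw [← hcomp', ← hcomp']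
    exact congrArg (fun z => c ^ n • z) hyy'
  · intro y
    obtain ⟨z, hz⟩ := hB.2 y
    exact ⟨c ^ n • z, (hcomp z).trans hz⟩

lemma lift_core (f g : R) (V' : (Spec R).Opens) (e : V' = PrimeSpectrum.basicOpen (f * g))
    (h : V' ≤ PrimeSpectrum.basicOpen g) (s : T.obj.obj (op V')) :
    ∃ (N : ℕ) (t : T.obj.obj (op (PrimeSpectrum.basicOpen g))), res T h t = f ^ N • s := by
  subst e
  have := hT (f * g)
  obtain ⟨⟨m, c⟩, hm⟩ := IsLocalizedModule.surj (Submonoid.powers (f * g))
    (T.obj.map (PrimeSpectrum.basicOpen (f * g)).leTop.op).hom s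
  obtain ⟨n, hn⟩ := (Submonoid.mem_powers_iff _ _).mp c.2
  have hm' : (f * g) ^ n • s = ρ T (f * g) m := by
    rw [hn]; exact hm
  obtain ⟨t, ht⟩ := (bij_smul T hT g n).2 (ρ T g m)
  have ht' : g ^ n • t = ρ T g m := ht
  refine ⟨n, t, ?_⟩
  apply (bij_smul_of_le T hT g (f * g) h n).1
  show g ^ n • res T h t = g ^ n • (f ^ n • s)
  rw [← map_smul, ht', res_ρ, ← hm', mul_pow, mul_smul, smul_comm]

lemma kill_core (f g : R) (V' : (Spec R).Opens) (e : V' = PrimeSpectrum.basicOpen (f * g))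
    (h : V' ≤ PrimeSpectrum.basicOpen g) (s : T.obj.obj (op (PrimeSpectrum.basicOpen g)))
    (hs : res T h s = 0) : ∃ N : ℕ, f ^ N • s = 0 := by
  subst e
  have := hT g
  obtain ⟨⟨m, c⟩, hm⟩ := IsLocalizedModule.surj (Submonoid.powers g)
    (T.obj.map (PrimeSpectrum.basicOpen g).leTop.op).hom s
  obtain ⟨n, hn⟩ := (Submonoid.mem_powers_iff _ _).mp c.2
  have hm' : g ^ n • s = ρ T g m := by
    rw [hn]; exact hm
  have h0 : ρ T (f * g) m = ρ T (f * g) 0 := by
    rw [map_zero, ← res_ρ T g (f * g) h, ← hm', map_smul, hs, smul_zero]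
  have := hT (f * g)
  obtain ⟨c', hc'⟩ := IsLocalizedModule.exists_of_eq (S := Submonoid.powers (f * g))
    (f := (T.obj.map (PrimeSpectrum.basicOpen (f * g)).leTop.op).hom) h0
  obtain ⟨l, hl⟩ := (Submonoid.mem_powers_iff _ _).mp c'.2
  have hl' : (f * g) ^ l • m = 0 := by
    rw [hl]
    rw [smul_zero] at hc'
    exact hc'
  refine ⟨l, ?_⟩
  apply (bij_smul T hT g (l + n)).1
  show g ^ (l + n) • (f ^ l • s) = g ^ (l + n) • 0
  rw [smul_zero]
  have h1 : g ^ (l + n) • (f ^ l • s) = (f * g) ^ l • (g ^ n • s) := by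
    rw [← mul_smul, ← mul_smul]
    congr 1
    ring
  rw [h1, hm', ← map_smul, hl', map_zero]

theorem exactAt {ι : Type u} [Finite ι] (f : ι → R) (g0 : R) (U : ι → (Spec R).Opens)
    (hU : ∀ i, U i = PrimeSpectrum.basicOpen (f i))
    (hcov : iSup U = PrimeSpectrum.basicOpen g0) (m : ℕ) :
    ((cechComplexFunctor U).obj (Pab T)).ExactAt (m + 1) := by
  haveI := Fintype.ofFinite ι
  let 𝒮 : (Spec R).Opens → Prop := fun V =>
    (∃ g : R, V = PrimeSpectrum.basicOpen g) ∧ V ≤ PrimeSpectrum.basicOpen g0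
  refine AbsCech.exactAt (𝒮 := 𝒮) (φ := fun k N => act T (f k ^ N)) ?_ m
  constructor
  · -- mem
    intro n a
    refine ⟨⟨∏ l, f (a l), ?_⟩, ?_⟩
    · rw [AbsCech.obj_eq_iInf, basicOpen_prod]
      exact iInf_congr (fun l => by rw [hU (a l), iInf_pos (Finset.mem_univ l)])
    · rw [AbsCech.obj_eq_iInf, ← hcov]
      exact (iInf_le _ 0).trans (le_iSup U (a 0))
  · -- mul
    intro k N N'
    apply NatTrans.ext
    funext V
    apply AddCommGrpCat.hom_ext
    apply AddMonoidHom.ext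
    intro s
    show (f k) ^ (N + N') • (show T.obj.obj V from s) = (f k) ^ N' • ((f k) ^ N • (show T.obj.obj V from s))
    rw [pow_add, mul_comm, mul_smul]
  · -- lift
    rintro k V ⟨⟨g, rfl⟩, hVg0⟩ V' e h s
    have e' : V' = PrimeSpectrum.basicOpen (f k * g) := by
      rw [e, hU, PrimeSpectrum.basicOpen_mul]
      rfl
    obtain ⟨N, t, ht⟩ := lift_core T hT (f k) g V' e' h s
    exact ⟨N, t, ht⟩
  · -- kill
    rintro k V ⟨⟨g, rfl⟩, hVg0⟩ V' e h s hs
    have e' : V' = PrimeSpectrum.basicOpen (f k * g) := by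
      rw [e, hU, PrimeSpectrum.basicOpen_mul]
      rfl
    exact kill_core T hT (f k) g V' e' h s hs
  · -- part
    intro N
    have hcov' : (⨆ i, PrimeSpectrum.basicOpen (f i)) = PrimeSpectrum.basicOpen g0 := by
      rw [← hcov]
      exact iSup_congr (fun i => (hU i).symm)
    obtain ⟨L, c, hc⟩ := exists_pow_eq_sum f g0 hcov' N
    refine ⟨fun k => act T (c k), act T (g0 ^ L), ?_, ?_⟩
    · rintro V ⟨⟨g, rfl⟩, hV⟩
      exact bij_smul_of_le T hT g0 g hV L
    · rintro V _ s
      show g0 ^ L • (show T.obj.obj (op V) from s) =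
        ∑ k, c k • ((f k) ^ N • (show T.obj.obj (op V) from s))
      rw [← hc, Finset.sum_smul]
      exact Finset.sum_congr rfl (fun k _ => mul_smul _ _ _)

omit hT in
/-- Čech acyclicity of a quasi-coherent module on `Spec R` for standard covers of basic opens -/
theorem exactAt_qcoh (M : (Spec R).Modules) [M.IsQuasicoherent] {ι : Type u} [Finite ι]
    (f : ι → R) (g0 : R) (U : ι → (Spec R).Opens)
    (hU : ∀ i, U i = PrimeSpectrum.basicOpen (f i))
    (hcov : iSup U = PrimeSpectrum.basicOpen g0) (m : ℕ) :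
    ((cechComplexFunctor U).obj M.presheaf).ExactAt (m + 1) :=
  exactAt (modulesSpecToSheaf.obj M) ((isIso_fromTildeΓ_iff_isLocalizing M).mp inferInstance)
    f g0 U hU hcov m

end Groth.Agent.H18.TildeCech
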